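import Mathlib.Algebra.Homology.DerivedCategory.HomologySequence
import Mathlib.Algebra.Homology.DerivedCategory.Basic
import Mathlib.Algebra.Homology.SingleHomology
import Mathlib.Algebra.Homology.ShortComplex.ModuleCat
import Mathlib.Algebra.Module.FinitePresentation

/-! The projection of a complex onto its `i`-th opcycles, placed in degree `i`, is injective on
`H^i` (helper35). -/

universe w v u

namespace Groth.Agent.Lib.Helper35.KL

open CategoryTheory Limits CochainComplex DerivedCategory HomologicalComplex

section General

variable {C : Type u} [Category.{v} C] [Abelian C]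

/-- The projection `E ⟶ (E.opcycles i)[-i]`. -/
noncomputable def toOpcyclesSingle (E : CochainComplex C ℤ) (i : ℤ) :
    E ⟶ (HomologicalComplex.single C (ComplexShape.up ℤ) i).obj (E.opcycles i) :=
  mkHomToSingle (E.pOpcycles i) (fun k _ => E.d_pOpcycles k i)

theorem opcyclesMap_toOpcyclesSingle (E : CochainComplex C ℤ) (i : ℤ) :
    opcyclesMap (toOpcyclesSingle E i) i =
      (singleObjOpcyclesSelfIso (ComplexShape.up ℤ) i (E.opcycles i)).hom := by
  rw [← cancel_epi (E.pOpcycles i), p_opcyclesMap, singleObjOpcyclesSelfIso_hom]
  dsimp only [toOpcyclesSingle]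
  rw [mkHomToSingle_f, Category.assoc]

instance mono_homologyMap_toOpcyclesSingle (E : CochainComplex C ℤ) (i : ℤ) :
    Mono (homologyMap (toOpcyclesSingle E i) i) := by
  have h1 := homologyι_naturality (toOpcyclesSingle E i) i
  rw [opcyclesMap_toOpcyclesSingle] at h1
  have : Mono (homologyMap (toOpcyclesSingle E i) i ≫
      ((HomologicalComplex.single C (ComplexShape.up ℤ) i).obj (E.opcycles i)).homologyι i) := by
    rw [h1]
    infer_instance
  exact mono_of_mono _
    (((HomologicalComplex.single C (ComplexShape.up ℤ) i).obj (E.opcycles i)).homologyι i)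

theorem mono_homologyFunctor_map_Q_map_toOpcyclesSingle [HasDerivedCategory.{w} C]
    (E : CochainComplex C ℤ) (i : ℤ) :
    Mono ((DerivedCategory.homologyFunctor C i).map (Q.map (toOpcyclesSingle E i))) := by
  have hn := (DerivedCategory.homologyFunctorFactors C i).hom.naturality (toOpcyclesSingle E i)
  have h3 : Mono ((HomologicalComplex.homologyFunctor C (ComplexShape.up ℤ) i).map
      (toOpcyclesSingle E i)) := mono_homologyMap_toOpcyclesSingle E i
  have h4 : Mono ((Q ⋙ DerivedCategory.homologyFunctor C i).map (toOpcyclesSingle E i) ≫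
      (DerivedCategory.homologyFunctorFactors C i).hom.app _) := by
    rw [hn]
    exact mono_comp _ _
  exact mono_of_mono ((Q ⋙ DerivedCategory.homologyFunctor C i).map (toOpcyclesSingle E i))
    ((DerivedCategory.homologyFunctorFactors C i).hom.app _)

end General

section Module

variable {R : Type u} [CommRing R]

theorem finitePresentation_opcycles (E : CochainComplex (ModuleCat.{u} R) ℤ) (i : ℤ)
    [Module.Finite R (E.X (i - 1))] [Module.FinitePresentation R (E.X i)] :
    Module.FinitePresentation R (E.opcycles i) := by
  let S : ShortComplex (ModuleCat.{u} R) :=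
    ShortComplex.mk (E.d (i - 1) i) (E.pOpcycles i) (E.d_pOpcycles _ _)
  have hS : S.Exact := S.exact_of_g_is_cokernel (E.opcyclesIsCokernel (i - 1) i (by simp))
  have hr := (ShortComplex.moduleCat_exact_iff_range_eq_ker S).mp hS
  have hepi : Function.Surjective (E.pOpcycles i).hom :=
    (ModuleCat.epi_iff_surjective _).mp inferInstance
  refine Module.finitePresentation_of_surjective (E.pOpcycles i).hom hepi ?_
  change (LinearMap.ker S.g.hom).FG
  rw [← hr, LinearMap.range_eq_map]
  exact Submodule.FG.map _ Module.Finite.fg_top

end Module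

end Groth.Agent.Lib.Helper35.KL
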