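import Groth.Agent.Lib.Helper35.ConeRep
import Groth.Prelude.Def_DRing2

/-! Two-out-of-three for pseudo-coherent and perfect objects of `D(R)` (helper35). -/

universe u

namespace Groth.Agent.Lib.Helper35.KL

open CategoryTheory Limits CochainComplex DerivedCategory Pretriangulated

attribute [local instance] HasDerivedCategory.standard

variable {R : Type u} [CommRing R]

theorem isKProjective_of_vanishesAbove (E : DRing.Cx R) (b : ℤ) (hb : DRing.VanishesAbove E b)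
    (hE : ∀ i : ℤ, Module.Projective R (E.X i)) : E.IsKProjective := by
  have h1 : E.IsStrictlyLE b := by
    rw [isStrictlyLE_iff]
    exact hb
  have h2 : ∀ n : ℤ, Projective (E.X n) := fun n =>
    (IsProjective.iff_projective (R := R) (P := E.X n)).mp (hE n)
  exact isKProjective_of_projective E b

/-! ### Pseudo-coherent -/

theorem isPseudoCoherent'_of_iso {K K' : Dual.D R} (e : K ≅ K') (h : DRing.IsPseudoCoherent' R K) :
    DRing.IsPseudoCoherent' R K' := by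
  obtain ⟨E, b, hb, hE, ⟨e'⟩⟩ := h
  exact ⟨E, b, hb, hE, ⟨e' ≪≫ e⟩⟩

theorem isPseudoCoherent'_shift {K : Dual.D R} (h : DRing.IsPseudoCoherent' R K) (n : ℤ) :
    DRing.IsPseudoCoherent' R (K⟦n⟧) := by
  obtain ⟨E, b, hb, hE, ⟨e⟩⟩ := h
  refine ⟨E⟦n⟧, b - n, ?_, ?_, ⟨(Q.commShiftIso n).app E ≪≫
    (CategoryTheory.shiftFunctor (DerivedCategory (ModuleCat.{u} R)) n).mapIso e⟩⟩
  · intro i hi
    exact hb (i + n) (by omega)
  · intro i
    exact hE (i + n)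

theorem isPseudoCoherent'_obj₃ (T : Triangle (Dual.D R)) (hT : T ∈ distTriang _)
    (h₁ : DRing.IsPseudoCoherent' R T.obj₁) (h₂ : DRing.IsPseudoCoherent' R T.obj₂) :
    DRing.IsPseudoCoherent' R T.obj₃ := by
  obtain ⟨E₁, b₁, hb₁, hE₁, ⟨e₁⟩⟩ := h₁
  obtain ⟨E₂, b₂, hb₂, hE₂, ⟨e₂⟩⟩ := h₂
  have hKP : E₁.IsKProjective := isKProjective_of_vanishesAbove E₁ b₁ hb₁ (fun i => by
    have := (hE₁ i).2
    infer_instance)
  obtain ⟨f, ⟨e⟩⟩ := nonempty_iso_mappingCone_of_isKProjective T hT e₁ e₂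
  refine ⟨mappingCone f, max (b₁ - 1) b₂, ?_, ?_, ⟨e⟩⟩
  · intro i hi
    rw [mappingCone.isZero_X_iff]
    exact ⟨hb₁ (i + 1) (by omega), hb₂ i (by omega)⟩
  · intro i
    have := (hE₁ (i + 1)).1
    have := (hE₁ (i + 1)).2
    have := (hE₂ i).1
    have := (hE₂ i).2
    exact ⟨Module.Finite.equiv (mappingConeXLinearEquiv f i).symm,
      Module.Free.of_equiv (mappingConeXLinearEquiv f i).symm⟩

theorem isPseudoCoherent'_two_out_of_three (T : Triangle (Dual.D R)) (hT : T ∈ distTriang _) :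
    (DRing.IsPseudoCoherent' R T.obj₁ → DRing.IsPseudoCoherent' R T.obj₂ →
        DRing.IsPseudoCoherent' R T.obj₃) ∧
      (DRing.IsPseudoCoherent' R T.obj₁ → DRing.IsPseudoCoherent' R T.obj₃ →
        DRing.IsPseudoCoherent' R T.obj₂) ∧
      (DRing.IsPseudoCoherent' R T.obj₂ → DRing.IsPseudoCoherent' R T.obj₃ →
        DRing.IsPseudoCoherent' R T.obj₁) := by
  refine ⟨isPseudoCoherent'_obj₃ T hT, fun h₁ h₃ => ?_, fun h₂ h₃ => ?_⟩
  · exact isPseudoCoherent'_obj₃ T.invRotate (inv_rot_of_distTriang _ hT)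
      (isPseudoCoherent'_shift h₃ (-1)) h₁
  · have h := isPseudoCoherent'_obj₃ T.rotate (rot_of_distTriang _ hT) h₂ h₃
    exact isPseudoCoherent'_of_iso (shiftShiftNeg T.obj₁ (1 : ℤ))
      (isPseudoCoherent'_shift h (-1))

/-! ### Perfect -/

theorem isPerfect_of_iso {K K' : Dual.D R} (e : K ≅ K') (h : DRing.IsPerfect R K) :
    DRing.IsPerfect R K' := by
  obtain ⟨E, a, b, hb, hE, ⟨e'⟩⟩ := h
  exact ⟨E, a, b, hb, hE, ⟨e' ≪≫ e⟩⟩

theorem isPerfect_shift {K : Dual.D R} (h : DRing.IsPerfect R K) (n : ℤ) :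
    DRing.IsPerfect R (K⟦n⟧) := by
  obtain ⟨E, a, b, hb, hE, ⟨e⟩⟩ := h
  refine ⟨E⟦n⟧, a - n, b - n, ?_, ?_, ⟨(Q.commShiftIso n).app E ≪≫
    (CategoryTheory.shiftFunctor (DerivedCategory (ModuleCat.{u} R)) n).mapIso e⟩⟩
  · intro i hi
    exact hb (i + n) (by omega)
  · intro i
    exact hE (i + n)

theorem isPerfect_obj₃ (T : Triangle (Dual.D R)) (hT : T ∈ distTriang _)
    (h₁ : DRing.IsPerfect R T.obj₁) (h₂ : DRing.IsPerfect R T.obj₂) :
    DRing.IsPerfect R T.obj₃ := by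
  obtain ⟨E₁, a₁, b₁, hb₁, hE₁, ⟨e₁⟩⟩ := h₁
  obtain ⟨E₂, a₂, b₂, hb₂, hE₂, ⟨e₂⟩⟩ := h₂
  have hKP : E₁.IsKProjective := isKProjective_of_vanishesAbove E₁ b₁
    (fun i hi => hb₁ i (Or.inr hi)) (fun i => (hE₁ i).2)
  obtain ⟨f, ⟨e⟩⟩ := nonempty_iso_mappingCone_of_isKProjective T hT e₁ e₂
  refine ⟨mappingCone f, min (a₁ - 1) a₂, max (b₁ - 1) b₂, ?_, ?_, ⟨e⟩⟩
  · intro i hi
    rw [mappingCone.isZero_X_iff]
    exact ⟨hb₁ (i + 1) (by omega), hb₂ i (by omega)⟩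
  · intro i
    have := (hE₁ (i + 1)).1
    have := (hE₁ (i + 1)).2
    have := (hE₂ i).1
    have := (hE₂ i).2
    exact ⟨Module.Finite.equiv (mappingConeXLinearEquiv f i).symm,
      Module.Projective.of_equiv (mappingConeXLinearEquiv f i).symm⟩

theorem isPerfect_two_out_of_three (T : Triangle (Dual.D R)) (hT : T ∈ distTriang _) :
    (DRing.IsPerfect R T.obj₁ → DRing.IsPerfect R T.obj₂ → DRing.IsPerfect R T.obj₃) ∧
      (DRing.IsPerfect R T.obj₁ → DRing.IsPerfect R T.obj₃ → DRing.IsPerfect R T.obj₂) ∧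
      (DRing.IsPerfect R T.obj₂ → DRing.IsPerfect R T.obj₃ → DRing.IsPerfect R T.obj₁) := by
  refine ⟨isPerfect_obj₃ T hT, fun h₁ h₃ => ?_, fun h₂ h₃ => ?_⟩
  · exact isPerfect_obj₃ T.invRotate (inv_rot_of_distTriang _ hT) (isPerfect_shift h₃ (-1)) h₁
  · have h := isPerfect_obj₃ T.rotate (rot_of_distTriang _ hT) h₂ h₃
    exact isPerfect_of_iso (shiftShiftNeg T.obj₁ (1 : ℤ)) (isPerfect_shift h (-1))

end Groth.Agent.Lib.Helper35.KL
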