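import Groth.Agent.Lib.Helper35.TAFlat
import Groth.Agent.Lib.Helper35.ConeRep2
import Groth.Agent.Lib.Helper35.OpcMono
import Mathlib.Algebra.Homology.Embedding.CochainComplex
import Mathlib.Algebra.Homology.DerivedCategory.HomologySequence
import Mathlib.Algebra.Homology.DerivedCategory.TStructure

/-! Tor amplitude (flat representatives): the key flatness lemma (helper35). -/

set_option autoImplicit false
universe u

namespace Groth.Agent.Lib.Helper35.TA

open CategoryTheory Limits CochainComplex DerivedCategory Pretriangulated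

attribute [local instance] HasDerivedCategory.standard

variable {R : Type u} [CommRing R]

theorem flat_prod {M N : Type u} [AddCommGroup M] [Module R M] [AddCommGroup N] [Module R N]
    [Module.Flat R M] [Module.Flat R N] : Module.Flat R (M × N) := by
  rw [Module.Flat.iff_rTensor_injective']
  intro I
  rw [injective_iff_map_eq_zero]
  intro x hx
  have h1 : (LinearMap.fst R M N).lTensor I x = 0 := by
    apply (Module.Flat.iff_rTensor_injective'.mp (inferInstance : Module.Flat R M)) I
    rw [map_zero, ← LinearMap.comp_apply, LinearMap.rTensor_comp_lTensor,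
      ← LinearMap.lTensor_comp_rTensor, LinearMap.comp_apply, hx, map_zero]
  have h2 : (LinearMap.snd R M N).lTensor I x = 0 := by
    apply (Module.Flat.iff_rTensor_injective'.mp (inferInstance : Module.Flat R N)) I
    rw [map_zero, ← LinearMap.comp_apply, LinearMap.rTensor_comp_lTensor,
      ← LinearMap.lTensor_comp_rTensor, LinearMap.comp_apply, hx, map_zero]
  have h3 : (LinearMap.inl R M N) ∘ₗ (LinearMap.fst R M N) +
      (LinearMap.inr R M N) ∘ₗ (LinearMap.snd R M N) = LinearMap.id := by
    ext <;> simp
  have h4 : x = (LinearMap.id : M × N →ₗ[R] M × N).lTensor I x := by simp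
  rw [h4, ← h3, LinearMap.lTensor_add, LinearMap.add_apply, LinearMap.lTensor_comp,
    LinearMap.lTensor_comp, LinearMap.comp_apply, LinearMap.comp_apply, h1, h2, map_zero,
    map_zero, add_zero]

/-- The mapping cone of a quasi-isomorphism is acyclic. -/
theorem exactAt_mappingCone_of_quasiIso {T E : CochainComplex (ModuleCat.{u} R) ℤ} (φ : T ⟶ E)
    [QuasiIso φ] (n : ℤ) : (mappingCone φ).ExactAt n := by
  have hT := mappingCone_triangle_distinguished φ
  have hiso : IsIso (Q.mapTriangle.obj (mappingCone.triangle φ)).mor₁ := by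
    change IsIso (Q.map φ)
    rw [isIso_Q_map_iff_quasiIso]
    infer_instance
  have hz : IsZero (Q.obj (mappingCone φ)) := Triangle.isZero₃_of_isIso₁ _ hT hiso
  rw [HomologicalComplex.exactAt_iff_isZero_homology]
  exact ((DerivedCategory.homologyFunctor (ModuleCat.{u} R) n).map_isZero hz).of_iso
    ((DerivedCategory.homologyFunctorFactors (ModuleCat.{u} R) n).app (mappingCone φ)).symm

/-- **Core lemma**: if `φ : T ⟶ E` is a quasi-isomorphism of bounded above complexes concentrated
in degrees `≥ a`, with `E` termwise flat and `T` flat in degrees `> a`, then `T.X a` is flat. -/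
theorem flat_X_of_quasiIso (T E : CochainComplex (ModuleCat.{u} R) ℤ) (a b : ℤ)
    [T.IsStrictlyGE a] [E.IsStrictlyGE a]
    (hTb : ∀ i : ℤ, b < i → IsZero (T.X i)) (hEb : ∀ i : ℤ, b < i → IsZero (E.X i))
    (hT : ∀ i : ℤ, a < i → Module.Flat R (T.X i)) (hE : ∀ i : ℤ, Module.Flat R (E.X i))
    (φ : T ⟶ E) [QuasiIso φ] : Module.Flat R (T.X a) := by
  let C := mappingCone φ
  have hCb : ∀ i : ℤ, b < i → IsZero (C.X i) := by
    intro i hi
    rw [CochainComplex.mappingCone.isZero_X_iff]
    exact ⟨hTb (i + 1) (by omega), hEb i hi⟩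
  have hCflat : ∀ i : ℤ, a ≤ i → Module.Flat R (C.X i) := by
    intro i hi
    have := hT (i + 1) (by omega)
    have := hE i
    have : Module.Flat R (T.X (i + 1) × E.X i) := flat_prod
    exact Module.Flat.of_linearEquiv
      (Groth.Agent.Lib.Helper35.KL.mappingConeXLinearEquiv φ i)
  have hCex : ∀ i : ℤ, C.ExactAt i := fun i => exactAt_mappingCone_of_quasiIso φ i
  have hZ : Module.Flat R (LinearMap.ker (C.d a (a + 1)).hom) :=
    flat_ker_d C b hCb a hCflat (fun i _ => hCex i) a le_rfl
  -- `C.X (a - 1) ≃ ker d^a`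
  have hE1 := hCex a
  rw [HomologicalComplex.exactAt_iff' C (a - 1) a (a + 1) (by simp) (by simp),
    ShortComplex.moduleCat_exact_iff] at hE1
  have hE0 := hCex (a - 1)
  rw [HomologicalComplex.exactAt_iff' C (a - 1 - 1) (a - 1) a (by simp) (by simp),
    ShortComplex.moduleCat_exact_iff] at hE0
  have hz2 : IsZero (C.X (a - 1 - 1)) := by
    rw [CochainComplex.mappingCone.isZero_X_iff]
    exact ⟨T.isZero_of_isStrictlyGE a _ (by omega), E.isZero_of_isStrictlyGE a _ (by omega)⟩
  have hdd : ∀ x : C.X (a - 1), (C.d (a - 1) a).hom x ∈ LinearMap.ker (C.d a (a + 1)).hom := by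
    intro x
    rw [LinearMap.mem_ker, ← ModuleCat.comp_apply, C.d_comp_d]
    rfl
  let g : C.X (a - 1) →ₗ[R] LinearMap.ker (C.d a (a + 1)).hom :=
    (C.d (a - 1) a).hom.codRestrict _ hdd
  have hgs : Function.Surjective g := by
    rintro ⟨y, hy⟩
    obtain ⟨x, hx⟩ := hE1 y hy
    exact ⟨x, Subtype.ext hx⟩
  have hgi : Function.Injective g := by
    rw [injective_iff_map_eq_zero]
    intro x hx
    have hx' : (C.d (a - 1) a).hom x = 0 := congrArg Subtype.val hx
    obtain ⟨y, hy⟩ := hE0 x hx'
    have : Subsingleton (C.X (a - 1 - 1)) := ModuleCat.subsingleton_of_isZero hz2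
    have hy0 : y = 0 := this.elim y 0
    rw [← hy, hy0, map_zero]
    rfl
  have hC1 : Module.Flat R (C.X (a - 1)) :=
    Module.Flat.of_linearEquiv (LinearEquiv.ofBijective g ⟨hgi, hgs⟩)
  -- `T.X a` is a retract of `C.X (a - 1)`
  let e := Groth.Agent.Lib.Helper35.KL.mappingConeXLinearEquiv φ (a - 1)
  have hprod : Module.Flat R (T.X (a - 1 + 1) × E.X (a - 1)) :=
    Module.Flat.of_linearEquiv e.symm
  have h1 : Module.Flat R (T.X (a - 1 + 1)) :=
    Module.Flat.of_retract (LinearMap.inl R (T.X (a - 1 + 1)) (E.X (a - 1)))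
      (LinearMap.fst R (T.X (a - 1 + 1)) (E.X (a - 1))) (by ext; simp)
  have ha : a - 1 + 1 = a := by omega
  rw [ha] at h1
  exact h1

/-- `K` has tor amplitude in `[a, b]` (flat representative form). -/
abbrev TAmp (a b : ℤ) (K : Dual.D R) : Prop := DRing.HasTorAmplitudeIn R a b K

/-- If a K-projective, bounded above, termwise flat complex `P` has tor amplitude in `[a, b]`, then
`P` is exact below `a` and the cokernel of `d^{a-1}` is flat. -/
theorem flat_opcycles_of_TAmp (P : DRing.Cx R) [P.IsKProjective] (b' : ℤ)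
    (hPb : DRing.VanishesAbove P b') (hPflat : ∀ i : ℤ, Module.Flat R (P.X i)) (a b : ℤ)
    (h : TAmp a b (DRing.toD P)) : P.IsGE a ∧ Module.Flat R (P.opcycles a) := by
  obtain ⟨E, hEv, hEflat, ⟨e⟩⟩ := h
  obtain ⟨φ, hφ⟩ := Groth.Agent.Lib.Helper35.KL.exists_Q_map_eq_of_isKProjective P E e.inv
  have hq : QuasiIso φ := by
    rw [← isIso_Q_map_iff_quasiIso, hφ]
    infer_instance
  have hEs : E.IsStrictlyGE a := by
    rw [CochainComplex.isStrictlyGE_iff]
    exact fun i hi => hEv i (Or.inl hi)
  have hEG : E.IsGE a := inferInstance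
  have hPG : P.IsGE a := (HomologicalComplex.isSupported_iff_of_quasiIso φ _).mpr hEG
  refine ⟨hPG, ?_⟩
  -- the truncation
  have hπ : QuasiIso (P.πTruncGE a) := inferInstance
  have hEiso : IsIso (E.πTruncGE a) := inferInstance
  let φ' : P.truncGE a ⟶ E := CochainComplex.truncGEMap φ a ≫ inv (E.πTruncGE a)
  have hfac : P.πTruncGE a ≫ φ' = φ := by
    dsimp only [φ']
    rw [← Category.assoc, CochainComplex.πTruncGE_naturality, Category.assoc, IsIso.hom_inv_id,
      Category.comp_id]
  have hq2 : QuasiIso (P.πTruncGE a ≫ φ') := by rw [hfac]; exact hq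
  have hq' : QuasiIso φ' := quasiIso_of_comp_left (P.πTruncGE a) φ'
  have hTs : (P.truncGE a).IsStrictlyGE a := inferInstance
  have hTflat : ∀ i : ℤ, a < i → Module.Flat R ((P.truncGE a).X i) := by
    intro i hi
    have := hPflat i
    exact Module.Flat.of_linearEquiv (P.truncGEXIso a i hi).toLinearEquiv
  have hTb : ∀ i : ℤ, max b b' < i → IsZero ((P.truncGE a).X i) := by
    intro i hi
    by_cases hia : a < i
    · exact (hPb i (by omega)).of_iso (P.truncGEXIso a i hia)
    · by_cases hia' : i < a
      · exact (P.truncGE a).isZero_of_isStrictlyGE a i hia'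
      · have : i = a := by omega
        subst this
        have hz : IsZero (P.X i) := hPb i (by omega)
        have hz' : IsZero (P.opcycles i) := by
          rw [IsZero.iff_id_eq_zero, ← cancel_epi (P.pOpcycles i)]
          exact hz.eq_of_src _ _
        exact hz'.of_iso (P.truncGEXIsoOpcycles i)
  have hEb : ∀ i : ℤ, max b b' < i → IsZero (E.X i) := fun i hi => hEv i (Or.inr (by omega))
  have h1 := flat_X_of_quasiIso (P.truncGE a) E a (max b b') hTb hEb hTflat hEflat φ'
  exact Module.Flat.of_linearEquiv (P.truncGEXIsoOpcycles a).toLinearEquiv.symm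

/-- The canonical truncation `τ_{≥a} P` of a bounded above complex of finite projectives which is
exact below `a` and has flat cokernel at `a` is a bounded complex of finite projectives. -/
theorem truncGE_finite_projective (P : DRing.Cx R) (b' : ℤ) (hPb : DRing.VanishesAbove P b')
    (hP : DRing.TermwiseFiniteProjective P) (a : ℤ) [Module.Flat R (P.opcycles a)] :
    DRing.VanishesOutside (P.truncGE a) a b' ∧ DRing.TermwiseFiniteProjective (P.truncGE a) := by
  have hop : Module.Finite R (P.opcycles a) ∧ Module.Projective R (P.opcycles a) := by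
    have h1 : Module.Finite R (P.X (a - 1)) := (hP (a - 1)).1
    have h2 : Module.Finite R (P.X a) := (hP a).1
    have h3 : Module.Projective R (P.X a) := (hP a).2
    have h4 : Module.FinitePresentation R (P.X a) := Module.finitePresentation_of_projective R _
    have hfp : Module.FinitePresentation R (P.opcycles a) :=
      Groth.Agent.Lib.Helper35.KL.finitePresentation_opcycles P a
    exact ⟨inferInstance, Module.Flat.projective_of_finitePresentation⟩
  constructor
  · intro i hi
    rcases hi with hi | hi
    · exact (P.truncGE a).isZero_of_isStrictlyGE a i hi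
    · by_cases hia : a < i
      · exact (hPb i hi).of_iso (P.truncGEXIso a i hia)
      · by_cases hia' : i < a
        · exact (P.truncGE a).isZero_of_isStrictlyGE a i hia'
        · have : i = a := by omega
          subst this
          have hz : IsZero (P.X i) := hPb i hi
          have hz' : IsZero (P.opcycles i) := by
            rw [IsZero.iff_id_eq_zero, ← cancel_epi (P.pOpcycles i)]
            exact hz.eq_of_src _ _
          exact hz'.of_iso (P.truncGEXIsoOpcycles i)
  · intro i
    by_cases hia : a < i
    · have h1 := (hP i).1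
      have h2 := (hP i).2
      let e := (P.truncGEXIso a i hia).toLinearEquiv
      exact ⟨Module.Finite.equiv e.symm, Module.Projective.of_equiv e.symm⟩
    · by_cases hia' : i < a
      · have hz := (P.truncGE a).isZero_of_isStrictlyGE a i hia'
        have := ModuleCat.subsingleton_of_isZero hz
        exact ⟨inferInstance, inferInstance⟩
      · have : i = a := by omega
        subst this
        have h1 := hop.1
        have h2 := hop.2
        let e := (P.truncGEXIsoOpcycles i).toLinearEquiv
        exact ⟨Module.Finite.equiv e.symm, Module.Projective.of_equiv e.symm⟩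

/-- A bounded above complex of finite projectives with tor amplitude in `[a, b]` is isomorphic in
`D(R)` to a complex of finite projectives in `[a, b']`. -/
theorem exists_finite_projective_of_TAmp (P : DRing.Cx R) (b' : ℤ) (hPb : DRing.VanishesAbove P b')
    (hP : DRing.TermwiseFiniteProjective P) (a b : ℤ) (h : TAmp a b (DRing.toD P)) :
    ∃ T : DRing.Cx R, DRing.VanishesOutside T a b' ∧ DRing.TermwiseFiniteProjective T ∧
      Nonempty (DRing.toD T ≅ DRing.toD P) := by
  have hKP : P.IsKProjective :=
    Groth.Agent.Lib.Helper35.KL.isKProjective_of_vanishesAbove P b' hPb (fun i => (hP i).2)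
  have hflat : ∀ i : ℤ, Module.Flat R (P.X i) := fun i => by
    have := (hP i).2
    infer_instance
  obtain ⟨hG, hF⟩ := flat_opcycles_of_TAmp P b' hPb hflat a b h
  obtain ⟨h1, h2⟩ := truncGE_finite_projective P b' hPb hP a
  have hq : QuasiIso (P.πTruncGE a) := inferInstance
  have hiso : IsIso (Q.map (P.πTruncGE a)) := by
    rw [isIso_Q_map_iff_quasiIso]
    exact hq
  exact ⟨P.truncGE a, h1, h2, ⟨(asIso (Q.map (P.πTruncGE a))).symm⟩⟩

theorem isPerfect_of_isPseudoCoherent'_of_TAmp (K : Dual.D R) (hK : DRing.IsPseudoCoherent' R K)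
    (a b : ℤ) (h : TAmp a b K) : DRing.IsPerfect R K := by
  obtain ⟨F, b', hFb, hF, ⟨e⟩⟩ := hK
  have hP : DRing.TermwiseFiniteProjective F := fun i => by
    have h1 := (hF i).1
    have h2 := (hF i).2
    exact ⟨h1, inferInstance⟩
  have h' : TAmp a b (DRing.toD F) := by
    obtain ⟨E, hE1, hE2, ⟨e'⟩⟩ := h
    exact ⟨E, hE1, hE2, ⟨e' ≪≫ e.symm⟩⟩
  obtain ⟨T, hT1, hT2, ⟨e''⟩⟩ := exists_finite_projective_of_TAmp F b' hFb hP a b h'
  exact ⟨T, a, b', hT1, hT2, ⟨e'' ≪≫ e⟩⟩

end Groth.Agent.Lib.Helper35.TA
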