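import Groth.Agent.Lib.Helper35.KLHeart

/-! Tools for objects of the derived category with cohomology in two degrees (helper35). -/

universe w v u

namespace Groth.Agent.Lib.Helper35.KL

open CategoryTheory Limits DerivedCategory Pretriangulated

variable {C : Type u} [Category.{v} C] [Abelian C] [HasDerivedCategory.{w} C]

theorem isIso_homology_map_truncGEπ' (K : DerivedCategory C) (a n : ℤ) (h : a ≤ n) :
    IsIso ((homologyFunctor C n).map ((TStructure.t.truncGEπ a).app K)) := by
  have hT := TStructure.t.triangleLTGE_distinguished a K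
  have h1 : TStructure.t.IsLE ((TStructure.t.triangleLTGE a).obj K).obj₁ (a - 1) :=
    TStructure.t.isLE_truncLT_obj K a (a - 1)
  have hz0 : IsZero ((homologyFunctor C n).obj ((TStructure.t.triangleLTGE a).obj K).obj₁) :=
    isZero_of_isLE _ (a - 1) n (by omega)
  have hz1 : IsZero ((homologyFunctor C (n + 1)).obj ((TStructure.t.triangleLTGE a).obj K).obj₁) :=
    isZero_of_isLE _ (a - 1) (n + 1) (by omega)
  have hmono : Mono ((homologyFunctor C n).map ((TStructure.t.triangleLTGE a).obj K).mor₂) :=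
    (HomologySequence.mono_homologyMap_mor₂_iff _ hT n).mpr (hz0.eq_of_src _ _)
  have hepi : Epi ((homologyFunctor C n).map ((TStructure.t.triangleLTGE a).obj K).mor₂) :=
    (HomologySequence.epi_homologyMap_mor₂_iff _ hT n (n + 1) rfl).mpr (hz1.eq_of_tgt _ _)
  exact isIso_of_mono_of_epi ((homologyFunctor C n).map ((TStructure.t.triangleLTGE a).obj K).mor₂)

theorem isIso_homology_map_truncLTι' (K : DerivedCategory C) (a n : ℤ) (h : n < a) :
    IsIso ((homologyFunctor C n).map ((TStructure.t.truncLTι a).app K)) := by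
  have hT := TStructure.t.triangleLTGE_distinguished a K
  have h1 : TStructure.t.IsGE ((TStructure.t.triangleLTGE a).obj K).obj₃ a := inferInstance
  have hz0 : IsZero ((homologyFunctor C n).obj ((TStructure.t.triangleLTGE a).obj K).obj₃) :=
    isZero_of_isGE _ a n (by omega)
  have hz1 : IsZero ((homologyFunctor C (n - 1)).obj ((TStructure.t.triangleLTGE a).obj K).obj₃) :=
    isZero_of_isGE _ a (n - 1) (by omega)
  have hmono : Mono ((homologyFunctor C n).map ((TStructure.t.triangleLTGE a).obj K).mor₁) :=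
    (HomologySequence.mono_homologyMap_mor₁_iff _ hT (n - 1) n (by omega)).mpr (hz1.eq_of_src _ _)
  have hepi : Epi ((homologyFunctor C n).map ((TStructure.t.triangleLTGE a).obj K).mor₁) :=
    (HomologySequence.epi_homologyMap_mor₁_iff _ hT n).mpr (hz0.eq_of_tgt _ _)
  exact isIso_of_mono_of_epi ((homologyFunctor C n).map ((TStructure.t.triangleLTGE a).obj K).mor₁)

/-- A morphism between objects concentrated in a single degree is determined by its effect on
cohomology in that degree. -/
theorem eq_zero_of_homology_map_eq_zero {X Y : DerivedCategory C} (n : ℤ)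
    [X.IsGE n] [X.IsLE n] [Y.IsGE n] [Y.IsLE n] (f : X ⟶ Y)
    (hf : (homologyFunctor C n).map f = 0) : f = 0 := by
  obtain ⟨A, ⟨eX⟩⟩ := exists_iso_singleFunctor_obj_of_isGE_of_isLE X n
  obtain ⟨B, ⟨eY⟩⟩ := exists_iso_singleFunctor_obj_of_isGE_of_isLE Y n
  obtain ⟨g, hg⟩ := (singleFunctor C n).map_surjective (eX.inv ≫ f ≫ eY.hom)
  have h1 : (homologyFunctor C n).map ((singleFunctor C n).map g) = 0 := by
    rw [hg, Functor.map_comp, Functor.map_comp, hf, zero_comp, comp_zero]
  have h2 := (singleFunctorCompHomologyFunctorIso C n).hom.naturality g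
  simp only [Functor.comp_map, Functor.id_map, h1, zero_comp] at h2
  have h3 : g = 0 := by
    rw [← cancel_epi ((singleFunctorCompHomologyFunctorIso C n).hom.app A), ← h2, comp_zero]
  rw [h3, Functor.map_zero] at hg
  have h4 : f = eX.hom ≫ (eX.inv ≫ f ≫ eY.hom) ≫ eY.inv := by simp
  rw [h4, ← hg, zero_comp, comp_zero]

/-- In a distinguished triangle `X ⟶ Y ⟶ Z ⟶ X⟦1⟧`, if `Hⁿ(X) ⟶ Hⁿ(Y)` is epi and
`Hⁿ⁺¹(X) ⟶ Hⁿ⁺¹(Y)` is mono then `Hⁿ(Z) = 0`. -/
theorem isZero_homology_obj₃ (T : Triangle (DerivedCategory C)) (hT : T ∈ distTriang _)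
    (n₀ n₁ : ℤ) (h : n₀ + 1 = n₁) (hepi : Epi ((homologyFunctor C n₀).map T.mor₁))
    (hmono : Mono ((homologyFunctor C n₁).map T.mor₁)) :
    IsZero ((homologyFunctor C n₀).obj T.obj₃) := by
  have h1 := (HomologySequence.epi_homologyMap_mor₁_iff T hT n₀).mp hepi
  have h2 := (HomologySequence.mono_homologyMap_mor₁_iff T hT n₀ n₁ h).mp hmono
  have h3 := HomologySequence.exact₃ T hT n₀ n₁ h
  exact h3.isZero_of_both_zeros h1 h2

end Groth.Agent.Lib.Helper35.KL

namespace Groth.Agent.Lib.Helper35.KL

open CategoryTheory Limits DerivedCategory Pretriangulated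

variable {C : Type u} [Category.{v} C] [Abelian C] [HasDerivedCategory.{w} C]

/-- The cone of a morphism between objects which are `≤ b`, inducing an isomorphism on `H^b` and
an epimorphism on `H^{b-1}`, is `≤ b - 2`. -/
theorem isLE_obj₃ (T : Triangle (DerivedCategory C)) (hT : T ∈ distTriang _) (b : ℤ)
    [T.obj₁.IsLE b] [T.obj₂.IsLE b] (h0 : IsIso ((homologyFunctor C b).map T.mor₁))
    (h1 : Epi ((homologyFunctor C (b - 1)).map T.mor₁)) : T.obj₃.IsLE (b - 2) := by
  rw [isLE_iff]
  intro i hi
  by_cases hi1 : i = b - 1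
  · subst hi1
    refine isZero_homology_obj₃ T hT (b - 1) b (by omega) h1 ?_
    infer_instance
  by_cases hi2 : i = b
  · subst hi2
    refine isZero_homology_obj₃ T hT i (i + 1) rfl inferInstance ?_
    exact (isZero_of_isLE T.obj₁ i (i + 1) (by omega)).mono _
  · refine isZero_homology_obj₃ T hT i (i + 1) rfl ?_ ?_
    · exact (isZero_of_isLE T.obj₂ b i (by omega)).epi _
    · exact (isZero_of_isLE T.obj₁ b (i + 1) (by omega)).mono _

end Groth.Agent.Lib.Helper35.KL

namespace Groth.Agent.Lib.Helper35.KL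

open CategoryTheory Limits DerivedCategory Pretriangulated

attribute [local instance] HasDerivedCategory.standard

theorem isGE_and_isLE_of_subsingleton {R : Type u} [CommRing R]
    (K : DerivedCategory (ModuleCat.{u} R)) (a b : ℤ)
    (hK : ∀ i : ℤ, (i < a ∨ b < i) →
      Subsingleton ((homologyFunctor (ModuleCat.{u} R) i).obj K)) :
    K.IsGE a ∧ K.IsLE b := by
  constructor
  · rw [isGE_iff]
    intro i hi
    have := hK i (Or.inl hi)
    exact ModuleCat.isZero_of_subsingleton _
  · rw [isLE_iff]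
    intro i hi
    have := hK i (Or.inr hi)
    exact ModuleCat.isZero_of_subsingleton _

theorem isGE_and_isLE_of_twoTerm {R : Type u} [CommRing R]
    (K : DerivedCategory (ModuleCat.{u} R))
    (hK : ∀ i : ℤ, i ≠ -1 → i ≠ 0 →
      Subsingleton ((homologyFunctor (ModuleCat.{u} R) i).obj K)) :
    K.IsGE (-1) ∧ K.IsLE 0 :=
  isGE_and_isLE_of_subsingleton K (-1) 0 (fun i hi => hK i (by omega) (by omega))

end Groth.Agent.Lib.Helper35.KL
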