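import Groth.Agent.Lib.Helper35.ConeRep2
import Mathlib.Algebra.Homology.DerivedCategory.TStructure

/-! Maps out of an object of projective amplitude `[a, b]` (helper35). -/

universe u

namespace Groth.Agent.Lib.Helper35.KL

open CategoryTheory Limits CochainComplex DerivedCategory Pretriangulated

attribute [local instance] HasDerivedCategory.standard

variable {R : Type u} [CommRing R]

/-- No maps from a complex of projectives in degrees `≥ a` (bounded above) to an object which is
`≤ a - 1`. -/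
theorem hom_eq_zero_of_projAmp (a b : ℤ) (L : Dual.D R)
    (hL : ∃ P : DRing.Cx R, DRing.VanishesOutside P a b ∧
      (∀ i : ℤ, Module.Projective R (P.X i)) ∧ Nonempty (DRing.toD P ≅ L))
    (K : Dual.D R) [DerivedCategory.IsLE K (a - 1)] (ξ : L ⟶ K) : ξ = 0 := by
  obtain ⟨P, hP, hPproj, ⟨e⟩⟩ := hL
  have hKP : P.IsKProjective := isKProjective_of_vanishesAbove P b
    (fun i hi => hP i (Or.inr hi)) hPproj
  obtain ⟨K', hK', ⟨e'⟩⟩ := exists_iso_Q_obj_of_isLE K (a - 1)
  obtain ⟨f, hf⟩ := exists_Q_map_eq_of_isKProjective P K' (e.hom ≫ ξ ≫ e'.hom)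
  have hf0 : f = 0 := by
    ext i : 1
    by_cases hi : i < a
    · exact (hP i (Or.inl hi)).eq_of_src _ _
    · exact (K'.isZero_of_isStrictlyLE (a - 1) i (by omega)).eq_of_tgt _ _
  rw [hf0, Functor.map_zero] at hf
  have h1 : ξ = e.inv ≫ (e.hom ≫ ξ ≫ e'.hom) ≫ e'.inv := by simp
  rw [h1, ← hf, zero_comp, comp_zero]

end Groth.Agent.Lib.Helper35.KL
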