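import Groth.Agent.Lib.Helper35.TriYoga
import Mathlib.Algebra.Homology.DerivedCategory.Ext.EnoughProjectives
import Mathlib.Algebra.Homology.DerivedCategory.TStructure
import Mathlib.Algebra.Homology.DerivedCategory.FullyFaithful
import Mathlib.Algebra.Homology.DerivedCategory.HomologySequence
import Mathlib.CategoryTheory.Triangulated.TStructure.TruncLTGE

/-! Maps from a projective object (in degree 0) to an object of the derived category
(helper35). -/

universe w v u

namespace Groth.Agent.Lib.Helper35.KL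

open CategoryTheory Limits DerivedCategory Pretriangulated

variable {C : Type u} [Category.{v} C] [Abelian C] [HasDerivedCategory.{w} C]

/-- Lemma V: no maps from a projective placed in degree `i` to an object which is `≤ n < i`. -/
theorem hom_single_projective_eq_zero {P : C} [Projective P] (X : DerivedCategory C) (n i : ℤ)
    (hn : n < i) [X.IsLE n] (φ : (singleFunctor C i).obj P ⟶ X) : φ = 0 := by
  obtain ⟨L, e, hL⟩ := TStructure.t.le_of_isLE X n
  rw [← cancel_mono e.hom, zero_comp]
  exact from_singleFunctor_obj_eq_zero_of_projective (φ ≫ e.hom) n hn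

theorem postcomp_truncGEπ_bijective {P : C} [Projective P] (K : DerivedCategory C) :
    Function.Bijective (fun φ : (singleFunctor C 0).obj P ⟶ K =>
      φ ≫ (TStructure.t.truncGEπ 0).app K) := by
  have hT := TStructure.t.triangleLTGE_distinguished 0 K
  have h1 : TStructure.t.IsLE ((TStructure.t.triangleLTGE 0).obj K).obj₁ (-1) :=
    TStructure.t.isLE_truncLT_obj K 0 (-1)
  have h2 : TStructure.t.IsLE (((TStructure.t.triangleLTGE 0).obj K).obj₁⟦(1 : ℤ)⟧) (-2) :=
    TStructure.t.isLE_shift _ (-1) 1 (-2)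
  exact postcomp_mor₂_bijective _ hT ((singleFunctor C 0).obj P)
    (fun φ => hom_single_projective_eq_zero _ (-1) 0 (by omega) φ)
    (fun φ => hom_single_projective_eq_zero _ (-2) 0 (by omega) φ)

theorem postcomp_truncLTι_bijective (S K : DerivedCategory C) [S.IsLE 0] :
    Function.Bijective (fun φ : S ⟶ (TStructure.t.truncLT 1).obj K =>
      φ ≫ (TStructure.t.truncLTι 1).app K) := by
  have hT := TStructure.t.triangleLTGE_distinguished 1 K
  have h1 : TStructure.t.IsGE ((TStructure.t.triangleLTGE 1).obj K).obj₃ 1 := inferInstance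
  have h2 : TStructure.t.IsGE (((TStructure.t.triangleLTGE 1).obj K).obj₃⟦(-1 : ℤ)⟧) 2 :=
    TStructure.t.isGE_shift _ 1 (-1) 2
  exact postcomp_mor₁_bijective _ hT S
    (fun φ => TStructure.t.zero φ 0 1)
    (fun φ => TStructure.t.zero φ 0 2)

theorem isIso_homology_map_truncGEπ (K : DerivedCategory C) :
    IsIso ((homologyFunctor C 0).map ((TStructure.t.truncGEπ 0).app K)) := by
  have hT := TStructure.t.triangleLTGE_distinguished 0 K
  have h1 : TStructure.t.IsLE ((TStructure.t.triangleLTGE 0).obj K).obj₁ (-1) :=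
    TStructure.t.isLE_truncLT_obj K 0 (-1)
  have hz0 : IsZero ((homologyFunctor C 0).obj ((TStructure.t.triangleLTGE 0).obj K).obj₁) :=
    isZero_of_isLE _ (-1) 0 (by omega)
  have hz1 : IsZero ((homologyFunctor C 1).obj ((TStructure.t.triangleLTGE 0).obj K).obj₁) :=
    isZero_of_isLE _ (-1) 1 (by omega)
  have hmono : Mono ((homologyFunctor C 0).map ((TStructure.t.triangleLTGE 0).obj K).mor₂) :=
    (HomologySequence.mono_homologyMap_mor₂_iff _ hT 0).mpr (hz0.eq_of_src _ _)
  have hepi : Epi ((homologyFunctor C 0).map ((TStructure.t.triangleLTGE 0).obj K).mor₂) :=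
    (HomologySequence.epi_homologyMap_mor₂_iff _ hT 0 1 rfl).mpr (hz1.eq_of_tgt _ _)
  exact isIso_of_mono_of_epi ((homologyFunctor C 0).map ((TStructure.t.triangleLTGE 0).obj K).mor₂)

theorem isIso_homology_map_truncLTι (K : DerivedCategory C) :
    IsIso ((homologyFunctor C 0).map ((TStructure.t.truncLTι 1).app K)) := by
  have hT := TStructure.t.triangleLTGE_distinguished 1 K
  have h1 : TStructure.t.IsGE ((TStructure.t.triangleLTGE 1).obj K).obj₃ 1 := inferInstance
  have hz0 : IsZero ((homologyFunctor C 0).obj ((TStructure.t.triangleLTGE 1).obj K).obj₃) :=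
    isZero_of_isGE _ 1 0 (by omega)
  have hz1 : IsZero ((homologyFunctor C (-1)).obj ((TStructure.t.triangleLTGE 1).obj K).obj₃) :=
    isZero_of_isGE _ 1 (-1) (by omega)
  have hmono : Mono ((homologyFunctor C 0).map ((TStructure.t.triangleLTGE 1).obj K).mor₁) :=
    (HomologySequence.mono_homologyMap_mor₁_iff _ hT (-1) 0 (by omega)).mpr (hz1.eq_of_src _ _)
  have hepi : Epi ((homologyFunctor C 0).map ((TStructure.t.triangleLTGE 1).obj K).mor₁) :=
    (HomologySequence.epi_homologyMap_mor₁_iff _ hT 0).mpr (hz0.eq_of_tgt _ _)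
  exact isIso_of_mono_of_epi ((homologyFunctor C 0).map ((TStructure.t.triangleLTGE 1).obj K).mor₁)

/-- **KL**: maps from projectives in degree `0` to `K` only see `H⁰(K)`. -/
theorem exists_heart_object (K : DerivedCategory C) :
    ∃ (H : C), Nonempty (H ≅ (homologyFunctor C 0).obj K) ∧
      ∀ (P₁ P₂ : C) [Projective P₁] [Projective P₂] (g : P₁ ⟶ P₂),
        (Function.Bijective (fun φ : (singleFunctor C 0).obj P₂ ⟶ K =>
            (singleFunctor C 0).map g ≫ φ) ↔
          Function.Bijective (fun ψ : P₂ ⟶ H => g ≫ ψ)) := by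
  have hGE' : TStructure.t.IsGE ((TStructure.t.truncGE 0).obj K) 0 := inferInstance
  have hGE'' : TStructure.t.IsGE ((TStructure.t.truncLT 1).obj ((TStructure.t.truncGE 0).obj K)) 0 :=
    inferInstance
  have hLE'' : TStructure.t.IsLE ((TStructure.t.truncLT 1).obj ((TStructure.t.truncGE 0).obj K)) 0 :=
    TStructure.t.isLE_truncLT_obj _ 1 0
  obtain ⟨H, ⟨e⟩⟩ := exists_iso_singleFunctor_obj_of_isGE_of_isLE
    ((TStructure.t.truncLT 1).obj ((TStructure.t.truncGE 0).obj K)) 0
  have hia := isIso_homology_map_truncGEπ K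
  have hib := isIso_homology_map_truncLTι ((TStructure.t.truncGE 0).obj K)
  refine ⟨H, ⟨((singleFunctorCompHomologyFunctorIso C 0).app H).symm ≪≫
    (homologyFunctor C 0).mapIso e.symm ≪≫
    asIso ((homologyFunctor C 0).map
      ((TStructure.t.truncLTι 1).app ((TStructure.t.truncGE 0).obj K))) ≪≫
    (asIso ((homologyFunctor C 0).map ((TStructure.t.truncGEπ 0).app K))).symm⟩, ?_⟩
  intro P₁ P₂ _ _ g
  have hΘ : ∀ (P : C) [Projective P], Function.Bijective (fun ψ : P ⟶ H =>
      ((singleFunctor C 0).map ψ ≫ e.inv) ≫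
        (TStructure.t.truncLTι 1).app ((TStructure.t.truncGE 0).obj K)) := by
    intro P _
    have h1 : Function.Bijective (fun ψ : P ⟶ H => (singleFunctor C 0).map ψ) :=
      (Functor.FullyFaithful.ofFullyFaithful (singleFunctor C 0)).map_bijective P H
    have h2 : Function.Bijective (fun φ : (singleFunctor C 0).obj P ⟶ (singleFunctor C 0).obj H =>
        φ ≫ e.inv) :=
      ⟨fun φ ψ h => by simpa using h, fun φ => ⟨φ ≫ e.hom, by simp⟩⟩
    have h3 := postcomp_truncLTι_bijective ((singleFunctor C 0).obj P)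
      ((TStructure.t.truncGE 0).obj K)
    exact h3.comp (h2.comp h1)
  have hΨ : ∀ (P : C) [Projective P], Function.Bijective
      (fun φ : (singleFunctor C 0).obj P ⟶ K => φ ≫ (TStructure.t.truncGEπ 0).app K) :=
    fun P _ => postcomp_truncGEπ_bijective K
  have hs1 : (fun φ : (singleFunctor C 0).obj P₁ ⟶ K => φ ≫ (TStructure.t.truncGEπ 0).app K) ∘
      (fun φ : (singleFunctor C 0).obj P₂ ⟶ K => (singleFunctor C 0).map g ≫ φ) =
      (fun φ : (singleFunctor C 0).obj P₂ ⟶ (TStructure.t.truncGE 0).obj K =>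
        (singleFunctor C 0).map g ≫ φ) ∘
      (fun φ : (singleFunctor C 0).obj P₂ ⟶ K => φ ≫ (TStructure.t.truncGEπ 0).app K) := by
    funext φ
    simp
  have hs2 : (fun ψ : P₁ ⟶ H => ((singleFunctor C 0).map ψ ≫ e.inv) ≫
        (TStructure.t.truncLTι 1).app ((TStructure.t.truncGE 0).obj K)) ∘
      (fun ψ : P₂ ⟶ H => g ≫ ψ) =
      (fun φ : (singleFunctor C 0).obj P₂ ⟶ (TStructure.t.truncGE 0).obj K =>
        (singleFunctor C 0).map g ≫ φ) ∘
      (fun ψ : P₂ ⟶ H => ((singleFunctor C 0).map ψ ≫ e.inv) ≫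
        (TStructure.t.truncLTι 1).app ((TStructure.t.truncGE 0).obj K)) := by
    funext ψ
    simp
  have e1 := Function.Bijective.of_comp_iff' (hΨ P₁)
    (fun φ : (singleFunctor C 0).obj P₂ ⟶ K => (singleFunctor C 0).map g ≫ φ)
  have e2 := Function.Bijective.of_comp_iff' (hΘ P₁) (fun ψ : P₂ ⟶ H => g ≫ ψ)
  rw [← e1, ← e2, hs1, hs2, Function.Bijective.of_comp_iff _ (hΨ P₂),
    Function.Bijective.of_comp_iff _ (hΘ P₂)]

end Groth.Agent.Lib.Helper35.KL
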