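import Mathlib
import Groth.Prelude.Def_DRing2
import Groth.Agent.Lib.Helper35.TACore
import Groth.Agent.Lib.Helper35.OpcMono
import Groth.Agent.Lib.Helper6.Resol2

/-! Tor amplitude via bounded above projective/flat representatives (helper35). -/

set_option autoImplicit false
set_option linter.unusedSimpArgs false
universe u

open CategoryTheory Limits Pretriangulated DerivedCategory ZeroObject CochainComplex
  HomologicalComplex TensorProduct

namespace Groth.Agent.Lib.Helper35.TA

attribute [local instance] HasDerivedCategory.standard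

variable {R : Type u} [CommRing R]

/-- An extension of flat modules is flat. -/
theorem flat_of_shortExact {M' M M'' : Type u} [AddCommGroup M'] [Module R M'] [AddCommGroup M]
    [Module R M] [AddCommGroup M''] [Module R M''] [Module.Flat R M'] [Module.Flat R M'']
    (f : M' →ₗ[R] M) (g : M →ₗ[R] M'') (hf : Function.Injective f) (hfg : Function.Exact f g)
    (hg : Function.Surjective g) : Module.Flat R M := by
  rw [Module.Flat.iff_rTensor_injective']
  intro I
  rw [injective_iff_map_eq_zero]
  intro x hx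
  have hinj'' : Function.Injective (I.subtype.rTensor M'') :=
    Module.Flat.iff_rTensor_injective'.mp inferInstance I
  have hinj' : Function.Injective (I.subtype.rTensor M') :=
    Module.Flat.iff_rTensor_injective'.mp inferInstance I
  have h1 : (g.lTensor I) x = 0 := by
    apply hinj''
    rw [map_zero, ← LinearMap.comp_apply, LinearMap.rTensor_comp_lTensor,
      ← LinearMap.lTensor_comp_rTensor, LinearMap.comp_apply, hx, map_zero]
  have hex : Function.Exact (f.lTensor I) (g.lTensor I) := lTensor_exact I hfg hg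
  obtain ⟨y, rfl⟩ := (hex x).mp h1
  have hfR : Function.Injective (f.lTensor R) :=
    Module.Flat.lTensor_preserves_injective_linearMap f hf
  have h2 : (I.subtype.rTensor M') y = 0 := by
    apply hfR
    rw [map_zero, ← LinearMap.comp_apply, LinearMap.lTensor_comp_rTensor,
      ← LinearMap.rTensor_comp_lTensor, LinearMap.comp_apply, hx]
  have h3 : y = 0 := hinj' (by rw [h2, map_zero])
  rw [h3, map_zero]

/-- The opcycles of a complex of modules as a quotient. -/
noncomputable def opcyclesLinearEquiv (E : CochainComplex (ModuleCat.{u} R) ℤ) (i j : ℤ)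
    (hij : i + 1 = j) :
    (E.X j ⧸ LinearMap.range (E.d i j).hom) ≃ₗ[R] E.opcycles j := by
  let S : ShortComplex (ModuleCat.{u} R) :=
    ShortComplex.mk (E.d i j) (E.pOpcycles j) (E.d_pOpcycles _ _)
  have hS : S.Exact := S.exact_of_g_is_cokernel (E.opcyclesIsCokernel i j (by simp [← hij]))
  have hr : LinearMap.range (E.d i j).hom = LinearMap.ker (E.pOpcycles j).hom :=
    (ShortComplex.moduleCat_exact_iff_range_eq_ker S).mp hS
  have hepi : Function.Surjective (E.pOpcycles j).hom :=
    (ModuleCat.epi_iff_surjective _).mp inferInstance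
  exact (Submodule.quotEquivOfEq _ _ hr).trans
    (LinearMap.quotKerEquivOfSurjective (E.pOpcycles j).hom hepi)

/-- The class of all projective modules. -/
def AllProj (M : ModuleCat.{u} R) : Prop := Module.Projective R M

lemma classHyp_allProj : Groth.Agent.Lib.Helper6.Resol.ClassHyp (AllProj (R := R)) where
  proj M h := h
  zero M h := by
    have : Subsingleton M := ModuleCat.subsingleton_of_isZero h
    exact (inferInstance : Module.Projective R M)
  iso e h := by
    have : Module.Projective R _ := h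
    exact Module.Projective.of_equiv e.toLinearEquiv
  prod M N hM hN := by
    have : Module.Projective R M := hM
    have : Module.Projective R N := hN
    exact (inferInstance : Module.Projective R (M × N))

lemma coverHyp_allProj (K₀ : DRing.Cx R) :
    Groth.Agent.Lib.Helper6.Resol.CoverHyp (AllProj (R := R)) K₀ := by
  intro E a' b' hv hE a C p q hT t hC
  let H := (homologyFunctor (ModuleCat.{u} R) t).obj C
  refine ⟨ModuleCat.of R (H →₀ R), (inferInstance : Module.Projective R (H →₀ R)),
    ModuleCat.ofHom (Finsupp.linearCombination R (id : H → H)), ?_⟩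
  rw [ModuleCat.epi_iff_surjective]
  intro h
  exact ⟨Finsupp.single h 1, by simp⟩

/-- Bounded above projective resolutions of complexes with bounded above cohomology. -/
theorem exists_projective_resolution_cx (K₀ : DRing.Cx R) (b : ℤ) [(Q.obj K₀).IsLE b] :
    ∃ (P : DRing.Cx R) (π : P ⟶ K₀), DRing.VanishesAbove P b ∧
      (∀ i, Module.Projective R (P.X i)) ∧ QuasiIso π :=
  Groth.Agent.Lib.Helper6.Resol.exists_resolution_cx (b := b) classHyp_allProj
    (coverHyp_allProj K₀)

theorem exists_projective_rep (K : Dual.D R) (b : ℤ) [K.IsLE b] :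
    ∃ (P : DRing.Cx R), DRing.VanishesAbove P b ∧ (∀ i, Module.Projective R (P.X i)) ∧
      Nonempty (DRing.toD P ≅ K) := by
  let K₀ := Q.objPreimage K
  let e : Q.obj K₀ ≅ K := Q.objObjPreimageIso K
  have hLE : (Q.obj K₀).IsLE b := TStructure.t.isLE_of_iso e.symm b
  obtain ⟨P, π, hv, hP, hπ⟩ := exists_projective_resolution_cx K₀ b
  have : IsIso (Q.map π) := by
    rw [isIso_Q_map_iff_quasiIso]
    exact hπ
  exact ⟨P, hv, hP, ⟨asIso (Q.map π) ≪≫ e⟩⟩

/-- **Core lemma, dual form**: if `φ : E ⟶ T` is a quasi-isomorphism of bounded above complexes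
concentrated in degrees `≥ a`, with `E` termwise flat and `T` flat in degrees `> a`, then `T.X a`
is flat. -/
theorem flat_X_of_quasiIso' (E T : CochainComplex (ModuleCat.{u} R) ℤ) (a b : ℤ)
    [E.IsStrictlyGE a] [T.IsStrictlyGE a]
    (hEb : ∀ i : ℤ, b < i → IsZero (E.X i)) (hTb : ∀ i : ℤ, b < i → IsZero (T.X i))
    (hE : ∀ i : ℤ, Module.Flat R (E.X i)) (hT : ∀ i : ℤ, a < i → Module.Flat R (T.X i))
    (φ : E ⟶ T) [QuasiIso φ] : Module.Flat R (T.X a) := by
  let C := mappingCone φ
  have hCb : ∀ i : ℤ, b < i → IsZero (C.X i) := by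
    intro i hi
    rw [CochainComplex.mappingCone.isZero_X_iff]
    exact ⟨hEb (i + 1) (by omega), hTb i hi⟩
  have hCflat : ∀ i : ℤ, a + 1 ≤ i → Module.Flat R (C.X i) := by
    intro i hi
    have := hE (i + 1)
    have := hT i (by omega)
    have : Module.Flat R (E.X (i + 1) × T.X i) := flat_prod
    exact Module.Flat.of_linearEquiv
      (Groth.Agent.Lib.Helper35.KL.mappingConeXLinearEquiv φ i)
  have hCex : ∀ i : ℤ, C.ExactAt i := fun i => exactAt_mappingCone_of_quasiIso φ i
  have hZ : Module.Flat R (LinearMap.ker (C.d (a + 1) (a + 1 + 1)).hom) :=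
    flat_ker_d C b hCb (a + 1) hCflat (fun i _ => hCex i) (a + 1) le_rfl
  -- the lowest term
  have hC0 : Module.Flat R (C.X (a - 1)) := by
    have := hE (a - 1 + 1)
    have hz : IsZero (T.X (a - 1)) := T.isZero_of_isStrictlyGE a _ (by omega)
    have : Subsingleton (T.X (a - 1)) := ModuleCat.subsingleton_of_isZero hz
    have : Module.Flat R (E.X (a - 1 + 1) × T.X (a - 1)) := flat_prod
    exact Module.Flat.of_linearEquiv
      (Groth.Agent.Lib.Helper35.KL.mappingConeXLinearEquiv φ (a - 1))
  have hE2 := hCex (a + 1)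
  rw [HomologicalComplex.exactAt_iff' C a (a + 1) (a + 1 + 1) (by simp) (by simp),
    ShortComplex.moduleCat_exact_iff] at hE2
  have hE1 := hCex a
  rw [HomologicalComplex.exactAt_iff' C (a - 1) a (a + 1) (by simp) (by simp),
    ShortComplex.moduleCat_exact_iff] at hE1
  have hE0 := hCex (a - 1)
  rw [HomologicalComplex.exactAt_iff' C (a - 1 - 1) (a - 1) a (by simp) (by simp),
    ShortComplex.moduleCat_exact_iff] at hE0
  have hz2 : IsZero (C.X (a - 1 - 1)) := by
    rw [CochainComplex.mappingCone.isZero_X_iff]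
    exact ⟨E.isZero_of_isStrictlyGE a _ (by omega), T.isZero_of_isStrictlyGE a _ (by omega)⟩
  have hdd : ∀ x : C.X a, (C.d a (a + 1)).hom x ∈ LinearMap.ker (C.d (a + 1) (a + 1 + 1)).hom := by
    intro x
    rw [LinearMap.mem_ker, ← ModuleCat.comp_apply, C.d_comp_d]
    rfl
  let g : C.X a →ₗ[R] LinearMap.ker (C.d (a + 1) (a + 1 + 1)).hom :=
    (C.d a (a + 1)).hom.codRestrict _ hdd
  have hgs : Function.Surjective g := by
    rintro ⟨y, hy⟩
    obtain ⟨x, hx⟩ := hE2 y hy
    exact ⟨x, Subtype.ext hx⟩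
  have hfi : Function.Injective (C.d (a - 1) a).hom := by
    rw [injective_iff_map_eq_zero]
    intro x hx
    obtain ⟨y, hy⟩ := hE0 x hx
    have : Subsingleton (C.X (a - 1 - 1)) := ModuleCat.subsingleton_of_isZero hz2
    have hy0 : y = 0 := this.elim y 0
    rw [← hy, hy0, map_zero]
    rfl
  have hex : Function.Exact (C.d (a - 1) a).hom g := by
    intro y
    constructor
    · intro hy
      have hy' : (C.d a (a + 1)).hom y = 0 := congrArg Subtype.val hy
      exact hE1 y hy'
    · rintro ⟨x, rfl⟩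
      apply Subtype.ext
      change (C.d a (a + 1)).hom ((C.d (a - 1) a).hom x) = 0
      rw [← ModuleCat.comp_apply, C.d_comp_d]
      rfl
  have hCa : Module.Flat R (C.X a) := flat_of_shortExact (C.d (a - 1) a).hom g hfi hex hgs
  let e := Groth.Agent.Lib.Helper35.KL.mappingConeXLinearEquiv φ a
  have hprod : Module.Flat R (E.X (a + 1) × T.X a) := Module.Flat.of_linearEquiv e.symm
  exact Module.Flat.of_retract (LinearMap.inr R (E.X (a + 1)) (T.X a))
    (LinearMap.snd R (E.X (a + 1)) (T.X a)) (by ext; simp)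

lemma isZero_truncGE_X_of_vanishesAbove (P : DRing.Cx R) (b' : ℤ) (hPb : DRing.VanishesAbove P b')
    (a i : ℤ) (hi : b' < i) : IsZero ((P.truncGE a).X i) := by
  by_cases hia : a < i
  · exact (hPb i hi).of_iso (P.truncGEXIso a i hia)
  · by_cases hia' : i < a
    · exact (P.truncGE a).isZero_of_isStrictlyGE a i hia'
    · have : i = a := by omega
      subst this
      have hz : IsZero (P.X i) := hPb i hi
      have hz' : IsZero (P.opcycles i) := by
        rw [IsZero.iff_id_eq_zero, ← cancel_epi (P.pOpcycles i)]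
        exact hz.eq_of_src _ _
      exact hz'.of_iso (P.truncGEXIsoOpcycles i)

lemma flat_truncGE_X (P : DRing.Cx R) (a : ℤ) (i : ℤ) (hP : a < i → Module.Flat R (P.X i))
    (hop : i = a → Module.Flat R (P.opcycles a)) : Module.Flat R ((P.truncGE a).X i) := by
  by_cases hia : a < i
  · have := hP hia
    exact Module.Flat.of_linearEquiv (P.truncGEXIso a i hia).toLinearEquiv
  · by_cases hia' : i < a
    · have hz := (P.truncGE a).isZero_of_isStrictlyGE a i hia'
      have : Subsingleton ((P.truncGE a).X i) := ModuleCat.subsingleton_of_isZero hz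
      infer_instance
    · have : i = a := by omega
      subst this
      have := hop rfl
      exact Module.Flat.of_linearEquiv (P.truncGEXIsoOpcycles i).toLinearEquiv

/-- If a bounded above, termwise flat complex `P` has tor amplitude in `[a, b]`, then
`P` is exact below `a` and the cokernel of `d^{a-1}` is flat. -/
theorem flat_opcycles_of_TAmp' (P : DRing.Cx R) (b' : ℤ)
    (hPb : DRing.VanishesAbove P b') (hPflat : ∀ i : ℤ, Module.Flat R (P.X i)) (a b : ℤ)
    (h : TAmp a b (DRing.toD P)) : P.IsGE a ∧ Module.Flat R (P.opcycles a) := by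
  have hs : P.IsStrictlyLE b' := by
    rw [CochainComplex.isStrictlyLE_iff]
    exact fun i hi => hPb i hi
  have hLE : (Q.obj P).IsLE b' := inferInstance
  obtain ⟨P', π, hv, hproj, hπ⟩ := exists_projective_resolution_cx P b'
  have hKP : P'.IsKProjective :=
    Groth.Agent.Lib.Helper35.KL.isKProjective_of_vanishesAbove P' b' hv hproj
  have hiso : IsIso (Q.map π) := by
    rw [isIso_Q_map_iff_quasiIso]
    exact hπ
  have h' : TAmp a b (DRing.toD P') := by
    obtain ⟨E, hE1, hE2, ⟨e'⟩⟩ := h
    exact ⟨E, hE1, hE2, ⟨e' ≪≫ (asIso (Q.map π)).symm⟩⟩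
  have hflat' : ∀ i : ℤ, Module.Flat R (P'.X i) := fun i => by
    have := hproj i
    infer_instance
  obtain ⟨hG', hF'⟩ := flat_opcycles_of_TAmp P' b' hv hflat' a b h'
  have hG : P.IsGE a := (HomologicalComplex.isSupported_iff_of_quasiIso π _).mp hG'
  refine ⟨hG, ?_⟩
  have hq : QuasiIso (CochainComplex.truncGEMap π a) := by
    rw [CochainComplex.quasiIso_truncGEMap_iff]
    intro i _
    infer_instance
  have h1 := flat_X_of_quasiIso' (P'.truncGE a) (P.truncGE a) a b'
    (isZero_truncGE_X_of_vanishesAbove P' b' hv a) (isZero_truncGE_X_of_vanishesAbove P b' hPb a)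
    (fun i => flat_truncGE_X P' a i (fun _ => hflat' i) (fun _ => hF'))
    (fun i hi => flat_truncGE_X P a i (fun _ => hPflat i) (fun h => absurd h (by omega)))
    (CochainComplex.truncGEMap π a)
  exact Module.Flat.of_linearEquiv (P.truncGEXIsoOpcycles a).toLinearEquiv.symm

/-- The cycles of a complex of modules as a kernel. -/
noncomputable def cyclesIsoKer (E : CochainComplex (ModuleCat.{u} R) ℤ) (i j : ℤ)
    (hij : i + 1 = j) :
    E.cycles i ≅ ModuleCat.of R (LinearMap.ker (E.d i j).hom) :=
  IsLimit.conePointUniqueUpToIso (E.cyclesIsKernel i j (by simp [← hij]))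
    (ModuleCat.kernelIsLimit (E.d i j))

/-- A bounded above termwise flat complex which is exact below `a` and above `b` and has flat
cokernel at `a` has tor amplitude in `[a, b]`. -/
theorem TAmp_of_flat_opcycles (P : DRing.Cx R) (b' : ℤ)
    (hPb : DRing.VanishesAbove P b') (hPflat : ∀ i : ℤ, Module.Flat R (P.X i)) (a b : ℤ)
    [P.IsGE a] [P.IsLE b] [Module.Flat R (P.opcycles a)] : TAmp a b (DRing.toD P) := by
  let T := P.truncGE a
  have hTflat : ∀ i : ℤ, Module.Flat R (T.X i) := fun i =>
    flat_truncGE_X P a i (fun _ => hPflat i) (fun _ => inferInstance)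
  have hTb : ∀ i : ℤ, b' < i → IsZero (T.X i) := isZero_truncGE_X_of_vanishesAbove P b' hPb a
  have hq : QuasiIso (P.πTruncGE a) := inferInstance
  have hTLE : T.IsLE b := (HomologicalComplex.isSupported_iff_of_quasiIso (P.πTruncGE a) _).mp
    (inferInstance : P.IsLE b)
  have hTs : T.IsStrictlyGE a := inferInstance
  let T' := T.truncLE b
  have hq' : QuasiIso (T.ιTruncLE b) := inferInstance
  have hcyc : Module.Flat R (T.cycles b) := by
    have h1 : Module.Flat R (LinearMap.ker (T.d b (b + 1)).hom) :=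
      flat_ker_d T b' hTb b (fun i _ => hTflat i) (fun i hi => T.exactAt_of_isLE b i hi) b le_rfl
    exact Module.Flat.of_linearEquiv (cyclesIsoKer T b (b + 1) rfl).toLinearEquiv
  have hiso1 : IsIso (Q.map (T.ιTruncLE b)) := by
    rw [isIso_Q_map_iff_quasiIso]
    exact hq'
  have hiso2 : IsIso (Q.map (P.πTruncGE a)) := by
    rw [isIso_Q_map_iff_quasiIso]
    exact hq
  refine ⟨T', ?_, ?_, ⟨asIso (Q.map (T.ιTruncLE b)) ≪≫ (asIso (Q.map (P.πTruncGE a))).symm⟩⟩
  · intro i hi
    by_cases hib : b < i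
    · exact T'.isZero_of_isStrictlyLE b i hib
    · have hia : i < a := by omega
      have hz : IsZero (T.X i) := T.isZero_of_isStrictlyGE a i hia
      by_cases hib' : i < b
      · exact hz.of_iso (T.truncLEXIso b i hib')
      · have : i = b := by omega
        subst this
        have hz' : IsZero (T.cycles i) := by
          rw [IsZero.iff_id_eq_zero, ← cancel_mono (T.iCycles i)]
          exact hz.eq_of_tgt _ _
        exact hz'.of_iso (T.truncLEXIsoCycles i)
  · intro i
    by_cases hib : b < i
    · have hz := T'.isZero_of_isStrictlyLE b i hib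
      have : Subsingleton (T'.X i) := ModuleCat.subsingleton_of_isZero hz
      infer_instance
    · by_cases hib' : i < b
      · have := hTflat i
        exact Module.Flat.of_linearEquiv (T.truncLEXIso b i hib').toLinearEquiv
      · have : i = b := by omega
        subst this
        exact Module.Flat.of_linearEquiv (T.truncLEXIsoCycles i).toLinearEquiv

/-- The cokernel of `d^{a-1}` of the mapping cone of `g : P ⟶ E`, where `E` starts in degree `a`,
`P` is exact at `a` and has flat cokernel at `a + 1`, is flat. -/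
theorem flat_opcycles_mappingCone {P E : DRing.Cx R} (g : P ⟶ E) (a0 a a1 : ℤ) (h0 : a0 + 1 = a)
    (h1 : a + 1 = a1) (hE0 : IsZero (E.X a0)) [Module.Flat R (E.X a)] (hPex : P.ExactAt a)
    [Module.Flat R (P.opcycles a1)] : Module.Flat R ((mappingCone g).opcycles a) := by
  let C := mappingCone g
  let fst0 : C.X a0 →ₗ[R] P.X a := ((mappingCone.fst g).1.v a0 a h0).hom
  let fst1 : C.X a →ₗ[R] P.X a1 := ((mappingCone.fst g).1.v a a1 h1).hom
  let snd0 : C.X a0 →ₗ[R] E.X a0 := ((mappingCone.snd g).v a0 a0 (add_zero a0)).hom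
  let snd1 : C.X a →ₗ[R] E.X a := ((mappingCone.snd g).v a a (add_zero a)).hom
  let inl0 : P.X a →ₗ[R] C.X a0 := ((mappingCone.inl g).v a a0 (by omega)).hom
  let inl1 : P.X a1 →ₗ[R] C.X a := ((mappingCone.inl g).v a1 a (by omega)).hom
  let inr1 : E.X a →ₗ[R] C.X a := ((mappingCone.inr g).f a).hom
  let dC : C.X a0 →ₗ[R] C.X a := (C.d a0 a).hom
  let dP : P.X a →ₗ[R] P.X a1 := (P.d a a1).hom
  have e1 : ∀ x, fst1 (dC x) = - dP (fst0 x) := fun x => by
    have := congr(($(mappingCone.d_fst_v g a0 a a1 h0 h1)).hom x)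
    simpa using this
  have e2 : ∀ x, snd1 (dC x) = (g.f a).hom (fst0 x) + (E.d a0 a).hom (snd0 x) := fun x => by
    have := congr(($(mappingCone.d_snd_v g a0 a h0)).hom x)
    simpa using this
  have e3 : ∀ e, fst1 (inr1 e) = 0 := fun e => by
    have := congr(($(mappingCone.inr_f_fst_v g a a1 h1)).hom e)
    simp only [ModuleCat.hom_comp, ModuleCat.hom_zero, ModuleCat.hom_id, LinearMap.comp_apply,
      LinearMap.zero_apply, LinearMap.id_apply] at this
    exact this
  have e4 : ∀ e, snd1 (inr1 e) = e := fun e => by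
    have := congr(($(mappingCone.inr_f_snd_v g a)).hom e)
    simp only [ModuleCat.hom_comp, ModuleCat.hom_zero, ModuleCat.hom_id, LinearMap.comp_apply,
      LinearMap.zero_apply, LinearMap.id_apply] at this
    exact this
  have e5 : ∀ c, inl1 (fst1 c) + inr1 (snd1 c) = c := fun c => by
    have := congr(($(mappingCone.id_X g a a1 h1)).hom c)
    simpa using this
  have e6 : ∀ p, fst0 (inl0 p) = p := fun p => by
    have := congr(($(mappingCone.inl_v_fst_v g a a0 h0)).hom p)
    simp only [ModuleCat.hom_comp, ModuleCat.hom_zero, ModuleCat.hom_id, LinearMap.comp_apply,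
      LinearMap.zero_apply, LinearMap.id_apply] at this
    exact this
  have e7 : ∀ p, fst1 (inl1 p) = p := fun p => by
    have := congr(($(mappingCone.inl_v_fst_v g a1 a h1)).hom p)
    simp only [ModuleCat.hom_comp, ModuleCat.hom_zero, ModuleCat.hom_id, LinearMap.comp_apply,
      LinearMap.zero_apply, LinearMap.id_apply] at this
    exact this
  have hsub : Subsingleton (E.X a0) := ModuleCat.subsingleton_of_isZero hE0
  -- exactness of `P` at `a`
  have hPex' := hPex
  rw [HomologicalComplex.exactAt_iff' P a0 a a1 (by simp [← h0]) (by simp [← h1]),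
    ShortComplex.moduleCat_exact_iff] at hPex'
  let α : E.X a →ₗ[R] (C.X a ⧸ LinearMap.range dC) := (LinearMap.range dC).mkQ ∘ₗ inr1
  have hle : LinearMap.range dC ≤ (LinearMap.range dP).comap fst1 := by
    rintro _ ⟨x, rfl⟩
    exact ⟨-(fst0 x), by rw [map_neg, e1]⟩
  let β : (C.X a ⧸ LinearMap.range dC) →ₗ[R] (P.X a1 ⧸ LinearMap.range dP) :=
    Submodule.mapQ _ _ fst1 hle
  have hα : Function.Injective α := by
    rw [injective_iff_map_eq_zero]
    intro e he
    have he' : inr1 e ∈ LinearMap.range dC := (Submodule.Quotient.mk_eq_zero _).mp he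
    obtain ⟨x, hx⟩ := he'
    have h3 : dP (fst0 x) = 0 := by
      have := e1 x
      rw [hx, e3] at this
      exact neg_eq_zero.mp this.symm
    obtain ⟨y, hy⟩ := hPex' (fst0 x) h3
    have h4 := e2 x
    rw [hx, e4] at h4
    have h5 : snd0 x = 0 := Subsingleton.elim _ _
    have h6 : (g.f a).hom (fst0 x) = 0 := by
      have hc := congr(($(g.comm a0 a)).hom y)
      simp only [ModuleCat.hom_comp, LinearMap.comp_apply] at hc
      have h7 : (g.f a0).hom y = 0 := Subsingleton.elim _ _
      rw [h7, map_zero] at hc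
      rw [← hy]
      exact hc.symm
    rw [h4, h5, h6, map_zero, add_zero]
  have hβ : Function.Surjective β := by
    intro q
    obtain ⟨p, rfl⟩ := Submodule.Quotient.mk_surjective _ q
    refine ⟨Submodule.Quotient.mk (inl1 p), ?_⟩
    change Submodule.Quotient.mk (fst1 (inl1 p)) = _
    rw [e7]
  have hex : Function.Exact α β := by
    intro q
    constructor
    · intro hq
      obtain ⟨c, rfl⟩ := Submodule.Quotient.mk_surjective _ q
      have hq' : fst1 c ∈ LinearMap.range dP := (Submodule.Quotient.mk_eq_zero _).mp hq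
      obtain ⟨p, hp⟩ := hq'
      let c' := c + dC (inl0 p)
      have h3 : fst1 c' = 0 := by
        change fst1 (c + dC (inl0 p)) = 0
        rw [map_add, e1, e6, hp, add_neg_cancel]
      refine ⟨snd1 c', ?_⟩
      change Submodule.Quotient.mk (inr1 (snd1 c')) = Submodule.Quotient.mk c
      rw [Submodule.Quotient.eq]
      have h4 := e5 c'
      rw [h3, map_zero, zero_add] at h4
      rw [h4]
      change c + dC (inl0 p) - c ∈ _
      rw [add_sub_cancel_left]
      exact ⟨_, rfl⟩
    · rintro ⟨e, rfl⟩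
      change Submodule.Quotient.mk (fst1 (inr1 e)) = _
      rw [e3]
      rfl
  have hQP : Module.Flat R (P.X a1 ⧸ LinearMap.range dP) :=
    Module.Flat.of_linearEquiv (opcyclesLinearEquiv P a a1 h1)
  have hQC : Module.Flat R (C.X a ⧸ LinearMap.range dC) := flat_of_shortExact α β hα hex hβ
  exact Module.Flat.of_linearEquiv (opcyclesLinearEquiv C a0 a h0).symm

section API

theorem TAmp.of_iso {a b : ℤ} {K K' : Dual.D R} (h : TAmp a b K) (e : K ≅ K') : TAmp a b K' := by
  obtain ⟨E, h1, h2, ⟨e'⟩⟩ := h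
  exact ⟨E, h1, h2, ⟨e' ≪≫ e⟩⟩

theorem TAmp.mono {a b a' b' : ℤ} {K : Dual.D R} (h : TAmp a b K) (ha : a' ≤ a) (hb : b ≤ b') :
    TAmp a' b' K := by
  obtain ⟨E, h1, h2, he⟩ := h
  exact ⟨E, fun i hi => h1 i (by omega), h2, he⟩

theorem TAmp.isLE {a b : ℤ} {K : Dual.D R} (h : TAmp a b K) : K.IsLE b := by
  obtain ⟨P, hv, -, ⟨e⟩⟩ := h
  have : P.IsStrictlyLE b := by
    rw [CochainComplex.isStrictlyLE_iff]
    exact fun i hi => hv i (Or.inr hi)
  exact TStructure.t.isLE_of_iso e b

theorem TAmp.isGE {a b : ℤ} {K : Dual.D R} (h : TAmp a b K) : K.IsGE a := by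
  obtain ⟨P, hv, -, ⟨e⟩⟩ := h
  have : P.IsStrictlyGE a := by
    rw [CochainComplex.isStrictlyGE_iff]
    exact fun i hi => hv i (Or.inl hi)
  exact TStructure.t.isGE_of_iso e a

theorem TAmp.shift {a b : ℤ} {K : Dual.D R} (h : TAmp a b K) (n : ℤ) :
    TAmp (a - n) (b - n) (K⟦n⟧) := by
  obtain ⟨E, hb, hE, ⟨e⟩⟩ := h
  refine ⟨E⟦n⟧, ?_, ?_, ⟨(Q.commShiftIso n).app E ≪≫
    (CategoryTheory.shiftFunctor (DerivedCategory (ModuleCat.{u} R)) n).mapIso e⟩⟩
  · intro i hi
    exact hb (i + n) (by omega)
  · intro i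
    exact hE (i + n)

theorem TAmp.of_isZero {a b : ℤ} {K : Dual.D R} (hK : IsZero K) : TAmp a b K := by
  refine ⟨0, ?_, ?_, ⟨(Q.map_isZero (isZero_zero _)).iso hK⟩⟩
  · intro i _
    exact (HomologicalComplex.eval _ _ i).map_isZero (isZero_zero _)
  · intro i
    have hz : IsZero ((0 : DRing.Cx R).X i) :=
      (HomologicalComplex.eval _ _ i).map_isZero (isZero_zero _)
    have : Subsingleton ((0 : DRing.Cx R).X i) := ModuleCat.subsingleton_of_isZero hz
    infer_instance

/-- Shifting back. -/
theorem TAmp.of_shift {a b : ℤ} {K : Dual.D R} (n : ℤ) (h : TAmp (a - n) (b - n) (K⟦n⟧)) :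
    TAmp a b K := by
  have h1 := h.shift (-n)
  have h2 : TAmp a b ((K⟦n⟧)⟦-n⟧) := h1.mono (by omega) (by omega)
  exact h2.of_iso ((shiftEquiv (Dual.D R) n).unitIso.app K).symm

end API

/-- **Two out of three, cone form**: in a distinguished triangle `K → L → M → K[1]`, if `K` has tor
amplitude in `[a + 1, b + 1]` and `L` in `[a, b]`, then `M` has tor amplitude in `[a, b]`. -/
theorem TAmp.obj₃ (T : Triangle (Dual.D R)) (hT : T ∈ distTriang _) (a b : ℤ)
    (h₁ : TAmp (a + 1) (b + 1) T.obj₁) (h₂ : TAmp a b T.obj₂) : TAmp a b T.obj₃ := by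
  have h1LE : T.obj₁.IsLE (b + 1) := h₁.isLE
  have h1GE : T.obj₁.IsGE (a + 1) := h₁.isGE
  have h2LE : T.obj₂.IsLE b := h₂.isLE
  have h2GE : T.obj₂.IsGE a := h₂.isGE
  obtain ⟨P, hPv, hPproj, ⟨eP⟩⟩ := exists_projective_rep T.obj₁ (b + 1)
  obtain ⟨E, hEv, hEflat, ⟨eE⟩⟩ := h₂
  have hKP : P.IsKProjective :=
    Groth.Agent.Lib.Helper35.KL.isKProjective_of_vanishesAbove P (b + 1) hPv hPproj
  obtain ⟨g, ⟨e3⟩⟩ :=
    Groth.Agent.Lib.Helper35.KL.nonempty_iso_mappingCone_of_isKProjective T hT eP eE
  have hPflat : ∀ i : ℤ, Module.Flat R (P.X i) := fun i => by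
    have := hPproj i
    infer_instance
  have hP' : TAmp (a + 1) (b + 1) (DRing.toD P) := h₁.of_iso eP.symm
  obtain ⟨hPG, hPop⟩ := flat_opcycles_of_TAmp P (b + 1) hPv hPflat (a + 1) (b + 1) hP'
  have hCb : DRing.VanishesAbove (mappingCone g) b := by
    intro i hi
    rw [CochainComplex.mappingCone.isZero_X_iff]
    exact ⟨hPv (i + 1) (by omega), hEv i (Or.inr hi)⟩
  have hCflat : ∀ i : ℤ, Module.Flat R ((mappingCone g).X i) := by
    intro i
    have := hPflat (i + 1)
    have := hEflat i
    have : Module.Flat R (P.X (i + 1) × E.X i) := flat_prod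
    exact Module.Flat.of_linearEquiv
      (Groth.Agent.Lib.Helper35.KL.mappingConeXLinearEquiv g i)
  -- bounds of the cone
  have hrot := rot_of_distTriang T hT
  have h1s : (T.obj₁⟦(1 : ℤ)⟧).IsGE a := TStructure.t.isGE_shift T.obj₁ (a + 1) 1 a (by omega)
  have h1s' : (T.obj₁⟦(1 : ℤ)⟧).IsLE b := TStructure.t.isLE_shift T.obj₁ (b + 1) 1 b (by omega)
  have h3GE : T.obj₃.IsGE a := TStructure.t.isGE₂ T.rotate hrot a h2GE h1s
  have h3LE : T.obj₃.IsLE b := TStructure.t.isLE₂ T.rotate hrot b h2LE h1s'
  have hCGE : (mappingCone g).IsGE a := by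
    rw [← DerivedCategory.isGE_Q_obj_iff]
    exact TStructure.t.isGE_of_iso e3.symm a
  have hCLE : (mappingCone g).IsLE b := by
    rw [← DerivedCategory.isLE_Q_obj_iff]
    exact TStructure.t.isLE_of_iso e3.symm b
  have hEa : Module.Flat R (E.X a) := hEflat a
  have hCop : Module.Flat R ((mappingCone g).opcycles a) :=
    flat_opcycles_mappingCone g (a - 1) a (a + 1) (by omega) rfl (hEv (a - 1) (Or.inl (by omega)))
      (P.exactAt_of_isGE (a + 1) a (by omega))
  exact (TAmp_of_flat_opcycles (mappingCone g) b hCb hCflat a b).of_iso e3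

end Groth.Agent.Lib.Helper35.TA
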