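import Groth.Agent.Lib.Helper32.KProjRes
import Groth.Agent.Lib.Helper32.KInjTower

/-! K-injective / K-projective resolutions with injective / projective terms
(strengthening of helper32's Spaltenstein resolutions; helper35). -/

set_option autoImplicit false
set_option linter.style.haveILetI false
set_option linter.unusedSectionVars false
universe v u
open CategoryTheory CategoryTheory.Limits CochainComplex HomComplex Opposite

namespace Groth.Agent.Lib.Helper35.KPT

open Groth.Agent.Lib.Helper32 Groth.Agent.Lib.Helper32.KInjTower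

section

variable {A : Type u} [Category.{v} A] [Abelian A]

lemma injective_of_retract {X Y : A} (i : X ⟶ Y) (r : Y ⟶ X) (h : i ≫ r = 𝟙 X) [Injective Y] :
    Injective X :=
  ⟨fun {U V} g f _ => ⟨Injective.factorThru (g ≫ i) f ≫ r, by
    rw [← Category.assoc, Injective.comp_factorThru, Category.assoc, h, Category.comp_id]⟩⟩

variable [EnoughInjectives A] (K : CochainComplex A ℤ)

/-- Spaltenstein resolutions have injective terms. -/
theorem exists_kInjective_resolution_termwise [HasLimitsOfShape (Discrete ℕ) A]
    [HasExactLimitsOfShape (Discrete ℕ) A] :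
    ∃ (I : CochainComplex A ℤ) (f : K ⟶ I), I.IsKInjective ∧ QuasiIso f ∧
      ∀ j : ℤ, Injective (I.X j) := by
  let X : ℕ → CochainComplex A ℤ := fun n => (stage K n).I
  let p : ∀ n, X (n + 1) ⟶ X n := fun n => (step K n).p
  let φ : ∀ n, K ⟶ X n := fun n => (stage K n).φ
  have hφ : ∀ n, φ (n + 1) ≫ p n = φ n := fun n => (step K n).comm
  let σ : ∀ (n : ℕ) (j : ℤ), (X n).X j ⟶ (X (n + 1)).X j := fun n j => (step K n).σ j
  have hσ : ∀ (n : ℕ) (j : ℤ), σ n j ≫ (p n).f j = 𝟙 _ := fun n j => (step K n).hσ j
  haveI : ∀ n, (X n).IsKInjective := fun n => by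
    haveI := (stage K n).hGE
    haveI := (stage K n).hinj
    exact isKInjective_of_injective _ (-(n : ℤ))
  have hTl := isTowerLimit_kernel X p
  have hTf := isTowerLimit_kernel_f X p
  obtain ⟨ψ, hψ⟩ := hTl.exists_lift φ hφ
  refine ⟨kernel (towerD X p), ψ, isKInjective_of_isTowerLimit hTl σ hσ, ?_, ?_⟩
  · apply quasiIso_of_acyclic_mappingCone
    intro q
    have hC := isTowerLimit_of_termwise (isTowerLimit_cone_f φ hφ ψ hψ hTf)
    have hiso : ∀ (n : ℕ) (j : ℤ), -(n : ℤ) ≤ j →
        IsIso (HomologicalComplex.homologyMap (φ n) j) :=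
      fun n j hj => by
        have := (stage K n).hq j hj
        rwa [quasiIsoAt_iff_isIso_homologyMap] at this
    have hex : ∀ (n : ℕ) (j : ℤ), -(n : ℤ) ≤ j → (mappingCone (φ n)).ExactAt j := fun n j hj => by
      haveI := hiso n j hj
      haveI := hiso n (j + 1) (by lia)
      exact exactAt_mappingCone (φ n) j inferInstance inferInstance
    refine exactAt_of_isTowerLimit' q (1 - q).toNat hC
      (fun n j => (mappingCone.fst (φ n)).1.v j (j + 1) rfl ≫
          (mappingCone.inl (φ (n + 1))).v (j + 1) j (by lia) +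
        (mappingCone.snd (φ n)).v j j (add_zero j) ≫ σ n j ≫ (mappingCone.inr (φ (n + 1))).f j)
      (fun n j => coneP_section φ hφ σ hσ n j)
      (fun n hn => hex n q (by lia)) (fun n hn => hex n (q - 1) (by lia))
  · intro j
    have hS := sc_shortExact σ hσ hTl
    have hSj := hS.map_of_exact (HomologicalComplex.eval A (ComplexShape.up ℤ) j)
    have hmono : Mono ((sc hTl).map (HomologicalComplex.eval A (ComplexShape.up ℤ) j)).f :=
      hSj.mono_f
    let spl := ShortComplex.Splitting.ofExactOfSection _ hSj.exact
      (liftX j (secComp σ j)) (sec_towerD σ hσ j) hmono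
    haveI : ∀ n, Injective ((X n).X j) := fun n => (stage K n).hinj j
    haveI : Injective ((prodCx X).X j) :=
      (inferInstance : Injective (∏ᶜ (fun n => (X n).X j)))
    haveI : Injective ((sc hTl).map (HomologicalComplex.eval A (ComplexShape.up ℤ) j)).X₂ :=
      (inferInstance : Injective ((prodCx X).X j))
    exact injective_of_retract
      ((sc hTl).map (HomologicalComplex.eval A (ComplexShape.up ℤ) j)).f spl.r spl.f_r

end

section Res

variable {C : Type u} [Category.{v} C] [Abelian C] [EnoughProjectives C]
  [HasColimitsOfShape (Discrete ℕ) C] [HasExactColimitsOfShape (Discrete ℕ) C]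
  [HasLimitsOfShape (Discrete ℕ) Cᵒᵖ]

set_option backward.isDefEq.respectTransparency.types false in
set_option backward.defeqAttrib.useBackward true in
/-- Dual Spaltenstein with projective terms. -/
theorem exists_kProjective_resolution_termwise (K : CochainComplex C ℤ) :
    ∃ (P : CochainComplex C ℤ) (f : P ⟶ K), P.IsKProjective ∧ QuasiIso f ∧
      ∀ j : ℤ, Projective (P.X j) := by
  haveI : HasExactLimitsOfShape (Discrete ℕ) Cᵒᵖ := KProjRes.hasExactLimitsOfShape_discrete_op ℕ
  let E := CochainComplex.opEquivalence C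
  let K' := E.functor.obj (op K)
  obtain ⟨I', f', hI', hf', hterm⟩ := exists_kInjective_resolution_termwise K'
  let P := (E.inverse.obj I').unop
  let α₀ : P ⟶ (E.inverse.obj K').unop := (E.inverse.map f').unop
  let u : (E.inverse.obj K').unop ≅ K := (E.unitIso.app (op K)).unop
  refine ⟨P, α₀ ≫ u.hom, ?_, ?_, ?_⟩
  · apply CochainComplex.isKProjective_of_op
    haveI : ((𝟭 (CochainComplex Cᵒᵖ ℤ)).obj I').IsKInjective := hI'
    exact CochainComplex.isKInjective_of_iso (E.counitIso.app I').symm
  · have h1 : QuasiIso α₀ := LeftRes.quasiIso_unop_inverse_map f'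
    infer_instance
  · intro j
    change Projective ((I'.X (-j)).unop)
    have := hterm (-j)
    infer_instance

end Res

theorem exists_kProjective_resolution_moduleCat_termwise (R : Type u) [Ring R]
    (K : CochainComplex (ModuleCat.{u} R) ℤ) :
    ∃ (P : CochainComplex (ModuleCat.{u} R) ℤ) (f : P ⟶ K), P.IsKProjective ∧ QuasiIso f ∧
      ∀ j : ℤ, Module.Projective R (P.X j) := by
  obtain ⟨P, f, h1, h2, h3⟩ := exists_kProjective_resolution_termwise K
  refine ⟨P, f, h1, h2, fun j => ?_⟩
  have := h3 j
  exact (IsProjective.iff_projective (R := R) (P := P.X j)).2 this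

end Groth.Agent.Lib.Helper35.KPT
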