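import Groth.Agent.Lib.Helper35.GlobalPerf
import Groth.Agent.Lib.Helper35.KProjTermwise
import Groth.Agent.Lib.Helper26.AdjKProj

/-! Tor amplitude and nilpotent thickenings (helper35). -/

set_option autoImplicit false
set_option linter.unusedSectionVars false
universe u
open CategoryTheory CategoryTheory.Limits MonoidalCategory DerivedCategory CochainComplex
  TensorProduct
attribute [local instance] HasDerivedCategory.standard

namespace Groth.Agent.Lib.Helper35.TA

open Groth.Agent.Lib.Helper32.KProjDerived Groth.Agent.Lib.Helper32.LBC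

theorem hasLTensor (A : Type u) [CommRing A] (M : ModuleCat.{u} A) : DRing.HasLTensor A M := by
  have := hasPointwiseLeftDerivedFunctor (hasInitialArrows_Qh (hasKProjRes A))
    (HomotopyCategory.quasiIso (ModuleCat.{u} A) (ComplexShape.up ℤ)) (DRing.tensorKh A M)
  infer_instance

theorem hasLBaseChange {A B : Type u} [CommRing A] [CommRing B] (φ : A →+* B) :
    DRing.HasLBaseChange φ := by
  have := hasPointwiseLeftDerivedFunctor (hasInitialArrows_Qh (hasKProjRes A))
    (HomotopyCategory.quasiIso (ModuleCat.{u} A) (ComplexShape.up ℤ)) (DRing.baseChangeKh φ)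
  infer_instance

section Dev

variable {R : Type u} [CommRing R]
  {X Y Z : Type u} [AddCommGroup X] [Module R X] [AddCommGroup Y] [Module R Y]
  [AddCommGroup Z] [Module R Z]

/-- Middle exactness for a short exact sequence of coefficient modules. -/
theorem exact_lTensor_of_shortExact [Module.Flat R Z] (f : X →ₗ[R] Y) (g : Y →ₗ[R] Z)
    (hgf : g ∘ₗ f = 0)
    {M₁ M₂ M₃ : Type u} [AddCommGroup M₁] [Module R M₁] [AddCommGroup M₂] [Module R M₂]
    [AddCommGroup M₃] [Module R M₃] (ι : M₁ →ₗ[R] M₂) (π : M₂ →ₗ[R] M₃)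
    (hι : Function.Injective ι) (hπ : Function.Surjective π) (hex : Function.Exact ι π)
    (h₁ : Function.Exact (f.lTensor M₁) (g.lTensor M₁))
    (h₃ : Function.Exact (f.lTensor M₃) (g.lTensor M₃)) :
    Function.Exact (f.lTensor M₂) (g.lTensor M₂) := by
  have c1 : ∀ (U V : Type u) [AddCommGroup U] [Module R U] [AddCommGroup V] [Module R V]
      (k : U →ₗ[R] V) {N₁ N₂ : Type u} [AddCommGroup N₁] [Module R N₁] [AddCommGroup N₂]
      [Module R N₂] (j : N₁ →ₗ[R] N₂) (x : N₁ ⊗[R] U),
      k.lTensor N₂ (j.rTensor U x) = j.rTensor V (k.lTensor N₁ x) := by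
    intro U V _ _ _ _ k N₁ N₂ _ _ _ _ j x
    rw [← LinearMap.comp_apply, ← LinearMap.comp_apply, LinearMap.lTensor_comp_rTensor,
      LinearMap.rTensor_comp_lTensor]
  have hz : ∀ (N : Type u) [AddCommGroup N] [Module R N] (x : N ⊗[R] X),
      g.lTensor N (f.lTensor N x) = 0 := by
    intro N _ _ x
    rw [← LinearMap.comp_apply, ← LinearMap.lTensor_comp, hgf, LinearMap.lTensor_zero,
      LinearMap.zero_apply]
  intro y
  constructor
  · intro hy
    have h3 : g.lTensor M₃ (π.rTensor Y y) = 0 := by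
      rw [c1, hy, map_zero]
    obtain ⟨x₃, hx₃⟩ := (h₃ _).1 h3
    obtain ⟨x₂, rfl⟩ := LinearMap.rTensor_surjective X hπ x₃
    have h4 : π.rTensor Y (y - f.lTensor M₂ x₂) = 0 := by
      rw [map_sub, ← c1, hx₃, sub_self]
    obtain ⟨y₁, hy₁⟩ := (rTensor_exact Y hex hπ _).1 h4
    have h5 : ι.rTensor Z (g.lTensor M₁ y₁) = 0 := by
      rw [← c1, hy₁, map_sub, hy, hz, sub_zero]
    have h6 : g.lTensor M₁ y₁ = 0 :=
      Module.Flat.rTensor_preserves_injective_linearMap ι hι (by rw [h5, map_zero])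
    obtain ⟨x₁, hx₁⟩ := (h₁ _).1 h6
    refine ⟨x₂ + ι.rTensor X x₁, ?_⟩
    rw [map_add, c1, hx₁, hy₁]
    abel
  · rintro ⟨x, rfl⟩
    exact hz _ x

/-- Dévissage along the `I`-adic filtration. -/
theorem exact_lTensor_of_pow [Module.Flat R Z] (I : Ideal R) (f : X →ₗ[R] Y) (g : Y →ₗ[R] Z)
    (hgf : g ∘ₗ f = 0)
    (hI : ∀ (M : Type u) [AddCommGroup M] [Module R M], (∀ a ∈ I, ∀ m : M, a • m = 0) →
      Function.Exact (f.lTensor M) (g.lTensor M)) (k : ℕ) :
    ∀ (M : Type u) [AddCommGroup M] [Module R M], (∀ a ∈ I ^ k, ∀ m : M, a • m = 0) →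
      Function.Exact (f.lTensor M) (g.lTensor M) := by
  induction k with
  | zero =>
    intro M _ _ hM
    have : Subsingleton M := ⟨fun x y => by
      have hx := hM 1 (by simp) x
      have hy := hM 1 (by simp) y
      rw [one_smul] at hx hy
      rw [hx, hy]⟩
    intro y
    exact ⟨fun _ => ⟨0, Subsingleton.elim _ _⟩, fun _ => Subsingleton.elim _ _⟩
  | succ k ih =>
    intro M _ _ hM
    let M₁ : Submodule R M := I • (⊤ : Submodule R M)
    have h₁ : Function.Exact (f.lTensor M₁) (g.lTensor M₁) := by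
      apply ih
      rintro b hb ⟨x, hx⟩
      apply Subtype.ext
      change b • x = 0
      refine Submodule.smul_induction_on hx ?_ ?_
      · intro r hr n _
        rw [← mul_smul]
        exact hM _ (by rw [pow_succ]; exact Ideal.mul_mem_mul hb hr) n
      · intro x y hx hy
        rw [smul_add, hx, hy, add_zero]
    have h₃ : Function.Exact (f.lTensor (M ⧸ M₁)) (g.lTensor (M ⧸ M₁)) := by
      apply hI
      intro a ha q
      obtain ⟨m, rfl⟩ := Submodule.mkQ_surjective _ q
      rw [← map_smul]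
      exact (Submodule.Quotient.mk_eq_zero _).2 (Submodule.smul_mem_smul ha Submodule.mem_top)
    exact exact_lTensor_of_shortExact f g hgf M₁.subtype M₁.mkQ (Submodule.subtype_injective _)
      (Submodule.mkQ_surjective _) (LinearMap.exact_subtype_mkQ M₁) h₁ h₃

end Dev

section Cx

variable {A : Type u} [CommRing A]

theorem exactAt_tenCx_iff (P : DRing.Cx A) (M : ModuleCat.{u} A) (i : ℤ) :
    (((tensorRight M).mapHomologicalComplex (ComplexShape.up ℤ)).obj P).ExactAt (i + 1) ↔
      Function.Exact ((P.d i (i + 1)).hom.lTensor M) ((P.d (i + 1) (i + 1 + 1)).hom.lTensor M) := by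
  rw [HomologicalComplex.exactAt_iff' _ i (i + 1) (i + 1 + 1) (by simp) (by simp),
    ShortComplex.ShortExact.moduleCat_exact_iff_function_exact,
    ← LinearMap.rTensor_exact_iff_lTensor_exact]
  exact Iff.rfl

variable {B : Type u} [CommRing B]

set_option backward.isDefEq.respectTransparency false in
/-- Exactness of `P ⊗_A M` at one spot for all `A`-modules `M`, from the same for `(P ⊗_A B) ⊗_B N`
and all `B`-modules `N`, when `A → B` is surjective with nilpotent kernel. -/
theorem exactAt_tenCx_of_nilpotent (φ : A →+* B) (hφ : Function.Surjective φ)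
    (hnil : IsNilpotent (RingHom.ker φ)) (P : DRing.Cx A) (hflat : ∀ i : ℤ, Module.Flat A (P.X i))
    (j : ℤ)
    (h : ∀ N : ModuleCat.{u} B, (((tensorRight N).mapHomologicalComplex (ComplexShape.up ℤ)).obj
      (((ModuleCat.extendScalars.{u, u, u} φ).mapHomologicalComplex (ComplexShape.up ℤ)).obj
        P)).ExactAt j) (M : ModuleCat.{u} A) :
    (((tensorRight M).mapHomologicalComplex (ComplexShape.up ℤ)).obj P).ExactAt j := by
  obtain ⟨i, rfl⟩ : ∃ i, j = i + 1 := ⟨j - 1, by omega⟩
  rw [exactAt_tenCx_iff]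
  obtain ⟨k, hk⟩ := hnil
  have := hflat (i + 1 + 1)
  refine exact_lTensor_of_pow (RingHom.ker φ) _ _ ?_ ?_ k M ?_
  · ext x
    rw [LinearMap.comp_apply, ← ModuleCat.comp_apply, P.d_comp_d]
    rfl
  · intro N _ _ hN
    have hT : Module.IsTorsionBySet A N (RingHom.ker φ : Set A) := fun x a => hN a.1 a.2 x
    let _ : Module (A ⧸ RingHom.ker φ) N := hT.module
    let _ : Module B N := Module.compHom N
      ((RingHom.quotientKerEquivOfSurjective hφ).symm : B →+* A ⧸ RingHom.ker φ)
    let _ : Algebra A B := φ.toAlgebra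
    have : IsScalarTower A B N := IsScalarTower.of_algebraMap_smul (fun a x => by
      change ((RingHom.quotientKerEquivOfSurjective hφ).symm (φ a)) • x = a • x
      rw [RingHom.quotientKerEquivOfSurjective_symm_apply]
      rfl)
    have h1 := h (ModuleCat.of B N)
    rw [exactAt_tenCx_iff] at h1
    have h2 : Function.Exact (((P.d i (i + 1)).hom.baseChange B).lTensor N)
        (((P.d (i + 1) (i + 1 + 1)).hom.baseChange B).lTensor N) := h1
    exact (exact_lTensor_baseChange_iff _ _).1 h2
  · intro a ha m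
    rw [hk] at ha
    have : a = 0 := ha
    rw [this, zero_smul]

end Cx

section Main

variable {R' R : Type u} [CommRing R'] [CommRing R]

open Groth.Agent.Lib.Helper26 in
theorem TAmp_of_LBaseChange_nilpotent (φ : R' →+* R) (hφ : Function.Surjective φ)
    (hnil : IsNilpotent (RingHom.ker φ)) [DRing.HasLBaseChange φ] (K' : Dual.D R') (a b : ℤ)
    (h : TAmp a b ((DRing.LBaseChange φ).obj K')) : TAmp a b K' := by
  have : ∀ M : ModuleCat.{u} R, DRing.HasLTensor R M := hasLTensor R
  have : ∀ M : ModuleCat.{u} R', DRing.HasLTensor R' M := hasLTensor R'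
  obtain ⟨X, ⟨eX⟩⟩ : ∃ X : DRing.Cx R', Nonempty (DerivedCategory.Q.obj X ≅ K') :=
    ⟨_, ⟨DerivedCategory.Q.objObjPreimageIso K'⟩⟩
  obtain ⟨P, f, hP, hf, hproj⟩ := KPT.exists_kProjective_resolution_moduleCat_termwise R' X
  have e : DRing.toD P ≅ K' := asIso (DerivedCategory.Q.map f) ≪≫ eX
  have hPB : ((extCx φ).obj P).IsKProjective :=
    AdjKProj.isKProjective_map (ModuleCat.extendRestrictScalarsAdj.{u, u, u} φ) P
  apply TAmp_of_LTensor_vanishing
  intro M i hi
  have e1 := (DRing.LTensor R' M).mapIso e.symm ≪≫ ltIso R' M P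
  refine IsZero.of_iso ?_ ((homologyFunctor (ModuleCat.{u} R') i).mapIso e1)
  rw [isZero_homology_toD_iff]
  apply exactAt_tenCx_of_nilpotent φ hφ hnil P (fun i => by have := hproj i; infer_instance) i
  intro N
  rw [← isZero_homology_toD_iff]
  have e2 := (ltIso R N ((extCx φ).obj P)).symm ≪≫
    (DRing.LTensor R N).mapIso ((lbcIso φ P).symm ≪≫ (DRing.LBaseChange φ).mapIso e)
  exact (LTensor_vanishing_of_TAmp _ a b h N i hi).of_iso
    ((homologyFunctor (ModuleCat.{u} R) i).mapIso e2)

end Main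

end Groth.Agent.Lib.Helper35.TA
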