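import Groth.Agent.Lib.Helper35.LocalPerf
import Mathlib.RingTheory.LocalProperties.Exactness
import Mathlib.RingTheory.Flat.Localization
import Mathlib.RingTheory.Localization.BaseChange
import Mathlib.RingTheory.LocalRing.ResidueField.Ideal

/-! Perfectness over any ring from vanishing of cohomology of fibres at maximal ideals (helper35). -/

set_option autoImplicit false
set_option linter.unusedSectionVars false
universe u
open CategoryTheory CategoryTheory.Limits MonoidalCategory DerivedCategory CochainComplex
  TensorProduct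
attribute [local instance] HasDerivedCategory.standard

namespace Groth.Agent.Lib.Helper35.TA

section Lin1

variable {A B : Type u} [CommRing A] [CommRing B] [Algebra A B]
  {F : Type u} [AddCommGroup F] [Module A F] [Module B F] [IsScalarTower A B F]
  {U V W : Type u} [AddCommGroup U] [Module A U] [AddCommGroup V] [Module A V]
  [AddCommGroup W] [Module A W]

theorem cancelBaseChange_lTensor_baseChange' (f : U →ₗ[A] V) (x : F ⊗[B] (B ⊗[A] U)) :
    AlgebraTensorModule.cancelBaseChange A B B F V ((f.baseChange B).lTensor F x) =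
      f.lTensor F (AlgebraTensorModule.cancelBaseChange A B B F U x) := by
  induction x using TensorProduct.induction_on with
  | zero => simp
  | tmul y z =>
    induction z using TensorProduct.induction_on with
    | zero => simp
    | tmul b u => simp
    | add z z' hz hz' =>
      rw [TensorProduct.tmul_add, map_add, map_add, hz, hz', map_add, map_add]
  | add x x' hx hx' =>
    rw [map_add, map_add, hx, hx', map_add, map_add]

theorem exact_lTensor_baseChange_iff (f : U →ₗ[A] V) (g : V →ₗ[A] W) :
    Function.Exact ((f.baseChange B).lTensor F) ((g.baseChange B).lTensor F) ↔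
      Function.Exact (f.lTensor F) (g.lTensor F) := by
  refine (Function.Exact.iff_of_ladder_linearEquiv
    (e₁ := (AlgebraTensorModule.cancelBaseChange A B B F U).restrictScalars A)
    (e₂ := (AlgebraTensorModule.cancelBaseChange A B B F V).restrictScalars A)
    (e₃ := (AlgebraTensorModule.cancelBaseChange A B B F W).restrictScalars A)
    (f₁₂ := ((f.baseChange B).lTensor F).restrictScalars A)
    (f₂₃ := ((g.baseChange B).lTensor F).restrictScalars A)
    (g₁₂ := f.lTensor F) (g₂₃ := g.lTensor F) ?_ ?_).symm
  · ext x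
    exact (cancelBaseChange_lTensor_baseChange' f _).symm
  · ext x
    exact (cancelBaseChange_lTensor_baseChange' g _).symm

theorem exact_lTensor_congr' {k₁ k₂ : Type u} [AddCommGroup k₁] [Module A k₁] [AddCommGroup k₂]
    [Module A k₂] (e : k₁ ≃ₗ[A] k₂) (f : U →ₗ[A] V) (g : V →ₗ[A] W)
    (h : Function.Exact (f.lTensor k₁) (g.lTensor k₁)) :
    Function.Exact (f.lTensor k₂) (g.lTensor k₂) := by
  refine (Function.Exact.iff_of_ladder_linearEquiv
    (e₁ := TensorProduct.congr e (LinearEquiv.refl A U))
    (e₂ := TensorProduct.congr e (LinearEquiv.refl A V))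
    (e₃ := TensorProduct.congr e (LinearEquiv.refl A W))
    (f₁₂ := f.lTensor k₁) (f₂₃ := g.lTensor k₁)
    (g₁₂ := f.lTensor k₂) (g₂₃ := g.lTensor k₂) ?_ ?_).2 h
  · ext x y; simp
  · ext x y; simp

end Lin1

section Lin2

variable {R : Type u} [CommRing R] [IsLocalRing R]
  {X Y N C : Type u} [AddCommGroup X] [Module R X] [AddCommGroup Y] [Module R Y]
  [AddCommGroup N] [Module R N] [AddCommGroup C] [Module R C]
  [Module.Finite R Y] [Module.Finite R N] [Module.Free R N]

theorem local_exact_and_flat' (f : X →ₗ[R] Y) (g : Y →ₗ[R] N) (hgf : g ∘ₗ f = 0)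
    (h : Function.Exact (f.lTensor (IsLocalRing.ResidueField R))
      (g.lTensor (IsLocalRing.ResidueField R)))
    (π : N →ₗ[R] C) (hπ : Function.Surjective π) (hgπ : Function.Exact g π) :
    Function.Exact f g ∧ Module.Flat R C := by
  obtain ⟨h1, h2⟩ := local_exact_and_flat f g hgf h
  refine ⟨h1, ?_⟩
  have hk : LinearMap.range g = LinearMap.ker π := (LinearMap.exact_iff.1 hgπ).symm
  exact Module.Flat.of_linearEquiv
    ((Submodule.quotEquivOfEq _ _ hk).trans (LinearMap.quotKerEquivOfSurjective π hπ)).symm

end Lin2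

section Lin3

variable {R : Type u} [CommRing R]
  {X Y N : Type u} [AddCommGroup X] [Module R X] [AddCommGroup Y] [Module R Y]
  [AddCommGroup N] [Module R N] [Module.Finite R Y] [Module.Finite R N] [Module.Projective R N]

/-- `R ⧸ m ≃ κ(m)` as `R`-modules for a maximal ideal `m`. -/
noncomputable def quotResidueEquiv (m : Ideal R) [m.IsMaximal] :
    (R ⧸ m) ≃ₗ[R] IsLocalRing.ResidueField (Localization.AtPrime m) :=
  LinearEquiv.ofBijective ((Algebra.linearMap (R ⧸ m) m.ResidueField).restrictScalars R)
    (Ideal.bijective_algebraMap_quotient_residueField m)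

theorem localized_exact_and_flat (f : X →ₗ[R] Y) (g : Y →ₗ[R] N) (hgf : g ∘ₗ f = 0)
    (m : Ideal R) [m.IsMaximal]
    (h : Function.Exact (f.lTensor (R ⧸ m)) (g.lTensor (R ⧸ m))) :
    Function.Exact (f.baseChange (Localization.AtPrime m)) (g.baseChange (Localization.AtPrime m)) ∧
      Module.Flat (Localization.AtPrime m)
        (Localization.AtPrime m ⊗[R] (N ⧸ LinearMap.range g)) := by
  have : Module.Free (Localization.AtPrime m) (Localization.AtPrime m ⊗[R] N) :=
    Module.free_of_flat_of_isLocalRing
  refine local_exact_and_flat' (f.baseChange (Localization.AtPrime m))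
    (g.baseChange (Localization.AtPrime m)) ?_ ?_
    ((LinearMap.range g).mkQ.baseChange (Localization.AtPrime m)) ?_ ?_
  · rw [← LinearMap.baseChange_comp, hgf, LinearMap.baseChange_zero]
  · rw [exact_lTensor_baseChange_iff]
    exact exact_lTensor_congr' (quotResidueEquiv m) _ _ h
  · exact LinearMap.lTensor_surjective _ (Submodule.mkQ_surjective _)
  · exact lTensor_exact _ (LinearMap.exact_map_mkQ_range g) (Submodule.mkQ_surjective _)

theorem isLocalizedModule_map_mk (S : Submonoid R) (A : Type u) [CommRing A] [Algebra R A]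
    [IsLocalization S A] (f : X →ₗ[R] Y) :
    IsLocalizedModule.map S (TensorProduct.mk R A X 1) (TensorProduct.mk R A Y 1) f =
      (f.baseChange A).restrictScalars R := by
  apply IsLocalizedModule.linearMap_ext S (TensorProduct.mk R A X 1) (TensorProduct.mk R A Y 1)
  ext x
  change IsLocalizedModule.map S (TensorProduct.mk R A X 1) (TensorProduct.mk R A Y 1) f
    (TensorProduct.mk R A X 1 x) = _
  rw [IsLocalizedModule.map_apply]
  rfl

/-- Global version: exactness at all closed fibres gives exactness and a flat cokernel. -/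
theorem global_exact_and_flat (f : X →ₗ[R] Y) (g : Y →ₗ[R] N) (hgf : g ∘ₗ f = 0)
    (h : ∀ (m : Ideal R), m.IsMaximal →
      Function.Exact (f.lTensor (R ⧸ m)) (g.lTensor (R ⧸ m))) :
    Function.Exact f g ∧ Module.Flat R (N ⧸ LinearMap.range g) := by
  have key := fun (m : Ideal R) (hm : m.IsMaximal) => localized_exact_and_flat f g hgf m (h m hm)
  constructor
  · refine exact_of_isLocalized_maximal
      (fun P _ => Localization.AtPrime P ⊗[R] X) (fun P _ => TensorProduct.mk R _ X 1)
      (fun P _ => Localization.AtPrime P ⊗[R] Y) (fun P _ => TensorProduct.mk R _ Y 1)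
      (fun P _ => Localization.AtPrime P ⊗[R] N) (fun P _ => TensorProduct.mk R _ N 1) f g ?_
    intro J hJ
    rw [isLocalizedModule_map_mk, isLocalizedModule_map_mk]
    exact (key J hJ).1
  · refine Module.flat_of_isLocalized_maximal R (N ⧸ LinearMap.range g)
      (fun P _ => Localization.AtPrime P ⊗[R] (N ⧸ LinearMap.range g))
      (fun P _ => TensorProduct.mk R _ _ 1) ?_
    intro P hP
    have := (key P hP).2
    exact Module.Flat.trans R (Localization.AtPrime P) _

end Lin3

section Cx

variable (R : Type u) [CommRing R]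

/-- `R ⧸ m` as an `R`-module through restriction of scalars along the quotient map. -/
abbrev qRes (m : Ideal R) : Type u :=
  ((ModuleCat.restrictScalars (Ideal.Quotient.mk m)).obj (ModuleCat.of (R ⧸ m) (R ⧸ m)))

set_option backward.isDefEq.respectTransparency false in
/-- identity `qRes ≃ R ⧸ m`, `R`-linear -/
noncomputable def qResEquiv (m : Ideal R) : qRes R m ≃ₗ[R] (R ⧸ m) where
  toFun := fun b => b
  invFun := fun b => b
  map_add' := fun _ _ => rfl
  map_smul' := fun a b => by
    change ((Ideal.Quotient.mk m a) * (show R ⧸ m from b) : R ⧸ m) = a • (show R ⧸ m from b)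
    rw [Algebra.smul_def]
    rfl
  left_inv := fun _ => rfl
  right_inv := fun _ => rfl

variable {R}

open Groth.Agent.Lib.Helper32.LBC in
set_option backward.isDefEq.respectTransparency false in
theorem isPerfect_and_TAmp_of_fibres [∀ m : Ideal R, DRing.HasLBaseChange (Ideal.Quotient.mk m)]
    (K : Dual.D R) (hK : DRing.IsPseudoCoherent' R K) (a b : ℤ)
    (h : ∀ (m : Ideal R), m.IsMaximal → ∀ i : ℤ, (i < a ∨ b < i) →
      IsZero ((homologyFunctor (ModuleCat.{u} (R ⧸ m)) i).obj
        ((DRing.LBaseChange (Ideal.Quotient.mk m)).obj K))) :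
    DRing.IsPerfect R K ∧ TAmp a b K := by
  obtain ⟨F, b', hFb, hF, ⟨e⟩⟩ := hK
  have hFproj : ∀ i : ℤ, Module.Projective R (F.X i) := fun i => by
    have := (hF i).2
    infer_instance
  have hFflat : ∀ i : ℤ, Module.Flat R (F.X i) := fun i => by
    have := hFproj i
    infer_instance
  have hKP : F.IsKProjective := isKProjective_of_vanishesAbove F b' hFb hFproj
  have hex : ∀ (m : Ideal R), m.IsMaximal → ∀ i : ℤ, (i < a ∨ b < i) →
      Function.Exact ((F.d (i - 1) i).hom.lTensor (R ⧸ m))
        ((F.d i (i + 1)).hom.lTensor (R ⧸ m)) := by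
    intro m hm i hi
    have e1 := lbcIso (Ideal.Quotient.mk m) F
    have h1 := (h m hm i hi).of_iso ((homologyFunctor (ModuleCat.{u} (R ⧸ m)) i).mapIso
      ((DRing.LBaseChange (Ideal.Quotient.mk m)).mapIso e.symm ≪≫ e1).symm)
    rw [isZero_homology_toD_iff,
      HomologicalComplex.exactAt_iff' _ (i - 1) i (i + 1) (by simp) (by simp),
      ShortComplex.ShortExact.moduleCat_exact_iff_function_exact] at h1
    have h2 : Function.Exact ((F.d (i - 1) i).hom.lTensor (qRes R m))
        ((F.d i (i + 1)).hom.lTensor (qRes R m)) := h1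
    exact exact_lTensor_congr' (qResEquiv R m) _ _ h2
  have hloc : ∀ i : ℤ, (i < a ∨ b < i) → Function.Exact (F.d (i - 1) i).hom (F.d i (i + 1)).hom ∧
      Module.Flat R (F.X (i + 1) ⧸ LinearMap.range (F.d i (i + 1)).hom) := by
    intro i hi
    have := (hF i).1
    have := (hF (i + 1)).1
    have := (hF (i + 1)).2
    refine global_exact_and_flat _ _ ?_ (fun m hm => hex m hm i hi)
    ext x
    rw [LinearMap.comp_apply, ← ModuleCat.comp_apply, F.d_comp_d]
    rfl
  have hGE : F.IsGE a := by
    rw [CochainComplex.isGE_iff]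
    intro i hi
    rw [HomologicalComplex.exactAt_iff' _ (i - 1) i (i + 1) (by simp) (by simp),
      ShortComplex.ShortExact.moduleCat_exact_iff_function_exact]
    exact (hloc i (Or.inl hi)).1
  have hLE : F.IsLE b := by
    rw [CochainComplex.isLE_iff]
    intro i hi
    rw [HomologicalComplex.exactAt_iff' _ (i - 1) i (i + 1) (by simp) (by simp),
      ShortComplex.ShortExact.moduleCat_exact_iff_function_exact]
    exact (hloc i (Or.inr hi)).1
  have hop : Module.Flat R (F.opcycles a) := by
    have h2 := (hloc (a - 1) (Or.inl (by omega))).2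
    have ha : a - 1 + 1 = a := by omega
    rw [ha] at h2
    exact Module.Flat.of_linearEquiv (opcyclesLinearEquiv F (a - 1) a (by omega)).symm
  have hTA : TAmp a b (DRing.toD F) := TAmp_of_flat_opcycles F b' hFb hFflat a b
  exact ⟨isPerfect_of_isPseudoCoherent'_of_TAmp K ⟨F, b', hFb, hF, ⟨e⟩⟩ a b (hTA.of_iso e),
    hTA.of_iso e⟩

end Cx

end Groth.Agent.Lib.Helper35.TA
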