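import Groth.Agent.Lib.Helper35.IndRep2
import Mathlib.CategoryTheory.Abelian.Projective.Extend

set_option autoImplicit false
universe u

namespace Groth.Agent.Lib.Helper35.KL

open CategoryTheory Limits DerivedCategory Pretriangulated ZeroObject

attribute [local instance] HasDerivedCategory.standard

variable {R : Type u} [CommRing R]

/-- A module with a resolution by finite free modules is pseudo-coherent. -/
theorem isPseudoCoherent'_of_projectiveResolution (M : ModuleCat.{u} R) (P : ProjectiveResolution M)
    (h : ∀ n, Module.Finite R (P.complex.X n) ∧ Module.Free R (P.complex.X n)) :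
    DRing.IsPseudoCoherent' R ((DerivedCategory.singleFunctor (ModuleCat.{u} R) 0).obj M) := by
  refine ⟨P.cochainComplex, 0, ?_, ?_, ?_⟩
  · intro i hi
    exact CochainComplex.isZero_of_isStrictlyLE _ 0 _ hi
  · intro i
    by_cases hn : i ≤ 0
    · obtain ⟨k, rfl⟩ := Int.exists_eq_neg_ofNat hn
      have e := (P.cochainComplexXIso (-k) k).toLinearEquiv
      have h1 := (h k).1
      have h2 := (h k).2
      exact ⟨Module.Finite.equiv e.symm, Module.Free.of_equiv e.symm⟩
    · have hz : IsZero (P.cochainComplex.X i) :=
        CochainComplex.isZero_of_isStrictlyLE _ 0 _ (by omega)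
      have : Subsingleton (P.cochainComplex.X i) := ModuleCat.subsingleton_of_isZero hz
      exact ⟨inferInstance, inferInstance⟩
  · have : IsIso (Q.map P.π') := by
      rw [DerivedCategory.isIso_Q_map_iff_quasiIso]
      infer_instance
    exact ⟨asIso (Q.map P.π') ≪≫
      ((DerivedCategory.singleFunctorIsoCompQ (ModuleCat.{u} R) 0).app M).symm⟩

section Periodic

variable {F M : ModuleCat.{u} R} (π : F ⟶ M) (s : M ⟶ F) (hs : s ≫ π = 𝟙 M)

/-- The idempotent `p = π ≫ s`. -/
noncomputable abbrev perP : F ⟶ F := π ≫ s

/-- The complementary idempotent. -/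
noncomputable abbrev perQ : F ⟶ F := 𝟙 F - π ≫ s

include hs in
theorem perP_perQ : perP π s ≫ perQ π s = 0 := by
  simp only [perP, perQ, Preadditive.comp_sub, Category.comp_id, Category.assoc]
  rw [reassoc_of% hs, sub_self]

include hs in
theorem perQ_perP : perQ π s ≫ perP π s = 0 := by
  simp only [perP, perQ, Preadditive.sub_comp, Category.id_comp, Category.assoc]
  rw [reassoc_of% hs, sub_self]

include hs in
theorem perQ_π : perQ π s ≫ π = 0 := by
  simp only [perQ, Preadditive.sub_comp, Category.id_comp, Category.assoc]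
  rw [hs, Category.comp_id, sub_self]

/-- The differential of the periodic complex. -/
noncomputable def perD (n : ℕ) : F ⟶ F := if Even n then perQ π s else perP π s

include hs in
theorem perD_comp (n : ℕ) : perD π s (n + 1) ≫ perD π s n = 0 := by
  unfold perD
  by_cases h : Even n
  · have h' : ¬ Even (n + 1) := by
      rw [Nat.even_add_one]; exact not_not.mpr h
    rw [if_pos h, if_neg h']
    exact perP_perQ π s hs
  · have h' : Even (n + 1) := by
      rw [Nat.even_add_one]; exact h
    rw [if_neg h, if_pos h']
    exact perQ_perP π s hs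

/-- The periodic complex `⋯ → F → F → F`. -/
noncomputable def perCx : ChainComplex (ModuleCat.{u} R) ℕ :=
  ChainComplex.of (fun _ => F) (perD π s) (perD_comp π s hs)

include hs in
theorem exact_perP_perQ : (ShortComplex.mk (perP π s) (perQ π s) (perP_perQ π s hs)).Exact := by
  rw [ShortComplex.moduleCat_exact_iff]
  intro x hx
  refine ⟨x, ?_⟩
  have h1 : x - s (π x) = 0 := by simpa [perQ] using hx
  have h2 : x = s (π x) := sub_eq_zero.mp h1
  simpa [perP] using h2.symm

include hs in
theorem exact_perQ_perP : (ShortComplex.mk (perQ π s) (perP π s) (perQ_perP π s hs)).Exact := by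
  rw [ShortComplex.moduleCat_exact_iff]
  intro x hx
  refine ⟨x, ?_⟩
  have h1 : s (π x) = 0 := by simpa [perP] using hx
  simp [perQ, h1]

include hs in
theorem exact_perQ_π : (ShortComplex.mk (perQ π s) π (perQ_π π s hs)).Exact := by
  rw [ShortComplex.moduleCat_exact_iff]
  intro x hx
  refine ⟨x, ?_⟩
  have h1 : π x = 0 := hx
  simp [perQ, h1]

include hs in
theorem epi_π : Epi π := by
  have : IsSplitEpi π := ⟨⟨s, hs⟩⟩
  infer_instance

theorem perCx_d (n : ℕ) : (perCx π s hs).d (n + 1) n = perD π s n := by
  simp [perCx]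

include hs in
theorem exact_of_eq_PQ (f g : F ⟶ F) (w : f ≫ g = 0) (hf : f = perP π s) (hg : g = perQ π s) :
    (ShortComplex.mk f g w).Exact := by
  subst hf hg
  exact exact_perP_perQ π s hs

include hs in
theorem exact_of_eq_QP (f g : F ⟶ F) (w : f ≫ g = 0) (hf : f = perQ π s) (hg : g = perP π s) :
    (ShortComplex.mk f g w).Exact := by
  subst hf hg
  exact exact_perQ_perP π s hs

include hs in
theorem perCx_exactAt_succ (n : ℕ) : (perCx π s hs).ExactAt (n + 1) := by
  rw [HomologicalComplex.exactAt_iff' _ (n + 1 + 1) (n + 1) n (by simp) (by simp)]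
  by_cases h : Even n
  · have h' : ¬ Even (n + 1) := by
      rw [Nat.even_add_one]; exact not_not.mpr h
    refine exact_of_eq_PQ π s hs ((perCx π s hs).d (n + 1 + 1) (n + 1)) ((perCx π s hs).d (n + 1) n)
      _ ?_ ?_
    · rw [perCx_d, perD, if_neg h']
    · rw [perCx_d, perD, if_pos h]
  · have h' : Even (n + 1) := by
      rw [Nat.even_add_one]; exact h
    refine exact_of_eq_QP π s hs ((perCx π s hs).d (n + 1 + 1) (n + 1)) ((perCx π s hs).d (n + 1) n)
      _ ?_ ?_
    · rw [perCx_d, perD, if_pos h']
    · rw [perCx_d, perD, if_neg h]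

include hs in
theorem exact_of_eq_Qπ (f : F ⟶ F) (w : f ≫ π = 0) (hf : f = perQ π s) :
    (ShortComplex.mk f π w).Exact := by
  subst hf
  exact exact_perQ_π π s hs

include hs in
theorem exact_and_epi_of_eq (f : F ⟶ F) (g : F ⟶ M) (w : f ≫ g = 0) (hf : f = perQ π s)
    (hg : g = π) : (ShortComplex.mk f g w).Exact ∧ Epi g := by
  subst hf
  subst hg
  exact ⟨exact_of_eq_Qπ g s hs _ _ rfl, epi_π g s hs⟩

theorem perCx_d_comp_π : (perCx π s hs).d 1 0 ≫ π = 0 := by
  have h0 : (perCx π s hs).d (0 + 1) 0 = perD π s 0 := perCx_d π s hs 0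
  have : (perCx π s hs).d 1 0 = perQ π s := by
    rw [h0, perD, if_pos (by decide)]
  rw [this]
  exact perQ_π π s hs

/-- The periodic resolution of a retract `M` of a projective module `F`. -/
noncomputable def perRes [Projective F] : ProjectiveResolution M where
  complex := perCx π s hs
  projective := fun _ => (inferInstance : Projective F)
  π := (ChainComplex.toSingle₀Equiv _ _).symm ⟨π, perCx_d_comp_π π s hs⟩
  quasiIso := ⟨fun n => by
    cases n with
    | zero =>
      rw [ChainComplex.quasiIsoAt₀_iff, ShortComplex.quasiIso_iff_of_zeros']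
      · exact exact_and_epi_of_eq π s hs ((perCx π s hs).d 1 0)
          ((((perCx π s hs).toSingle₀Equiv M).symm ⟨π, perCx_d_comp_π π s hs⟩).f 0) _
          (by
            have h0 : (perCx π s hs).d (0 + 1) 0 = perD π s 0 := perCx_d π s hs 0
            rw [h0, perD, if_pos (by decide)])
          (ChainComplex.toSingle₀Equiv_symm_apply_f_zero (C := perCx π s hs) π
            (perCx_d_comp_π π s hs))
      all_goals rfl
    | succ n =>
      rw [quasiIsoAt_iff_exactAt']
      · exact perCx_exactAt_succ π s hs n
      · apply ChainComplex.exactAt_succ_single_obj⟩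

end Periodic

theorem isPseudoCoherent'_single_of_finite_projective (M : ModuleCat.{u} R) [Module.Finite R M]
    [Module.Projective R M] :
    DRing.IsPseudoCoherent' R ((DerivedCategory.singleFunctor (ModuleCat.{u} R) 0).obj M) := by
  obtain ⟨n, f, hf⟩ := Module.Finite.exists_fin' R M
  obtain ⟨g, hg⟩ := Module.projective_lifting_property f LinearMap.id hf
  let F : ModuleCat.{u} R := ModuleCat.of R (Fin n → R)
  have hF : Projective F := (IsProjective.iff_projective (R := R) (P := (Fin n → R))).mp inferInstance
  let π : F ⟶ M := ModuleCat.ofHom f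
  let s : M ⟶ F := ModuleCat.ofHom g
  have hs : s ≫ π = 𝟙 M := by
    ext x
    exact LinearMap.congr_fun hg x
  refine isPseudoCoherent'_of_projectiveResolution M (perRes π s hs) (fun k => ?_)
  change Module.Finite R (Fin n → R) ∧ Module.Free R (Fin n → R)
  exact ⟨inferInstance, inferInstance⟩

theorem isPseudoCoherent'_of_isZero {K : Dual.D R} (hK : IsZero K) : DRing.IsPseudoCoherent' R K := by
  refine ⟨0, 0, ?_, ?_, ⟨(Q.map_isZero (isZero_zero _)).iso hK⟩⟩
  · intro i _
    exact (HomologicalComplex.eval _ _ i).map_isZero (isZero_zero _)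
  · intro i
    have hz : IsZero ((0 : DRing.Cx R).X i) :=
      (HomologicalComplex.eval _ _ i).map_isZero (isZero_zero _)
    have : Subsingleton ((0 : DRing.Cx R).X i) := ModuleCat.subsingleton_of_isZero hz
    exact ⟨inferInstance, inferInstance⟩

theorem devissage_isPseudoCoherent' : Devissage (DRing.IsPseudoCoherent' R) where
  iso e h := isPseudoCoherent'_of_iso e h
  shift _ n h := isPseudoCoherent'_shift h n
  mid T hT h₁ h₃ := (isPseudoCoherent'_two_out_of_three T hT).2.1 h₁ h₃
  zero _ h := isPseudoCoherent'_of_isZero h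

/-- Perfect complexes are pseudo-coherent. -/
theorem isPseudoCoherent'_of_isPerfect {K : Dual.D R} (hK : DRing.IsPerfect R K) :
    DRing.IsPseudoCoherent' R K := by
  obtain ⟨E, a, b, hv, hE, ⟨e⟩⟩ := hK
  refine isPseudoCoherent'_of_iso e ?_
  refine devissage_isPseudoCoherent'.of_bounded_termwise E a b hv (fun i => ?_)
  have := (hE i).1
  have := (hE i).2
  exact isPseudoCoherent'_single_of_finite_projective (E.X i)

end Groth.Agent.Lib.Helper35.KL
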