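import Mathlib
import Groth.Prelude.Def_DRing2
import Groth.Agent.Lib.Helper35.TARes
import Groth.Agent.Lib.Helper35.PCRes
import Groth.Agent.Lib.Helper6.MPC4

/-! Perfect amplitude: `(m-1)`-pseudo-coherent + tor amplitude `[m, n]` (helper35). -/

set_option autoImplicit false
set_option linter.unusedSimpArgs false
universe u

open CategoryTheory Limits Pretriangulated DerivedCategory ZeroObject CochainComplex
  HomologicalComplex

namespace Groth.Agent.Lib.Helper35.TA

attribute [local instance] HasDerivedCategory.standard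

variable {R : Type u} [CommRing R]

/-- The kernel of a surjection from a finite projective module onto a projective module is
finite projective. -/
theorem finite_projective_ker_of_surjective {M N : Type u} [AddCommGroup M] [Module R M]
    [AddCommGroup N] [Module R N] [Module.Finite R M] [Module.Projective R M]
    [Module.Projective R N] (f : M →ₗ[R] N) (hf : Function.Surjective f) :
    Module.Finite R (LinearMap.ker f) ∧ Module.Projective R (LinearMap.ker f) := by
  obtain ⟨s, hs⟩ := Module.projective_lifting_property f LinearMap.id hf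
  have hs' : ∀ y, f (s y) = y := fun y => by
    have := congr($hs y)
    simpa using this
  let r : M →ₗ[R] LinearMap.ker f :=
    (LinearMap.id - s ∘ₗ f).codRestrict _ (fun x => by
      rw [LinearMap.mem_ker]
      simp [hs'])
  have hr : r ∘ₗ (LinearMap.ker f).subtype = LinearMap.id := by
    ext ⟨x, hx⟩
    rw [LinearMap.mem_ker] at hx
    simp [r, hx]
  have hrs : Function.Surjective r := fun y => ⟨(LinearMap.ker f).subtype y, congr($hr y)⟩
  exact ⟨Module.Finite.of_surjective r hrs, Module.Projective.of_split _ r hr⟩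

/-- **Lemma A'**: in a bounded above complex which is exact and termwise finite projective in
degrees `> n` (resp. `≥ n`), the cycles in degrees `≥ n` are finite projective. -/
theorem finproj_ker_d_aux (C : CochainComplex (ModuleCat.{u} R) ℤ) (b : ℤ)
    (hb : ∀ i : ℤ, b < i → IsZero (C.X i)) (n : ℤ)
    (hfp : ∀ i : ℤ, n ≤ i → Module.Finite R (C.X i) ∧ Module.Projective R (C.X i))
    (hex : ∀ i : ℤ, n < i → C.ExactAt i) (k : ℕ) :
    ∀ i : ℤ, n ≤ i → b + 1 - i ≤ k →
      Module.Finite R (LinearMap.ker (C.d i (i + 1)).hom) ∧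
        Module.Projective R (LinearMap.ker (C.d i (i + 1)).hom) := by
  induction k with
  | zero =>
    intro i _ hik
    have hz : IsZero (C.X i) := hb i (by omega)
    have : Subsingleton (C.X i) := ModuleCat.subsingleton_of_isZero hz
    exact ⟨inferInstance, inferInstance⟩
  | succ k ih =>
    intro i hni hik
    obtain ⟨-, h1⟩ := ih (i + 1) (by omega) (by push_cast at hik ⊢; omega)
    obtain ⟨h0, h0'⟩ := hfp i hni
    have hE := hex (i + 1) (by omega)
    rw [HomologicalComplex.exactAt_iff' C i (i + 1) (i + 1 + 1) (by simp) (by simp),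
      ShortComplex.moduleCat_exact_iff] at hE
    have hdd : ∀ x : C.X i, (C.d i (i + 1)).hom x ∈ LinearMap.ker (C.d (i + 1) (i + 1 + 1)).hom := by
      intro x
      rw [LinearMap.mem_ker, ← ModuleCat.comp_apply, C.d_comp_d]
      rfl
    let g : C.X i →ₗ[R] LinearMap.ker (C.d (i + 1) (i + 1 + 1)).hom :=
      (C.d i (i + 1)).hom.codRestrict _ hdd
    have hg : Function.Surjective g := by
      rintro ⟨y, hy⟩
      obtain ⟨x, hx⟩ := hE y hy
      exact ⟨x, Subtype.ext hx⟩
    have h2 := finite_projective_ker_of_surjective g hg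
    have h3 : LinearMap.ker g = LinearMap.ker (C.d i (i + 1)).hom := LinearMap.ker_codRestrict _ _ _
    rw [h3] at h2
    exact h2

theorem finproj_ker_d (C : CochainComplex (ModuleCat.{u} R) ℤ) (b : ℤ)
    (hb : ∀ i : ℤ, b < i → IsZero (C.X i)) (n : ℤ)
    (hfp : ∀ i : ℤ, n ≤ i → Module.Finite R (C.X i) ∧ Module.Projective R (C.X i))
    (hex : ∀ i : ℤ, n < i → C.ExactAt i) (i : ℤ) (hi : n ≤ i) :
    Module.Finite R (LinearMap.ker (C.d i (i + 1)).hom) ∧
      Module.Projective R (LinearMap.ker (C.d i (i + 1)).hom) :=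
  finproj_ker_d_aux C b hb n hfp hex (b + 1 - i).toNat i hi (by omega)

/-- Trimming a bounded complex of finite projectives from above. -/
theorem exists_trim (T : DRing.Cx R) (m B n : ℤ) (hT : DRing.VanishesOutside T m B)
    (hfp : DRing.TermwiseFiniteProjective T) [T.IsLE n] :
    ∃ T' : DRing.Cx R, DRing.VanishesOutside T' m n ∧ DRing.TermwiseFiniteProjective T' ∧
      Nonempty (DRing.toD T' ≅ DRing.toD T) := by
  have hq' : QuasiIso (T.ιTruncLE n) := inferInstance
  have hiso1 : IsIso (Q.map (T.ιTruncLE n)) := by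
    rw [isIso_Q_map_iff_quasiIso]
    exact hq'
  have hcyc : Module.Finite R (T.cycles n) ∧ Module.Projective R (T.cycles n) := by
    obtain ⟨h1, h2⟩ := finproj_ker_d T B (fun i hi => hT i (Or.inr hi)) n (fun i _ => hfp i)
      (fun i hi => T.exactAt_of_isLE n i hi) n le_rfl
    let e := (cyclesIsoKer T n (n + 1) rfl).toLinearEquiv
    exact ⟨Module.Finite.equiv e.symm, Module.Projective.of_equiv e.symm⟩
  refine ⟨T.truncLE n, ?_, ?_, ⟨asIso (Q.map (T.ιTruncLE n))⟩⟩
  · intro i hi
    by_cases hib : n < i
    · exact (T.truncLE n).isZero_of_isStrictlyLE n i hib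
    · have hia : i < m := by omega
      have hz : IsZero (T.X i) := hT i (Or.inl hia)
      by_cases hib' : i < n
      · exact hz.of_iso (T.truncLEXIso n i hib')
      · have : i = n := by omega
        subst this
        have hz' : IsZero (T.cycles i) := by
          rw [IsZero.iff_id_eq_zero, ← cancel_mono (T.iCycles i)]
          exact hz.eq_of_tgt _ _
        exact hz'.of_iso (T.truncLEXIsoCycles i)
  · intro i
    by_cases hib : n < i
    · have hz := (T.truncLE n).isZero_of_isStrictlyLE n i hib
      have : Subsingleton ((T.truncLE n).X i) := ModuleCat.subsingleton_of_isZero hz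
      exact ⟨inferInstance, inferInstance⟩
    · by_cases hib' : i < n
      · obtain ⟨h1, h2⟩ := hfp i
        let e := (T.truncLEXIso n i hib').toLinearEquiv
        exact ⟨Module.Finite.equiv e.symm, Module.Projective.of_equiv e.symm⟩
      · have : i = n := by omega
        subst this
        obtain ⟨h1, h2⟩ := hcyc
        let e := (T.truncLEXIsoCycles i).toLinearEquiv
        exact ⟨Module.Finite.equiv e.symm, Module.Projective.of_equiv e.symm⟩

/-- The canonical truncation `τ_{≥a} P` of a bounded above complex which is finite projective in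
degrees `≥ a - 1` and has flat cokernel at `a` is a bounded complex of finite projectives. -/
theorem truncGE_finite_projective' (P : DRing.Cx R) (b' : ℤ) (hPb : DRing.VanishesAbove P b')
    (a : ℤ) (hP : ∀ i : ℤ, a - 1 ≤ i → Module.Finite R (P.X i) ∧ Module.Projective R (P.X i))
    [Module.Flat R (P.opcycles a)] :
    DRing.VanishesOutside (P.truncGE a) a b' ∧ DRing.TermwiseFiniteProjective (P.truncGE a) := by
  have hop : Module.Finite R (P.opcycles a) ∧ Module.Projective R (P.opcycles a) := by
    have h1 : Module.Finite R (P.X (a - 1)) := (hP (a - 1) le_rfl).1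
    have h2 : Module.Finite R (P.X a) := (hP a (by omega)).1
    have h3 : Module.Projective R (P.X a) := (hP a (by omega)).2
    have h4 : Module.FinitePresentation R (P.X a) := Module.finitePresentation_of_projective R _
    have hfp : Module.FinitePresentation R (P.opcycles a) :=
      Groth.Agent.Lib.Helper35.KL.finitePresentation_opcycles P a
    exact ⟨inferInstance, Module.Flat.projective_of_finitePresentation⟩
  constructor
  · intro i hi
    rcases hi with hi | hi
    · exact (P.truncGE a).isZero_of_isStrictlyGE a i hi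
    · exact isZero_truncGE_X_of_vanishesAbove P b' hPb a i hi
  · intro i
    by_cases hia : a < i
    · have h1 := (hP i (by omega)).1
      have h2 := (hP i (by omega)).2
      let e := (P.truncGEXIso a i hia).toLinearEquiv
      exact ⟨Module.Finite.equiv e.symm, Module.Projective.of_equiv e.symm⟩
    · by_cases hia' : i < a
      · have hz := (P.truncGE a).isZero_of_isStrictlyGE a i hia'
        have := ModuleCat.subsingleton_of_isZero hz
        exact ⟨inferInstance, inferInstance⟩
      · have : i = a := by omega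
        subst this
        have h1 := hop.1
        have h2 := hop.2
        let e := (P.truncGEXIsoOpcycles i).toLinearEquiv
        exact ⟨Module.Finite.equiv e.symm, Module.Projective.of_equiv e.symm⟩

open Groth.Agent.Lib.Helper6.MPC in
/-- **Perfect amplitude**: an `(m-1)`-pseudo-coherent object with tor amplitude in `[m, n]` is
represented by a complex of finite projective modules in degrees `[m, n]`. -/
theorem exists_finite_projective_of_isPC_of_TAmp (K : Dual.D R) (m n : ℤ)
    (hpc : DRing.IsPseudoCoherent R (m - 1) K) (hTA : TAmp m n K) :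
    ∃ E : DRing.Cx R, DRing.VanishesOutside E m n ∧ DRing.TermwiseFiniteProjective E ∧
      Nonempty (DRing.toD E ≅ K) := by
  obtain ⟨E', a', b', α, hv, hfree, hiso, hepi⟩ := hpc
  obtain ⟨C, p, q, hT⟩ := distinguished_cocone_triangle α
  have hcond : Cond (m - 1) α := ⟨hiso, hepi⟩
  have hC : C.IsLE (m - 1 - 1) := (cond_iff_isLE _ hT (m - 1)).1 hcond
  have hT' := inv_rot_of_distTriang _ hT
  have hC1 : (C⟦(-1 : ℤ)⟧).IsLE (m - 1) :=
    TStructure.t.isLE_shift C (m - 1 - 1) (-1) (m - 1) (by omega)
  obtain ⟨PC, hPCv, hPCproj, ⟨eC⟩⟩ := exists_projective_rep (C⟦(-1 : ℤ)⟧) (m - 1)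
  have hKP : PC.IsKProjective :=
    Groth.Agent.Lib.Helper35.KL.isKProjective_of_vanishesAbove PC (m - 1) hPCv hPCproj
  obtain ⟨g, ⟨e3⟩⟩ := Groth.Agent.Lib.Helper35.KL.nonempty_iso_mappingCone_of_isKProjective
    (Triangle.invRotate (Triangle.mk α p q)) hT' eC (Iso.refl (DRing.toD E'))
  have e3' : DRing.toD (mappingCone g) ≅ K := e3
  have hLv : DRing.VanishesAbove (mappingCone g) (max b' (m - 1)) := by
    intro i hi
    rw [CochainComplex.mappingCone.isZero_X_iff]
    exact ⟨hPCv (i + 1) (by omega), hv i (Or.inr (by omega))⟩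
  have hE'proj : ∀ i : ℤ, Module.Finite R (E'.X i) ∧ Module.Projective R (E'.X i) := fun i => by
    have h1 := (hfree i).1
    have h2 := (hfree i).2
    exact ⟨h1, inferInstance⟩
  have hLflat : ∀ i : ℤ, Module.Flat R ((mappingCone g).X i) := by
    intro i
    have := hPCproj (i + 1)
    have := (hE'proj i).2
    have : Module.Flat R (PC.X (i + 1) × E'.X i) := flat_prod
    exact Module.Flat.of_linearEquiv
      (Groth.Agent.Lib.Helper35.KL.mappingConeXLinearEquiv g i)
  obtain ⟨hLG, hLop⟩ := flat_opcycles_of_TAmp' (mappingCone g) (max b' (m - 1)) hLv hLflat m n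
    (hTA.of_iso e3'.symm)
  have hLfp : ∀ i : ℤ, m - 1 ≤ i → Module.Finite R ((mappingCone g).X i) ∧
      Module.Projective R ((mappingCone g).X i) := by
    intro i hi
    have hz : IsZero (PC.X (i + 1)) := hPCv (i + 1) (by omega)
    have : Subsingleton (PC.X (i + 1)) := ModuleCat.subsingleton_of_isZero hz
    obtain ⟨h1, h2⟩ := hE'proj i
    let e := Groth.Agent.Lib.Helper35.KL.mappingConeXLinearEquiv g i
    have h3 : Module.Finite R (PC.X (i + 1) × E'.X i) := inferInstance
    have h4 : Module.Projective R (PC.X (i + 1) × E'.X i) := inferInstance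
    exact ⟨Module.Finite.equiv e.symm, Module.Projective.of_equiv e.symm⟩
  obtain ⟨hTv, hTfp⟩ := truncGE_finite_projective' (mappingCone g) (max b' (m - 1)) hLv m hLfp
  have hq : QuasiIso ((mappingCone g).πTruncGE m) := inferInstance
  have hiso2 : IsIso (Q.map ((mappingCone g).πTruncGE m)) := by
    rw [isIso_Q_map_iff_quasiIso]
    exact hq
  have hKLE : K.IsLE n := hTA.isLE
  have hTLE : ((mappingCone g).truncGE m).IsLE n := by
    rw [← DerivedCategory.isLE_Q_obj_iff]
    exact TStructure.t.isLE_of_iso ((asIso (Q.map ((mappingCone g).πTruncGE m))).symm ≪≫ e3').symm n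
  obtain ⟨T', h1, h2, ⟨e'⟩⟩ := exists_trim ((mappingCone g).truncGE m) m (max b' (m - 1)) n hTv hTfp
  exact ⟨T', h1, h2, ⟨e' ≪≫ (asIso (Q.map ((mappingCone g).πTruncGE m))).symm ≪≫ e3'⟩⟩

/-- Perfect amplitude, the characterization. -/
theorem isPC_and_TAmp_iff (K : Dual.D R) (m n : ℤ) :
    (DRing.IsPseudoCoherent R (m - 1) K ∧ DRing.HasTorAmplitudeIn R m n K) ↔
      ∃ E : DRing.Cx R, DRing.VanishesOutside E m n ∧ DRing.TermwiseFiniteProjective E ∧
        Nonempty (DRing.toD E ≅ K) := by
  constructor
  · rintro ⟨h1, h2⟩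
    exact exists_finite_projective_of_isPC_of_TAmp K m n h1 h2
  · rintro ⟨E, hv, hE, ⟨e⟩⟩
    constructor
    · have hperf : DRing.IsPerfect R K := ⟨E, m, n, hv, hE, ⟨e⟩⟩
      exact Groth.Agent.Lib.Helper6.MPC.isPC_of_isPC'
        (Groth.Agent.Lib.Helper35.KL.isPseudoCoherent'_of_isPerfect hperf) (m - 1)
    · refine ⟨E, hv, fun i => ?_, ⟨e⟩⟩
      have := (hE i).2
      infer_instance

end Groth.Agent.Lib.Helper35.TA
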