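import Groth.Agent.Lib.Helper35.RegPerf
import Groth.Agent.S5804

set_option autoImplicit false
set_option linter.unusedSectionVars false
universe u

namespace Groth.Agent.Lib.Helper35.KL

open CategoryTheory Limits DerivedCategory Pretriangulated ZeroObject

attribute [local instance] HasDerivedCategory.standard

section GlDim

variable {P : Type u} [CommRing P] [IsNoetherianRing P]

theorem pdLT_Syz_iff (M : ModuleCat.{u} P) (i n : ℕ) :
    HasProjectiveDimensionLT (Syz M i) (n + 2) ↔ HasProjectiveDimensionLT (Syz M (i + 1)) (n + 1) :=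
  Groth.Agent.Lib.Helper13.hasProjectiveDimensionLT_succ_succ_iff_ker P n (Syz M i)
    (coverObj (Syz M i)) (coverMap (Syz M i)).hom (coverMap_surjective _)

theorem pdLT_of_pdLT_Syz (M : ModuleCat.{u} P) (d : ℕ) :
    ∀ i : ℕ, HasProjectiveDimensionLT (Syz M (i + d)) 1 →
      HasProjectiveDimensionLT (Syz M i) (d + 1) := by
  induction d with
  | zero => intro i h; exact h
  | succ d ih =>
    intro i h
    have e : i + (d + 1) = i + 1 + d := by omega
    rw [e] at h
    exact (pdLT_Syz_iff M i d).mpr (ih (i + 1) h)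

theorem mem_freeLocus_Syz_height (M : ModuleCat.{u} P) [Module.Finite P M] (p : PrimeSpectrum P)
    (hreg : IsRegularLocalRing (Localization.AtPrime p.asIdeal)) :
    p ∈ Module.freeLocus P (Syz M p.asIdeal.height.toNat) := by
  have hfin : p.asIdeal.height ≠ ⊤ := Ideal.height_ne_top p.2.ne_top
  have he : ringKrullDim (Localization.AtPrime p.asIdeal) = (p.asIdeal.height.toNat : ℕ) := by
    rw [IsLocalization.AtPrime.ringKrullDim_eq_height p.asIdeal (Localization.AtPrime p.asIdeal)]
    have : (p.asIdeal.height.toNat : ℕ∞) = p.asIdeal.height := ENat.natCast_toNat hfin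
    rw [← this]
    rfl
  have h0 : HasProjectiveDimensionLT (SyzLoc M p 0) (p.asIdeal.height.toNat + 1) :=
    Groth.Agent.S0563.result (Localization.AtPrime p.asIdeal) _ he
      (LocalizedModule p.asIdeal.primeCompl M)
  have h1 := pd_iter M p _ 0 h0
  rw [zero_add] at h1
  exact (mem_freeLocus_Syz_iff M p _).mpr h1

theorem projective_Syz_of_dim (M : ModuleCat.{u} P) [Module.Finite P M]
    (hreg : ∀ p : PrimeSpectrum P, IsRegularLocalRing (Localization.AtPrime p.asIdeal))
    (d : ℕ) (hd : ringKrullDim P = d) : Module.Projective P (Syz M d) := by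
  have hfp : Module.FinitePresentation P (Syz M d) :=
    have := finite_Syz M d
    Module.finitePresentation_of_finite P _
  rw [← Module.freeLocus_eq_univ_iff, Set.eq_univ_iff_forall]
  intro p
  have hmono : Monotone (fun n => Module.freeLocus P (Syz M n)) :=
    monotone_nat_of_le_succ (freeLocus_Syz_mono M)
  have hle : p.asIdeal.height.toNat ≤ d := by
    have h1 : (p.asIdeal.height : WithBot ℕ∞) ≤ ringKrullDim P :=
      Ideal.height_le_ringKrullDim_of_isPrime
    rw [hd] at h1
    have h2 : p.asIdeal.height ≤ (d : ℕ∞) := by exact_mod_cast h1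
    exact ENat.toNat_le_of_le_natCast h2
  exact hmono hle (mem_freeLocus_Syz_height M p (hreg p))

/-- A regular ring of Krull dimension `d` has global dimension at most `d`. -/
theorem hasProjectiveDimensionLT_of_regular
    (hreg : ∀ p : PrimeSpectrum P, IsRegularLocalRing (Localization.AtPrime p.asIdeal))
    (d : ℕ) (hd : ringKrullDim P = d) (M : Type u) [AddCommGroup M] [Module P M] :
    HasProjectiveDimensionLT (ModuleCat.of P M) (d + 1) := by
  refine Groth.Agent.S5804.result P d (fun I => ?_) M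
  have hproj := projective_Syz_of_dim (ModuleCat.of P (P ⧸ I)) hreg d hd
  have h1 : HasProjectiveDimensionLT (Syz (ModuleCat.of P (P ⧸ I)) (0 + d)) 1 := by
    rw [zero_add, ← projective_iff_hasProjectiveDimensionLT_one, ← IsProjective.iff_projective]
    exact hproj
  exact pdLT_of_pdLT_Syz _ d 0 h1

end GlDim

section HomVanish

variable {R : Type u} [CommRing R]

theorem pdLT_ker_coverMap (H : ModuleCat.{u} R) (n : ℕ) (h : HasProjectiveDimensionLT H (n + 2)) :
    HasProjectiveDimensionLT (ModuleCat.of R (LinearMap.ker (coverMap H).hom)) (n + 1) :=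
  (Groth.Agent.Lib.Helper13.hasProjectiveDimensionLT_succ_succ_iff_ker R n H
    (coverObj H) (coverMap H).hom (coverMap_surjective _)).mp h

/-- The short exact sequence `0 → ker → cover H → H → 0`. -/
noncomputable def coverSC (H : ModuleCat.{u} R) : ShortComplex (ModuleCat.{u} R) :=
  ShortComplex.mk (ModuleCat.ofHom (LinearMap.ker (coverMap H).hom).subtype :
    ModuleCat.of R (LinearMap.ker (coverMap H).hom) ⟶ coverObj H) (coverMap H) (by
      ext x
      exact x.2)

theorem coverSC_shortExact (H : ModuleCat.{u} R) : (coverSC H).ShortExact := by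
  apply ModuleCat.shortComplex_shortExact
  · intro (x : coverObj H)
    change (coverMap H).hom x = 0 ↔ x ∈ Set.range (LinearMap.ker (coverMap H).hom).subtype
    constructor
    · intro hx
      exact ⟨⟨x, hx⟩, rfl⟩
    · rintro ⟨y, rfl⟩
      exact y.2
  · exact (LinearMap.ker (coverMap H).hom).injective_subtype
  · exact coverMap_surjective _

/-- No maps from a module of projective dimension `≤ d` placed in degree `0` to an object which is
`≤ -d-1`. -/
theorem hom_single_eq_zero_of_pdLT (d : ℕ) :
    ∀ (H : ModuleCat.{u} R), HasProjectiveDimensionLT H (d + 1) →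
      ∀ (X : DerivedCategory (ModuleCat.{u} R)), X.IsLE (-(d : ℤ) - 1) →
      ∀ φ : (singleFunctor (ModuleCat.{u} R) 0).obj H ⟶ X, φ = 0 := by
  induction d with
  | zero =>
    intro H hH X hX φ
    have : Projective H := projective_iff_hasProjectiveDimensionLT_one.mpr hH
    exact hom_single_projective_eq_zero X (-((0 : ℕ) : ℤ) - 1) 0 (by simp) φ
  | succ d ih =>
    intro H hH X hX φ
    have hT := (coverSC_shortExact H).singleTriangle_distinguished
    have hK := pdLT_ker_coverMap H d hH
    have hF : Projective (coverObj H) :=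
      (IsProjective.iff_projective (R := R) (P := coverObj H)).mp Module.Projective.of_free
    have h1 : (coverSC_shortExact H).singleTriangle.mor₂ ≫ φ = 0 :=
      hom_single_projective_eq_zero (P := coverObj H) X (-((d + 1 : ℕ) : ℤ) - 1) 0
        (by push_cast; omega) _
    obtain ⟨ψ, hψ⟩ := Triangle.yoneda_exact₃ _ hT φ h1
    have hX' : (X⟦(-1 : ℤ)⟧).IsLE (-(d : ℤ) - 1) :=
      TStructure.t.isLE_shift X (-((d + 1 : ℕ) : ℤ) - 1) (-1) _ (by push_cast; omega)
    have h2 : (shiftShiftNeg ((singleFunctor (ModuleCat.{u} R) 0).obj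
        (ModuleCat.of R (LinearMap.ker (coverMap H).hom))) (1 : ℤ)).inv ≫ ψ⟦(-1 : ℤ)⟧' = 0 :=
      ih _ hK _ hX' _
    have h3 : ψ⟦(-1 : ℤ)⟧' = 0 :=
      (cancel_epi (shiftShiftNeg ((singleFunctor (ModuleCat.{u} R) 0).obj
        (ModuleCat.of R (LinearMap.ker (coverMap H).hom))) (1 : ℤ)).inv).mp
          (h2.trans comp_zero.symm)
    have h4 : ψ = 0 := (shiftFunctor (DerivedCategory (ModuleCat.{u} R)) (-1 : ℤ)).map_injective
      (by rw [h3, Functor.map_zero])
    rw [hψ, h4]
    exact comp_zero

theorem hom_single_eq_zero_of_pdLT' (d : ℕ) (H : ModuleCat.{u} R)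
    (hH : HasProjectiveDimensionLT H (d + 1)) (b : ℤ) (L : DerivedCategory (ModuleCat.{u} R))
    (hL : L.IsLE (b - d - 1)) (φ : (singleFunctor (ModuleCat.{u} R) b).obj H ⟶ L) : φ = 0 := by
  let e : ((singleFunctor (ModuleCat.{u} R) 0).obj H)⟦-b⟧ ≅ (singleFunctor (ModuleCat.{u} R) b).obj H :=
    ((DerivedCategory.singleFunctors (ModuleCat.{u} R)).shiftIso (-b) b 0 (by omega)).app H
  have hL' : (L⟦b⟧).IsLE (-(d : ℤ) - 1) :=
    TStructure.t.isLE_shift L (b - d - 1) b _ (by omega)
  have h1 : (shiftNegShift ((singleFunctor (ModuleCat.{u} R) 0).obj H) b).inv ≫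
      (e.hom ≫ φ)⟦b⟧' = 0 := hom_single_eq_zero_of_pdLT d H hH _ hL' _
  have h2 : (e.hom ≫ φ)⟦b⟧' = 0 :=
    (cancel_epi (shiftNegShift ((singleFunctor (ModuleCat.{u} R) 0).obj H) b).inv).mp
      (h1.trans comp_zero.symm)
  have h3 : e.hom ≫ φ = 0 := (shiftFunctor (DerivedCategory (ModuleCat.{u} R)) b).map_injective
    (by rw [h2, Functor.map_zero])
  exact (cancel_epi e.hom).mp (h3.trans comp_zero.symm)

/-- Vanishing of `Hom(K, L)` across a gap of length the global dimension. -/
theorem hom_eq_zero_of_gap_aux (d : ℕ)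
    (hgl : ∀ H : ModuleCat.{u} R, HasProjectiveDimensionLT H (d + 1)) (k : ℤ)
    (L : DerivedCategory (ModuleCat.{u} R)) (hL : L.IsLE (k - d)) (n : ℕ) :
    ∀ (K : DerivedCategory (ModuleCat.{u} R)) (b : ℤ), b - k ≤ n → K.IsGE (k + 1) → K.IsLE b →
      ∀ φ : K ⟶ L, φ = 0 := by
  induction n with
  | zero =>
    intro K b hb hG hLE φ
    exact (TStructure.t.isZero K b (k + 1) (by omega)).eq_of_src _ _
  | succ n ih =>
    intro K b hb hG hLE φ
    by_cases hbk : b ≤ k
    · exact (TStructure.t.isZero K b (k + 1) (by omega)).eq_of_src _ _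
    have hT := TStructure.t.triangleLTGE_distinguished b K
    have hZG : TStructure.t.IsGE ((TStructure.t.truncGE b).obj K) b := inferInstance
    have hZL : TStructure.t.IsLE ((TStructure.t.truncGE b).obj K) b := inferInstance
    obtain ⟨H, ⟨e0⟩⟩ := exists_iso_singleFunctor_obj_of_isGE_of_isLE
      ((TStructure.t.truncGE b).obj K) b
    have hXL : TStructure.t.IsLE ((TStructure.t.truncLT b).obj K) (b - 1) :=
      TStructure.t.isLE_truncLT_obj K b (b - 1)
    have hXG : TStructure.t.IsGE ((TStructure.t.truncLT b).obj K) (k + 1) := inferInstance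
    have h1 : (TStructure.t.truncLTι b).app K ≫ φ = 0 :=
      ih _ (b - 1) (by omega) hXG hXL _
    obtain ⟨ψ, hψ⟩ := Triangle.yoneda_exact₂ _ hT φ h1
    have hL' : L.IsLE (b - d - 1) := TStructure.t.isLE_of_le L (k - d) (b - d - 1) (by omega)
    have h2 : e0.inv ≫ ψ = 0 := hom_single_eq_zero_of_pdLT' d H (hgl H) b L hL' _
    have h3 : ψ = 0 := (cancel_epi e0.inv).mp (h2.trans comp_zero.symm)
    rw [hψ, h3]
    exact comp_zero

end HomVanish

end Groth.Agent.Lib.Helper35.KL
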