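import Groth.Agent.Lib.Helper35.NoethRes
import Groth.Agent.S0563
import Groth.Agent.Lib.Helper13.ProjDim
import Mathlib.Algebra.Homology.DerivedCategory.SingleTriangle

set_option autoImplicit false
set_option linter.unusedSectionVars false
universe u

namespace Groth.Agent.Lib.Helper35.KL

open CategoryTheory Limits DerivedCategory Pretriangulated ZeroObject

attribute [local instance] HasDerivedCategory.standard

section RegPerf

variable {P : Type u} [CommRing P]

/-- A finite projective module is perfect. -/
theorem isPerfect_single_of_finite_projective (N : ModuleCat.{u} P) [Module.Finite P N]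
    [Module.Projective P N] :
    DRing.IsPerfect P ((DerivedCategory.singleFunctor (ModuleCat.{u} P) 0).obj N) := by
  refine ⟨(HomologicalComplex.single (ModuleCat.{u} P) (ComplexShape.up ℤ) 0).obj N, 0, 0, ?_, ?_,
    ⟨((DerivedCategory.singleFunctorIsoCompQ (ModuleCat.{u} P) 0).app N).symm⟩⟩
  · intro i hi
    exact HomologicalComplex.isZero_single_obj_X _ _ _ _ (by omega)
  · intro i
    by_cases hi : i = 0
    · subst hi
      have e := (HomologicalComplex.singleObjXSelf (ComplexShape.up ℤ) 0 N).toLinearEquiv
      exact ⟨Module.Finite.equiv e.symm, Module.Projective.of_equiv e.symm⟩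
    · have hz : IsZero (((HomologicalComplex.single (ModuleCat.{u} P) (ComplexShape.up ℤ) 0).obj N).X i) :=
        HomologicalComplex.isZero_single_obj_X _ _ _ _ hi
      have := ModuleCat.subsingleton_of_isZero hz
      exact ⟨inferInstance, inferInstance⟩

variable [IsNoetherianRing P]

/-- The syzygy modules of `M` with respect to the free covers `coverMap`. -/
noncomputable def Syz (M : ModuleCat.{u} P) : ℕ → ModuleCat.{u} P
  | 0 => M
  | n + 1 => ModuleCat.of P (LinearMap.ker (coverMap (Syz M n)).hom)

theorem finite_Syz (M : ModuleCat.{u} P) [Module.Finite P M] (n : ℕ) :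
    Module.Finite P (Syz M n) := by
  induction n with
  | zero => exact inferInstanceAs (Module.Finite P M)
  | succ n ih =>
    have := finite_coverObj (Syz M n)
    exact inferInstanceAs (Module.Finite P (LinearMap.ker (coverMap (Syz M n)).hom))

/-- The short exact sequence `0 → Syz (n+1) → cover → Syz n → 0`. -/
noncomputable def syzSC (M : ModuleCat.{u} P) (n : ℕ) : ShortComplex (ModuleCat.{u} P) :=
  ShortComplex.mk (ModuleCat.ofHom (LinearMap.ker (coverMap (Syz M n)).hom).subtype :
    Syz M (n + 1) ⟶ coverObj (Syz M n)) (coverMap (Syz M n)) (by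
      ext x
      exact x.2)

theorem syzSC_shortExact (M : ModuleCat.{u} P) (n : ℕ) : (syzSC M n).ShortExact := by
  apply ModuleCat.shortComplex_shortExact
  · intro (x : coverObj (Syz M n))
    change (coverMap (Syz M n)).hom x = 0 ↔
      x ∈ Set.range (LinearMap.ker (coverMap (Syz M n)).hom).subtype
    constructor
    · intro hx
      exact ⟨⟨x, hx⟩, rfl⟩
    · rintro ⟨y, rfl⟩
      exact y.2
  · exact (LinearMap.ker (coverMap (Syz M n)).hom).injective_subtype
  · exact coverMap_surjective _

/-- Downward induction step. -/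
theorem isPerfect_Syz_of_succ (M : ModuleCat.{u} P) [Module.Finite P M] (n : ℕ)
    (h : DRing.IsPerfect P ((DerivedCategory.singleFunctor (ModuleCat.{u} P) 0).obj (Syz M (n + 1)))) :
    DRing.IsPerfect P ((DerivedCategory.singleFunctor (ModuleCat.{u} P) 0).obj (Syz M n)) := by
  have hT := (syzSC_shortExact M n).singleTriangle_distinguished
  have := finite_Syz M n
  have := finite_coverObj (Syz M n)
  have h2 : DRing.IsPerfect P ((DerivedCategory.singleFunctor (ModuleCat.{u} P) 0).obj
      (coverObj (Syz M n))) := isPerfect_single_of_finite_projective _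
  exact (isPerfect_two_out_of_three _ hT).1 h h2

theorem isPerfect_of_isPerfect_Syz (M : ModuleCat.{u} P) [Module.Finite P M] (n : ℕ)
    (h : DRing.IsPerfect P ((DerivedCategory.singleFunctor (ModuleCat.{u} P) 0).obj (Syz M n))) :
    DRing.IsPerfect P ((DerivedCategory.singleFunctor (ModuleCat.{u} P) 0).obj M) := by
  induction n with
  | zero => exact h
  | succ n ih => exact ih (isPerfect_Syz_of_succ M n h)

/-- Localization of the syzygies at a prime. -/
noncomputable abbrev SyzLoc (M : ModuleCat.{u} P) (p : PrimeSpectrum P) (n : ℕ) :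
    ModuleCat.{u} (Localization.AtPrime p.asIdeal) :=
  ModuleCat.of (Localization.AtPrime p.asIdeal) (LocalizedModule p.asIdeal.primeCompl (Syz M n))

theorem pd_step (M : ModuleCat.{u} P) (p : PrimeSpectrum P) (i n : ℕ)
    (h : HasProjectiveDimensionLT (SyzLoc M p i) (n + 2)) :
    HasProjectiveDimensionLT (SyzLoc M p (i + 1)) (n + 1) :=
  (Groth.Agent.Lib.Helper13.hasProjectiveDimensionLT_localizedModule_succ_succ_iff_ker P
    p.asIdeal.primeCompl n (Syz M i) (coverObj (Syz M i)) (coverMap (Syz M i)).hom
    (coverMap_surjective _)).mp h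

theorem pd_iter (M : ModuleCat.{u} P) (p : PrimeSpectrum P) (d : ℕ) :
    ∀ i : ℕ, HasProjectiveDimensionLT (SyzLoc M p i) (d + 1) →
      HasProjectiveDimensionLT (SyzLoc M p (i + d)) 1 := by
  induction d with
  | zero => intro i h; exact h
  | succ d ih =>
    intro i h
    have h1 := ih (i + 1) (pd_step M p i d h)
    have e : i + 1 + d = i + (d + 1) := by omega
    rw [e] at h1
    exact h1

theorem mem_freeLocus_Syz_iff (M : ModuleCat.{u} P) [Module.Finite P M] (p : PrimeSpectrum P)
    (n : ℕ) :
    p ∈ Module.freeLocus P (Syz M n) ↔ HasProjectiveDimensionLT (SyzLoc M p n) 1 := by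
  rw [← projective_iff_hasProjectiveDimensionLT_one, ← IsProjective.iff_projective,
    Module.mem_freeLocus]
  have := finite_Syz M n
  constructor
  · intro h
    exact Module.Projective.of_free
  · intro h
    have : Module.Finite (Localization.AtPrime p.asIdeal)
        (LocalizedModule p.asIdeal.primeCompl (Syz M n)) :=
      Module.Finite.of_isLocalizedModule p.asIdeal.primeCompl
        (LocalizedModule.mkLinearMap p.asIdeal.primeCompl (Syz M n))
    have : Module.Flat (Localization.AtPrime p.asIdeal)
        (LocalizedModule p.asIdeal.primeCompl (Syz M n)) := Module.Flat.of_projective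
    exact Module.free_of_flat_of_isLocalRing

theorem freeLocus_Syz_mono (M : ModuleCat.{u} P) [Module.Finite P M] (n : ℕ) :
    Module.freeLocus P (Syz M n) ⊆ Module.freeLocus P (Syz M (n + 1)) := by
  intro p hp
  rw [mem_freeLocus_Syz_iff] at hp ⊢
  exact pd_step M p n 0 (hasProjectiveDimensionLT_of_ge _ 1 2 (by omega))

theorem exists_mem_freeLocus_Syz (M : ModuleCat.{u} P) [Module.Finite P M] (p : PrimeSpectrum P)
    (hreg : IsRegularLocalRing (Localization.AtPrime p.asIdeal)) :
    ∃ d : ℕ, p ∈ Module.freeLocus P (Syz M d) := by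
  have hfin : p.asIdeal.height ≠ ⊤ := Ideal.height_ne_top p.2.ne_top
  refine ⟨p.asIdeal.height.toNat, ?_⟩
  have he : ringKrullDim (Localization.AtPrime p.asIdeal) = (p.asIdeal.height.toNat : ℕ) := by
    rw [IsLocalization.AtPrime.ringKrullDim_eq_height p.asIdeal (Localization.AtPrime p.asIdeal)]
    have : (p.asIdeal.height.toNat : ℕ∞) = p.asIdeal.height := ENat.natCast_toNat hfin
    rw [← this]
    rfl
  have h0 : HasProjectiveDimensionLT (SyzLoc M p 0) (p.asIdeal.height.toNat + 1) :=
    Groth.Agent.S0563.result (Localization.AtPrime p.asIdeal) _ he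
      (LocalizedModule p.asIdeal.primeCompl M)
  have h1 := pd_iter M p _ 0 h0
  rw [zero_add] at h1
  exact (mem_freeLocus_Syz_iff M p _).mpr h1

/-- Over a regular ring, some syzygy of a finite module is projective. -/
theorem exists_projective_Syz (M : ModuleCat.{u} P) [Module.Finite P M]
    (hreg : ∀ p : PrimeSpectrum P, IsRegularLocalRing (Localization.AtPrime p.asIdeal)) :
    ∃ d : ℕ, Module.Projective P (Syz M d) := by
  have hfp : ∀ n, Module.FinitePresentation P (Syz M n) := fun n =>
    have := finite_Syz M n
    Module.finitePresentation_of_finite P _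
  have hmono : Monotone (fun n => Module.freeLocus P (Syz M n)) :=
    monotone_nat_of_le_succ (freeLocus_Syz_mono M)
  obtain ⟨d, hd⟩ := isCompact_univ.elim_directed_cover (fun n => Module.freeLocus P (Syz M n))
    (fun n => Module.isOpen_freeLocus)
    (fun p _ => by
      obtain ⟨d, hd⟩ := exists_mem_freeLocus_Syz M p (hreg p)
      exact Set.mem_iUnion.mpr ⟨d, hd⟩)
    (directed_of_isDirected_le hmono)
  refine ⟨d, ?_⟩
  rw [← Module.freeLocus_eq_univ_iff]
  exact Set.eq_univ_of_univ_subset hd

/-- Over a regular ring, finite modules are perfect. -/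
theorem isPerfect_single_of_finite_of_regular (M : ModuleCat.{u} P) [Module.Finite P M]
    (hreg : ∀ p : PrimeSpectrum P, IsRegularLocalRing (Localization.AtPrime p.asIdeal)) :
    DRing.IsPerfect P ((DerivedCategory.singleFunctor (ModuleCat.{u} P) 0).obj M) := by
  obtain ⟨d, hd⟩ := exists_projective_Syz M hreg
  have := finite_Syz M d
  exact isPerfect_of_isPerfect_Syz M d (isPerfect_single_of_finite_projective _)

omit [IsNoetherianRing P] in
theorem bounded_homology_of_isPerfect (K : Dual.D P) (hK : DRing.IsPerfect P K) :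
    ∃ a b : ℤ, ∀ i : ℤ, (i < a ∨ b < i) →
      Subsingleton ((homologyFunctor (ModuleCat.{u} P) i).obj K) := by
  obtain ⟨E, a, b, hv, -, ⟨e⟩⟩ := hK
  refine ⟨a, b, fun i hi => ?_⟩
  have hz : IsZero (E.homology i) := by
    rw [← HomologicalComplex.exactAt_iff_isZero_homology]
    exact HomologicalComplex.ExactAt.of_isZero (hv i hi)
  have e' : (homologyFunctor (ModuleCat.{u} P) i).obj K ≅ E.homology i :=
    (homologyFunctor (ModuleCat.{u} P) i).mapIso e.symm ≪≫
      (homologyFunctorFactors (ModuleCat.{u} P) i).app E
  exact ModuleCat.subsingleton_of_isZero (hz.of_iso e')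

theorem finite_homology_of_isPerfect (K : Dual.D P) (hK : DRing.IsPerfect P K) (i : ℤ) :
    Module.Finite P ((homologyFunctor (ModuleCat.{u} P) i).obj K) := by
  obtain ⟨E, a, b, -, hE, ⟨e⟩⟩ := hK
  have e' : (homologyFunctor (ModuleCat.{u} P) i).obj K ≅ E.homology i :=
    (homologyFunctor (ModuleCat.{u} P) i).mapIso e.symm ≪≫
      (homologyFunctorFactors (ModuleCat.{u} P) i).app E
  have h1 := (hE i).1
  have hN : IsNoetherian P (E.X i) := isNoetherian_of_isNoetherianRing_of_finite P (E.X i)
  have h2 : Module.Finite P (E.cycles i) :=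
    Module.Finite.of_injective (E.iCycles i).hom
      ((ModuleCat.mono_iff_injective (E.iCycles i)).mp inferInstance)
  have h3 : Module.Finite P (E.homology i) :=
    Module.Finite.of_surjective (E.homologyπ i).hom
      ((ModuleCat.epi_iff_surjective (E.homologyπ i)).mp inferInstance)
  exact Module.Finite.equiv e'.toLinearEquiv.symm

end RegPerf

end Groth.Agent.Lib.Helper35.KL
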