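import Groth.Agent.Lib.Helper35.PCRes

set_option autoImplicit false
set_option linter.unusedSectionVars false
universe u

namespace Groth.Agent.Lib.Helper35.KL

open CategoryTheory Limits DerivedCategory Pretriangulated ZeroObject

attribute [local instance] HasDerivedCategory.standard

section NoethRes

variable {P : Type u} [CommRing P]

/-- A generating set of a module, finite whenever possible. -/
noncomputable def genSet (N : Type u) [AddCommGroup N] [Module P N] : Set N :=
  open Classical in
  if h : (⊤ : Submodule P N).FG then ↑h.choose else Set.univ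

theorem span_genSet (N : Type u) [AddCommGroup N] [Module P N] :
    Submodule.span P (genSet (P := P) N) = ⊤ := by
  unfold genSet
  split_ifs with h
  · exact h.choose_spec
  · exact Submodule.span_univ

theorem finite_genSet (N : Type u) [AddCommGroup N] [Module P N] [Module.Finite P N] :
    (genSet (P := P) N).Finite := by
  unfold genSet
  have h : (⊤ : Submodule P N).FG := Module.Finite.fg_top
  rw [dif_pos h]
  exact Finset.finite_toSet _

/-- The free cover of a module. -/
noncomputable def coverObj (N : ModuleCat.{u} P) : ModuleCat.{u} P :=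
  ModuleCat.of P (genSet (P := P) N →₀ P)

/-- The covering map. -/
noncomputable def coverMap (N : ModuleCat.{u} P) : coverObj N ⟶ N :=
  ModuleCat.ofHom (Finsupp.linearCombination P (Subtype.val : genSet (P := P) N → N))

theorem coverMap_surjective (N : ModuleCat.{u} P) : Function.Surjective (coverMap N) := by
  have : LinearMap.range (Finsupp.linearCombination P (Subtype.val : genSet (P := P) N → N)) = ⊤ := by
    rw [Finsupp.range_linearCombination, Subtype.range_coe_subtype]
    exact span_genSet N
  exact LinearMap.range_eq_top.mp this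

instance (N : ModuleCat.{u} P) : Module.Free P (coverObj N) :=
  inferInstanceAs (Module.Free P (genSet (P := P) N →₀ P))

theorem finite_coverObj (N : ModuleCat.{u} P) [Module.Finite P N] : Module.Finite P (coverObj N) := by
  have : Finite (genSet (P := P) N) := (finite_genSet N).to_subtype
  exact inferInstanceAs (Module.Finite P (genSet (P := P) N →₀ P))

/-- The syzygy step. -/
noncomputable def syz {X Y : ModuleCat.{u} P} (f : X ⟶ Y) :
    Σ' (Z : ModuleCat.{u} P) (d : Z ⟶ X), d ≫ f = 0 :=
  ⟨coverObj (ModuleCat.of P (LinearMap.ker f.hom)),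
    coverMap (ModuleCat.of P (LinearMap.ker f.hom)) ≫ ModuleCat.ofHom (LinearMap.ker f.hom).subtype,
    by
      ext x
      exact ((coverMap (ModuleCat.of P (LinearMap.ker f.hom))) x).2⟩

theorem syz_exact {X Y : ModuleCat.{u} P} (f : X ⟶ Y) :
    (ShortComplex.mk (syz f).2.1 f (syz f).2.2).Exact := by
  rw [ShortComplex.moduleCat_exact_iff]
  intro x hx
  obtain ⟨y, hy⟩ := coverMap_surjective (ModuleCat.of P (LinearMap.ker f.hom)) ⟨x, hx⟩
  refine ⟨y, ?_⟩
  change ((coverMap (ModuleCat.of P (LinearMap.ker f.hom)) y : LinearMap.ker f.hom) : X) = x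
  rw [hy]

variable [IsNoetherianRing P]

/-- The invariant carried along the inductive construction. -/
def SyzInv (S : ShortComplex (ModuleCat.{u} P)) : Prop :=
  S.Exact ∧ (Module.Finite P S.X₁ ∧ Module.Free P S.X₁) ∧ (Module.Finite P S.X₂ ∧ Module.Free P S.X₂) ∧
    (Module.Finite P S.X₃ ∧ Module.Free P S.X₃)

theorem finite_free_syz {X Y : ModuleCat.{u} P} (f : X ⟶ Y) [Module.Finite P X] :
    Module.Finite P (syz f).1 ∧ Module.Free P (syz f).1 := by
  have : Module.Finite P (ModuleCat.of P (LinearMap.ker f.hom)) :=
    inferInstanceAs (Module.Finite P (LinearMap.ker f.hom))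
  exact ⟨finite_coverObj _, inferInstanceAs (Module.Free P (coverObj _))⟩

theorem syzInv_step (S : ShortComplex (ModuleCat.{u} P)) (h : SyzInv S) :
    SyzInv (ShortComplex.mk (syz S.f).2.1 S.f (syz S.f).2.2) := by
  obtain ⟨-, h1, h2, -⟩ := h
  have := h1.1
  exact ⟨syz_exact S.f, finite_free_syz S.f, h1, h2⟩

variable (M : ModuleCat.{u} P) [Module.Finite P M]

/-- The resolution complex. -/
noncomputable def resCx : ChainComplex (ModuleCat.{u} P) ℕ :=
  ChainComplex.mk (coverObj M) (syz (coverMap M)).1 (syz (syz (coverMap M)).2.1).1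
    (syz (coverMap M)).2.1 (syz (syz (coverMap M)).2.1).2.1 (syz (syz (coverMap M)).2.1).2.2
    (fun S => syz S.f)

theorem resCx_mkAux_inv (n : ℕ) :
    SyzInv (ChainComplex.mkAux (coverObj M) (syz (coverMap M)).1 (syz (syz (coverMap M)).2.1).1
      (syz (coverMap M)).2.1 (syz (syz (coverMap M)).2.1).2.1 (syz (syz (coverMap M)).2.1).2.2
      (fun S => syz S.f) n) := by
  induction n with
  | zero =>
    have h0 : Module.Finite P (coverObj M) := finite_coverObj M
    have h1 := finite_free_syz (coverMap M)
    have := h1.1
    have h2 := finite_free_syz (syz (coverMap M)).2.1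
    have h0' : Module.Free P (coverObj M) := inferInstance
    exact ⟨syz_exact _, h2, h1, ⟨h0, h0'⟩⟩
  | succ n ih => exact syzInv_step _ ih

theorem resCx_finite_free (n : ℕ) :
    Module.Finite P ((resCx M).X n) ∧ Module.Free P ((resCx M).X n) :=
  (resCx_mkAux_inv M n).2.2.2

theorem resCx_exactAt_succ (n : ℕ) : (resCx M).ExactAt (n + 1) := by
  rw [HomologicalComplex.exactAt_iff' _ (n + 1 + 1) (n + 1) n (by simp) (by simp)]
  have h := (resCx_mkAux_inv M n).1
  rw [ChainComplex.mkAux_eq_shortComplex_mk_d_comp_d] at h
  exact h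

theorem resCx_d_one_zero : (resCx M).d 1 0 = (syz (coverMap M)).2.1 :=
  ChainComplex.mk_d_1_0 _ _ _ _ _ _ _

theorem resCx_d_comp : (resCx M).d 1 0 ≫ coverMap M = 0 := by
  rw [resCx_d_one_zero]
  exact (syz (coverMap M)).2.2

theorem resCx_exact_and_epi (f : (syz (coverMap M)).1 ⟶ coverObj M) (g : coverObj M ⟶ M)
    (w : f ≫ g = 0) (hf : f = (syz (coverMap M)).2.1) (hg : g = coverMap M) :
    (ShortComplex.mk f g w).Exact ∧ Epi g := by
  subst hf
  subst hg
  refine ⟨syz_exact _, ?_⟩
  rw [ModuleCat.epi_iff_surjective]
  exact coverMap_surjective M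

/-- The resolution of a finite module over a Noetherian ring by finite free modules. -/
noncomputable def noethRes : ProjectiveResolution M where
  complex := resCx M
  projective := fun n => by
    have := (resCx_finite_free M n).2
    exact (IsProjective.iff_projective (R := P) (P := (resCx M).X n)).mp inferInstance
  π := (ChainComplex.toSingle₀Equiv _ _).symm ⟨coverMap M, resCx_d_comp M⟩
  quasiIso := ⟨fun n => by
    cases n with
    | zero =>
      rw [ChainComplex.quasiIsoAt₀_iff, ShortComplex.quasiIso_iff_of_zeros']
      · exact resCx_exact_and_epi M ((resCx M).d 1 0)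
          ((((resCx M).toSingle₀Equiv M).symm ⟨coverMap M, resCx_d_comp M⟩).f 0) _
          (resCx_d_one_zero M)
          (ChainComplex.toSingle₀Equiv_symm_apply_f_zero (C := resCx M) (coverMap M)
            (resCx_d_comp M))
      all_goals rfl
    | succ n =>
      rw [quasiIsoAt_iff_exactAt']
      · exact resCx_exactAt_succ M n
      · apply ChainComplex.exactAt_succ_single_obj⟩

/-- A finite module over a Noetherian ring is pseudo-coherent. -/
theorem isPseudoCoherent'_single_of_finite_of_isNoetherianRing :
    DRing.IsPseudoCoherent' P ((DerivedCategory.singleFunctor (ModuleCat.{u} P) 0).obj M) :=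
  isPseudoCoherent'_of_projectiveResolution M (noethRes M) (resCx_finite_free M)

end NoethRes

end Groth.Agent.Lib.Helper35.KL
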