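/-
Helper library (helper35): generic nontriviality of fibres and extension of homomorphisms into
algebraically closed fields (Atiyah–Macdonald 5.23), via generic freeness.
-/
import Mathlib
import Groth.Agent.Lib.Helper91.GenericFreeness

set_option autoImplicit false
universe u
open TensorProduct

namespace Groth.Agent.Lib.Helper35.GeomIrr

variable {R : Type u} [CommRing R] [IsDomain R] {B : Type u} [CommRing B] [Algebra R B]
  [Algebra.FiniteType R B]

/-- **Generic nontriviality of fibres.** -/
theorem exists_nontrivial_tensor (hinj : Function.Injective (algebraMap R B)) :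
    ∃ a : R, a ≠ 0 ∧ ∀ (K : Type u) [CommRing K] [Nontrivial K] [Algebra R K],
      IsUnit (algebraMap R K a) → Nontrivial (K ⊗[R] B) := by
  classical
  obtain ⟨a, ha0, -, hfree, -, -⟩ :=
    Groth.Agent.Lib.Helper91.generic_freeness (R := R) (S := B) (M := B)
  refine ⟨a, ha0, ?_⟩
  intro K _ _ _ hunit
  let Ra := Localization.Away a
  letI algK : Algebra Ra K := (IsLocalization.Away.lift a hunit).toAlgebra
  haveI : IsScalarTower R Ra K := IsScalarTower.of_algebraMap_eq (fun x => by
    change _ = (IsLocalization.Away.lift a hunit) (algebraMap R Ra x)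
    rw [IsLocalization.Away.lift_eq])
  have hle : Submonoid.powers a ≤ nonZeroDivisors R :=
    Submonoid.powers_le.mpr (mem_nonZeroDivisors_of_ne_zero ha0)
  haveI : IsDomain Ra := IsLocalization.isDomain_localization hle
  haveI : Nontrivial (Ra ⊗[R] B) := by
    have h1 : Function.Injective (LinearMap.lTensor Ra (Algebra.linearMap R B)) :=
      Module.Flat.lTensor_preserves_injective_linearMap _ hinj
    haveI : Nontrivial (Ra ⊗[R] R) := (TensorProduct.rid R Ra).toEquiv.nontrivial
    exact h1.nontrivial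
  let b := Module.Free.chooseBasis Ra (Ra ⊗[R] B)
  haveI : Nonempty (Module.Free.ChooseBasisIndex Ra (Ra ⊗[R] B)) := by
    by_contra hne
    rw [not_nonempty_iff] at hne
    have : Subsingleton (Ra ⊗[R] B) := b.repr.toEquiv.subsingleton
    exact not_subsingleton _ this
  let b' := Algebra.TensorProduct.basis K b
  have hne : b' (Classical.arbitrary _) ≠ 0 := b'.ne_zero _
  haveI : Nontrivial (K ⊗[Ra] (Ra ⊗[R] B)) := ⟨⟨_, _, hne⟩⟩
  let e := TensorProduct.AlgebraTensorModule.cancelBaseChange R Ra K K B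
  exact e.injective.nontrivial

end Groth.Agent.Lib.Helper35.GeomIrr

namespace Groth.Agent.Lib.Helper35.GeomIrr

variable {R : Type u} [CommRing R] [IsDomain R]

/-- **Extension of homomorphisms into algebraically closed fields** (Atiyah–Macdonald 5.23). -/
theorem exists_extension_algClosed {A' : Type u} [CommRing A'] [IsDomain A'] [Algebra R A']
    [Algebra.FiniteType R A'] (hinj : Function.Injective (algebraMap R A')) (a' : A')
    (ha' : a' ≠ 0) :
    ∃ a : R, a ≠ 0 ∧ ∀ (k : Type u) [Field k] [IsAlgClosed k] (ψ : R →+* k), ψ a ≠ 0 →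
      ∃ ψ' : A' →+* k, ψ'.comp (algebraMap R A') = ψ ∧ ψ' a' ≠ 0 := by
  classical
  let T := Localization.Away a'
  haveI : Algebra.FiniteType A' T := IsLocalization.finiteType_of_monoid_fg (Submonoid.powers a') T
  haveI : Algebra.FiniteType R T := Algebra.FiniteType.trans (S := A') inferInstance inferInstance
  have hle : Submonoid.powers a' ≤ nonZeroDivisors A' :=
    Submonoid.powers_le.mpr (mem_nonZeroDivisors_of_ne_zero ha')
  have hinjT : Function.Injective (algebraMap R T) := by
    rw [IsScalarTower.algebraMap_eq R A' T]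
    exact (IsLocalization.injective T hle).comp hinj
  obtain ⟨a, ha0, H⟩ := exists_nontrivial_tensor (R := R) (B := T) hinjT
  refine ⟨a, ha0, ?_⟩
  intro k _ _ ψ hψ
  letI := ψ.toAlgebra
  haveI : Nontrivial (k ⊗[R] T) := H k (isUnit_iff_ne_zero.mpr hψ)
  obtain ⟨𝔪, h𝔪⟩ := Ideal.exists_maximal (k ⊗[R] T)
  letI : Field ((k ⊗[R] T) ⧸ 𝔪) := Ideal.Quotient.field 𝔪
  haveI : Algebra.FiniteType k ((k ⊗[R] T) ⧸ 𝔪) := inferInstance
  haveI : Module.Finite k ((k ⊗[R] T) ⧸ 𝔪) := finite_of_finite_type_of_isJacobsonRing k _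
  haveI : Algebra.IsIntegral k ((k ⊗[R] T) ⧸ 𝔪) := Algebra.IsIntegral.of_finite k _
  haveI : Algebra.IsAlgebraic k ((k ⊗[R] T) ⧸ 𝔪) := Algebra.IsIntegral.isAlgebraic
  let l : ((k ⊗[R] T) ⧸ 𝔪) →ₐ[k] k := IsAlgClosed.lift
  let φ : T →ₐ[R] k := (l.restrictScalars R).comp
    (((Ideal.Quotient.mkₐ k 𝔪).restrictScalars R).comp Algebra.TensorProduct.includeRight)
  refine ⟨(φ.toRingHom).comp (algebraMap A' T), ?_, ?_⟩
  · ext r
    have h1 : (algebraMap A' T) (algebraMap R A' r) = algebraMap R T r :=
      (IsScalarTower.algebraMap_apply R A' T r).symm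
    simp only [RingHom.comp_apply, h1]
    exact φ.commutes r
  · have hu : IsUnit (algebraMap A' T a') := IsLocalization.Away.algebraMap_isUnit a'
    exact (hu.map φ.toRingHom).ne_zero

end Groth.Agent.Lib.Helper35.GeomIrr
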