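/-
Helper library (helper35): basic transfer lemmas for irreducibility of prime spectra.
-/
import Mathlib

set_option autoImplicit false
universe u v w

open TensorProduct

namespace Groth.Agent.Lib.Helper35.GeomIrr

/-- irreducibility of the spectrum transfers along ring isomorphisms. -/
theorem irr_of_ringEquiv {S : Type v} {S' : Type w} [CommRing S] [CommRing S'] (e : S ≃+* S')
    (h : IrreducibleSpace (PrimeSpectrum S)) : IrreducibleSpace (PrimeSpectrum S') :=
  (PrimeSpectrum.homeomorphOfRingEquiv e).irreducibleSpace_iff.mp h

/-- irreducibility descends along ring maps inducing a surjection on spectra. -/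
theorem irr_of_comap_surjective {S : Type v} {S' : Type w} [CommRing S] [CommRing S']
    (f : S →+* S') (hf : Function.Surjective (PrimeSpectrum.comap f))
    (h : IrreducibleSpace (PrimeSpectrum S')) : IrreducibleSpace (PrimeSpectrum S) :=
  hf.irreducibleSpace (PrimeSpectrum.continuous_comap f)

/-- irreducibility transfers along surjections with nil kernel. -/
theorem irr_of_surjective_of_ker_le_nilradical {S : Type v} {S' : Type w} [CommRing S]
    [CommRing S'] (f : S →+* S') (hf : Function.Surjective f)
    (hker : RingHom.ker f ≤ nilradical S)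
    (h : IrreducibleSpace (PrimeSpectrum S)) : IrreducibleSpace (PrimeSpectrum S') := by
  have hh : IsHomeomorph (PrimeSpectrum.comap f) :=
    PrimeSpectrum.isHomeomorph_comap f (fun x => ⟨1, one_pos, by
      obtain ⟨y, rfl⟩ := hf x
      exact ⟨y, by simp⟩⟩) hker
  exact (hh.homeomorph).irreducibleSpace_iff.mpr h

/-- a nonempty basic open of an irreducible spectrum is irreducible. -/
theorem irr_away_of_irr {S : Type v} [CommRing S] (g : S) (T : Type w) [CommRing T] [Algebra S T]
    [IsLocalization.Away g T] (hg : ¬ IsNilpotent g)
    (h : IrreducibleSpace (PrimeSpectrum S)) : IrreducibleSpace (PrimeSpectrum T) := by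
  haveI : Nontrivial T := by
    by_contra hT
    rw [not_nontrivial_iff_subsingleton] at hT
    apply hg
    have h0 : (algebraMap S T g) = 0 := Subsingleton.elim _ _
    have := (IsLocalization.map_eq_zero_iff (Submonoid.powers g) T g).mp h0
    obtain ⟨⟨_, n, rfl⟩, hm⟩ := this
    exact ⟨n + 1, by rw [pow_succ]; exact hm⟩
  haveI : Nonempty (PrimeSpectrum T) := inferInstance
  exact (PrimeSpectrum.localization_away_isOpenEmbedding T g).irreducibleSpace

/-- if `g` is a nonzerodivisor and `D(g)` is irreducible then so is the whole spectrum. -/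
theorem irr_of_irr_away {S : Type v} [CommRing S] (g : S) (T : Type w) [CommRing T] [Algebra S T]
    [IsLocalization.Away g T] (hg : ∀ x : S, g * x = 0 → x = 0)
    (h : IrreducibleSpace (PrimeSpectrum T)) : IrreducibleSpace (PrimeSpectrum S) := by
  rw [PrimeSpectrum.irreducibleSpace_iff_isPrime_nilradical] at h ⊢
  have hpow : ∀ (n : ℕ) (x : S), g ^ n * x = 0 → x = 0 := by
    intro n
    induction n with
    | zero => intro x hx; simpa using hx
    | succ n ih =>
      intro x hx
      apply ih
      apply hg
      rw [← mul_assoc, ← pow_succ']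
      exact hx
  have hnil : ∀ x : S, IsNilpotent (algebraMap S T x) → IsNilpotent x := by
    rintro x ⟨n, hn⟩
    rw [← map_pow] at hn
    obtain ⟨⟨_, m, rfl⟩, hm⟩ := (IsLocalization.map_eq_zero_iff (Submonoid.powers g) T _).mp hn
    exact ⟨n, hpow m _ hm⟩
  refine ⟨?_, ?_⟩
  · intro htop
    have h1 : (1 : S) ∈ nilradical S := by rw [htop]; trivial
    apply h.ne_top
    rw [Ideal.eq_top_iff_one]
    have := IsNilpotent.map (mem_nilradical.mp h1) (algebraMap S T)
    rwa [map_one] at this
  · intro x y hxy
    have h2 : algebraMap S T x * algebraMap S T y ∈ nilradical T := by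
      rw [← map_mul]
      exact IsNilpotent.map (mem_nilradical.mp hxy) (algebraMap S T)
    rcases h.mem_or_mem h2 with h3 | h3
    · exact Or.inl (mem_nilradical.mpr (hnil x (mem_nilradical.mp h3)))
    · exact Or.inr (mem_nilradical.mpr (hnil y (mem_nilradical.mp h3)))

end Groth.Agent.Lib.Helper35.GeomIrr
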