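import Mathlib
import Groth.Agent.Lib.Helper35.GeomIrrA

set_option autoImplicit false
universe u v w
open TensorProduct

namespace Groth.Agent.Lib.Helper35.GeomIrr

/-- irreducibility lifts along surjections with nil kernel. -/
theorem irr_of_irr_of_surjective_of_ker_le_nilradical {S : Type v} {S' : Type w} [CommRing S]
    [CommRing S'] (f : S →+* S') (hf : Function.Surjective f)
    (hker : RingHom.ker f ≤ nilradical S)
    (h : IrreducibleSpace (PrimeSpectrum S')) : IrreducibleSpace (PrimeSpectrum S) := by
  have hh : IsHomeomorph (PrimeSpectrum.comap f) :=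
    PrimeSpectrum.isHomeomorph_comap f (fun x => ⟨1, one_pos, by
      obtain ⟨y, rfl⟩ := hf x
      exact ⟨y, by simp⟩⟩) hker
  exact (hh.homeomorph).irreducibleSpace_iff.mp h

/-- base change of the quotient by the nilradical does not change irreducibility. -/
theorem irr_tensor_of_irr_tensor_quotient_nilradical {A : Type u} [CommRing A] (k : Type v)
    [CommRing k] [Algebra A k] (S : Type w) [CommRing S] [Algebra A S]
    (h : IrreducibleSpace (PrimeSpectrum (k ⊗[A] (S ⧸ nilradical S)))) :
    IrreducibleSpace (PrimeSpectrum (k ⊗[A] S)) := by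
  let g : S →ₐ[A] S ⧸ nilradical S := Ideal.Quotient.mkₐ A (nilradical S)
  have hg : Function.Surjective g := Ideal.Quotient.mk_surjective
  let f : k ⊗[A] S →ₐ[A] k ⊗[A] (S ⧸ nilradical S) :=
    Algebra.TensorProduct.map (AlgHom.id A k) g
  have hf : Function.Surjective f :=
    Algebra.TensorProduct.map_surjective (AlgHom.id A k) g Function.surjective_id hg
  have hker : RingHom.ker f.toRingHom ≤ nilradical (k ⊗[A] S) := by
    have h1 : RingHom.ker f.toRingHom = RingHom.ker f := rfl
    rw [h1, Algebra.TensorProduct.lTensor_ker g hg, Ideal.map_le_iff_le_comap]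
    intro x hx
    have hx' : x ∈ nilradical S := by
      have : g x = 0 := hx
      exact Ideal.Quotient.eq_zero_iff_mem.mp this
    rw [Ideal.mem_comap, mem_nilradical]
    exact (mem_nilradical.mp hx').map
      (Algebra.TensorProduct.includeRight : S →ₐ[A] k ⊗[A] S)
  exact irr_of_irr_of_surjective_of_ker_le_nilradical f.toRingHom hf hker h

end Groth.Agent.Lib.Helper35.GeomIrr
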