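import Mathlib
import Groth.Agent.Lib.Helper35.GeomIrrA

set_option autoImplicit false
universe u v w

open TensorProduct

namespace Groth.Agent.Lib.Helper35.GeomIrr

variable {A : Type u} [CommRing A] (k : Type v) [CommRing k] [Algebra A k]
  {R : Type w} [CommRing R] [Algebra A R] (g : R) (Rg : Type w) [CommRing Rg] [Algebra A Rg]
  [Algebra R Rg] [IsScalarTower A R Rg] [IsLocalization.Away g Rg]

theorem irr_tensor_of_irr_tensor_away
    (hg : ∀ y : k ⊗[A] R, ((1 : k) ⊗ₜ[A] g) * y = 0 → y = 0)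
    (h : IrreducibleSpace (PrimeSpectrum (k ⊗[A] Rg))) :
    IrreducibleSpace (PrimeSpectrum (k ⊗[A] R)) := by
  have e := IsLocalization.Away.tensorProductEquivTMulRight A k g Rg
  have h1 : IrreducibleSpace (PrimeSpectrum (Localization.Away ((1 : k) ⊗ₜ[A] g))) :=
    irr_of_ringEquiv e.toRingEquiv h
  exact irr_of_irr_away ((1 : k) ⊗ₜ[A] g) _ hg h1

theorem irr_tensor_away_of_irr_tensor
    (hg : ¬ IsNilpotent ((1 : k) ⊗ₜ[A] g : k ⊗[A] R))
    (h : IrreducibleSpace (PrimeSpectrum (k ⊗[A] R))) :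
    IrreducibleSpace (PrimeSpectrum (k ⊗[A] Rg)) := by
  have e := IsLocalization.Away.tensorProductEquivTMulRight A k g Rg
  have h1 : IrreducibleSpace (PrimeSpectrum (Localization.Away ((1 : k) ⊗ₜ[A] g))) :=
    irr_away_of_irr ((1 : k) ⊗ₜ[A] g) _ hg h
  exact irr_of_ringEquiv e.symm.toRingEquiv h1

/-- non-nilpotence of `1 ⊗ g` from nontriviality of the localized tensor product. -/
theorem not_isNilpotent_one_tmul_of_nontrivial [Nontrivial (k ⊗[A] Rg)] :
    ¬ IsNilpotent ((1 : k) ⊗ₜ[A] g : k ⊗[A] R) := by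
  rintro ⟨n, hn⟩
  have e := IsLocalization.Away.tensorProductEquivTMulRight A k g Rg
  haveI : Nontrivial (Localization.Away ((1 : k) ⊗ₜ[A] g)) := e.injective.nontrivial
  have hu : IsUnit (algebraMap (k ⊗[A] R) (Localization.Away ((1 : k) ⊗ₜ[A] g))
      ((1 : k) ⊗ₜ[A] g)) := IsLocalization.Away.algebraMap_isUnit _
  have h0 : (algebraMap (k ⊗[A] R) (Localization.Away ((1 : k) ⊗ₜ[A] g))
      ((1 : k) ⊗ₜ[A] g)) ^ n = 0 := by
    rw [← map_pow, hn, map_zero]
  exact (hu.pow n).ne_zero h0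

end Groth.Agent.Lib.Helper35.GeomIrr
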