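/-
Helper library (helper35): birational finite type extensions of domains become isomorphisms
after inverting one element.
-/
import Mathlib

set_option autoImplicit false
universe u v w

namespace Groth.Agent.Lib.Helper35.GeomIrr

variable {A : Type u} [CommRing A] {R : Type v} [CommRing R] [IsDomain R] [Algebra A R]
  {E : Type w} [CommRing E] [Algebra A E]

/-- Let `R ⊆ E` be domains with `E` generated over `A` by finitely many elements which are
fractions of elements of `R`.  Then there is `g ≠ 0` in `R` such that every element of `E`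
becomes an element of `R` after multiplication by a power of `g`. -/
theorem exists_pow_mul_mem_range (ι : R →ₐ[A] E) (F : Finset E)
    (hF : Algebra.adjoin A (F : Set E) = ⊤)
    (hfrac : ∀ e ∈ F, ∃ r : R, r ≠ 0 ∧ ∃ r' : R, ι r * e = ι r') :
    ∃ g : R, g ≠ 0 ∧ ∀ e : E, ∃ (N : ℕ) (r : R), ι r = ι g ^ N * e := by
  classical
  choose! d hd0 n hn using hfrac
  refine ⟨∏ e ∈ F, d e, Finset.prod_ne_zero_iff.mpr hd0, ?_⟩
  set g := ∏ e ∈ F, d e with hg
  let S : Subalgebra A E :=
    { carrier := {e | ∃ (N : ℕ) (r : R), ι r = ι g ^ N * e}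
      mul_mem' := by
        rintro x y ⟨N₁, r₁, h₁⟩ ⟨N₂, r₂, h₂⟩
        refine ⟨N₁ + N₂, r₁ * r₂, ?_⟩
        rw [map_mul, h₁, h₂, pow_add]; ring
      add_mem' := by
        rintro x y ⟨N₁, r₁, h₁⟩ ⟨N₂, r₂, h₂⟩
        refine ⟨N₁ + N₂, g ^ N₂ * r₁ + g ^ N₁ * r₂, ?_⟩
        rw [map_add, map_mul, map_mul, h₁, h₂, pow_add, map_pow, map_pow]; ring
      algebraMap_mem' := by
        intro c
        exact ⟨0, algebraMap A R c, by simp⟩ }
  have hS : S = ⊤ := by
    rw [eq_top_iff, ← hF, Algebra.adjoin_le_iff]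
    intro e he
    have he' : e ∈ F := he
    refine ⟨1, (∏ e' ∈ F.erase e, d e') * n e, ?_⟩
    rw [pow_one, map_mul, ← hn e he', hg, ← Finset.mul_prod_erase F d he', map_mul]
    ring
  intro e
  have : e ∈ S := by rw [hS]; trivial
  exact this

/-- The localization of `E` at `ι g` is also the localization of `R` at `g`. -/
theorem isLocalization_away_of_forall_pow_mul_mem_range [IsDomain E] (ι : R →ₐ[A] E)
    (hι : Function.Injective ι) (g : R) (hg : g ≠ 0)
    (H : ∀ e : E, ∃ (N : ℕ) (r : R), ι r = ι g ^ N * e)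
    (T : Type*) [CommRing T] [Algebra E T] [IsLocalization.Away (ι g) T] [Algebra R T]
    (hRT : algebraMap R T = (algebraMap E T).comp ι.toRingHom) :
    IsLocalization.Away g T := by
  have hιg : ι g ≠ 0 := fun h => hg (hι (by rw [h, map_zero]))
  have hle : Submonoid.powers (ι g) ≤ nonZeroDivisors E :=
    Submonoid.powers_le.mpr (mem_nonZeroDivisors_of_ne_zero hιg)
  have hinjT : Function.Injective (algebraMap E T) := IsLocalization.injective T hle
  have hmap : ∀ r : R, algebraMap R T r = algebraMap E T (ι r) := by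
    intro r; rw [hRT]; rfl
  refine ⟨?_, ?_, ?_⟩
  · rintro ⟨_, n, rfl⟩
    rw [map_pow, hmap]
    exact (IsLocalization.Away.algebraMap_isUnit (ι g)).pow n
  · intro z
    obtain ⟨⟨e, ⟨_, n, rfl⟩⟩, hz⟩ := IsLocalization.surj (Submonoid.powers (ι g)) z
    obtain ⟨N, r, hr⟩ := H e
    refine ⟨⟨r, ⟨g ^ (n + N), n + N, rfl⟩⟩, ?_⟩
    simp only at hz ⊢
    rw [hmap, hmap, hr, map_mul, ← hz]
    simp only [map_pow, map_mul, pow_add]
    ring
  · intro x y hxy
    rw [hmap, hmap] at hxy
    have := hι (hinjT hxy)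
    exact ⟨1, by rw [this]⟩

end Groth.Agent.Lib.Helper35.GeomIrr
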