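/-
Helper library (helper35): fibres of a hypersurface `A[X]/(Q)` with `Q` absolutely irreducible.
-/
import Mathlib
import Groth.Agent.Lib.Helper37.IrrSpread

set_option autoImplicit false
universe u
open TensorProduct

namespace Groth.Agent.Lib.Helper35.GeomIrr

variable {A : Type u} [CommRing A]

/-- the fibre of `A[X]/(Q)` at a field valued point where `Q` stays irreducible is integral. -/
theorem irr_tensor_quotient_span_of_irreducible {σ : Type} (Q : MvPolynomial σ A)
    (k : Type u) [Field k] [Algebra A k]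
    (h : Irreducible (MvPolynomial.map (algebraMap A k) Q)) :
    IrreducibleSpace (PrimeSpectrum (k ⊗[A] (MvPolynomial σ A ⧸ Ideal.span {Q}))) := by
  let T := MvPolynomial σ A
  let e₁ : k ⊗[A] (T ⧸ Ideal.span {Q}) ≃ₐ[k]
      (k ⊗[A] T) ⧸ (Ideal.span {Q}).map (Algebra.TensorProduct.includeRight (R := A) (A := k)) :=
    Algebra.TensorProduct.tensorQuotientEquiv (R := A) k T k (Ideal.span {Q})
  let e₂ : k ⊗[A] T ≃ₐ[k] MvPolynomial σ k := MvPolynomial.algebraTensorAlgEquiv A k
  have hI : Ideal.span {MvPolynomial.map (algebraMap A k) Q} =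
      ((Ideal.span {Q}).map (Algebra.TensorProduct.includeRight (R := A) (A := k))).map
        (e₂ : k ⊗[A] T →+* MvPolynomial σ k) := by
    rw [Ideal.map_span, Ideal.map_span, Set.image_singleton, Set.image_singleton]
    congr 2
    show _ = e₂ ((1 : k) ⊗ₜ[A] Q)
    rw [MvPolynomial.algebraTensorAlgEquiv_tmul, one_smul]
  let e₃ : ((k ⊗[A] T) ⧸ (Ideal.span {Q}).map
      (Algebra.TensorProduct.includeRight (R := A) (A := k))) ≃+*
      (MvPolynomial σ k ⧸ Ideal.span {MvPolynomial.map (algebraMap A k) Q}) :=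
    Ideal.quotientEquiv _ _ e₂.toRingEquiv hI
  have hprime : (Ideal.span {MvPolynomial.map (algebraMap A k) Q}).IsPrime :=
    (Ideal.span_singleton_prime h.ne_zero).mpr h.prime
  haveI : IsDomain (MvPolynomial σ k ⧸ Ideal.span {MvPolynomial.map (algebraMap A k) Q}) :=
    Ideal.Quotient.isDomain _
  have h0 : IrreducibleSpace (PrimeSpectrum
      (MvPolynomial σ k ⧸ Ideal.span {MvPolynomial.map (algebraMap A k) Q})) := inferInstance
  exact (PrimeSpectrum.homeomorphOfRingEquiv (e₁.toRingEquiv.trans e₃)).irreducibleSpace_iff.mpr h0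

end Groth.Agent.Lib.Helper35.GeomIrr
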