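/-
Helper library (helper35): spreading geometric irreducibility from a birational hypersurface
model (Stacks 0559, algebraic core).
-/
import Mathlib
import Groth.Agent.Lib.Helper35.GeomIrrA2
import Groth.Agent.Lib.Helper35.GeomIrrB
import Groth.Agent.Lib.Helper35.GeomIrrC
import Groth.Agent.Lib.Helper35.GeomIrrD1
import Groth.Agent.Lib.Helper23.GenericDenseAlg

set_option autoImplicit false
set_option maxHeartbeats 1000000
universe u
open TensorProduct

namespace Groth.Agent.Lib.Helper35.GeomIrr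

variable {A : Type u} [CommRing A] [IsDomain A] {B : Type u} [CommRing B] [IsDomain B]
  [Algebra A B] [Algebra.FiniteType A B]

theorem exists_forall_irr_of_model {σ : Type} [Finite σ]
    (L : Type u) [Field L] [Algebra B L] [Algebra A L] [IsScalarTower A B L]
    (hinj : Function.Injective (algebraMap A B)) (hinjBL : Function.Injective (algebraMap B L))
    (Q : MvPolynomial σ A) (ev : MvPolynomial σ A →ₐ[A] L)
    (hker : ∀ q, ev q = 0 ↔ Q ∣ q)
    (hirr : Irreducible (MvPolynomial.map (algebraMap A (AlgebraicClosure (FractionRing A))) Q))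
    (Bgen : Finset B) (hBgen : Algebra.adjoin A (Bgen : Set B) = ⊤)
    (hfrac : ∀ b ∈ Bgen, ∃ u v, ev v ≠ 0 ∧ algebraMap B L b * ev v = ev u)
    (hfracX : ∀ i : σ, ∃ b : B, b ≠ 0 ∧ ∃ b' : B,
      algebraMap B L b * ev (MvPolynomial.X i) = algebraMap B L b') :
    ∃ a : A, a ≠ 0 ∧ ∀ (k : Type u) [Field k] (ψ : A →+* k), ψ a ≠ 0 →
      (letI := ψ.toAlgebra; IrreducibleSpace (PrimeSpectrum (k ⊗[A] B))) := by
  classical
  have hinjL : Function.Injective (algebraMap A L) := by
    rw [IsScalarTower.algebraMap_eq A B L]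
    exact hinjBL.comp hinj
  -- the hypersurface ring and its embedding
  let H := MvPolynomial σ A ⧸ Ideal.span {Q}
  have hkerle : ∀ q ∈ Ideal.span {Q}, ev q = 0 := by
    intro q hq
    rw [hker]
    exact Ideal.mem_span_singleton.mp hq
  let evH : H →ₐ[A] L := Ideal.Quotient.liftₐ (Ideal.span {Q}) ev hkerle
  have hevH_mk : ∀ q, evH (Ideal.Quotient.mk _ q) = ev q := fun q => rfl
  have hevH : Function.Injective evH := by
    rw [injective_iff_map_eq_zero]
    intro x hx
    obtain ⟨q, rfl⟩ := Ideal.Quotient.mk_surjective x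
    rw [hevH_mk] at hx
    rw [Ideal.Quotient.eq_zero_iff_mem, Ideal.mem_span_singleton]
    exact (hker q).mp hx
  haveI : IsDomain H := hevH.isDomain evH.toRingHom
  -- generators in `L`
  let SL : Set L := (algebraMap B L '' (Bgen : Set B)) ∪
    Set.range (fun i : σ => ev (MvPolynomial.X i))
  have hSLfin : SL.Finite :=
    (Bgen.finite_toSet.image _).union (Set.finite_range _)
  let E : Subalgebra A L := Algebra.adjoin A SL
  haveI : Algebra.FiniteType A E :=
    (Subalgebra.fg_iff_finiteType E).mp ⟨hSLfin.toFinset, by simp [E]⟩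
  have hBE : ∀ b : B, algebraMap B L b ∈ E := by
    intro b
    have h1 : (⊤ : Subalgebra A B).map (IsScalarTower.toAlgHom A B L) ≤ E := by
      rw [← hBgen, AlgHom.map_adjoin]
      exact Algebra.adjoin_mono Set.subset_union_left
    exact h1 ⟨b, trivial, rfl⟩
  have hHE : ∀ x : H, evH x ∈ E := by
    intro x
    obtain ⟨q, rfl⟩ := Ideal.Quotient.mk_surjective x
    rw [hevH_mk]
    have h1 : (⊤ : Subalgebra A (MvPolynomial σ A)).map ev ≤ E := by
      rw [← MvPolynomial.adjoin_range_X, AlgHom.map_adjoin]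
      apply Algebra.adjoin_mono
      rintro _ ⟨_, ⟨i, rfl⟩, rfl⟩
      exact Or.inr ⟨i, rfl⟩
    exact h1 ⟨q, trivial, rfl⟩
  let ιB : B →ₐ[A] E := (IsScalarTower.toAlgHom A B L).codRestrict E hBE
  let ιH : H →ₐ[A] E := evH.codRestrict E hHE
  have hιB : Function.Injective ιB := by
    intro x y hxy
    apply hinjBL
    exact congrArg Subtype.val hxy
  have hιH : Function.Injective ιH := by
    intro x y hxy
    apply hevH
    exact congrArg Subtype.val hxy
  -- finite generating set of `E`
  let F : Finset E := (hSLfin.preimage (f := ((↑) : E → L))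
    Subtype.val_injective.injOn).toFinset
  have hF : Algebra.adjoin A (F : Set E) = ⊤ := by
    have : (F : Set E) = ((↑) : E → L) ⁻¹' SL := by simp [F]
    rw [this]
    exact Algebra.adjoin_adjoin_coe_preimage
  have hFmem : ∀ e ∈ F, (e : L) ∈ SL := by
    intro e he
    simpa [F] using he
  -- birationality
  obtain ⟨gB, hgB0, HB⟩ := exists_pow_mul_mem_range ιB F hF (by
    intro e he
    rcases hFmem e he with ⟨b, hb, hbe⟩ | ⟨i, hi⟩
    · refine ⟨1, one_ne_zero, b, ?_⟩
      apply Subtype.ext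
      show algebraMap B L 1 * (e : L) = algebraMap B L b
      rw [map_one, one_mul, hbe]
    · obtain ⟨b, hb0, b', hbb'⟩ := hfracX i
      refine ⟨b, hb0, b', ?_⟩
      apply Subtype.ext
      show algebraMap B L b * (e : L) = algebraMap B L b'
      rw [← hi]; exact hbb')
  obtain ⟨gH, hgH0, HH⟩ := exists_pow_mul_mem_range ιH F hF (by
    intro e he
    rcases hFmem e he with ⟨b, hb, hbe⟩ | ⟨i, hi⟩
    · obtain ⟨u, v, hv, huv⟩ := hfrac b hb
      refine ⟨Ideal.Quotient.mk _ v, ?_, Ideal.Quotient.mk _ u, ?_⟩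
      · intro h0
        apply hv
        rw [← hevH_mk, h0, map_zero]
      · apply Subtype.ext
        show ev v * (e : L) = ev u
        rw [← hbe, mul_comm]; exact huv
    · refine ⟨1, one_ne_zero, Ideal.Quotient.mk _ (MvPolynomial.X i), ?_⟩
      apply Subtype.ext
      show evH 1 * (e : L) = ev (MvPolynomial.X i)
      rw [map_one, one_mul, ← hi])
  -- the localizations
  let TB := Localization.Away (ιB gB)
  let TH := Localization.Away (ιH gH)
  letI algBTB : Algebra B TB := ((algebraMap E TB).comp ιB.toRingHom).toAlgebra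
  haveI : IsScalarTower A B TB := IsScalarTower.of_algebraMap_eq (fun x => by
    show algebraMap A TB x = algebraMap E TB (ιB (algebraMap A B x))
    rw [ιB.commutes, ← IsScalarTower.algebraMap_apply])
  haveI locB : IsLocalization.Away gB TB :=
    isLocalization_away_of_forall_pow_mul_mem_range ιB hιB gB hgB0 HB TB rfl
  letI algHTH : Algebra H TH := ((algebraMap E TH).comp ιH.toRingHom).toAlgebra
  haveI : IsScalarTower A H TH := by
    have h : @IsScalarTower A H TH Algebra.toSMul Algebra.toSMul Algebra.toSMul :=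
      IsScalarTower.of_algebraMap_eq (fun x => by
        show algebraMap A TH x = algebraMap E TH (ιH (algebraMap A H x))
        rw [ιH.commutes, ← IsScalarTower.algebraMap_apply])
    exact h
  haveI locH : IsLocalization.Away gH TH :=
    isLocalization_away_of_forall_pow_mul_mem_range ιH hιH gH hgH0 HH TH rfl
  have hιgB : ιB gB ≠ 0 := fun h => hgB0 (hιB (by rw [h, map_zero]))
  have hιgH : ιH gH ≠ 0 := fun h => hgH0 (hιH (by rw [h, map_zero]))
  haveI : Algebra.FiniteType E TB :=
    IsLocalization.finiteType_of_monoid_fg (Submonoid.powers (ιB gB)) TB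
  haveI : Algebra.FiniteType A TB := Algebra.FiniteType.trans (S := E) inferInstance inferInstance
  haveI : Algebra.FiniteType E TH :=
    IsLocalization.finiteType_of_monoid_fg (Submonoid.powers (ιH gH)) TH
  haveI : Algebra.FiniteType A TH := Algebra.FiniteType.trans (S := E) inferInstance inferInstance
  have hinjE : Function.Injective (algebraMap A E) := by
    intro x y hxy
    apply hinjL
    exact congrArg Subtype.val hxy
  have hinjTB : Function.Injective (algebraMap A TB) := by
    rw [IsScalarTower.algebraMap_eq A E TB]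
    exact (IsLocalization.injective TB (Submonoid.powers_le.mpr
      (mem_nonZeroDivisors_of_ne_zero hιgB))).comp hinjE
  have hinjTH : Function.Injective (algebraMap A TH) := by
    rw [IsScalarTower.algebraMap_eq A E TH]
    exact (IsLocalization.injective TH (Submonoid.powers_le.mpr
      (mem_nonZeroDivisors_of_ne_zero hιgH))).comp hinjE
  -- generic elements
  obtain ⟨a₁, ha₁, h₁⟩ :=
    Groth.Agent.Lib.Helper37.IrrSpread.exists_ne_zero_forall_irreducible Q hirr
  obtain ⟨a₂, ha₂, h₂⟩ := exists_nontrivial_tensor (R := A) (B := TH) hinjTH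
  obtain ⟨a₃, ha₃, h₃⟩ := Groth.Agent.Lib.Helper23.exists_nzd_tensor (R := A) (B := E) (ιH gH)
    (mem_nonZeroDivisors_of_ne_zero hιgH)
  obtain ⟨a₄, ha₄, h₄⟩ := exists_nontrivial_tensor (R := A) (B := TB) hinjTB
  obtain ⟨a₅, ha₅, h₅⟩ := Groth.Agent.Lib.Helper23.exists_nzd_tensor (R := A) (B := B) gB
    (mem_nonZeroDivisors_of_ne_zero hgB0)
  refine ⟨a₁ * a₂ * a₃ * a₄ * a₅,
    mul_ne_zero (mul_ne_zero (mul_ne_zero (mul_ne_zero ha₁ ha₂) ha₃) ha₄) ha₅, ?_⟩
  intro k _ ψ hψ
  letI := ψ.toAlgebra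
  simp only [map_mul] at hψ
  have hψ₅ : ψ a₅ ≠ 0 := right_ne_zero_of_mul hψ
  have hψ₄ : ψ a₄ ≠ 0 := right_ne_zero_of_mul (left_ne_zero_of_mul hψ)
  have hψ₃ : ψ a₃ ≠ 0 := right_ne_zero_of_mul (left_ne_zero_of_mul (left_ne_zero_of_mul hψ))
  have hψ₂ : ψ a₂ ≠ 0 :=
    right_ne_zero_of_mul (left_ne_zero_of_mul (left_ne_zero_of_mul (left_ne_zero_of_mul hψ)))
  have hψ₁ : ψ a₁ ≠ 0 :=
    left_ne_zero_of_mul (left_ne_zero_of_mul (left_ne_zero_of_mul (left_ne_zero_of_mul hψ)))
  -- step 1: the hypersurface fibre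
  have s1 : IrreducibleSpace (PrimeSpectrum (k ⊗[A] H)) :=
    irr_tensor_quotient_span_of_irreducible Q k (h₁ k ψ hψ₁)
  -- step 2: localize `H`
  haveI : Nontrivial (k ⊗[A] TH) := h₂ k (isUnit_iff_ne_zero.mpr hψ₂)
  have s2 : IrreducibleSpace (PrimeSpectrum (k ⊗[A] TH)) :=
    irr_tensor_away_of_irr_tensor k gH TH (not_isNilpotent_one_tmul_of_nontrivial k gH TH) s1
  -- step 3: globalize to `E`
  have s3 : IrreducibleSpace (PrimeSpectrum (k ⊗[A] E)) :=
    irr_tensor_of_irr_tensor_away k (ιH gH) TH (h₃ k (isUnit_iff_ne_zero.mpr hψ₃)) s2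
  -- step 4: localize `E`
  haveI : Nontrivial (k ⊗[A] TB) := h₄ k (isUnit_iff_ne_zero.mpr hψ₄)
  have s4 : IrreducibleSpace (PrimeSpectrum (k ⊗[A] TB)) :=
    irr_tensor_away_of_irr_tensor k (ιB gB) TB
      (not_isNilpotent_one_tmul_of_nontrivial k (ιB gB) TB) s3
  -- step 5: globalize to `B`
  exact irr_tensor_of_irr_tensor_away k gB TB (h₅ k (isUnit_iff_ne_zero.mpr hψ₅)) s4

end Groth.Agent.Lib.Helper35.GeomIrr
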