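/-
Helper library (helper35): a finitely generated field extension of a perfect field is the
fraction field of a hypersurface `Ω[X_1..X_r][T]/(P)` with `P` monic in `T`.
-/
import Mathlib

set_option autoImplicit false
set_option maxHeartbeats 1000000
universe u
open Polynomial

namespace Groth.Agent.Lib.Helper35.GeomIrr

variable (Ω : Type u) [Field Ω] [PerfectField Ω] (L : Type u) [Field L] [Algebra Ω L]
  [Algebra.EssFiniteType Ω L]

/-- the evaluation ring hom `Ω[X_1..X_r][T] → L`. -/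
noncomputable def evp (Ω : Type u) [CommRing Ω] {L : Type u} [CommRing L] [Algebra Ω L]
    {r : ℕ} (s : Fin r → L) (θ : L) :
    Polynomial (MvPolynomial (Fin r) Ω) →+* L :=
  Polynomial.eval₂RingHom (MvPolynomial.aeval s : MvPolynomial (Fin r) Ω →ₐ[Ω] L).toRingHom θ

theorem exists_hypersurface_model :
    ∃ (r : ℕ) (s : Fin r → L) (θ : L) (P : Polynomial (MvPolynomial (Fin r) Ω)),
      P.Monic ∧ (∀ q, evp Ω s θ q = 0 ↔ P ∣ q) ∧
      (∀ y : L, ∃ u v, evp Ω s θ v ≠ 0 ∧ y * evp Ω s θ v = evp Ω s θ u) := by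
  classical
  obtain ⟨s₀, hs₀, hsep⟩ := exists_isTranscendenceBasis_and_isSeparable_of_perfectField Ω L
  let r := s₀.card
  let eq : s₀ ≃ Fin r := s₀.equivFin
  let s : Fin r → L := fun i => (eq.symm i : L)
  have hrange : Set.range s = (s₀ : Set L) := by
    ext x
    constructor
    · rintro ⟨i, rfl⟩; exact (eq.symm i).2
    · intro hx; exact ⟨eq ⟨x, hx⟩, by simp [s]⟩
  have hstb : IsTranscendenceBasis Ω s := by
    have : s = ((↑) : s₀ → L) ∘ eq.symm := rfl
    rw [this]
    exact hs₀.comp_equiv eq.symm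
  let D₀ := MvPolynomial (Fin r) Ω
  let φ : D₀ →ₐ[Ω] L := MvPolynomial.aeval s
  have hφ : Function.Injective φ := hstb.1
  letI algD : Algebra D₀ L := φ.toRingHom.toAlgebra
  haveI : IsScalarTower Ω D₀ L := IsScalarTower.of_algebraMap_eq (fun x => (φ.commutes x).symm)
  haveI : Module.IsTorsionFree D₀ L := by
    rw [Module.isTorsionFree_iff_algebraMap_injective]
    exact hφ
  -- `L` is algebraic over `D₀`
  haveI halgD : Algebra.IsAlgebraic D₀ L := by
    haveI := hstb.isAlgebraic
    let f : D₀ →+* Algebra.adjoin Ω (Set.range s) := hstb.1.aevalEquiv.toRingEquiv.toRingHom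
    refine Algebra.IsAlgebraic.of_ringHom_of_comp_eq f (RingHom.id L)
      hstb.1.aevalEquiv.surjective Function.injective_id ?_
    ext x
    · simp [f, RingHom.algebraMap_toAlgebra, φ]
      exact (MvPolynomial.aeval_C _ _).symm
    · simp [f, RingHom.algebraMap_toAlgebra, φ]
      exact (MvPolynomial.aeval_X _ _).symm
  -- the primitive element
  let E := IntermediateField.adjoin Ω (s₀ : Set L)
  haveI : Algebra.EssFiniteType E L := Algebra.EssFiniteType.of_comp Ω E L
  haveI : Algebra.IsAlgebraic E L := Algebra.IsSeparable.isAlgebraic E L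
  haveI : Module.Finite E L := Algebra.finite_of_essFiniteType_of_isAlgebraic
  obtain ⟨α, hα⟩ := Field.exists_primitive_element E L
  obtain ⟨d, hd0, hint⟩ :=
    (Algebra.IsAlgebraic.isAlgebraic (R := D₀) α).exists_integral_multiple
  have hθdef : d • α = φ d * α := Algebra.smul_def d α
  set θ : L := d • α with hθ
  have hφd : φ d ≠ 0 := fun h => hd0 (hφ (by rw [h, map_zero]))
  let P := minpoly D₀ θ
  have hPm : P.Monic := minpoly.monic hint
  have hevp : ∀ q : Polynomial D₀, evp Ω s θ q = Polynomial.aeval θ q := fun q => rfl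
  have hker : ∀ q : Polynomial D₀, evp Ω s θ q = 0 ↔ P ∣ q := fun q => by
    rw [hevp]
    exact minpoly.isIntegrallyClosed_dvd_iff hint q
  refine ⟨r, s, θ, P, hPm, hker, ?_⟩
  -- the subfield of fractions
  let Fr₀ : Subalgebra Ω L :=
    { carrier := {y | ∃ u v, evp Ω s θ v ≠ 0 ∧ y * evp Ω s θ v = evp Ω s θ u}
      mul_mem' := by
        rintro y₁ y₂ ⟨u₁, v₁, hv₁, h₁⟩ ⟨u₂, v₂, hv₂, h₂⟩
        refine ⟨u₁ * u₂, v₁ * v₂, ?_, ?_⟩
        · rw [map_mul]; exact mul_ne_zero hv₁ hv₂
        · rw [map_mul, map_mul, ← h₁, ← h₂]; ring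
      add_mem' := by
        rintro y₁ y₂ ⟨u₁, v₁, hv₁, h₁⟩ ⟨u₂, v₂, hv₂, h₂⟩
        refine ⟨u₁ * v₂ + u₂ * v₁, v₁ * v₂, ?_, ?_⟩
        · rw [map_mul]; exact mul_ne_zero hv₁ hv₂
        · rw [map_mul, map_add, map_mul, map_mul, ← h₁, ← h₂]; ring
      algebraMap_mem' := by
        intro c
        refine ⟨Polynomial.C (MvPolynomial.C c), 1, ?_, ?_⟩
        · rw [map_one]; exact one_ne_zero
        · rw [map_one, mul_one]
          simp [evp] }
  let Fr : IntermediateField Ω L := Fr₀.toIntermediateField (by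
    rintro y ⟨u, v, hv, h⟩
    by_cases hy : y = 0
    · subst hy
      rw [inv_zero]
      exact Fr₀.zero_mem
    · have hu : evp Ω s θ u ≠ 0 := by
        rw [← h]; exact mul_ne_zero hy hv
      refine ⟨v, u, hu, ?_⟩
      rw [← h]
      field_simp)
  have hsFr : ∀ i, s i ∈ Fr := by
    intro i
    refine ⟨Polynomial.C (MvPolynomial.X i), 1, ?_, ?_⟩
    · rw [map_one]; exact one_ne_zero
    · rw [map_one, mul_one]
      simp [evp]
  have hθFr : θ ∈ Fr := by
    refine ⟨Polynomial.X, 1, ?_, ?_⟩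
    · rw [map_one]; exact one_ne_zero
    · rw [map_one, mul_one]
      simp [evp]
  have hφFr : ∀ p : D₀, φ p ∈ Fr := by
    intro p
    refine ⟨Polynomial.C p, 1, ?_, ?_⟩
    · rw [map_one]; exact one_ne_zero
    · rw [map_one, mul_one]
      simp [evp, φ]
  have hs₀Fr : (s₀ : Set L) ⊆ Fr := by
    rw [← hrange]
    rintro _ ⟨i, rfl⟩
    exact hsFr i
  have hαFr : α ∈ Fr := by
    have h1 : α = θ * (φ d)⁻¹ := by
      rw [hθdef]; field_simp
    rw [h1]
    exact Fr.mul_mem hθFr (Fr.inv_mem (hφFr d))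
  have htop : Fr = ⊤ := by
    rw [eq_top_iff]
    have h1 : IntermediateField.adjoin Ω ((s₀ : Set L) ∪ {α}) ≤ Fr := by
      rw [IntermediateField.adjoin_le_iff]
      rintro x (hx | hx)
      · exact hs₀Fr hx
      · rw [Set.mem_singleton_iff] at hx
        rw [hx]; exact hαFr
    refine le_trans ?_ h1
    rw [← IntermediateField.adjoin_adjoin_left, hα]
    intro x _
    trivial
  intro y
  have : y ∈ Fr := by rw [htop]; trivial
  exact this

end Groth.Agent.Lib.Helper35.GeomIrr
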