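/-
Helper library (helper35): descent of finitely many data from a field `Ω` to a finitely generated
subalgebra; compatibility of `optionEquivLeft` with coefficient maps; monic division descent.
-/
import Mathlib

set_option autoImplicit false
universe u v
open TensorProduct

namespace Groth.Agent.Lib.Helper35.GeomIrr

section Tensor

variable {A : Type u} [CommRing A] {Ω : Type u} [CommRing Ω] [Algebra A Ω]
  {B : Type u} [CommRing B] [Algebra A B]

/-- the comparison map `A' ⊗ B → Ω ⊗ B` for a subalgebra `A'` of `Ω`. -/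
noncomputable abbrev jmap (A' : Subalgebra A Ω) : (A' ⊗[A] B) →ₐ[A] (Ω ⊗[A] B) :=
  Algebra.TensorProduct.map A'.val (AlgHom.id A B)

theorem exists_finset_mem_range_jmap (x : Ω ⊗[A] B) :
    ∃ F : Finset Ω, ∀ A' : Subalgebra A Ω, (F : Set Ω) ⊆ A' →
      x ∈ Set.range (jmap (B := B) A') := by
  classical
  induction x using TensorProduct.induction_on with
  | zero => exact ⟨∅, fun A' _ => ⟨0, map_zero _⟩⟩
  | tmul ω b =>
    refine ⟨{ω}, fun A' hA' => ⟨(⟨ω, hA' (by simp)⟩ : A') ⊗ₜ[A] b, ?_⟩⟩
    simp [jmap]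
  | add x y hx hy =>
    obtain ⟨F₁, h₁⟩ := hx
    obtain ⟨F₂, h₂⟩ := hy
    refine ⟨F₁ ∪ F₂, fun A' hA' => ?_⟩
    obtain ⟨x', hx'⟩ := h₁ A' (fun z hz => hA' (by simp [hz]))
    obtain ⟨y', hy'⟩ := h₂ A' (fun z hz => hA' (by simp [hz]))
    exact ⟨x' + y', by rw [map_add, hx', hy']⟩

end Tensor

section Poly

variable {A : Type u} [CommRing A] {Ω : Type u} [CommRing Ω] [Algebra A Ω]

theorem exists_finset_mem_range_map_mv {σ : Type v} (p : MvPolynomial σ Ω) :
    ∃ F : Finset Ω, ∀ A' : Subalgebra A Ω, (F : Set Ω) ⊆ A' →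
      p ∈ Set.range (MvPolynomial.map (A'.val : A' →+* Ω)) := by
  classical
  refine ⟨p.coeffs, fun A' hA' => ?_⟩
  rw [MvPolynomial.mem_range_map_iff_coeffs_subset]
  intro c hc
  exact ⟨⟨c, hA' hc⟩, rfl⟩

theorem exists_finset_mem_range_map_poly {σ : Type v} (p : Polynomial (MvPolynomial σ Ω)) :
    ∃ F : Finset Ω, ∀ A' : Subalgebra A Ω, (F : Set Ω) ⊆ A' →
      p ∈ Set.range (Polynomial.map (MvPolynomial.map (A'.val : A' →+* Ω))) := by
  classical
  have h : ∀ n : ℕ, ∃ F : Finset Ω, ∀ A' : Subalgebra A Ω, (F : Set Ω) ⊆ A' →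
      p.coeff n ∈ Set.range (MvPolynomial.map (A'.val : A' →+* Ω)) :=
    fun n => exists_finset_mem_range_map_mv (A := A) (p.coeff n)
  choose Fn hFn using h
  refine ⟨p.support.biUnion Fn, fun A' hA' => ?_⟩
  have hl : p ∈ Polynomial.lifts (MvPolynomial.map (A'.val : A' →+* Ω)) := by
    rw [Polynomial.lifts_iff_coeff_lifts]
    intro n
    by_cases hn : n ∈ p.support
    · exact hFn n A' (fun z hz => hA' (by
        simp only [Finset.coe_biUnion, Set.mem_iUnion]
        exact ⟨n, hn, hz⟩))
    · rw [Polynomial.notMem_support_iff.mp hn]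
      exact ⟨0, map_zero _⟩
  exact (Polynomial.mem_lifts p).mp hl

end Poly

section OptionEquiv

variable {R : Type u} {S : Type v} [CommRing R] [CommRing S] (f : R →+* S) (S₁ : Type*)

theorem optionEquivLeft_map (q : MvPolynomial (Option S₁) R) :
    MvPolynomial.optionEquivLeft S S₁ (MvPolynomial.map f q) =
      Polynomial.map (MvPolynomial.map f) (MvPolynomial.optionEquivLeft R S₁ q) := by
  induction q using MvPolynomial.induction_on with
  | C a => simp
  | add p q hp hq => simp only [map_add, hp, hq, Polynomial.map_add]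
  | mul_X p i hp =>
    rw [map_mul, map_mul, hp, map_mul, Polynomial.map_mul]
    congr 1
    cases i with
    | none => simp
    | some i => simp

theorem optionEquivLeft_symm_map (p : Polynomial (MvPolynomial S₁ R)) :
    (MvPolynomial.optionEquivLeft S S₁).symm (Polynomial.map (MvPolynomial.map f) p) =
      MvPolynomial.map f ((MvPolynomial.optionEquivLeft R S₁).symm p) := by
  apply (MvPolynomial.optionEquivLeft S S₁).injective
  rw [AlgEquiv.apply_symm_apply, optionEquivLeft_map, AlgEquiv.apply_symm_apply]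

end OptionEquiv

section Monic

variable {R : Type u} {S : Type v} [CommRing R] [CommRing S]

theorem dvd_of_map_dvd_map_of_monic (f : R →+* S) (hf : Function.Injective f)
    {P q : Polynomial R} (hP : P.Monic)
    (h : Polynomial.map f P ∣ Polynomial.map f q) : P ∣ q := by
  rw [← Polynomial.modByMonic_eq_zero_iff_dvd hP]
  have h1 : Polynomial.map f (q %ₘ P) = 0 := by
    rw [Polynomial.map_modByMonic f hP,
      Polynomial.modByMonic_eq_zero_iff_dvd (hP.map f)]
    exact h
  exact (Polynomial.map_eq_zero_iff hf).mp h1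

end Monic

end Groth.Agent.Lib.Helper35.GeomIrr
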