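/-
Helper library (helper35): irreducibility over the algebraic closure of `Frac A` transports to
the algebraic closure of `Frac A'` for a subalgebra `A'` of the former.
-/
import Mathlib

set_option autoImplicit false
universe u v

namespace Groth.Agent.Lib.Helper35.GeomIrr

variable {A : Type u} [CommRing A] [IsDomain A]

theorem irreducible_map_algebraicClosure_of_irreducible_map_val
    (A' : Subalgebra A (AlgebraicClosure (FractionRing A))) {σ : Type v}
    (Q' : MvPolynomial σ A')
    (h : Irreducible (MvPolynomial.map
      (A'.val : A' →+* AlgebraicClosure (FractionRing A)) Q')) :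
    Irreducible (MvPolynomial.map (algebraMap A' (AlgebraicClosure (FractionRing A'))) Q') := by
  let Ω := AlgebraicClosure (FractionRing A)
  let K := FractionRing A
  let K' := FractionRing A'
  have hval : Function.Injective (A'.val : A' →+* Ω) := Subtype.val_injective
  letI algK'Ω : Algebra K' Ω := (IsFractionRing.lift (K := K') hval).toAlgebra
  haveI : IsScalarTower A' K' Ω := IsScalarTower.of_algebraMap_eq (fun x => by
    show (A'.val : A' →+* Ω) x = IsFractionRing.lift hval (algebraMap A' K' x)
    rw [IsFractionRing.lift_algebraMap])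
  have hAA' : Function.Injective (algebraMap A A') := by
    intro x y hxy
    have h1 : algebraMap A Ω x = algebraMap A Ω y := congrArg Subtype.val hxy
    have hinj : Function.Injective (algebraMap A Ω) := by
      rw [IsScalarTower.algebraMap_eq A K Ω]
      exact (algebraMap K Ω).injective.comp (IsFractionRing.injective A K)
    exact hinj h1
  haveI : Algebra.IsAlgebraic K' Ω := by
    refine ⟨fun ω => ?_⟩
    have h1 : IsAlgebraic K ω := Algebra.IsAlgebraic.isAlgebraic ω
    have h2 : IsAlgebraic A ω := (IsFractionRing.isAlgebraic_iff A K Ω).mpr h1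
    have h3 : IsAlgebraic A' ω := h2.extendScalars hAA'
    exact (IsFractionRing.isAlgebraic_iff A' K' Ω).mp h3
  haveI : IsAlgClosure K' Ω := ⟨inferInstance, inferInstance⟩
  let e : AlgebraicClosure K' ≃ₐ[K'] Ω := IsAlgClosure.equiv K' (AlgebraicClosure K') Ω
  have hcomp : (e.symm : Ω →+* AlgebraicClosure K').comp (A'.val : A' →+* Ω) =
      algebraMap A' (AlgebraicClosure K') := by
    ext x
    show e.symm ((A'.val : A' →+* Ω) x) = _
    have h1 : (A'.val : A' →+* Ω) x = algebraMap K' Ω (algebraMap A' K' x) := by
      show _ = IsFractionRing.lift hval (algebraMap A' K' x)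
      rw [IsFractionRing.lift_algebraMap]
    rw [h1, e.symm.commutes, ← IsScalarTower.algebraMap_apply]
  have h2 : MvPolynomial.map (algebraMap A' (AlgebraicClosure K')) Q' =
      MvPolynomial.mapEquiv σ e.symm.toRingEquiv
        (MvPolynomial.map (A'.val : A' →+* Ω) Q') := by
    rw [← hcomp]
    simp only [MvPolynomial.mapEquiv_apply, MvPolynomial.map_map]
    rfl
  rw [h2]
  exact (MulEquiv.irreducible_iff (MvPolynomial.mapEquiv σ e.symm.toRingEquiv)).mpr h

end Groth.Agent.Lib.Helper35.GeomIrr
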