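/-
Helper library (helper35): existence of a birational hypersurface model after a finite type
extension of the base (descent from the algebraic closure), and spreading of geometric
irreducibility for flat algebras.
-/
import Mathlib
import Groth.Agent.Lib.Helper35.GeomIrrD2
import Groth.Agent.Lib.Helper35.GeomIrrE1
import Groth.Agent.Lib.Helper35.GeomIrrE2
import Groth.Agent.Lib.Helper35.GeomIrrE3
import Groth.Agent.Lib.Helper35.GeomIrrA3

set_option autoImplicit false
set_option maxHeartbeats 2000000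
universe u
open TensorProduct

namespace Groth.Agent.Lib.Helper35.GeomIrr

variable {A : Type u} [CommRing A] [IsDomain A] {B : Type u} [CommRing B]
  [Algebra A B] [Algebra.FiniteType A B]

theorem exists_subalgebra_forall_irr_of_flat [Module.Flat A B]
    (hirr : IrreducibleSpace (PrimeSpectrum (AlgebraicClosure (FractionRing A) ⊗[A] B))) :
    ∃ (A' : Subalgebra A (AlgebraicClosure (FractionRing A))), A'.FG ∧ ∃ a' : A', a' ≠ 0 ∧
      ∀ (k : Type u) [Field k] (ψ' : A' →+* k), ψ' a' ≠ 0 →
        (letI := ψ'.toAlgebra; IrreducibleSpace (PrimeSpectrum (k ⊗[A'] (A' ⊗[A] B)))) := by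
  classical
  let Ω := AlgebraicClosure (FractionRing A)
  let R := Ω ⊗[A] B
  have hN : (nilradical R).IsPrime :=
    PrimeSpectrum.irreducibleSpace_iff_isPrime_nilradical.mp hirr
  let C := R ⧸ nilradical R
  haveI : IsDomain C := Ideal.Quotient.isDomain _
  let L := FractionRing C
  haveI : Algebra.FiniteType Ω R := inferInstance
  haveI : Algebra.FiniteType Ω C := inferInstance
  haveI : Algebra.EssFiniteType C L := Algebra.EssFiniteType.of_isLocalization L (nonZeroDivisors C)
  haveI : Algebra.EssFiniteType Ω L := Algebra.EssFiniteType.comp Ω C L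
  obtain ⟨r, s, θ, PΩ, hPΩm, hkerΩ, hfracΩ⟩ := exists_hypersurface_model Ω L
  -- generators of `B`
  obtain ⟨Bgen, hBgen⟩ := (Algebra.FiniteType.out : (⊤ : Subalgebra A B).FG)
  let σ := Option (Fin r)
  let xs : σ → L := fun o => o.elim θ s
  let mkC : R →+* C := Ideal.Quotient.mk _
  -- fraction data for the generators of `B`
  have hb : ∀ b : B, ∃ u v, evp Ω s θ v ≠ 0 ∧
      algebraMap C L (mkC (1 ⊗ₜ b)) * evp Ω s θ v = evp Ω s θ u := fun b => hfracΩ _
  choose ub vb hvb hub using hb
  -- fraction data for the coordinates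
  have hx : ∀ i : σ, ∃ γ δ : R, mkC δ ≠ 0 ∧
      algebraMap C L (mkC δ) * xs i = algebraMap C L (mkC γ) := by
    intro i
    obtain ⟨⟨c, d⟩, hcd⟩ := IsLocalization.surj (nonZeroDivisors C) (xs i)
    obtain ⟨γ, rfl⟩ := Ideal.Quotient.mk_surjective c
    obtain ⟨δ, hδ⟩ := Ideal.Quotient.mk_surjective (d : C)
    refine ⟨γ, δ, ?_, ?_⟩
    · show (Ideal.Quotient.mk _ δ : C) ≠ 0
      rw [hδ]; exact nonZeroDivisors.ne_zero d.2
    · show algebraMap C L (Ideal.Quotient.mk _ δ) * xs i = _
      rw [hδ, mul_comm]; exact hcd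
  choose γ δ hδ0 hγδ using hx
  -- finite sets of elements of `Ω`
  obtain ⟨FP, hFP⟩ := exists_finset_mem_range_map_poly (A := A) PΩ
  have hFu : ∀ b : B, ∃ F : Finset Ω, ∀ A' : Subalgebra A Ω, (F : Set Ω) ⊆ A' →
      ub b ∈ Set.range (Polynomial.map (MvPolynomial.map (A'.val : A' →+* Ω))) :=
    fun b => exists_finset_mem_range_map_poly (A := A) (ub b)
  have hFv : ∀ b : B, ∃ F : Finset Ω, ∀ A' : Subalgebra A Ω, (F : Set Ω) ⊆ A' →
      vb b ∈ Set.range (Polynomial.map (MvPolynomial.map (A'.val : A' →+* Ω))) :=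
    fun b => exists_finset_mem_range_map_poly (A := A) (vb b)
  have hFγ : ∀ i : σ, ∃ F : Finset Ω, ∀ A' : Subalgebra A Ω, (F : Set Ω) ⊆ A' →
      γ i ∈ Set.range (jmap (B := B) A') := fun i => exists_finset_mem_range_jmap (γ i)
  have hFδ : ∀ i : σ, ∃ F : Finset Ω, ∀ A' : Subalgebra A Ω, (F : Set Ω) ⊆ A' →
      δ i ∈ Set.range (jmap (B := B) A') := fun i => exists_finset_mem_range_jmap (δ i)
  choose Fu hFu using hFu
  choose Fv hFv using hFv
  choose Fγ hFγ using hFγ
  choose Fδ hFδ using hFδ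
  let Fall : Finset Ω := FP ∪ Bgen.biUnion Fu ∪ Bgen.biUnion Fv ∪
    Finset.univ.biUnion Fγ ∪ Finset.univ.biUnion Fδ
  let A' : Subalgebra A Ω := Algebra.adjoin A (Fall : Set Ω)
  have hFA' : (Fall : Set Ω) ⊆ A' := Algebra.subset_adjoin
  refine ⟨A', ⟨Fall, rfl⟩, ?_⟩
  have hsubP : (FP : Set Ω) ⊆ A' := fun z hz => hFA' (by simp [Fall, hz])
  have hsubu : ∀ b ∈ Bgen, (Fu b : Set Ω) ⊆ A' := fun b hb z hz => hFA' (by
    simp only [Fall, Finset.coe_union, Finset.coe_biUnion, Set.mem_union, Set.mem_iUnion]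
    exact Or.inl (Or.inl (Or.inl (Or.inr ⟨b, hb, hz⟩))))
  have hsubv : ∀ b ∈ Bgen, (Fv b : Set Ω) ⊆ A' := fun b hb z hz => hFA' (by
    simp only [Fall, Finset.coe_union, Finset.coe_biUnion, Set.mem_union, Set.mem_iUnion]
    exact Or.inl (Or.inl (Or.inr ⟨b, hb, hz⟩)))
  have hsubγ : ∀ i : σ, (Fγ i : Set Ω) ⊆ A' := fun i z hz => hFA' (by
    simp only [Fall, Finset.coe_union, Finset.coe_biUnion, Set.mem_union, Set.mem_iUnion]
    exact Or.inl (Or.inr ⟨i, Finset.mem_univ i, hz⟩))
  have hsubδ : ∀ i : σ, (Fδ i : Set Ω) ⊆ A' := fun i z hz => hFA' (by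
    simp only [Fall, Finset.coe_union, Finset.coe_biUnion, Set.mem_union, Set.mem_iUnion]
    exact Or.inr ⟨i, Finset.mem_univ i, hz⟩)
  -- the lifts
  obtain ⟨P', hP'⟩ := hFP A' hsubP
  have hu' : ∀ b ∈ Bgen, ∃ u' : Polynomial (MvPolynomial (Fin r) A'),
      Polynomial.map (MvPolynomial.map (A'.val : A' →+* Ω)) u' = ub b :=
    fun b hb => hFu b A' (hsubu b hb)
  have hv' : ∀ b ∈ Bgen, ∃ v' : Polynomial (MvPolynomial (Fin r) A'),
      Polynomial.map (MvPolynomial.map (A'.val : A' →+* Ω)) v' = vb b :=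
    fun b hb => hFv b A' (hsubv b hb)
  have hγ' : ∀ i : σ, ∃ γ' : A' ⊗[A] B, jmap (B := B) A' γ' = γ i := fun i => hFγ i A' (hsubγ i)
  have hδ' : ∀ i : σ, ∃ δ' : A' ⊗[A] B, jmap (B := B) A' δ' = δ i := fun i => hFδ i A' (hsubδ i)
  choose! u' hu' using hu'
  choose! v' hv' using hv'
  choose γ' hγ' using hγ'
  choose δ' hδ' using hδ'
  -- the ring `B'`
  let B₁ := A' ⊗[A] B
  let j : B₁ →ₐ[A] R := jmap (B := B) A'
  have hj : Function.Injective j := by
    have h1 : Function.Injective (A'.val.toLinearMap) := Subtype.val_injective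
    exact Module.Flat.rTensor_preserves_injective_linearMap (M := B) A'.val.toLinearMap h1
  let B' := B₁ ⧸ nilradical B₁
  have hjnil : ∀ x ∈ nilradical B₁, (mkC.comp j.toRingHom) x = 0 := by
    intro x hx
    show mkC (j x) = 0
    rw [Ideal.Quotient.eq_zero_iff_mem]
    exact mem_nilradical.mpr ((mem_nilradical.mp hx).map j)
  let jbar : B' →+* C := Ideal.Quotient.lift (nilradical B₁) (mkC.comp j.toRingHom) hjnil
  have hjbar_mk : ∀ y : B₁, jbar (Ideal.Quotient.mk _ y) = mkC (j y) := fun y => rfl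
  have hjbar : Function.Injective jbar := by
    rw [injective_iff_map_eq_zero]
    intro x hx
    obtain ⟨y, rfl⟩ := Ideal.Quotient.mk_surjective x
    rw [hjbar_mk] at hx
    have h1 : IsNilpotent (j y) := mem_nilradical.mp (Ideal.Quotient.eq_zero_iff_mem.mp hx)
    obtain ⟨n, hn⟩ := h1
    rw [Ideal.Quotient.eq_zero_iff_mem, mem_nilradical]
    exact ⟨n, hj (by rw [map_pow, hn, map_zero])⟩
  haveI : IsDomain B' := hjbar.isDomain jbar
  let aBL : B' →+* L := (algebraMap C L).comp jbar
  have haBL_mk : ∀ y : B₁, aBL (Ideal.Quotient.mk (nilradical B₁) y) = algebraMap C L (mkC (j y)) :=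
    fun y => rfl
  have haBL_inj : Function.Injective aBL := (IsFractionRing.injective C L).comp hjbar
  letI algB'L : Algebra B' L := aBL.toAlgebra
  have halgA'L : ∀ a' : A', algebraMap A' L a' = algebraMap Ω L (a' : Ω) := fun a' => rfl
  have hΩCL : ∀ ω : Ω, algebraMap Ω L ω = algebraMap C L (mkC (ω ⊗ₜ[A] (1 : B))) := fun ω => rfl
  have htower : ∀ a' : A', algebraMap A' L a' = aBL (algebraMap A' B' a') := by
    intro a'
    have h1 : algebraMap A' B' a' = Ideal.Quotient.mk (nilradical B₁) (a' ⊗ₜ[A] (1 : B)) := rfl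
    rw [h1, haBL_mk, halgA'L, hΩCL]
    have h2 : j (a' ⊗ₜ[A] (1 : B)) = (a' : Ω) ⊗ₜ[A] (1 : B) := by
      show (Algebra.TensorProduct.map A'.val (AlgHom.id A B)) (a' ⊗ₜ[A] 1) = _
      rw [Algebra.TensorProduct.map_tmul]
      rfl
    rw [h2]
  haveI : IsScalarTower A' B' L := by
    refine ⟨fun a b l => ?_⟩
    rw [Algebra.smul_def (a • b) l, Algebra.smul_def b l, Algebra.smul_def a (_ : L),
      RingHom.algebraMap_toAlgebra, Algebra.smul_def a b, map_mul, ← htower, mul_assoc]
  -- the polynomial model over `A'`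
  let ι : A' →+* Ω := (A'.val : A' →+* Ω)
  have hι : Function.Injective ι := Subtype.val_injective
  let mm : Polynomial (MvPolynomial (Fin r) A') →+* Polynomial (MvPolynomial (Fin r) Ω) :=
    Polynomial.mapRingHom (MvPolynomial.map ι)
  have hmm : ∀ p, mm p = Polynomial.map (MvPolynomial.map ι) p := fun p => rfl
  have hmminj : Function.Injective (MvPolynomial.map (σ := Fin r) ι) :=
    MvPolynomial.map_injective _ hι
  let oE := MvPolynomial.optionEquivLeft A' (Fin r)
  let ev' : MvPolynomial σ A' →ₐ[A'] L := MvPolynomial.aeval xs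
  have hEV : ∀ q : MvPolynomial σ A', ev' q = evp Ω s θ (mm (oE q)) := by
    intro q
    induction q using MvPolynomial.induction_on with
    | C a =>
      have h1 : oE (MvPolynomial.C a) = Polynomial.C (MvPolynomial.C a) :=
        MvPolynomial.optionEquivLeft_C _ _ a
      rw [h1, hmm, Polynomial.map_C, MvPolynomial.map_C]
      simp only [ev', MvPolynomial.aeval_C, evp, Polynomial.coe_eval₂RingHom, Polynomial.eval₂_C]
      show algebraMap A' L a = (MvPolynomial.aeval s) (MvPolynomial.C (ι a))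
      rw [MvPolynomial.aeval_C]
      rfl
    | add p q hp hq => rw [map_add, map_add, map_add, map_add, hp, hq]
    | mul_X p i hp =>
      rw [map_mul, map_mul, map_mul, map_mul, hp]
      congr 1
      cases i with
      | none =>
        have h1 : oE (MvPolynomial.X none) = Polynomial.X :=
          MvPolynomial.optionEquivLeft_X_none _ _
        rw [h1, hmm, Polynomial.map_X]
        simp [ev', evp, xs]
      | some i =>
        have h1 : oE (MvPolynomial.X (some i)) = Polynomial.C (MvPolynomial.X i) :=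
          MvPolynomial.optionEquivLeft_X_some _ _ i
        rw [h1, hmm, Polynomial.map_C, MvPolynomial.map_X]
        simp [ev', evp, xs]
  have hP'm : P'.Monic := Polynomial.monic_of_injective hmminj (by rw [hP']; exact hPΩm)
  let Q' : MvPolynomial σ A' := oE.symm P'
  have hker' : ∀ q, ev' q = 0 ↔ Q' ∣ q := by
    intro q
    rw [hEV, hkerΩ, hmm, ← hP']
    constructor
    · intro h
      have h1 : P' ∣ oE q := dvd_of_map_dvd_map_of_monic _ hmminj hP'm h
      have h2 : oE Q' ∣ oE q := by
        show oE (oE.symm P') ∣ oE q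
        rw [AlgEquiv.apply_symm_apply]; exact h1
      exact (map_dvd_iff oE).mp h2
    · intro h
      have h2 : oE Q' ∣ oE q := (map_dvd_iff oE).mpr h
      have h3 : oE Q' = P' := AlgEquiv.apply_symm_apply oE P'
      rw [h3] at h2
      exact Polynomial.map_dvd _ h2
  -- irreducibility of the model
  have hPΩprime : Prime PΩ := by
    refine ⟨hPΩm.ne_zero, ?_, ?_⟩
    · intro hu
      have h1 : PΩ ∣ 1 := hu.dvd
      have h2 := (hkerΩ 1).mpr h1
      rw [map_one] at h2
      exact one_ne_zero h2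
    · intro a b hab
      have h1 := (hkerΩ (a * b)).mpr hab
      rw [map_mul] at h1
      rcases mul_eq_zero.mp h1 with h2 | h2
      · exact Or.inl ((hkerΩ a).mp h2)
      · exact Or.inr ((hkerΩ b).mp h2)
  have hirrΩ : Irreducible (MvPolynomial.map ι Q') := by
    have h1 : MvPolynomial.map ι Q' = (MvPolynomial.optionEquivLeft Ω (Fin r)).symm PΩ := by
      rw [← hP']
      exact (optionEquivLeft_symm_map ι (Fin r) P').symm
    rw [h1]
    exact (MulEquiv.irreducible_iff (MvPolynomial.optionEquivLeft Ω (Fin r)).symm).mpr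
      hPΩprime.irreducible
  have hirr' : Irreducible
      (MvPolynomial.map (algebraMap A' (AlgebraicClosure (FractionRing A'))) Q') :=
    irreducible_map_algebraicClosure_of_irreducible_map_val A' Q' hirrΩ
  -- evaluation of lifted polynomials
  have hev_symm : ∀ p : Polynomial (MvPolynomial (Fin r) A'),
      ev' (oE.symm p) = evp Ω s θ (Polynomial.map (MvPolynomial.map ι) p) := by
    intro p
    rw [hEV, AlgEquiv.apply_symm_apply, hmm]
  -- generators of `B'`
  let φB : B → B' := fun b => Ideal.Quotient.mk (nilradical B₁) ((1 : A') ⊗ₜ[A] b)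
  let Bgen' : Finset B' := Bgen.image φB
  have hBgen' : Algebra.adjoin A' (Bgen' : Set B') = ⊤ := by
    rw [eq_top_iff]
    rintro x -
    have hφB : ∀ b : B, φB b ∈ Algebra.adjoin A' (Bgen' : Set B') := by
      intro b
      have hb : b ∈ Algebra.adjoin A (Bgen : Set B) := by rw [hBgen]; trivial
      induction hb using Algebra.adjoin_induction with
      | mem x hx =>
        apply Algebra.subset_adjoin
        simp only [Bgen', Finset.coe_image]
        exact ⟨x, hx, rfl⟩
      | algebraMap a =>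
        have h1 : φB (algebraMap A B a) = algebraMap A' B' (algebraMap A A' a) := by
          show Ideal.Quotient.mk (nilradical B₁) ((1 : A') ⊗ₜ[A] (algebraMap A B a)) =
            Ideal.Quotient.mk (nilradical B₁) ((algebraMap A A' a) ⊗ₜ[A] (1 : B))
          congr 1
          rw [Algebra.algebraMap_eq_smul_one, Algebra.algebraMap_eq_smul_one,
            TensorProduct.tmul_smul, TensorProduct.smul_tmul']
        rw [h1]
        exact Subalgebra.algebraMap_mem _ _
      | add x y _ _ hx hy =>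
        have h1 : φB (x + y) = φB x + φB y := by
          simp only [φB, TensorProduct.tmul_add, map_add]
        rw [h1]; exact Subalgebra.add_mem _ hx hy
      | mul x y _ _ hx hy =>
        have h1 : φB (x * y) = φB x * φB y := by
          show Ideal.Quotient.mk (nilradical B₁) ((1 : A') ⊗ₜ[A] (x * y)) =
            Ideal.Quotient.mk (nilradical B₁) ((1 : A') ⊗ₜ[A] x) *
              Ideal.Quotient.mk (nilradical B₁) ((1 : A') ⊗ₜ[A] y)
          rw [← map_mul, Algebra.TensorProduct.tmul_mul_tmul, mul_one]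
        rw [h1]; exact Subalgebra.mul_mem _ hx hy
    obtain ⟨y, rfl⟩ := Ideal.Quotient.mk_surjective x
    induction y using TensorProduct.induction_on with
    | zero => rw [map_zero]; exact Subalgebra.zero_mem _
    | add x y hx hy => rw [map_add]; exact Subalgebra.add_mem _ hx hy
    | tmul a' b =>
      have h1 : Ideal.Quotient.mk (nilradical B₁) (a' ⊗ₜ[A] b) = a' • φB b := by
        show _ = a' • Ideal.Quotient.mk (nilradical B₁) ((1 : A') ⊗ₜ[A] b)
        have h2 : a' • Ideal.Quotient.mk (nilradical B₁) ((1 : A') ⊗ₜ[A] b) =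
            Ideal.Quotient.mk (nilradical B₁) (a' • ((1 : A') ⊗ₜ[A] b)) := rfl
        rw [h2, TensorProduct.smul_tmul', smul_eq_mul, mul_one]
      rw [h1]
      exact Subalgebra.smul_mem _ (hφB b) a'
  have hj_one : ∀ b : B, j ((1 : A') ⊗ₜ[A] b) = (1 : Ω) ⊗ₜ[A] b := by
    intro b
    show (Algebra.TensorProduct.map A'.val (AlgHom.id A B)) ((1 : A') ⊗ₜ[A] b) = _
    rw [Algebra.TensorProduct.map_tmul]
    rfl
  have hfrac' : ∀ b' ∈ Bgen', ∃ u v : MvPolynomial σ A', ev' v ≠ 0 ∧
      aBL b' * ev' v = ev' u := by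
    intro b' hb'
    simp only [Bgen', Finset.mem_image] at hb'
    obtain ⟨b, hb, rfl⟩ := hb'
    refine ⟨oE.symm (u' b), oE.symm (v' b), ?_, ?_⟩
    · rw [hev_symm, hv' b hb]; exact hvb b
    · rw [hev_symm, hev_symm, hv' b hb, hu' b hb]
      show aBL (Ideal.Quotient.mk (nilradical B₁) ((1 : A') ⊗ₜ[A] b)) * _ = _
      rw [haBL_mk, hj_one]
      exact hub b
  have hfracX' : ∀ i : σ, ∃ b : B', b ≠ 0 ∧ ∃ b' : B',
      aBL b * ev' (MvPolynomial.X i) = aBL b' := by
    intro i
    refine ⟨Ideal.Quotient.mk (nilradical B₁) (δ' i), ?_, Ideal.Quotient.mk (nilradical B₁) (γ' i), ?_⟩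
    · intro h0
      have h1 : aBL (Ideal.Quotient.mk (nilradical B₁) (δ' i)) = 0 := by rw [h0, map_zero]
      rw [haBL_mk] at h1
      have h2 : j (δ' i) = δ i := hδ' i
      rw [h2] at h1
      exact hδ0 i ((map_eq_zero_iff _ (IsFractionRing.injective C L)).mp h1)
    · rw [haBL_mk, haBL_mk]
      have h2 : j (δ' i) = δ i := hδ' i
      have h3 : j (γ' i) = γ i := hγ' i
      rw [h2, h3]
      have h4 : ev' (MvPolynomial.X i) = xs i := MvPolynomial.aeval_X xs i
      rw [h4]
      exact hγδ i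
  have hinjA'L : Function.Injective (algebraMap A' L) := by
    intro x y hxy
    rw [halgA'L, halgA'L] at hxy
    exact Subtype.ext ((algebraMap Ω L).injective hxy)
  have hinj' : Function.Injective (algebraMap A' B') := by
    intro x y hxy
    apply hinjA'L
    rw [htower, htower, hxy]
  obtain ⟨a', ha'0, Ha'⟩ := exists_forall_irr_of_model (A := A') (B := B') (σ := σ) L hinj'
    haBL_inj Q' ev' hker' hirr' Bgen' hBgen' hfrac' hfracX'
  refine ⟨a', ha'0, fun k _ ψ' hψ' => ?_⟩
  letI := ψ'.toAlgebra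
  exact irr_tensor_of_irr_tensor_quotient_nilradical k B₁ (Ha' k ψ' hψ')

end Groth.Agent.Lib.Helper35.GeomIrr
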