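/-
Helper library (helper35): spreading geometric irreducibility over a domain (ring form),
Stacks 0559 / EGA IV 9.7.7.
-/
import Mathlib
import Groth.Agent.Lib.Helper35.GeomIrrF
import Groth.Agent.Lib.Helper35.GeomIrrB

set_option autoImplicit false
set_option maxHeartbeats 1000000
universe u
open TensorProduct

namespace Groth.Agent.Lib.Helper35.GeomIrr

/-- irreducibility of `k ⊗ B` follows from irreducibility over an algebraic closure of `k`. -/
theorem irr_tensor_of_irr_tensor_algebraicClosure {A : Type u} [CommRing A] (B : Type u)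
    [CommRing B] [Algebra A B] (k : Type u) [Field k] [Algebra A k]
    (kb : Type u) [Field kb] [Algebra k kb] [Algebra A kb] [IsScalarTower A k kb]
    (h : IrreducibleSpace (PrimeSpectrum (kb ⊗[A] B))) :
    IrreducibleSpace (PrimeSpectrum (k ⊗[A] B)) := by
  let S₀ := k ⊗[A] B
  let e₁ : S₀ ⊗[k] kb ≃ₐ[k] kb ⊗[k] S₀ := Algebra.TensorProduct.comm k S₀ kb
  let e₂ : kb ⊗[k] S₀ ≃ₐ[kb] kb ⊗[A] B := Algebra.TensorProduct.cancelBaseChange A k kb kb B
  have h1 : IrreducibleSpace (PrimeSpectrum (S₀ ⊗[k] kb)) :=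
    irr_of_ringEquiv (e₁.toRingEquiv.trans e₂.toRingEquiv).symm h
  haveI : Module.FaithfullyFlat S₀ (S₀ ⊗[k] kb) := inferInstance
  exact irr_of_comap_surjective (algebraMap S₀ (S₀ ⊗[k] kb))
    PrimeSpectrum.comap_surjective_of_faithfullyFlat h1

variable {A : Type u} [CommRing A] [IsDomain A] {B : Type u} [CommRing B] [Algebra A B]

/-- **Change of base.** -/
theorem exists_forall_irr_of_extension {A' : Type u} [CommRing A'] [IsDomain A'] [Algebra A A']
    [Algebra.FiniteType A A'] (hinj : Function.Injective (algebraMap A A'))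
    (h : ∃ a' : A', a' ≠ 0 ∧ ∀ (k : Type u) [Field k] (ψ' : A' →+* k), ψ' a' ≠ 0 →
      (letI := ψ'.toAlgebra; IrreducibleSpace (PrimeSpectrum (k ⊗[A'] (A' ⊗[A] B))))) :
    ∃ a : A, a ≠ 0 ∧ ∀ (k : Type u) [Field k] (ψ : A →+* k), ψ a ≠ 0 →
      (letI := ψ.toAlgebra; IrreducibleSpace (PrimeSpectrum (k ⊗[A] B))) := by
  obtain ⟨a', ha', H⟩ := h
  obtain ⟨a, ha, Hext⟩ := exists_extension_algClosed hinj a' ha'
  refine ⟨a, ha, fun k _ ψ hψ => ?_⟩
  let kb := AlgebraicClosure k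
  let ψb : A →+* kb := (algebraMap k kb).comp ψ
  have hψb : ψb a ≠ 0 := by
    show algebraMap k kb (ψ a) ≠ 0
    rw [Ne, map_eq_zero_iff _ (algebraMap k kb).injective]
    exact hψ
  obtain ⟨ψ', hψ'comp, hψ'a'⟩ := Hext kb ψb hψb
  letI algAk : Algebra A k := ψ.toAlgebra
  letI algA'kb : Algebra A' kb := ψ'.toAlgebra
  have hψb' : ∀ x, algebraMap A kb x = ψb x := fun x =>
    IsScalarTower.algebraMap_apply A k kb x
  haveI : IsScalarTower A A' kb := IsScalarTower.of_algebraMap_eq (fun x => by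
    rw [hψb']
    show ψb x = ψ' (algebraMap A A' x)
    rw [← hψ'comp]; rfl)
  have h1 : IrreducibleSpace (PrimeSpectrum (kb ⊗[A'] (A' ⊗[A] B))) := H kb ψ' hψ'a'
  let e : kb ⊗[A'] (A' ⊗[A] B) ≃ₐ[kb] kb ⊗[A] B :=
    Algebra.TensorProduct.cancelBaseChange A A' kb kb B
  have h2 : IrreducibleSpace (PrimeSpectrum (kb ⊗[A] B)) := irr_of_ringEquiv e.toRingEquiv h1
  exact irr_tensor_of_irr_tensor_algebraicClosure B k kb h2

end Groth.Agent.Lib.Helper35.GeomIrr
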