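/-
Helper library (helper35): spreading geometric irreducibility, ring forms
(EGA IV 9.7.7 / Stacks 0559).
-/
import Mathlib
import Groth.Agent.Lib.Helper35.GeomIrrG
import Groth.Agent.Lib.Helper91.GenericFreeness

set_option autoImplicit false
set_option maxHeartbeats 1000000
universe u
open TensorProduct

namespace Groth.Agent.Lib.Helper35.GeomIrr

section Domain

variable {A : Type u} [CommRing A] [IsDomain A] {B : Type u} [CommRing B] [Algebra A B]
  [Algebra.FiniteType A B]

/-- **Spreading geometric irreducibility over a domain.** -/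
theorem exists_forall_irr_of_domain
    (h : ∀ (K : Type u) [Field K] [Algebra A K], Function.Injective (algebraMap A K) →
      IrreducibleSpace (PrimeSpectrum (K ⊗[A] B))) :
    ∃ a : A, a ≠ 0 ∧ ∀ (k : Type u) [Field k] (ψ : A →+* k), ψ a ≠ 0 →
      (letI := ψ.toAlgebra; IrreducibleSpace (PrimeSpectrum (k ⊗[A] B))) := by
  classical
  obtain ⟨f, hf0, -, hfree, -, -⟩ :=
    Groth.Agent.Lib.Helper91.generic_freeness (R := A) (S := B) (M := B)
  let Af := Localization.Away f
  have hle : Submonoid.powers f ≤ nonZeroDivisors A :=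
    Submonoid.powers_le.mpr (mem_nonZeroDivisors_of_ne_zero hf0)
  haveI : IsDomain Af := IsLocalization.isDomain_localization hle
  have hinjAf : Function.Injective (algebraMap A Af) := IsLocalization.injective Af hle
  haveI : Algebra.FiniteType A Af :=
    IsLocalization.finiteType_of_monoid_fg (Submonoid.powers f) Af
  let Bf := Af ⊗[A] B
  haveI : Module.Flat Af Bf := inferInstance
  let Ωf := AlgebraicClosure (FractionRing Af)
  have hinjΩ : Function.Injective (algebraMap A Ωf) := by
    rw [IsScalarTower.algebraMap_eq A Af Ωf, IsScalarTower.algebraMap_eq Af (FractionRing Af) Ωf]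
    exact ((algebraMap (FractionRing Af) Ωf).injective.comp
      (IsFractionRing.injective Af (FractionRing Af))).comp hinjAf
  have h1 : IrreducibleSpace (PrimeSpectrum (Ωf ⊗[A] B)) := h Ωf hinjΩ
  let e : Ωf ⊗[Af] Bf ≃ₐ[Ωf] Ωf ⊗[A] B := Algebra.TensorProduct.cancelBaseChange A Af Ωf Ωf B
  have h2 : IrreducibleSpace (PrimeSpectrum (Ωf ⊗[Af] Bf)) :=
    (PrimeSpectrum.homeomorphOfRingEquiv e.toRingEquiv).irreducibleSpace_iff.mpr h1
  obtain ⟨A'', hfg, H''⟩ := exists_subalgebra_forall_irr_of_flat (A := Af) (B := Bf) h2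
  haveI : Algebra.FiniteType Af A'' := (Subalgebra.fg_iff_finiteType A'').mp hfg
  have hinjA'' : Function.Injective (algebraMap Af A'') := by
    intro x y hxy
    have h3 : algebraMap Af Ωf x = algebraMap Af Ωf y := congrArg Subtype.val hxy
    have hinj' : Function.Injective (algebraMap Af Ωf) := by
      rw [IsScalarTower.algebraMap_eq Af (FractionRing Af) Ωf]
      exact (algebraMap (FractionRing Af) Ωf).injective.comp
        (IsFractionRing.injective Af (FractionRing Af))
    exact hinj' h3
  have Hf := exists_forall_irr_of_extension (A := Af) (B := Bf) (A' := A'') hinjA'' H''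
  exact exists_forall_irr_of_extension (A := A) (B := B) (A' := Af) hinjAf Hf

end Domain

section RingForm

variable {A B : Type u} [CommRing A] [CommRing B] [Algebra A B]

/-- **Spreading geometric irreducibility**, ring form with prime nilradical: if `Spec (B ⊗ K)` is
irreducible for every field `K` over the generic point of `Spec A`, then the same holds for all
fields over a neighbourhood `D(a)` of the generic point. -/
theorem exists_forall_ringHom_irr [Algebra.FiniteType A B]
    (hp : (nilradical A).IsPrime)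
    (h : ∀ (K : Type u) [Field K] (ψ₀ : A →+* K), RingHom.ker ψ₀ = nilradical A →
      (letI := ψ₀.toAlgebra; IrreducibleSpace (PrimeSpectrum (B ⊗[A] K)))) :
    ∃ a : A, a ∉ nilradical A ∧ ∀ (k : Type u) [Field k] (ψ : A →+* k), ψ a ≠ 0 →
      (letI := ψ.toAlgebra; IrreducibleSpace (PrimeSpectrum (B ⊗[A] k))) := by
  haveI := hp
  let A₀ := A ⧸ nilradical A
  let B₀ := A₀ ⊗[A] B
  have key : ∀ (K : Type u) [Field K] (ψ : A →+* K) (hle : ∀ x ∈ nilradical A, ψ x = 0),
      (letI := ψ.toAlgebra
       letI : Algebra A₀ K := (Ideal.Quotient.lift (nilradical A) ψ hle).toAlgebra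
       IrreducibleSpace (PrimeSpectrum (K ⊗[A₀] B₀)) ↔
        IrreducibleSpace (PrimeSpectrum (B ⊗[A] K))) := by
    intro K _ ψ hle
    letI := ψ.toAlgebra
    letI algK : Algebra A₀ K := (Ideal.Quotient.lift (nilradical A) ψ hle).toAlgebra
    haveI : IsScalarTower A A₀ K := IsScalarTower.of_algebraMap_eq' (by
      ext x
      rfl)
    let e2 : K ⊗[A₀] B₀ ≃ₐ[K] K ⊗[A] B :=
      Algebra.TensorProduct.cancelBaseChange A A₀ K K B
    let e3 : B ⊗[A] K ≃ₐ[A] K ⊗[A] B := Algebra.TensorProduct.comm A B K
    exact (PrimeSpectrum.homeomorphOfRingEquiv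
      (e2.toRingEquiv.trans e3.symm.toRingEquiv)).irreducibleSpace_iff
  obtain ⟨a₀, ha₀, H⟩ := exists_forall_irr_of_domain (A := A₀) (B := B₀) (by
    intro K _ _ hinj
    let ψ₀ : A →+* K := (algebraMap A₀ K).comp (Ideal.Quotient.mk (nilradical A))
    have hker : RingHom.ker ψ₀ = nilradical A := by
      ext x
      rw [RingHom.mem_ker]
      show algebraMap A₀ K (Ideal.Quotient.mk _ x) = 0 ↔ _
      rw [map_eq_zero_iff _ hinj, Ideal.Quotient.eq_zero_iff_mem]
    have hle : ∀ x ∈ nilradical A, ψ₀ x = 0 := fun x hx => by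
      rw [← RingHom.mem_ker, hker]; exact hx
    have h1 := h K ψ₀ hker
    have h2 := (key K ψ₀ hle).mpr h1
    have halg : (Ideal.Quotient.lift (nilradical A) ψ₀ hle).toAlgebra =
        (inferInstance : Algebra A₀ K) := by
      apply Algebra.algebra_ext
      intro r
      obtain ⟨x, rfl⟩ := Ideal.Quotient.mk_surjective r
      rfl
    rw [halg] at h2
    exact h2)
  obtain ⟨a, rfl⟩ := Ideal.Quotient.mk_surjective a₀
  refine ⟨a, fun hmem => ha₀ (Ideal.Quotient.eq_zero_iff_mem.mpr hmem), fun k _ ψ hψ => ?_⟩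
  have hle : ∀ x ∈ nilradical A, ψ x = 0 := by
    intro x hx
    exact (IsNilpotent.map hx ψ).eq_zero
  have h1 := H k (Ideal.Quotient.lift (nilradical A) ψ hle) (by
    rw [Ideal.Quotient.lift_mk]; exact hψ)
  exact (key k ψ hle).mp h1

end RingForm

end Groth.Agent.Lib.Helper35.GeomIrr
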