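/-
Helper library (helper35): topological gluing of irreducibility and generic emptiness of charts.
-/
import Mathlib

set_option autoImplicit false
universe u v

namespace Groth.Agent.Lib.Helper35.GeomIrr

/-- A space covered by open sets which are empty or irreducible, such that the nonempty ones
pairwise meet, and at least one of which is nonempty, is irreducible. -/
theorem irreducibleSpace_of_cover {P : Type*} [TopologicalSpace P] {ι : Type*}
    (O : ι → Set P) (hO : ∀ i, IsOpen (O i)) (hcov : ∀ x : P, ∃ i, x ∈ O i)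
    (hirr : ∀ i, (O i).Nonempty → IsIrreducible (O i))
    (hmeet : ∀ i j, (O i).Nonempty → (O j).Nonempty → (O i ∩ O j).Nonempty)
    (i₀ : ι) (hi₀ : (O i₀).Nonempty) : IrreducibleSpace P := by
  have h1 : closure (O i₀) = Set.univ := by
    rw [Set.eq_univ_iff_forall]
    intro x
    obtain ⟨j, hj⟩ := hcov x
    have hjne : (O j).Nonempty := ⟨x, hj⟩
    have h2 : O j ⊆ closure (O j ∩ O i₀) :=
      subset_closure_inter_of_isPreirreducible_of_isOpen (hirr j hjne).isPreirreducible (hO i₀)
        (hmeet j i₀ hjne hi₀)
    exact closure_mono Set.inter_subset_right (h2 hj)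
  have h3 : IsIrreducible (Set.univ : Set P) := by
    rw [← h1]
    exact (hirr i₀ hi₀).closure
  exact (irreducibleSpace_def P).mpr h3

/-- If the generic point of `Spec A` (nilradical prime) is not in the image of `Spec B`, some
non-nilpotent element of `A` becomes nilpotent in `B`. -/
theorem exists_isNilpotent_map_of_notMem_range_comap {A : Type u} {B : Type v} [CommRing A]
    [CommRing B] (φ : A →+* B) (hp : (nilradical A).IsPrime)
    (h : ∀ q : PrimeSpectrum B, (PrimeSpectrum.comap φ q).asIdeal ≠ nilradical A) :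
    ∃ a : A, a ∉ nilradical A ∧ IsNilpotent (φ a) := by
  by_contra hcon
  push Not at hcon
  let M : Submonoid B := (nilradical A).primeCompl.map φ
  have hdisj : Disjoint ((⊥ : Ideal B) : Set B) (M : Set B) := by
    rw [Set.disjoint_left]
    rintro x hx ⟨a, ha, rfl⟩
    have hx0 : φ a = 0 := hx
    exact hcon a ha ⟨1, by rw [pow_one, hx0]⟩
  obtain ⟨q, hq, -, hqM⟩ := Ideal.exists_le_prime_disjoint ⊥ M hdisj
  apply h ⟨q, hq⟩
  apply le_antisymm
  · intro a ha
    by_contra hna
    have h1 : φ a ∈ q := ha
    exact Set.disjoint_left.mp hqM h1 ⟨a, hna, rfl⟩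
  · intro a ha
    obtain ⟨n, hn⟩ : IsNilpotent (φ a) := (mem_nilradical.mp ha).map φ
    show φ a ∈ q
    exact hq.mem_of_pow_mem n (by rw [hn]; exact q.zero_mem)

end Groth.Agent.Lib.Helper35.GeomIrr
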