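/-
Helper library (helper35): scheme-level preliminaries for geometric irreducibility of fibres.
-/
import Mathlib
import Groth.Agent.Lib.Helper13.GenFibre3

set_option autoImplicit false
universe u
open TensorProduct

namespace Groth.Agent.Lib.Helper35.GeomIrr

open AlgebraicGeometry CategoryTheory Limits TopologicalSpace
open Groth.Agent.Lib.Helper13.GenFibre3

variable {X Y : Scheme.{u}}

theorem irreducibleSpace_genChart_iff (f : X ⟶ Y) {W : Y.Opens} {U : X.Opens}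
    (e : U ≤ f ⁻¹ᵁ W) {R : CommRingCat.{u}} (ψ : Γ(Y, W) ⟶ R) :
    letI : Algebra Γ(Y, W) Γ(X, U) := (f.appLE W U e).hom.toAlgebra
    letI : Algebra Γ(Y, W) R := ψ.hom.toAlgebra
    IrreducibleSpace ↥(pullback (Spec.map (f.appLE W U e)) (Spec.map ψ)) ↔
      IrreducibleSpace (PrimeSpectrum (TensorProduct Γ(Y, W) Γ(X, U) R)) := by
  letI : Algebra Γ(Y, W) Γ(X, U) := (f.appLE W U e).hom.toAlgebra
  letI : Algebra Γ(Y, W) R := ψ.hom.toAlgebra
  exact (pullbackSpecIso Γ(Y, W) Γ(X, U) R).hom.homeomorph.irreducibleSpace_iff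

theorem isEmpty_genChart_of_isNilpotent (f : X ⟶ Y) {W : Y.Opens} {U : X.Opens}
    (e : U ≤ f ⁻¹ᵁ W) {R : CommRingCat.{u}} (ψ : Γ(Y, W) ⟶ R) (a : Γ(Y, W))
    (ha : IsNilpotent ((f.appLE W U e).hom a)) (hu : IsUnit (ψ.hom a)) :
    IsEmpty ↥(pullback (Spec.map (f.appLE W U e)) (Spec.map ψ)) := by
  letI : Algebra Γ(Y, W) Γ(X, U) := (f.appLE W U e).hom.toAlgebra
  letI : Algebra Γ(Y, W) R := ψ.hom.toAlgebra
  have hsub : Subsingleton (TensorProduct Γ(Y, W) Γ(X, U) R) := by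
    obtain ⟨n, hn⟩ := ha
    have h1 : ((1 : Γ(X, U)) ⊗ₜ[Γ(Y, W)] (ψ.hom a) : TensorProduct Γ(Y, W) Γ(X, U) R) =
        ((f.appLE W U e).hom a) ⊗ₜ[Γ(Y, W)] (1 : R) := by
      have h2 : ψ.hom a = a • (1 : R) := by rw [Algebra.smul_def, mul_one]; rfl
      have h3 : (f.appLE W U e).hom a = a • (1 : Γ(X, U)) := by
        rw [Algebra.smul_def, mul_one]; rfl
      rw [h2, h3, TensorProduct.tmul_smul, TensorProduct.smul_tmul']
    have h4 : IsUnit ((1 : Γ(X, U)) ⊗ₜ[Γ(Y, W)] (ψ.hom a) :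
        TensorProduct Γ(Y, W) Γ(X, U) R) :=
      hu.map (Algebra.TensorProduct.includeRight :
        R →ₐ[Γ(Y, W)] TensorProduct Γ(Y, W) Γ(X, U) R)
    have h5 : ((1 : Γ(X, U)) ⊗ₜ[Γ(Y, W)] (ψ.hom a) :
        TensorProduct Γ(Y, W) Γ(X, U) R) ^ n = 0 := by
      rw [h1, Algebra.TensorProduct.tmul_pow, hn, TensorProduct.zero_tmul]
    have h6 := h4.pow n
    rw [h5] at h6
    exact subsingleton_of_zero_eq_one ((isUnit_zero_iff).mp h6)
  have hE : IsEmpty (PrimeSpectrum (TensorProduct Γ(Y, W) Γ(X, U) R)) := inferInstance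
  have hE' : IsEmpty ↥(Spec (CommRingCat.of (TensorProduct Γ(Y, W) Γ(X, U) R))) := hE
  exact (pullbackSpecIso Γ(Y, W) Γ(X, U) R).hom.homeomorph.isEmpty

theorem irreducibleSpace_pullback_of_fiber (f : X ⟶ Y) {K : Type u} [Field K]
    (s : Spec (.of K) ⟶ Y)
    (h : GeometricallyIrreducible (f.fiberToSpecResidueField (s (IsLocalRing.closedPoint K)))) :
    IrreducibleSpace ↥(pullback f s) := by
  let y := s (IsLocalRing.closedPoint K)
  let t : Spec (.of K) ⟶ Spec (Y.residueField y) :=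
    Spec.map (Y.descResidueField (Scheme.stalkClosedPointTo s))
  have h1 : IrreducibleSpace ↥(pullback (f.fiberToSpecResidueField y) t) :=
    h.geometrically_irreducibleSpace t _ _ (IsPullback.of_hasPullback _ _)
  have h2 : IrreducibleSpace ↥(pullback f (t ≫ Y.fromSpecResidueField y)) :=
    (pullbackLeftPullbackSndIso f (Y.fromSpecResidueField y) t).hom.homeomorph.irreducibleSpace_iff.mp
      h1
  rwa [Scheme.descResidueField_stalkClosedPointTo_fromSpecResidueField] at h2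

end Groth.Agent.Lib.Helper35.GeomIrr
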