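/-
Helper library (helper35): geometrically irreducible fibres near the generic point
(EGA IV 9.7.7 / Stacks 0559), scheme form.
-/
import Mathlib
import Groth.Agent.Lib.Helper35.GeomIrrH
import Groth.Agent.Lib.Helper35.GeomIrrI
import Groth.Agent.Lib.Helper35.GeomIrrJ1

set_option autoImplicit false
set_option maxHeartbeats 2000000
universe u
open TensorProduct

namespace Groth.Agent.Lib.Helper35.GeomIrr

open AlgebraicGeometry CategoryTheory Limits TopologicalSpace
open Groth.Agent.Lib.Helper13.GenFibre3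

variable {X Y : Scheme.{u}}

/-- the closed point of `Spec k` maps to the generic point if the kernel is the nilradical. -/
theorem fromSpec_closedPoint_eq_of_ker {W : Y.Opens} (hW : IsAffineOpen W)
    (z₀ : Spec Γ(Y, W)) (K : Type u) [Field K] (ψ₀ : Γ(Y, W) →+* K)
    (hker : RingHom.ker ψ₀ = z₀.asIdeal) :
    (Spec.map (CommRingCat.ofHom ψ₀) ≫ hW.fromSpec) (IsLocalRing.closedPoint K) =
      hW.fromSpec z₀ := by
  rw [Scheme.Hom.comp_apply]
  congr 1
  apply PrimeSpectrum.ext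
  have hx : (IsLocalRing.closedPoint K).asIdeal = ⊥ := Ideal.eq_bot_of_prime _
  show Ideal.comap ψ₀ (IsLocalRing.closedPoint K).asIdeal = z₀.asIdeal
  rw [hx, ← hker]; rfl

theorem exists_chart_element (f : X ⟶ Y) [IrreducibleSpace ↑Y] [LocallyOfFiniteType f]
    (h : GeometricallyIrreducible (f.fiberToSpecResidueField (genericPoint ↑Y)))
    {W : Y.Opens} (hW : IsAffineOpen W) (z₀ : Spec Γ(Y, W))
    (hz₀ : hW.fromSpec z₀ = genericPoint ↑Y) (U : X.affineOpens) (hU : (U : X.Opens) ≤ f ⁻¹ᵁ W) :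
    ∃ a : Γ(Y, W), a ∉ nilradical Γ(Y, W) ∧
      ∀ (k : Type u) [Field k] (ψ : Γ(Y, W) ⟶ CommRingCat.of k), ψ.hom a ≠ 0 →
        ((∃ x ∈ (U : X.Opens), f x = genericPoint ↑Y) →
          IrreducibleSpace ↥(pullback (Spec.map (f.appLE W U hU)) (Spec.map ψ))) ∧
        ((¬ ∃ x ∈ (U : X.Opens), f x = genericPoint ↑Y) →
          IsEmpty ↥(pullback (Spec.map (f.appLE W U hU)) (Spec.map ψ))) := by
  classical
  have hnil : z₀.asIdeal = nilradical Γ(Y, W) :=
    Groth.Agent.Lib.Helper13.GenFibre.asIdeal_eq_nilradical_of_fromSpec_eq hW z₀ hz₀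
  have hp : (nilradical Γ(Y, W)).IsPrime := hnil ▸ z₀.isPrime
  by_cases hG : ∃ x ∈ (U : X.Opens), f x = genericPoint ↑Y
  · letI : Algebra Γ(Y, W) Γ(X, U) := (f.appLE W U hU).hom.toAlgebra
    have hft : Algebra.FiniteType Γ(Y, W) Γ(X, U) := f.finiteType_appLE hW U.2 hU
    obtain ⟨a, ha, hA⟩ := exists_forall_ringHom_irr (A := Γ(Y, W)) (B := Γ(X, U)) hp (by
      intro K _ ψ₀ hker
      let ψ' : Γ(Y, W) ⟶ CommRingCat.of K := CommRingCat.ofHom ψ₀
      have hpt : (Spec.map ψ' ≫ hW.fromSpec) (IsLocalRing.closedPoint K) = genericPoint ↑Y := by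
        rw [← hz₀]
        exact fromSpec_closedPoint_eq_of_ker hW z₀ K ψ₀ (by rw [hker, hnil])
      haveI hirrP : IrreducibleSpace ↥(pullback f (Spec.map ψ' ≫ hW.fromSpec)) :=
        irreducibleSpace_pullback_of_fiber f _ (by rw [hpt]; exact h)
      obtain ⟨x, hxU, hfx⟩ := hG
      obtain ⟨z, hz1, -⟩ := Scheme.Pullback.exists_preimage_pullback (f := f)
        (g := Spec.map ψ' ≫ hW.fromSpec) x (IsLocalRing.closedPoint K) (by rw [hfx, hpt])
      have hzr : z ∈ Set.range (genChart f hW U.2 hU ψ') := by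
        rw [range_genChart]
        show pullback.fst f (Spec.map ψ' ≫ hW.fromSpec) z ∈ (U : X.Opens)
        rw [hz1]; exact hxU
      obtain ⟨w, -⟩ := hzr
      haveI : Nonempty ↥(pullback (Spec.map (f.appLE W U hU)) (Spec.map ψ')) := ⟨w⟩
      have hirrC : IrreducibleSpace ↥(pullback (Spec.map (f.appLE W U hU)) (Spec.map ψ')) :=
        (genChart f hW U.2 hU ψ').isOpenEmbedding.irreducibleSpace
      exact (irreducibleSpace_genChart_iff f hU ψ').mp hirrC)
    refine ⟨a, ha, fun k _ ψ hψ => ⟨fun _ => ?_, fun hnG => absurd hG hnG⟩⟩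
    rw [irreducibleSpace_genChart_iff f hU ψ]
    exact hA k ψ.hom hψ
  · obtain ⟨a, ha, hanil⟩ := exists_isNilpotent_map_of_notMem_range_comap
      (f.appLE W U hU).hom hp (by
        intro q hq
        apply hG
        refine ⟨U.2.fromSpec q, ?_, ?_⟩
        · have : U.2.fromSpec q ∈ Set.range U.2.fromSpec := ⟨q, rfl⟩
          rwa [U.2.range_fromSpec] at this
        · have h1 : (U.2.fromSpec ≫ f) q = (Spec.map (f.appLE W U hU) ≫ hW.fromSpec) q := by
            rw [IsAffineOpen.SpecMap_appLE_fromSpec f hW U.2 hU]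
          rw [Scheme.Hom.comp_apply, Scheme.Hom.comp_apply] at h1
          rw [h1, ← hz₀]
          congr 1
          apply PrimeSpectrum.ext
          rw [hnil, ← hq]
          rfl)
    refine ⟨a, ha, fun k _ ψ hψ => ⟨fun hG' => absurd hG' hG, fun _ => ?_⟩⟩
    exact isEmpty_genChart_of_isNilpotent f hU ψ a hanil (isUnit_iff_ne_zero.mpr hψ)

end Groth.Agent.Lib.Helper35.GeomIrr
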