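/-
Helper library (helper35): geometrically irreducible fibres near the generic point
(EGA IV 9.7.7 / Stacks 0559), scheme form: main theorems.
-/
import Mathlib
import Groth.Agent.Lib.Helper35.GeomIrrJ2

set_option autoImplicit false
set_option maxHeartbeats 2000000
universe u
open TensorProduct

namespace Groth.Agent.Lib.Helper35.GeomIrr

open AlgebraicGeometry CategoryTheory Limits TopologicalSpace
open Groth.Agent.Lib.Helper13.GenFibre3

variable {X Y : Scheme.{u}}

theorem isIrreducible_preimage_singleton_of_fiber (f : X ⟶ Y) (y : Y)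
    (h : GeometricallyIrreducible (f.fiberToSpecResidueField y)) :
    IsIrreducible (f ⁻¹' {y}) := by
  haveI := h
  haveI : IrreducibleSpace ↥(f.fiber y) :=
    GeometricallyIrreducible.irreducibleSpace_of_subsingleton (f.fiberToSpecResidueField y)
  rw [← f.range_fiberι, ← Set.image_univ]
  exact (IrreducibleSpace.isIrreducible_univ _).image _ (f.fiberι _).continuous.continuousOn

theorem exists_affine_le_inf (f : X ⟶ Y) (y : Y)
    (h : GeometricallyIrreducible (f.fiberToSpecResidueField y)) (U U' : X.affineOpens) :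
    ∃ U'' : X.affineOpens, (U'' : X.Opens) ≤ U ∧
      ((∃ x ∈ (U : X.Opens), f x = y) → (∃ x ∈ (U' : X.Opens), f x = y) →
        (U'' : X.Opens) ≤ U' ∧ ∃ x ∈ (U'' : X.Opens), f x = y) := by
  by_cases hG : (∃ x ∈ (U : X.Opens), f x = y) ∧ (∃ x ∈ (U' : X.Opens), f x = y)
  · obtain ⟨⟨x, hxU, hx⟩, ⟨x', hxU', hx'⟩⟩ := hG
    have hirr := isIrreducible_preimage_singleton_of_fiber f y h
    obtain ⟨z, hz, hzU, hzU'⟩ := hirr.isPreirreducible (U : X.Opens) (U' : X.Opens)
      U.1.isOpen U'.1.isOpen ⟨x, hx, hxU⟩ ⟨x', hx', hxU'⟩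
    obtain ⟨U'', hU'', hzU'', hle⟩ := exists_isAffineOpen_mem_and_subset
      (x := z) (U := (U : X.Opens) ⊓ U') ⟨hzU, hzU'⟩
    exact ⟨⟨U'', hU''⟩, fun a ha => (hle ha).1, fun _ _ => ⟨fun a ha => (hle ha).2, z, hzU'', hz⟩⟩
  · exact ⟨U, le_rfl, fun h1 h2 => absurd ⟨h1, h2⟩ hG⟩

/-- **Geometrically irreducible fibres near the generic point** (point form). -/
theorem exists_open_forall_irreducibleSpace_pullback (f : X ⟶ Y) [IrreducibleSpace ↑Y]
    [LocallyOfFiniteType f] [QuasiCompact f]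
    (h : GeometricallyIrreducible (f.fiberToSpecResidueField (genericPoint ↑Y))) :
    ∃ V : Y.Opens, (V : Set ↑Y).Nonempty ∧ ∀ (k : Type u) [Field k] (s : Spec (.of k) ⟶ Y),
      Set.range s ⊆ V → IrreducibleSpace ↥(pullback f s) := by
  classical
  obtain ⟨W, hW, hηW, -⟩ := exists_isAffineOpen_mem_and_subset
    (x := genericPoint ↑Y) (U := ⊤) trivial
  have hηr : genericPoint ↑Y ∈ Set.range hW.fromSpec := by
    rw [hW.range_fromSpec]; exact hηW
  obtain ⟨z₀, hz₀⟩ := hηr
  have hnil : z₀.asIdeal = nilradical Γ(Y, W) :=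
    Groth.Agent.Lib.Helper13.GenFibre.asIdeal_eq_nilradical_of_fromSpec_eq hW z₀ hz₀
  have hp : (nilradical Γ(Y, W)).IsPrime := hnil ▸ z₀.isPrime
  -- finite affine cover of `f⁻¹ W`
  have hcpt : IsCompact ((f ⁻¹ᵁ W : X.Opens) : Set X) :=
    (quasiCompact_iff_forall_isAffineOpen.mp inferInstance) W hW
  obtain ⟨S, hSfin, hSeq⟩ :=
    (isCompact_and_isOpen_iff_finite_and_eq_biUnion_affineOpens).mp ⟨hcpt, (f ⁻¹ᵁ W).isOpen⟩
  have hSW : ∀ U ∈ S, (U : X.Opens) ≤ f ⁻¹ᵁ W := by
    intro U hU x hx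
    show x ∈ ((f ⁻¹ᵁ W : X.Opens) : Set X)
    rw [hSeq]
    simp only [Set.mem_iUnion]
    exact ⟨U, hU, hx⟩
  -- pairwise refinements
  choose m hm1 hm2 using exists_affine_le_inf f (genericPoint ↑Y) h
  let T : Finset X.affineOpens :=
    hSfin.toFinset ∪ (hSfin.toFinset ×ˢ hSfin.toFinset).image (fun p => m p.1 p.2)
  have hTW : ∀ U ∈ T, (U : X.Opens) ≤ f ⁻¹ᵁ W := by
    intro U hU
    rcases Finset.mem_union.mp hU with hU | hU
    · exact hSW U (hSfin.mem_toFinset.mp hU)
    · obtain ⟨p, hp', rfl⟩ := Finset.mem_image.mp hU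
      exact (hm1 p.1 p.2).trans (hSW p.1 (hSfin.mem_toFinset.mp (Finset.mem_product.mp hp').1))
  have hchart : ∀ (U : X.affineOpens), ∃ a : Γ(Y, W), a ∉ nilradical Γ(Y, W) ∧
      ∀ (hU : (U : X.Opens) ≤ f ⁻¹ᵁ W) (k : Type u) [Field k]
        (ψ : Γ(Y, W) ⟶ CommRingCat.of k), ψ.hom a ≠ 0 →
        ((∃ x ∈ (U : X.Opens), f x = genericPoint ↑Y) →
          IrreducibleSpace ↥(pullback (Spec.map (f.appLE W U hU)) (Spec.map ψ))) ∧
        ((¬ ∃ x ∈ (U : X.Opens), f x = genericPoint ↑Y) →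
          IsEmpty ↥(pullback (Spec.map (f.appLE W U hU)) (Spec.map ψ))) := by
    intro U
    by_cases hU : (U : X.Opens) ≤ f ⁻¹ᵁ W
    · obtain ⟨a, ha, hA⟩ := exists_chart_element f h hW z₀ hz₀ U hU
      exact ⟨a, ha, fun _ => hA⟩
    · exact ⟨1, fun h1 => hp.ne_top ((Ideal.eq_top_iff_one _).mpr h1), fun hU' => absurd hU' hU⟩
  choose a ha hA using hchart
  let a₀ : Γ(Y, W) := ∏ U ∈ T, a U
  have ha₀ : a₀ ∉ nilradical Γ(Y, W) := by
    intro hmem
    obtain ⟨U, hU, hUm⟩ := (hp.prod_mem_iff).mp hmem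
    exact ha U hUm
  refine ⟨Y.basicOpen a₀, ⟨genericPoint ↑Y, ?_⟩, ?_⟩
  · have : z₀ ∈ hW.fromSpec ⁻¹ᵁ Y.basicOpen a₀ := by
      rw [hW.fromSpec_preimage_basicOpen]
      show a₀ ∉ z₀.asIdeal
      rw [hnil]; exact ha₀
    have h2 : hW.fromSpec z₀ ∈ Y.basicOpen a₀ := this
    rwa [hz₀] at h2
  · intro k _ s hs
    have hsW : Set.range s ⊆ W := hs.trans (Y.basicOpen_le a₀)
    obtain ⟨ψ, hψ⟩ := exists_eq_SpecMap_comp_fromSpec hW s hsW
    have hψa : ψ.hom a₀ ≠ 0 := by
      have h1 : s (IsLocalRing.closedPoint k) ∈ Y.basicOpen a₀ := hs ⟨_, rfl⟩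
      rw [hψ, Scheme.Hom.comp_apply] at h1
      have h2 : Spec.map ψ (IsLocalRing.closedPoint k) ∈ hW.fromSpec ⁻¹ᵁ Y.basicOpen a₀ := h1
      rw [hW.fromSpec_preimage_basicOpen] at h2
      have h3 : a₀ ∉ (Spec.map ψ (IsLocalRing.closedPoint k)).asIdeal := h2
      intro h0
      apply h3
      have hx : (IsLocalRing.closedPoint k).asIdeal = ⊥ := Ideal.eq_bot_of_prime _
      show a₀ ∈ Ideal.comap ψ.hom (IsLocalRing.closedPoint k).asIdeal
      rw [hx, Ideal.mem_comap, h0]; exact Ideal.zero_mem _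
    have hψU : ∀ U ∈ T, ψ.hom (a U) ≠ 0 := by
      intro U hU h0
      apply hψa
      show ψ.hom (∏ U ∈ T, a U) = 0
      rw [map_prod]
      exact Finset.prod_eq_zero hU h0
    rw [hψ]
    -- the charts
    have hST : ∀ U ∈ S, U ∈ T := fun U hU =>
      Finset.mem_union_left _ (hSfin.mem_toFinset.mpr hU)
    have hmT : ∀ U ∈ S, ∀ U' ∈ S, m U U' ∈ T := fun U hU U' hU' =>
      Finset.mem_union_right _ (Finset.mem_image.mpr ⟨(U, U'),
        Finset.mem_product.mpr ⟨hSfin.mem_toFinset.mpr hU, hSfin.mem_toFinset.mpr hU'⟩, rfl⟩)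
    -- properties of a chart in `T`
    have key : ∀ U (hU : U ∈ T),
        (Set.range (genChart f hW U.2 (hTW U hU) ψ)).Nonempty ↔
          ∃ x ∈ (U : X.Opens), f x = genericPoint ↑Y := by
      intro U hU
      constructor
      · rintro ⟨_, w, -⟩
        by_contra hnG
        exact ((hA U (hTW U hU) k ψ (hψU U hU)).2 hnG).false w
      · intro hG
        haveI := (hA U (hTW U hU) k ψ (hψU U hU)).1 hG
        obtain ⟨w⟩ : Nonempty ↥(pullback (Spec.map (f.appLE W U (hTW U hU))) (Spec.map ψ)) :=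
          inferInstance
        exact ⟨_, w, rfl⟩
    have keyirr : ∀ U (hU : U ∈ T),
        (Set.range (genChart f hW U.2 (hTW U hU) ψ)).Nonempty →
          IsIrreducible (Set.range (genChart f hW U.2 (hTW U hU) ψ)) := by
      intro U hU hne
      haveI := (hA U (hTW U hU) k ψ (hψU U hU)).1 ((key U hU).mp hne)
      rw [← Set.image_univ]
      exact (IrreducibleSpace.isIrreducible_univ _).image _
        (genChart f hW U.2 (hTW U hU) ψ).continuous.continuousOn
    -- some chart is nonempty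
    obtain ⟨x₀, hx₀⟩ := (isIrreducible_preimage_singleton_of_fiber f _ h).nonempty
    have hx₀W : x₀ ∈ ((f ⁻¹ᵁ W : X.Opens) : Set X) := by
      show f x₀ ∈ W
      rw [hx₀]; exact hηW
    rw [hSeq] at hx₀W
    simp only [Set.mem_iUnion] at hx₀W
    obtain ⟨U₀, hU₀S, hx₀U₀⟩ := hx₀W
    refine irreducibleSpace_of_cover (ι := {U : X.affineOpens // U ∈ S})
      (fun U => Set.range (genChart f hW U.1.2 (hTW U.1 (hST U.1 U.2)) ψ))
      (fun U => (genChart f hW U.1.2 (hTW U.1 (hST U.1 U.2)) ψ).isOpenEmbedding.isOpen_range)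
      ?_ (fun U => keyirr U.1 (hST U.1 U.2)) ?_ ⟨U₀, hU₀S⟩
      ((key U₀ (hST U₀ hU₀S)).mpr ⟨x₀, hx₀U₀, hx₀⟩)
    · intro x
      have hxW : pullback.fst f (Spec.map ψ ≫ hW.fromSpec) x ∈ f ⁻¹ᵁ W := by
        show f (pullback.fst f (Spec.map ψ ≫ hW.fromSpec) x) ∈ W
        rw [← Scheme.Hom.comp_apply, pullback.condition, Scheme.Hom.comp_apply,
          Scheme.Hom.comp_apply]
        have : hW.fromSpec (Spec.map ψ (pullback.snd f (Spec.map ψ ≫ hW.fromSpec) x)) ∈
            Set.range hW.fromSpec := ⟨_, rfl⟩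
        rwa [hW.range_fromSpec] at this
      have hx2 : pullback.fst f (Spec.map ψ ≫ hW.fromSpec) x ∈ ((f ⁻¹ᵁ W : X.Opens) : Set X) :=
        hxW
      rw [hSeq] at hx2
      simp only [Set.mem_iUnion] at hx2
      obtain ⟨U, hUs, hxU⟩ := hx2
      refine ⟨⟨U, hUs⟩, ?_⟩
      show x ∈ Set.range (genChart f hW U.2 (hTW U (hST U hUs)) ψ)
      rw [range_genChart]
      exact hxU
    · rintro ⟨U, hUS⟩ ⟨U', hU'S⟩ hne hne'
      have hG := (key U (hST U hUS)).mp hne
      have hG' := (key U' (hST U' hU'S)).mp hne'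
      obtain ⟨hle', hG''⟩ := hm2 U U' hG hG'
      have hle := hm1 U U'
      obtain ⟨z, hz⟩ := (key (m U U') (hmT U hUS U' hU'S)).mpr hG''
      rw [range_genChart] at hz
      refine ⟨z, ?_, ?_⟩
      · show z ∈ Set.range (genChart f hW U.2 (hTW U (hST U hUS)) ψ)
        rw [range_genChart]
        exact hle hz
      · show z ∈ Set.range (genChart f hW U'.2 (hTW U' (hST U' hU'S)) ψ)
        rw [range_genChart]
        exact hle' hz

/-- Geometric irreducibility of a restriction from irreducibility of field-valued base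
changes. -/
theorem geometricallyIrreducible_morphismRestrict_of_forall (f : X ⟶ Y) (V : Y.Opens)
    (H : ∀ (k : Type u) [Field k] (s : Spec (.of k) ⟶ Y),
      Set.range s ⊆ V → IrreducibleSpace ↥(pullback f s)) :
    GeometricallyIrreducible (f ∣_ V) := by
  rw [geometricallyIrreducible_iff]
  intro K _ y Z fst snd hpb
  have hpb' : IsPullback (fst ≫ (f ⁻¹ᵁ V).ι) snd f (y ≫ V.ι) :=
    hpb.paste_horiz (isPullback_morphismRestrict f V).flip
  have hrange : Set.range (y ≫ V.ι) ⊆ V := by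
    rintro _ ⟨x, rfl⟩
    rw [Scheme.Hom.comp_apply]
    exact (y x).2
  haveI := H K (y ≫ V.ι) hrange
  exact hpb'.isoPullback.hom.homeomorph.irreducibleSpace_iff.mpr inferInstance

/-- **Geometrically irreducible fibres near the generic point** (EGA IV 9.7.7). -/
theorem exists_open_geometricallyIrreducible_morphismRestrict (f : X ⟶ Y) [IrreducibleSpace ↑Y]
    [LocallyOfFiniteType f] [QuasiCompact f]
    (h : GeometricallyIrreducible (f.fiberToSpecResidueField (genericPoint ↑Y))) :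
    ∃ V : Y.Opens, (V : Set ↑Y).Nonempty ∧ GeometricallyIrreducible (f ∣_ V) := by
  obtain ⟨V, hV, H⟩ := exists_open_forall_irreducibleSpace_pullback f h
  exact ⟨V, hV, geometricallyIrreducible_morphismRestrict_of_forall f V H⟩

/-- Geometric irreducibility of a fibre from irreducibility of field-valued base changes. -/
theorem geometricallyIrreducible_fiber_of_forall (f : X ⟶ Y) (y : Y)
    (H : ∀ (k : Type u) [Field k] (s : Spec (.of k) ⟶ Y),
      Set.range s ⊆ {y} → IrreducibleSpace ↥(pullback f s)) :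
    GeometricallyIrreducible (f.fiberToSpecResidueField y) := by
  rw [geometricallyIrreducible_iff]
  intro K _ t Z fst snd hpb
  have hpb' : IsPullback (fst ≫ f.fiberι y) snd f (t ≫ Y.fromSpecResidueField y) :=
    hpb.paste_horiz (IsPullback.of_hasPullback f (Y.fromSpecResidueField y))
  have hrange : Set.range (t ≫ Y.fromSpecResidueField y) ⊆ {y} := by
    rintro _ ⟨x, rfl⟩
    rw [Scheme.Hom.comp_apply, Scheme.fromSpecResidueField_apply]
    rfl
  haveI := H K _ hrange
  exact hpb'.isoPullback.hom.homeomorph.irreducibleSpace_iff.mpr inferInstance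

/-- **Geometrically irreducible fibres near the generic point** (fibre form). -/
theorem exists_open_forall_geometricallyIrreducible_fiber (f : X ⟶ Y) [IrreducibleSpace ↑Y]
    [LocallyOfFiniteType f] [QuasiCompact f]
    (h : GeometricallyIrreducible (f.fiberToSpecResidueField (genericPoint ↑Y))) :
    ∃ V : Y.Opens, (V : Set ↑Y).Nonempty ∧
      ∀ y ∈ V, GeometricallyIrreducible (f.fiberToSpecResidueField y) := by
  obtain ⟨V, hV, H⟩ := exists_open_forall_irreducibleSpace_pullback f h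
  refine ⟨V, hV, fun y hy => geometricallyIrreducible_fiber_of_forall f y (fun k _ s hs => ?_)⟩
  exact H k s (hs.trans (Set.singleton_subset_iff.mpr hy))

end Groth.Agent.Lib.Helper35.GeomIrr
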