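import Groth.Agent.Lib.Helper35.TADescent
import Mathlib.RingTheory.Flat.FaithfullyFlat.Basic
import Mathlib.RingTheory.Flat.Localization
import Mathlib.RingTheory.LocalProperties.Submodule

set_option autoImplicit false
set_option linter.unusedSectionVars false
universe u
open CategoryTheory CategoryTheory.Limits DerivedCategory
attribute [local instance] HasDerivedCategory.standard

namespace Groth.Agent.Lib.Helper35.TA

open Groth.Agent.Lib.Helper35.FlatBC
open scoped TensorProduct

variable {R : Type u} [CommRing R]

/-- A faithfully flat algebra is a (one-element) jointly faithfully flat family. -/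
theorem jff_of_faithfullyFlat (R' : Type u) [CommRing R'] [Algebra R R']
    [Module.FaithfullyFlat R R'] : JFF (R := R) (fun _ : Unit => R') where
  flat _ := inferInstance
  zero M h := by
    have h1 : Subsingleton ((ext R R').obj M) := ModuleCat.subsingleton_of_isZero (h ())
    have h2 : Subsingleton (R' ⊗[R] M) := (extLinearEquiv R' M).symm.toEquiv.subsingleton
    have h3 : Subsingleton M := Module.FaithfullyFlat.lTensor_reflects_triviality R R' M
    exact ModuleCat.isZero_of_subsingleton M
  flatM M h := by
    have h1 : Module.Flat R' ((ext R R').obj M) := h ()
    have h2 : Module.Flat R' (R' ⊗[R] M) := Module.Flat.of_linearEquiv (extLinearEquiv R' M).symm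
    exact Module.Flat.of_flat_tensorProduct R M R'

/-- A finite Zariski cover by principal opens is a jointly faithfully flat family. -/
theorem jff_of_span_eq_top {r : ℕ} (f : Fin r → R) (hf : Ideal.span (Set.range f) = ⊤) :
    JFF (R := R) (fun i : Fin r => Localization.Away (f i)) where
  flat _ := inferInstance
  zero M h := by
    have h2 : ∀ i, Subsingleton (Localization.Away (f i) ⊗[R] M) := fun i => by
      have h1 : Subsingleton ((ext R (Localization.Away (f i))).obj M) :=
        ModuleCat.subsingleton_of_isZero (h i)
      exact (extLinearEquiv (Localization.Away (f i)) M).symm.toEquiv.subsingleton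
    have h3 : Subsingleton M := by
      refine ⟨fun x y => ?_⟩
      refine Module.eq_of_isLocalized_span (Set.range f) hf
        (fun s => Localization.Away s.1 ⊗[R] M)
        (fun s => TensorProduct.mk R (Localization.Away s.1) M 1) x y ?_
      rintro ⟨_, i, rfl⟩
      exact (h2 i).elim _ _
    exact ModuleCat.isZero_of_subsingleton M
  flatM M h := by
    refine Module.flat_of_isLocalized_span R M (Set.range f) hf
      (fun s => Localization.Away s.1 ⊗[R] M)
      (fun s => TensorProduct.mk R (Localization.Away s.1) M 1) ?_
    rintro ⟨_, i, rfl⟩
    have h1 : Module.Flat (Localization.Away (f i)) ((ext R (Localization.Away (f i))).obj M) := h i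
    have h2 : Module.Flat (Localization.Away (f i)) (Localization.Away (f i) ⊗[R] M) :=
      Module.Flat.of_linearEquiv (extLinearEquiv (Localization.Away (f i)) M).symm
    exact Module.Flat.trans R (Localization.Away (f i)) _

end Groth.Agent.Lib.Helper35.TA
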