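import Groth.Agent.Lib.Helper35.TorDim
import Mathlib.RingTheory.Flat.Basic
import Mathlib.LinearAlgebra.TensorProduct.Tower

/-! Tor dimension of flat `B`-modules over `A` (helper35). -/

set_option autoImplicit false
set_option linter.unusedSectionVars false
universe u
open CategoryTheory CategoryTheory.Limits MonoidalCategory TensorProduct

namespace Groth.Agent.Lib.Helper35.TA

section Lin

variable {A B : Type u} [CommRing A] [CommRing B] [Algebra A B]
  {F : Type u} [AddCommGroup F] [Module A F] [Module B F] [IsScalarTower A B F] [Module.Flat B F]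
  {U V W : Type u} [AddCommGroup U] [Module A U] [AddCommGroup V] [Module A V]
  [AddCommGroup W] [Module A W]

theorem cancelBaseChange_lTensor_baseChange (f : U →ₗ[A] V) (x : F ⊗[B] (B ⊗[A] U)) :
    AlgebraTensorModule.cancelBaseChange A B B F V ((f.baseChange B).lTensor F x) =
      f.lTensor F (AlgebraTensorModule.cancelBaseChange A B B F U x) := by
  induction x using TensorProduct.induction_on with
  | zero => simp
  | tmul y z =>
    induction z using TensorProduct.induction_on with
    | zero => simp
    | tmul b u => simp
    | add z z' hz hz' =>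
      rw [TensorProduct.tmul_add, map_add, map_add, hz, hz', map_add, map_add]
  | add x x' hx hx' =>
    rw [map_add, map_add, hx, hx', map_add, map_add]

/-- If `B ⊗_A -` keeps `f, g` exact and `F` is a flat `B`-module then `F ⊗_A -` keeps it exact. -/
theorem exact_lTensor_of_flat_over (f : U →ₗ[A] V) (g : V →ₗ[A] W)
    (h : Function.Exact (f.lTensor B) (g.lTensor B)) :
    Function.Exact (f.lTensor F) (g.lTensor F) := by
  have h' : Function.Exact (f.baseChange B) (g.baseChange B) := h
  have h2 : Function.Exact ((f.baseChange B).lTensor F) ((g.baseChange B).lTensor F) :=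
    Module.Flat.lTensor_exact F h'
  refine (Function.Exact.iff_of_ladder_linearEquiv
    (e₁ := (AlgebraTensorModule.cancelBaseChange A B B F U).restrictScalars A)
    (e₂ := (AlgebraTensorModule.cancelBaseChange A B B F V).restrictScalars A)
    (e₃ := (AlgebraTensorModule.cancelBaseChange A B B F W).restrictScalars A)
    (f₁₂ := ((f.baseChange B).lTensor F).restrictScalars A)
    (f₂₃ := ((g.baseChange B).lTensor F).restrictScalars A)
    (g₁₂ := f.lTensor F) (g₂₃ := g.lTensor F) ?_ ?_).2 h2
  · ext x
    exact (cancelBaseChange_lTensor_baseChange f _).symm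
  · ext x
    exact (cancelBaseChange_lTensor_baseChange g _).symm

end Lin


section Tor

variable {A : Type u} [CommRing A]

/-- Tor vanishing as exactness of the tensored resolution. -/
theorem isZero_TorZ_succ_iff (X N : ModuleCat.{u} A) (q : ℕ) :
    IsZero (TorZ (q + 1) X N) ↔
      Function.Exact
        (((projectiveResolution N).complex.d (q + 1 + 1) (q + 1)).hom.lTensor X)
        (((projectiveResolution N).complex.d (q + 1) q).hom.lTensor X) := by
  let P := projectiveResolution N
  have e := P.isoLeftDerivedObj (tensorLeft X) (q + 1)
  change IsZero (((tensorLeft X).leftDerived (q + 1)).obj N) ↔ _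
  rw [e.isZero_iff]
  change IsZero (HomologicalComplex.homology _ _) ↔ _
  rw [← HomologicalComplex.exactAt_iff_isZero_homology,
    HomologicalComplex.exactAt_iff' _ (q + 1 + 1) (q + 1) q (by simp) (by simp),
    ShortComplex.ShortExact.moduleCat_exact_iff_function_exact]
  exact Iff.rfl

variable {B : Type u} [CommRing B] [Algebra A B]

set_option backward.isDefEq.respectTransparency false in
/-- A flat `B`-module has tor dimension `≤ d` over `A` if `B` has. -/
theorem TD_restrict_of_flat (d : ℕ) (hB : TD d (ModuleCat.of A B)) (F : ModuleCat.{u} B)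
    [Module.Flat B F] : TD d ((ModuleCat.restrictScalars (algebraMap A B)).obj F) := by
  intro N p hp
  obtain ⟨q, rfl⟩ : ∃ q, p = q + 1 := ⟨p - 1, by omega⟩
  rw [isZero_TorZ_succ_iff]
  have h1 := (isZero_TorZ_succ_iff (ModuleCat.of A B) N q).1 (hB N (q + 1) hp)
  let T : Type u := ((ModuleCat.restrictScalars (algebraMap A B)).obj F)
  let _ : Module B T := (inferInstance : Module B F)
  have hflat : Module.Flat B T := (inferInstance : Module.Flat B F)
  have : IsScalarTower A B T := ⟨fun a b x => by
    change (a • b) • (show F from x) = (algebraMap A B a) • (b • (show F from x))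
    rw [Algebra.smul_def, mul_smul]⟩
  exact exact_lTensor_of_flat_over (B := B) (F := T) _ _ h1

end Tor

end Groth.Agent.Lib.Helper35.TA
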