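import Groth.Agent.Lib.Helper35.BCIso
import Groth.Agent.Lib.Helper35.TADescent2
import Groth.Agent.S6947
import Mathlib.RingTheory.Localization.BaseChange

/-! Finite tor dimension of ring maps: permanence properties (helper35). -/

set_option autoImplicit false
set_option linter.unusedSectionVars false
universe u
open CategoryTheory CategoryTheory.Limits MonoidalCategory DerivedCategory CochainComplex
  TensorProduct
attribute [local instance] HasDerivedCategory.standard

namespace Groth.Agent.Lib.Helper35.FTD

open Groth.Agent.Lib.Helper35.TA Groth.Agent.Lib.Helper35.FlatBC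

section Basic

variable {A : Type u} [CommRing A]

theorem hasFiniteTorDim_iff (M : Type u) [AddCommGroup M] [Module A M] :
    DRing.HasFiniteTorDim A M ↔ ∃ n : ℕ, TAmp (-(n : ℤ)) 0 (Dual.inD A M) := by
  constructor
  · rintro ⟨n, hn⟩
    exact ⟨n, (TD_iff_TAmp n _).1 ((hasTorDimLE_iff_TD n M).1 hn)⟩
  · rintro ⟨n, hn⟩
    exact ⟨n, (hasTorDimLE_iff_TD n M).2 ((TD_iff_TAmp n _).2 hn)⟩

theorem of_linearEquiv {M M' : Type u} [AddCommGroup M] [Module A M] [AddCommGroup M']
    [Module A M'] (e : M ≃ₗ[A] M') (h : DRing.HasFiniteTorDim A M) :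
    DRing.HasFiniteTorDim A M' := by
  rw [hasFiniteTorDim_iff] at h ⊢
  obtain ⟨n, hn⟩ := h
  exact ⟨n, TAmp.of_iso hn
    ((DerivedCategory.singleFunctor (ModuleCat.{u} A) 0).mapIso e.toModuleIso)⟩

theorem of_flat (M : Type u) [AddCommGroup M] [Module A M] [Module.Flat A M] :
    DRing.HasFiniteTorDim A M :=
  ⟨0, (hasTorDimLE_iff_TD 0 M).2 ((TD_zero_iff_flat _).2 inferInstance)⟩

end Basic

section Comp

variable {A B : Type u} [CommRing A] [CommRing B] [Algebra A B]

/-- `M` as a `B`-module restricted to `A` is `M` as an `A`-module. -/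
noncomputable def restrIso (M : Type u) [AddCommGroup M] [Module A M] [Module B M]
    [IsScalarTower A B M] :
    (ModuleCat.restrictScalars.{u} (algebraMap A B)).obj (ModuleCat.of B M) ≅ ModuleCat.of A M :=
  LinearEquiv.toModuleIso
    (show ((ModuleCat.restrictScalars.{u} (algebraMap A B)).obj (ModuleCat.of B M)) ≃ₗ[A] M from
    { toFun := fun x => x
      invFun := fun x => x
      map_add' := fun _ _ => rfl
      map_smul' := fun a x => by
        change (algebraMap A B a) • (show M from x) = a • (show M from x)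
        rw [algebraMap_smul]
      left_inv := fun _ => rfl
      right_inv := fun _ => rfl })

/-- Transitivity of finite tor dimension. -/
theorem comp (M : Type u) [AddCommGroup M] [Module A M] [Module B M] [IsScalarTower A B M]
    (h1 : DRing.HasFiniteTorDim A B) (h2 : DRing.HasFiniteTorDim B M) :
    DRing.HasFiniteTorDim A M := by
  rw [hasFiniteTorDim_iff] at h1 h2 ⊢
  obtain ⟨d, hd⟩ := h1
  obtain ⟨n, hn⟩ := h2
  refine ⟨n + d, ?_⟩
  have h3 := Groth.Agent.S6947.result d hd (Dual.inD B M) (-(n : ℤ)) 0 hn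
  have e : (DRing.restrictD (algebraMap A B)).obj (Dual.inD B M) ≅ Dual.inD A M :=
    ((ModuleCat.restrictScalars.{u} (algebraMap A B)).mapDerivedCategorySingleFunctor 0).app
      (ModuleCat.of B M) ≪≫
    (DerivedCategory.singleFunctor (ModuleCat.{u} A) 0).mapIso (restrIso M)
  have h4 := TAmp.of_iso h3 e
  refine TAmp.mono h4 ?_ le_rfl
  push_cast
  omega

end Comp

section BaseChange

variable {R S R' S' : Type u} [CommRing R] [CommRing S] [CommRing R'] [CommRing S']
  [Algebra R S] [Algebra R R'] [Algebra S S'] [Algebra R' S'] [Algebra R S']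
  [IsScalarTower R S S'] [IsScalarTower R R' S'] [Algebra.IsPushout R S R' S']

/-- `R' ⊗[R] S ≃ S'` as `R'`-modules, for a pushout square. -/
noncomputable def pushoutEquiv : R' ⊗[R] S ≃ₗ[R'] S' :=
  have : Algebra.IsPushout R R' S S' := Algebra.IsPushout.symm inferInstance
  (Algebra.IsPushout.out (R := R) (S := R') (R' := S) (S' := S')).equiv

/-- Finite tor dimension is stable under flat base change. -/
theorem baseChange [Module.Flat R R'] (h : DRing.HasFiniteTorDim R S) :
    DRing.HasFiniteTorDim R' S' := by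
  rw [hasFiniteTorDim_iff] at h ⊢
  obtain ⟨n, hn⟩ := h
  refine ⟨n, ?_⟩
  have h1 := hasTorAmplitudeIn_G R' _ _ _ hn
  exact TAmp.of_iso h1 (GInDIso R' S ≪≫
    (DerivedCategory.singleFunctor (ModuleCat.{u} R') 0).mapIso
      (pushoutEquiv (R := R) (S := S) (R' := R') (S' := S')).toModuleIso)

/-- Finite tor dimension descends along faithfully flat base change. -/
theorem descent [Module.FaithfullyFlat R R'] (h : DRing.HasFiniteTorDim R' S') :
    DRing.HasFiniteTorDim R S := by
  rw [hasFiniteTorDim_iff] at h ⊢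
  obtain ⟨n, hn⟩ := h
  refine ⟨n, ?_⟩
  let K : DRing.Cx R :=
    (HomologicalComplex.single (ModuleCat.{u} R) (ComplexShape.up ℤ) 0).obj (ModuleCat.of R S)
  have e1 : DRing.toD K ≅ Dual.inD R S :=
    ((DerivedCategory.singleFunctorIsoCompQ (ModuleCat.{u} R) 0).app (ModuleCat.of R S)).symm
  refine TAmp.of_iso ?_ e1
  refine TAmp_descent (fun _ : Unit => R') (jff_of_faithfullyFlat R') K _ _ (fun _ => ?_)
  have e2 : (extCx R R').obj K ≅
      (HomologicalComplex.single (ModuleCat.{u} R') (ComplexShape.up ℤ) 0).obj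
        ((ext R R').obj (ModuleCat.of R S)) :=
    (HomologicalComplex.singleMapHomologicalComplex (ext R R') (ComplexShape.up ℤ) 0).app
      (ModuleCat.of R S)
  have e3 : DRing.toD ((extCx R R').obj K) ≅ Dual.inD R' S' :=
    DerivedCategory.Q.mapIso e2 ≪≫
    ((DerivedCategory.singleFunctorIsoCompQ (ModuleCat.{u} R') 0).app _).symm ≪≫
    (DerivedCategory.singleFunctor (ModuleCat.{u} R') 0).mapIso
      (extObjIso R' S ≪≫ (pushoutEquiv (R := R) (S := S) (R' := R') (S' := S')).toModuleIso)
  exact TAmp.of_iso hn e3.symm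

end BaseChange

section LocMap

variable {R : Type u} [CommRing R] {X Y : Type u} [AddCommGroup X] [Module R X]
  [AddCommGroup Y] [Module R Y]

theorem isLocalizedModule_map_mk' (S : Submonoid R) (A : Type u) [CommRing A] [Algebra R A]
    [IsLocalization S A] (f : X →ₗ[R] Y) :
    IsLocalizedModule.map S (TensorProduct.mk R A X 1) (TensorProduct.mk R A Y 1) f =
      (f.baseChange A).restrictScalars R := by
  apply IsLocalizedModule.linearMap_ext S (TensorProduct.mk R A X 1) (TensorProduct.mk R A Y 1)
  ext x
  change IsLocalizedModule.map S (TensorProduct.mk R A X 1) (TensorProduct.mk R A Y 1) f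
    (TensorProduct.mk R A X 1 x) = _
  rw [IsLocalizedModule.map_apply]
  rfl

end LocMap

section SpanTarget

variable {A B : Type u} [CommRing A] [CommRing B] [Algebra A B]

/-- Tor dimension of `B` over `A` can be checked on a principal open cover of `Spec B`. -/
theorem TD_of_span_target (n : ℕ) (s : Set B) (hs : Ideal.span s = ⊤)
    (h : ∀ r : s, TD n (ModuleCat.of A (Localization.Away r.1))) : TD n (ModuleCat.of A B) := by
  intro N p hp
  obtain ⟨q, rfl⟩ : ∃ q, p = q + 1 := ⟨p - 1, by omega⟩
  rw [isZero_TorZ_succ_iff]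
  have key : ∀ r : s, Function.Exact
      (((projectiveResolution N).complex.d (q + 1 + 1) (q + 1)).hom.lTensor
        (Localization.Away r.1))
      (((projectiveResolution N).complex.d (q + 1) q).hom.lTensor (Localization.Away r.1)) :=
    fun r => (isZero_TorZ_succ_iff (ModuleCat.of A (Localization.Away r.1)) N q).1
      (h r N (q + 1) hp)
  change Function.Exact
    (((projectiveResolution N).complex.d (q + 1 + 1) (q + 1)).hom.baseChange B)
    (((projectiveResolution N).complex.d (q + 1) q).hom.baseChange B)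
  refine exact_of_isLocalized_span s hs
    (fun r => Localization.Away r.1 ⊗[B] (B ⊗[A] (projectiveResolution N).complex.X (q + 1 + 1)))
    (fun r => TensorProduct.mk B _ _ 1)
    (fun r => Localization.Away r.1 ⊗[B] (B ⊗[A] (projectiveResolution N).complex.X (q + 1)))
    (fun r => TensorProduct.mk B _ _ 1)
    (fun r => Localization.Away r.1 ⊗[B] (B ⊗[A] (projectiveResolution N).complex.X q))
    (fun r => TensorProduct.mk B _ _ 1) _ _ ?_
  intro r
  rw [isLocalizedModule_map_mk', isLocalizedModule_map_mk']
  exact (exact_lTensor_baseChange_iff _ _).2 (key r)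

theorem of_span_target {r : ℕ} (g : Fin r → B) (hg : Ideal.span (Set.range g) = ⊤)
    (h : ∀ i, DRing.HasFiniteTorDim A (Localization.Away (g i))) : DRing.HasFiniteTorDim A B := by
  choose n hn using h
  refine ⟨Finset.univ.sup n, ?_⟩
  rw [hasTorDimLE_iff_TD]
  refine TD_of_span_target _ (Set.range g) hg ?_
  rintro ⟨_, i, rfl⟩
  have h1 := (hasTorDimLE_iff_TD (n i) (Localization.Away (g i))).1 (hn i)
  intro N p hp
  exact h1 N p (lt_of_le_of_lt (Finset.le_sup (Finset.mem_univ i)) hp)

end SpanTarget

end Groth.Agent.Lib.Helper35.FTD
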