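import Groth.Agent.Lib.Helper35.IndRep

/-! Dévissage for properties of objects of `D(R)` which are stable under isomorphisms and
extensions, but not necessarily under shifts (helper35). -/

universe u

namespace Groth.Agent.Lib.Helper35.KL

open CategoryTheory Limits CochainComplex DerivedCategory Pretriangulated HomologicalComplex

attribute [local instance] HasDerivedCategory.standard

variable {R : Type u} [CommRing R]

/-- The hypotheses of the dévissage (no shift). -/
structure Devissage' (Pr : Dual.D R → Prop) : Prop where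
  iso : ∀ {K K' : Dual.D R}, (K ≅ K') → Pr K → Pr K'
  mid : ∀ (T : Triangle (Dual.D R)), T ∈ distTriang _ → Pr T.obj₁ → Pr T.obj₃ → Pr T.obj₂
  zero : ∀ (K : Dual.D R), IsZero K → Pr K

variable {Pr : Dual.D R → Prop} (hPr : Devissage' Pr)

include hPr

theorem Devissage'.of_bounded_homology_aux (n : ℕ) :
    ∀ (K : Dual.D R) (a b : ℤ), b - a + 1 ≤ n → K.IsGE a → K.IsLE b →
      (∀ i : ℤ, Pr ((DerivedCategory.singleFunctor (ModuleCat.{u} R) i).obj
        ((homologyFunctor (ModuleCat.{u} R) i).obj K))) → Pr K := by
  induction n with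
  | zero =>
    intro K a b hab hG hL _
    exact hPr.zero _ (TStructure.t.isZero K b a (by omega))
  | succ n ih =>
    intro K a b hab hG hL hK
    have hT := TStructure.t.triangleLTGE_distinguished b K
    have hZG : TStructure.t.IsGE ((TStructure.t.truncGE b).obj K) b := inferInstance
    have hZL : TStructure.t.IsLE ((TStructure.t.truncGE b).obj K) b := inferInstance
    obtain ⟨H, ⟨e0⟩⟩ := exists_iso_singleFunctor_obj_of_isGE_of_isLE
      ((TStructure.t.truncGE b).obj K) b
    have hiso0 := isIso_homology_map_truncGEπ' K b b le_rfl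
    let i0 : (homologyFunctor (ModuleCat.{u} R) b).obj K ≅ H :=
      asIso ((homologyFunctor (ModuleCat.{u} R) b).map ((TStructure.t.truncGEπ b).app K)) ≪≫
        (homologyFunctor (ModuleCat.{u} R) b).mapIso e0 ≪≫
        (DerivedCategory.singleFunctorCompHomologyFunctorIso (ModuleCat.{u} R) b).app H
    have h3 : Pr ((TStructure.t.truncGE b).obj K) :=
      hPr.iso e0.symm
        (hPr.iso ((DerivedCategory.singleFunctor (ModuleCat.{u} R) b).mapIso i0) (hK b))
    have hXL : TStructure.t.IsLE ((TStructure.t.truncLT b).obj K) (b - 1) :=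
      TStructure.t.isLE_truncLT_obj K b (b - 1)
    have hXG : TStructure.t.IsGE ((TStructure.t.truncLT b).obj K) a := inferInstance
    have h1 : Pr ((TStructure.t.truncLT b).obj K) := by
      refine ih _ a (b - 1) (by omega) hXG hXL (fun i => ?_)
      by_cases hi : i < b
      · have := isIso_homology_map_truncLTι' K b i hi
        exact hPr.iso ((DerivedCategory.singleFunctor (ModuleCat.{u} R) i).mapIso
          (asIso ((homologyFunctor (ModuleCat.{u} R) i).map
            ((TStructure.t.truncLTι b).app K))).symm) (hK i)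
      · exact hPr.zero _ ((DerivedCategory.singleFunctor (ModuleCat.{u} R) i).map_isZero
          (isZero_of_isLE ((TStructure.t.truncLT b).obj K) (b - 1) i (by omega)))
    exact hPr.mid _ hT h1 h3

theorem Devissage'.of_bounded_homology (K : Dual.D R)
    (hb : ∃ a b : ℤ, ∀ i : ℤ, (i < a ∨ b < i) →
      Subsingleton ((homologyFunctor (ModuleCat.{u} R) i).obj K))
    (hK : ∀ i : ℤ, Pr ((DerivedCategory.singleFunctor (ModuleCat.{u} R) i).obj
        ((homologyFunctor (ModuleCat.{u} R) i).obj K))) : Pr K := by
  obtain ⟨a, b, hab⟩ := hb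
  obtain ⟨hG, hL⟩ := isGE_and_isLE_of_subsingleton K a b hab
  exact hPr.of_bounded_homology_aux (b - a + 1).toNat K a b (by omega) hG hL hK

theorem Devissage'.of_bounded_termwise_aux (n : ℕ) :
    ∀ (K : DRing.Cx R) (a b : ℤ), b - a + 1 ≤ n → DRing.VanishesOutside K a b →
      (∀ i : ℤ, Pr ((DerivedCategory.singleFunctor (ModuleCat.{u} R) i).obj (K.X i))) →
      Pr (Q.obj K) := by
  induction n with
  | zero =>
    intro K a b hab hK _
    have hz : IsZero K := by
      rw [IsZero.iff_id_eq_zero]
      ext i : 1
      exact (hK i (by omega)).eq_of_src _ _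
    exact hPr.zero _ (Q.map_isZero hz)
  | succ n ih =>
    intro K a b hab hK hP
    let ι : (HomologicalComplex.single (ModuleCat.{u} R) (ComplexShape.up ℤ) b).obj (K.X b) ⟶ K :=
      mkHomFromSingle (𝟙 (K.X b)) (fun k hk => by
        have hk' : b + 1 = k := hk
        exact (hK k (Or.inr (by omega))).eq_of_tgt _ _)
    have hιb : ι.f b = (singleObjXSelf (ComplexShape.up ℤ) b (K.X b)).hom ≫ 𝟙 (K.X b) :=
      mkHomFromSingle_f _ _
    have hιiso : IsIso (ι.f b) := by
      rw [hιb]
      infer_instance
    have hmono : Mono ι := mono_of_mono_f ι (fun i => by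
      by_cases hi : i = b
      · subst hi
        infer_instance
      · exact (isZero_single_obj_X (ComplexShape.up ℤ) b (K.X b) i hi).mono _)
    let S : ShortComplex (DRing.Cx R) := ShortComplex.mk ι (cokernel.π ι) (cokernel.condition ι)
    have hS : S.ShortExact := { exact := ShortComplex.exact_cokernel ι }
    have hSi := (shortExact_iff_degreewise_shortExact S).mp hS
    -- the terms of the cokernel
    have hCb : IsZero ((cokernel ι).X b) := ((hSi b).isIso_f_iff).mp hιiso
    have hCi : ∀ i : ℤ, i ≠ b → IsIso ((cokernel.π ι).f i) := fun i hi =>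
      ((hSi i).isIso_g_iff).mpr (isZero_single_obj_X (ComplexShape.up ℤ) b (K.X b) i hi)
    have hC : DRing.VanishesOutside (cokernel ι) a (b - 1) := by
      intro i hi
      by_cases hib : i = b
      · subst hib
        exact hCb
      · have := hCi i hib
        exact (hK i (by omega)).of_iso (asIso ((cokernel.π ι).f i)).symm
    have hPC : ∀ i : ℤ, Pr ((DerivedCategory.singleFunctor (ModuleCat.{u} R) i).obj
        ((cokernel ι).X i)) := by
      intro i
      by_cases hib : i = b
      · subst hib
        exact hPr.zero _ ((DerivedCategory.singleFunctor (ModuleCat.{u} R) i).map_isZero hCb)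
      · have := hCi i hib
        exact hPr.iso ((DerivedCategory.singleFunctor (ModuleCat.{u} R) i).mapIso
          (asIso ((cokernel.π ι).f i))) (hP i)
    have h3 : Pr (Q.obj (cokernel ι)) := ih _ a (b - 1) (by omega) hC hPC
    have h1 : Pr (Q.obj ((HomologicalComplex.single (ModuleCat.{u} R) (ComplexShape.up ℤ) b).obj
        (K.X b))) :=
      hPr.iso ((DerivedCategory.singleFunctorIsoCompQ (ModuleCat.{u} R) b).app (K.X b)) (hP b)
    exact hPr.mid _ (triangleOfSES_distinguished hS) h1 h3

theorem Devissage'.of_bounded_termwise (K : DRing.Cx R) (a b : ℤ)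
    (hK : DRing.VanishesOutside K a b)
    (hP : ∀ i : ℤ, Pr ((DerivedCategory.singleFunctor (ModuleCat.{u} R) i).obj (K.X i))) :
    Pr (Q.obj K) :=
  hPr.of_bounded_termwise_aux (b - a + 1).toNat K a b (by omega) hK hP

end Groth.Agent.Lib.Helper35.KL
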