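import Mathlib
import Groth.Prelude.Def_DRing2
import Groth.Agent.Lib.Helper35.TARes
import Groth.Agent.Lib.Helper35.DevNoShift

/-! Dévissage for tor amplitude (helper35). -/

set_option autoImplicit false
universe u

open CategoryTheory Limits Pretriangulated DerivedCategory ZeroObject CochainComplex
  HomologicalComplex

namespace Groth.Agent.Lib.Helper35.TA

attribute [local instance] HasDerivedCategory.standard

variable {R : Type u} [CommRing R]

/-- Two out of three, middle form. -/
theorem TAmp.obj₂ (T : Triangle (Dual.D R)) (hT : T ∈ distTriang _) (a b : ℤ)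
    (h₁ : TAmp a b T.obj₁) (h₃ : TAmp a b T.obj₃) : TAmp a b T.obj₂ := by
  have hT' := inv_rot_of_distTriang T hT
  have h3' : TAmp (a + 1) (b + 1) (T.obj₃⟦(-1 : ℤ)⟧) :=
    (TAmp.shift h₃ (-1)).mono (by omega) (by omega)
  exact TAmp.obj₃ T.invRotate hT' a b h3' h₁

theorem devissage'_TAmp (a b : ℤ) :
    Groth.Agent.Lib.Helper35.KL.Devissage' (R := R) (fun K => TAmp a b K) where
  iso e h := h.of_iso e
  mid T hT h₁ h₃ := TAmp.obj₂ T hT a b h₁ h₃
  zero _ hK := TAmp.of_isZero hK

/-- From a module in degree `0` to the module in degree `i`. -/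
theorem TAmp.single (a b i : ℤ) (H : ModuleCat.{u} R)
    (h : TAmp (a - i) (b - i) ((DerivedCategory.singleFunctor (ModuleCat.{u} R) 0).obj H)) :
    TAmp a b ((DerivedCategory.singleFunctor (ModuleCat.{u} R) i).obj H) :=
  ((h.shift (-i)).mono (by omega) (by omega)).of_iso
    (((DerivedCategory.singleFunctors (ModuleCat.{u} R)).shiftIso (-i) i 0 (by omega)).app H)

/-- Bounded cohomology with cohomology modules of the right tor amplitude. -/
theorem TAmp.of_bounded_homology (a b : ℤ) (K : Dual.D R)
    (hb : ∃ c d : ℤ, ∀ i : ℤ, (i < c ∨ d < i) →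
      Subsingleton ((homologyFunctor (ModuleCat.{u} R) i).obj K))
    (hK : ∀ i : ℤ, TAmp (a - i) (b - i) ((DerivedCategory.singleFunctor (ModuleCat.{u} R) 0).obj
        ((homologyFunctor (ModuleCat.{u} R) i).obj K))) : TAmp a b K :=
  (devissage'_TAmp a b).of_bounded_homology K hb (fun i => TAmp.single a b i _ (hK i))

/-- Bounded complexes with terms of the right tor amplitude. -/
theorem TAmp.of_bounded_termwise (a b : ℤ) (K : DRing.Cx R) (c d : ℤ)
    (hcd : DRing.VanishesOutside K c d)
    (hK : ∀ i : ℤ, TAmp (a - i) (b - i)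
      ((DerivedCategory.singleFunctor (ModuleCat.{u} R) 0).obj (K.X i))) :
    TAmp a b (DRing.toD K) :=
  (devissage'_TAmp a b).of_bounded_termwise K c d hcd (fun i => TAmp.single a b i _ (hK i))

end Groth.Agent.Lib.Helper35.TA
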