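import Groth.Agent.Lib.Helper63.TorBridge
import Groth.Agent.Lib.Helper82.RegTor
import Groth.Agent.Lib.Helper35.TADev

set_option autoImplicit false
set_option linter.unusedSectionVars false
universe u
open CategoryTheory CategoryTheory.Limits DerivedCategory MonoidalCategory Pretriangulated
attribute [local instance] HasDerivedCategory.standard

namespace Groth.Agent.Lib.Helper35.TA

variable {R : Type u} [CommRing R]

/-- `Tor_p(M, N)` for objects. -/
noncomputable abbrev TorZ (p : ℕ) (M N : ModuleCat.{u} R) : ModuleCat.{u} R :=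
  ((Tor (ModuleCat.{u} R) p).obj M).obj N

/-- tor dimension `≤ n`, for objects. -/
def TD (n : ℕ) (M : ModuleCat.{u} R) : Prop :=
  ∀ (N : ModuleCat.{u} R) (p : ℕ), n < p → IsZero (TorZ p M N)

theorem hasTorDimLE_iff_TD (n : ℕ) (M : Type u) [AddCommGroup M] [Module R M] :
    DRing.HasTorDimLE R n M ↔ TD n (ModuleCat.of R M) := by
  constructor
  · intro h N p hp
    have := h N p hp
    exact ModuleCat.isZero_of_subsingleton _
  · intro h N _ _ p hp
    exact ModuleCat.subsingleton_of_isZero (h (ModuleCat.of R N) p hp)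

theorem TD_zero_of_flat (M : ModuleCat.{u} R) [Module.Flat R M] : TD 0 M := by
  intro N p hp
  obtain ⟨q, rfl⟩ : ∃ q, p = q + 1 := ⟨p - 1, by omega⟩
  exact Groth.Agent.Lib.Helper82.RegTor.isZero_T_of_flat M N q

theorem flat_of_TD_zero (M : ModuleCat.{u} R) (h : TD 0 M) : Module.Flat R M := by
  rw [Module.Flat.iff_lTensor_injective']
  intro I
  have hproj : Projective (Groth.Agent.Lib.Helper63.quotSC (R := R) (N := R) I).X₂ :=
    (IsProjective.iff_projective (R := R) R).mp inferInstance
  have := (Groth.Agent.Lib.Helper63.tor_one_isZero_iff M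
    (Groth.Agent.Lib.Helper63.quotSC (R := R) (N := R) I)
    (Groth.Agent.Lib.Helper63.quotSC_shortExact I)).1 (h _ 1 (by omega))
  exact this

theorem TD_zero_iff_flat (M : ModuleCat.{u} R) : TD 0 M ↔ Module.Flat R M :=
  ⟨flat_of_TD_zero M, fun _ => TD_zero_of_flat M⟩

/-- Dimension shifting in the first variable. -/
theorem TD_succ_iff (S : ShortComplex (ModuleCat.{u} R)) (hS : S.ShortExact)
    [Module.Flat R S.X₂] (d : ℕ) : TD (d + 1) S.X₃ ↔ TD d S.X₁ := by
  have key : ∀ (N : ModuleCat.{u} R) (q : ℕ), 1 ≤ q →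
      (IsZero (TorZ (q + 1) S.X₃ N) ↔ IsZero (TorZ q S.X₁ N)) := by
    intro N q hq
    obtain ⟨-, δ, w₁, w₂, h₁, h₂⟩ := Groth.Agent.Lib.Helper73.tor_les_first hS N q
    have hz1 : IsZero (TorZ (q + 1) S.X₂ N) := TD_zero_of_flat S.X₂ N (q + 1) (by omega)
    have hz2 : IsZero (TorZ q S.X₂ N) := TD_zero_of_flat S.X₂ N q (by omega)
    have hmono : Mono δ := h₁.mono_g (hz1.eq_of_src _ _)
    have hepi : Epi δ := h₂.epi_f (hz2.eq_of_tgt _ _)
    constructor
    · intro h
      exact IsZero.of_epi_eq_zero δ (h.eq_of_src _ _)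
    · intro h
      exact IsZero.of_mono_eq_zero δ (h.eq_of_tgt _ _)
  constructor
  · intro h N p hp
    exact (key N p (by omega)).1 (h N (p + 1) (by omega))
  · intro h N p hp
    obtain ⟨q, rfl⟩ : ∃ q, p = q + 1 := ⟨p - 1, by omega⟩
    exact (key N q (by omega)).2 (h N q (by omega))

/-- the canonical surjection from the free module on `M` -/
noncomputable abbrev freeπ (M : ModuleCat.{u} R) : (M →₀ R) →ₗ[R] M :=
  Finsupp.linearCombination R (id : M → M)

/-- A free cover of a module, as a short exact short complex. -/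
noncomputable def freeCoverSC (M : ModuleCat.{u} R) : ShortComplex (ModuleCat.{u} R) :=
  ShortComplex.mk (X₁ := ModuleCat.of R (LinearMap.ker (freeπ M)))
    (X₂ := ModuleCat.of R (M →₀ R)) (X₃ := M)
    (ModuleCat.ofHom (LinearMap.ker (freeπ M)).subtype)
    (ModuleCat.ofHom (freeπ M))
    (by ext x; exact x.2)

theorem freeCoverSC_shortExact (M : ModuleCat.{u} R) : (freeCoverSC M).ShortExact :=
  ModuleCat.shortComplex_shortExact _
    (LinearMap.exact_subtype_ker_map (freeπ M))
    Subtype.val_injective (Finsupp.linearCombination_id_surjective R M)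

instance (M : ModuleCat.{u} R) : Module.Flat R (freeCoverSC M).X₂ :=
  (inferInstance : Module.Flat R (M →₀ R))

/-- right truncation of tor amplitude -/
theorem TAmp.of_isLE {a b b' : ℤ} {K : Dual.D R} (h : TAmp a b' K) [K.IsLE b] : TAmp a b K := by
  obtain ⟨P, hPb, hPproj, ⟨e⟩⟩ := exists_projective_rep K b
  have hP : TAmp a b' (DRing.toD P) := h.of_iso e.symm
  have hflat : ∀ i : ℤ, Module.Flat R (P.X i) := fun i => by
    have := hPproj i
    infer_instance
  obtain ⟨hGE, hop⟩ := flat_opcycles_of_TAmp' P b hPb hflat a b' hP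
  have hLE : P.IsLE b := by
    have : P.IsStrictlyLE b := by
      rw [CochainComplex.isStrictlyLE_iff]
      exact fun i hi => hPb i hi
    infer_instance
  exact (TAmp_of_flat_opcycles P b hPb hflat a b).of_iso e

theorem TAmp_zero_of_flat (M : ModuleCat.{u} R) [Module.Flat R M] :
    TAmp 0 0 ((DerivedCategory.singleFunctor (ModuleCat.{u} R) 0).obj M) := by
  refine ⟨(HomologicalComplex.single (ModuleCat.{u} R) (ComplexShape.up ℤ) 0).obj M, ?_, ?_,
    ⟨((DerivedCategory.singleFunctorIsoCompQ (ModuleCat.{u} R) 0).app M).symm⟩⟩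
  · intro i hi
    exact HomologicalComplex.isZero_single_obj_X _ _ _ _ (by omega)
  · intro i
    by_cases hi : i = 0
    · subst hi
      exact Module.Flat.of_linearEquiv
        (HomologicalComplex.singleObjXSelf (ComplexShape.up ℤ) 0 M).toLinearEquiv
    · have hz : IsZero (((HomologicalComplex.single (ModuleCat.{u} R) (ComplexShape.up ℤ) 0).obj
          M).X i) := HomologicalComplex.isZero_single_obj_X _ _ _ _ hi
      have : Subsingleton (((HomologicalComplex.single (ModuleCat.{u} R) (ComplexShape.up ℤ) 0).obj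
          M).X i) := ModuleCat.subsingleton_of_isZero hz
      infer_instance

theorem flat_of_TAmp_zero (M : ModuleCat.{u} R)
    (h : TAmp 0 0 ((DerivedCategory.singleFunctor (ModuleCat.{u} R) 0).obj M)) :
    Module.Flat R M := by
  obtain ⟨E, hv, hfl, ⟨e⟩⟩ := h
  have h1 : E.IsStrictlyGE 0 := by
    rw [CochainComplex.isStrictlyGE_iff]
    exact fun i hi => hv i (Or.inl hi)
  have h2 : E.IsStrictlyLE 0 := by
    rw [CochainComplex.isStrictlyLE_iff]
    exact fun i hi => hv i (Or.inr hi)
  obtain ⟨M', ⟨e'⟩⟩ := E.exists_iso_single 0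
  let eX : E.X 0 ≅ M' := (HomologicalComplex.eval _ _ 0).mapIso e' ≪≫
    HomologicalComplex.singleObjXSelf (ComplexShape.up ℤ) 0 M'
  have hM' : Module.Flat R M' := by
    have := hfl 0
    exact Module.Flat.of_linearEquiv eX.toLinearEquiv.symm
  let φ : (DerivedCategory.singleFunctor (ModuleCat.{u} R) 0).obj M' ≅
      (DerivedCategory.singleFunctor (ModuleCat.{u} R) 0).obj M :=
    (DerivedCategory.singleFunctorIsoCompQ (ModuleCat.{u} R) 0).app M' ≪≫
      Q.mapIso e'.symm ≪≫ e
  let ψ : M' ≅ M := (DerivedCategory.singleFunctor (ModuleCat.{u} R) 0).preimageIso φ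
  exact Module.Flat.of_linearEquiv ψ.toLinearEquiv.symm

/-- Dimension shifting for the tor amplitude of a module. -/
theorem TAmp_single_succ_iff (S : ShortComplex (ModuleCat.{u} R)) (hS : S.ShortExact)
    [Module.Flat R S.X₂] (d : ℕ) :
    TAmp (-((d + 1 : ℕ) : ℤ)) 0 ((DerivedCategory.singleFunctor (ModuleCat.{u} R) 0).obj S.X₃) ↔
      TAmp (-(d : ℤ)) 0 ((DerivedCategory.singleFunctor (ModuleCat.{u} R) 0).obj S.X₁) := by
  have hT := hS.singleTriangle_distinguished
  have h2 : TAmp 0 0 ((DerivedCategory.singleFunctor (ModuleCat.{u} R) 0).obj S.X₂) :=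
    TAmp_zero_of_flat S.X₂
  constructor
  · intro h
    have hT' := inv_rot_of_distTriang _ hT
    have h1 : TAmp (-(d : ℤ)) 1 hS.singleTriangle.invRotate.obj₁ :=
      (TAmp.shift h (-1)).mono (by push_cast; omega) (by omega)
    have h3 : TAmp (-(d : ℤ)) 1 hS.singleTriangle.invRotate.obj₃ :=
      h2.mono (by omega) (by omega)
    have := TAmp.obj₂ _ hT' _ _ h1 h3
    have hLE : ((DerivedCategory.singleFunctor (ModuleCat.{u} R) 0).obj S.X₁).IsLE 0 :=
      inferInstance
    exact TAmp.of_isLE (b := 0) this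
  · intro h
    exact TAmp.obj₃ _ hT _ _ (h.mono (by push_cast; omega) (by omega))
      (h2.mono (by push_cast; omega) (by omega))

theorem TD_iff_TAmp (d : ℕ) : ∀ M : ModuleCat.{u} R,
    TD d M ↔ TAmp (-(d : ℤ)) 0 ((DerivedCategory.singleFunctor (ModuleCat.{u} R) 0).obj M) := by
  induction d with
  | zero =>
    intro M
    rw [TD_zero_iff_flat]
    simp only [CharP.cast_eq_zero, neg_zero]
    exact ⟨fun _ => TAmp_zero_of_flat M, flat_of_TAmp_zero M⟩
  | succ d ih =>
    intro M
    have hS := freeCoverSC_shortExact M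
    have h1 := TD_succ_iff (freeCoverSC M) hS d
    have h2 := TAmp_single_succ_iff (freeCoverSC M) hS d
    exact h1.trans ((ih (freeCoverSC M).X₁).trans h2.symm)

end Groth.Agent.Lib.Helper35.TA
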