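import Mathlib.RingTheory.Extension.Cotangent.Basic
import Mathlib.RingTheory.Localization.Algebra
import Mathlib.RingTheory.Localization.Away.Basic
import Mathlib.RingTheory.Localization.BaseChange
import Groth.Agent.S18939

/-! Localization of the cotangent module `I/I²` of an extension at an element (helper35). -/

set_option autoImplicit false
universe u


namespace Groth.Agent.Lib.Helper35.CotLoc

open Algebra

variable {R S : Type u} [CommRing R] [CommRing S] [Algebra R S] (E : Extension.{u} R S)
  (g : E.Ring)

/-- the image of `g` in `S`. -/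
abbrev gb : S := algebraMap E.Ring S g

/-- the localized ring map `P_g → S_ḡ`. -/
noncomputable def locHom : Localization.Away g →+* Localization.Away (gb E g) :=
  IsLocalization.Away.map (Localization.Away g) (Localization.Away (gb E g))
    (algebraMap E.Ring S) g

lemma locHom_algebraMap (x : E.Ring) :
    locHom E g (algebraMap E.Ring (Localization.Away g) x) =
      algebraMap S (Localization.Away (gb E g)) (algebraMap E.Ring S x) := by
  unfold locHom IsLocalization.Away.map
  exact IsLocalization.map_eq _ x

lemma locHom_surjective : Function.Surjective (locHom E g) := by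
  intro y
  obtain ⟨s, ⟨_, k, rfl⟩, rfl⟩ := IsLocalization.exists_mk'_eq (Submonoid.powers (gb E g)) y
  obtain ⟨p, rfl⟩ := E.algebraMap_surjective s
  refine ⟨IsLocalization.mk' (Localization.Away g) p
    (⟨g ^ k, k, rfl⟩ : Submonoid.powers g), ?_⟩
  unfold locHom IsLocalization.Away.map
  rw [IsLocalization.map_mk']
  congr 1
  ext
  simp [gb]

/-- the localized ring map as an algebra map. -/
noncomputable def locAlgHom : Localization.Away g →ₐ[R] Localization.Away (gb E g) where
  __ := locHom E g
  commutes' r := by
    show locHom E g (algebraMap R (Localization.Away g) r) = _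
    rw [IsScalarTower.algebraMap_apply R E.Ring (Localization.Away g), locHom_algebraMap,
      ← IsScalarTower.algebraMap_apply R E.Ring S, ← IsScalarTower.algebraMap_apply]

/-- the localized extension `P_g → S_ḡ`. -/
noncomputable def locExt : Extension.{u} R (Localization.Away (gb E g)) :=
  Extension.ofSurjective (locAlgHom E g) (locHom_surjective E g)

noncomputable instance : Algebra E.Ring (locExt E g).Ring :=
  inferInstanceAs (Algebra E.Ring (Localization.Away g))

instance : IsLocalization.Away g (locExt E g).Ring :=
  inferInstanceAs (IsLocalization.Away g (Localization.Away g))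

instance : IsScalarTower R E.Ring (locExt E g).Ring :=
  inferInstanceAs (IsScalarTower R E.Ring (Localization.Away g))

lemma locExt_algebraMap (x : (locExt E g).Ring) :
    algebraMap (locExt E g).Ring (Localization.Away (gb E g)) x = locHom E g x := rfl

/-- the map of extensions `P → P_g`. -/
noncomputable def locExtHom : E.Hom (locExt E g) where
  toRingHom := algebraMap E.Ring (locExt E g).Ring
  toRingHom_algebraMap x := by
    rw [← IsScalarTower.algebraMap_apply]
    rfl
  algebraMap_toRingHom x := locHom_algebraMap E g x

lemma ker_locExt :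
    (locExt E g).ker = E.ker.map (algebraMap E.Ring (locExt E g).Ring) := by
  have hT : Submonoid.map (algebraMap E.Ring S) (Submonoid.powers g) =
      Submonoid.powers (gb E g) := Submonoid.map_powers _ _
  exact IsLocalization.ker_map (S := Localization.Away g) (Localization.Away (gb E g))
    (algebraMap E.Ring S) hT

/-- the localization map on cotangent modules. -/
noncomputable def cotMap : E.Cotangent →ₗ[S] (locExt E g).Cotangent :=
  Extension.Cotangent.map (locExtHom E g)

lemma cotMap_mk (x : E.ker) :
    cotMap E g (Extension.Cotangent.mk x) = Extension.Cotangent.mk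
      ⟨algebraMap E.Ring (locExt E g).Ring x.1, by
        rw [ker_locExt]; exact Ideal.mem_map_of_mem _ x.2⟩ := rfl

/-- scalar multiplication by the image of an element of `P` on the localized cotangent module. -/
lemma smul_locExt_cotangent (p : E.Ring) (y : (locExt E g).Cotangent) :
    (algebraMap E.Ring S p) • y =
      (algebraMap E.Ring (locExt E g).Ring p) • y := by
  rw [← algebraMap_smul (Localization.Away (gb E g)) (algebraMap E.Ring S p) y,
    ← locHom_algebraMap E g p, ← locExt_algebraMap, algebraMap_smul]
  rfl

instance isLocalizedModule_cotMap :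
    IsLocalizedModule (Submonoid.powers (gb E g)) (cotMap E g) where
  map_units x := by
    obtain ⟨u, hu⟩ := IsLocalization.map_units (Localization.Away (gb E g)) x
    rw [Module.End.isUnit_iff]
    have key : ∀ y : (locExt E g).Cotangent,
        (algebraMap S (Module.End S (locExt E g).Cotangent) x) y = (u : Localization.Away (gb E g)) • y := by
      intro y
      rw [hu]
      exact (algebraMap_smul (Localization.Away (gb E g)) (x : S) y).symm
    constructor
    · intro a b hab
      rw [key, key] at hab
      have := congrArg (fun z => ((u⁻¹ : (Localization.Away (gb E g))ˣ) : Localization.Away (gb E g)) • z) hab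
      simpa [smul_smul] using this
    · intro a
      refine ⟨((u⁻¹ : (Localization.Away (gb E g))ˣ) : Localization.Away (gb E g)) • a, ?_⟩
      rw [key, smul_smul, Units.mul_inv, one_smul]
  surj y := by
    obtain ⟨⟨j, hj⟩, rfl⟩ := Extension.Cotangent.mk_surjective y
    have hj' : j ∈ E.ker.map (algebraMap E.Ring (locExt E g).Ring) := by
      rw [← ker_locExt]; exact hj
    obtain ⟨⟨a, ⟨_, k, rfl⟩⟩, h⟩ :=
      (IsLocalization.mem_map_algebraMap_iff (Submonoid.powers g) (locExt E g).Ring).1 hj'
    refine ⟨⟨Extension.Cotangent.mk a, ⟨gb E g ^ k, k, rfl⟩⟩, ?_⟩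
    rw [cotMap_mk, Submonoid.smul_def]
    simp only
    rw [show gb E g ^ k = algebraMap E.Ring S (g ^ k) by simp [gb], smul_locExt_cotangent,
      ← map_smul]
    congr 1
    ext
    simp only [SetLike.val_smul, smul_eq_mul]
    rw [mul_comm]
    exact h
  exists_of_eq {x₁ x₂} h := by
    obtain ⟨a₁, rfl⟩ := Extension.Cotangent.mk_surjective x₁
    obtain ⟨a₂, rfl⟩ := Extension.Cotangent.mk_surjective x₂
    rw [cotMap_mk, cotMap_mk, Extension.Cotangent.mk_eq_mk_iff_sub_mem] at h
    simp only at h
    rw [← map_sub, ker_locExt, ← Ideal.map_pow] at h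
    obtain ⟨⟨b, ⟨_, k, rfl⟩⟩, hb⟩ :=
      (IsLocalization.mem_map_algebraMap_iff (Submonoid.powers g) (locExt E g).Ring).1 h
    rw [← map_mul] at hb
    obtain ⟨⟨_, m, rfl⟩, hm⟩ := (IsLocalization.eq_iff_exists (Submonoid.powers g)
      (locExt E g).Ring).1 hb
    refine ⟨⟨gb E g ^ (m + k), m + k, rfl⟩, ?_⟩
    rw [Submonoid.smul_def, Submonoid.smul_def]
    simp only
    rw [show gb E g ^ (m + k) = algebraMap E.Ring S (g ^ (m + k)) by simp [gb], algebraMap_smul,
      algebraMap_smul, ← map_smul, ← map_smul, Extension.Cotangent.mk_eq_mk_iff_sub_mem]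
    simp only [SetLike.val_smul, smul_eq_mul]
    rw [← mul_sub, pow_add, mul_assoc, mul_comm (g ^ k), hm]
    exact Ideal.mul_mem_left _ _ b.2

/-- If the localized kernel is generated by a Koszul-regular sequence, the localized cotangent
module is finite free. -/
theorem free_finite_locExt_cotangent (l : List (locExt E g).Ring)
    (hl : LCI.IsKoszulRegularSeq (locExt E g).Ring l)
    (hI : (locExt E g).ker = Ideal.span {x | x ∈ l}) :
    Module.Free (Localization.Away (gb E g)) (locExt E g).Cotangent ∧
      Module.Finite (Localization.Away (gb E g)) (locExt E g).Cotangent := by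
  by_cases hJ : (locExt E g).ker = ⊤
  · have h1 : (1 : (locExt E g).Ring) ∈ (locExt E g).ker := by rw [hJ]; trivial
    have h2 : (1 : Localization.Away (gb E g)) = 0 := by
      rw [RingHom.mem_ker, map_one] at h1
      exact h1
    have hs : Subsingleton (Localization.Away (gb E g)) := subsingleton_of_zero_eq_one h2.symm
    have hs' : Subsingleton (locExt E g).Cotangent := Module.subsingleton (Localization.Away (gb E g)) _
    exact ⟨Module.Free.of_subsingleton _ _, inferInstance⟩
  · let f : Fin l.length → (locExt E g).ker := fun i => ⟨l.get i, by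
      rw [hI]; exact Ideal.subset_span (List.get_mem l i)⟩
    have hf1 : List.ofFn (fun i => ((f i : (locExt E g).ker) : (locExt E g).Ring)) = l :=
      List.ofFn_get l
    have hf2 : Ideal.span (Set.range (fun i => ((f i : (locExt E g).ker) : (locExt E g).Ring))) =
        (locExt E g).ker := by
      refine Eq.trans ?_ hI.symm
      congr 1
      ext x
      simp only [Set.mem_range, Set.mem_ofPred_eq, f]
      exact (List.mem_iff_get).symm
    obtain ⟨b, -⟩ := Groth.Agent.S18939.result hJ l.length f (by rw [hf1]; exact hl) hf2
    let e₁ : (locExt E g).Cotangent ≃ₗ[(locExt E g).Ring] (locExt E g).ker.Cotangent :=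
      (locExt E g).cotangentEquivCotangentKer
    let e₂ : (locExt E g).ker.Cotangent ≃ₗ[(locExt E g).Ring]
        (Fin l.length → (locExt E g).Ring ⧸ (locExt E g).ker) :=
      b.equivFun.restrictScalars (locExt E g).Ring
    have hker : RingHom.ker (Algebra.ofId (locExt E g).Ring (Localization.Away (gb E g))) =
        (locExt E g).ker :=
      Ideal.ext (fun x => by simp [RingHom.mem_ker, Algebra.ofId_apply])
    let e₃ : ((locExt E g).Ring ⧸ (locExt E g).ker) ≃ₗ[(locExt E g).Ring]
        Localization.Away (gb E g) :=
      (Submodule.quotEquivOfEq _ _ hker.symm) ≪≫ₗ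
        (Ideal.quotientKerAlgEquivOfSurjective
          (f := Algebra.ofId (locExt E g).Ring (Localization.Away (gb E g)))
          (locExt E g).algebraMap_surjective).toLinearEquiv
    let e₄ : (Fin l.length → (locExt E g).Ring ⧸ (locExt E g).ker) ≃ₗ[(locExt E g).Ring]
        (Fin l.length → Localization.Away (gb E g)) :=
      LinearEquiv.piCongrRight (fun _ => e₃)
    let e : (locExt E g).Cotangent ≃ₗ[Localization.Away (gb E g)]
        (Fin l.length → Localization.Away (gb E g)) :=
      (e₁ ≪≫ₗ e₂ ≪≫ₗ e₄).extendScalarsOfSurjective (locExt E g).algebraMap_surjective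
    exact ⟨Module.Free.of_equiv e.symm, Module.Finite.equiv e.symm⟩

open TensorProduct in
/-- If the localized kernel is generated by a Koszul-regular sequence, the base change of the
cotangent module to `S_ḡ` is finite free. -/
theorem free_finite_tensor_cotangent (l : List (locExt E g).Ring)
    (hl : LCI.IsKoszulRegularSeq (locExt E g).Ring l)
    (hI : (locExt E g).ker = Ideal.span {x | x ∈ l}) :
    Module.Free (Localization.Away (gb E g)) (Localization.Away (gb E g) ⊗[S] E.Cotangent) ∧
      Module.Finite (Localization.Away (gb E g))
        (Localization.Away (gb E g) ⊗[S] E.Cotangent) := by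
  obtain ⟨h1, h2⟩ := free_finite_locExt_cotangent E g l hl hI
  have hbc := IsLocalizedModule.isBaseChange (Submonoid.powers (gb E g))
    (Localization.Away (gb E g)) (cotMap E g)
  exact ⟨Module.Free.of_equiv hbc.equiv.symm, Module.Finite.equiv hbc.equiv.symm⟩

open TensorProduct in
/-- On `D(g)` with `g` in the kernel, everything vanishes. -/
theorem free_finite_tensor_cotangent_of_mem (hg : g ∈ E.ker) :
    Module.Free (Localization.Away (gb E g)) (Localization.Away (gb E g) ⊗[S] E.Cotangent) ∧
      Module.Finite (Localization.Away (gb E g))
        (Localization.Away (gb E g) ⊗[S] E.Cotangent) := by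
  have h0 : gb E g = 0 := hg
  have hs : Subsingleton (Localization.Away (gb E g)) := by
    have hu := IsLocalization.Away.algebraMap_isUnit (S := Localization.Away (gb E g)) (gb E g)
    have h1 : algebraMap S (Localization.Away (gb E g)) (gb E g) = 0 := by
      rw [h0, map_zero]
    rw [h1] at hu
    exact subsingleton_of_zero_eq_one (isUnit_zero_iff.1 hu)
  have hs' : Subsingleton (Localization.Away (gb E g) ⊗[S] E.Cotangent) :=
    Module.subsingleton (Localization.Away (gb E g)) _
  exact ⟨Module.Free.of_subsingleton _ _, inferInstance⟩

end Groth.Agent.Lib.Helper35.CotLoc
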