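import Groth.Prelude.Def_DRing2
import Mathlib.Algebra.Category.ModuleCat.Descent
import Mathlib.CategoryTheory.Adjunction.Additive

set_option autoImplicit false
set_option linter.unusedSectionVars false
universe u
open CategoryTheory CategoryTheory.Limits
attribute [local instance] HasDerivedCategory.standard

namespace Groth.Agent.Lib.Helper35.FlatBC

variable (A B : Type u) [CommRing A] [CommRing B] [Algebra A B]

/-- Extension of scalars along `A → B`. -/
noncomputable abbrev ext : ModuleCat.{u} A ⥤ ModuleCat.{u} B :=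
  ModuleCat.extendScalars.{u, u, u} (algebraMap A B)

instance : (ext A B).Additive :=
  (ModuleCat.extendRestrictScalarsAdj.{u, u, u} (algebraMap A B)).left_adjoint_additive

instance : PreservesFiniteColimits (ext A B) := by infer_instance

instance [Module.Flat A B] : PreservesFiniteLimits (ext A B) :=
  ModuleCat.preservesFiniteLimits_extendScalars_of_flat
    (RingHom.flat_algebraMap_iff.mpr inferInstance)

/-- `B` as an `A`-module through restriction of scalars. -/
abbrev B' : Type u := ((ModuleCat.restrictScalars (algebraMap A B)).obj (ModuleCat.of B B))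

set_option backward.isDefEq.respectTransparency false in
/-- identity `B' ≃ B`, `A`-linear -/
noncomputable def e₁ : B' A B ≃ₗ[A] B where
  toFun := fun b => b
  invFun := fun b => b
  map_add' := fun _ _ => rfl
  map_smul' := fun a b => by
    change ((algebraMap A B a) * (show B from b) : B) = a • (show B from b)
    rw [Algebra.smul_def]
  left_inv := fun _ => rfl
  right_inv := fun _ => rfl

variable {A} in
/-- The `A`-linear identification of the two models of `B ⊗_A M`. -/
noncomputable def extLinearEquivA (M : Type u) [AddCommGroup M] [Module A M] :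
    TensorProduct A (B' A B) M ≃ₗ[A] TensorProduct A B M :=
  TensorProduct.congr (e₁ A B) (LinearEquiv.refl A M)

set_option backward.isDefEq.respectTransparency false in
variable {A} in
theorem extLinearEquivA_smul (M : Type u) [AddCommGroup M] [Module A M] (b : B)
    (x : (ext A B).obj (ModuleCat.of A M)) :
    extLinearEquivA B M (b • x) = b • extLinearEquivA B M x := by
  induction x using TensorProduct.induction_on with
  | zero => 
    rw [smul_zero]; simp
  | tmul b' m =>
    rw [ModuleCat.ExtendScalars.smul_tmul]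
    show (extLinearEquivA B M) (((b * (show B from b') : B) : B' A B) ⊗ₜ[A] m) =
      b • (extLinearEquivA B M) (b' ⊗ₜ[A] m)
    simp only [extLinearEquivA, TensorProduct.congr_tmul, LinearEquiv.refl_apply]
    rw [TensorProduct.smul_tmul']
    rfl
  | add x y hx hy => 
    rw [smul_add, map_add, map_add, smul_add, hx, hy]

set_option backward.isDefEq.respectTransparency false in
variable {A} in
/-- The `B`-linear identification of the two models of `B ⊗_A M`. -/
noncomputable def extLinearEquiv (M : Type u) [AddCommGroup M] [Module A M] :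
    ((ext A B).obj (ModuleCat.of A M)) ≃ₗ[B] TensorProduct A B M where
  toFun := fun x => extLinearEquivA B M x
  invFun := fun x => (extLinearEquivA B M).symm x
  map_add' := fun x y => (extLinearEquivA B M).map_add x y
  map_smul' := extLinearEquivA_smul B M
  left_inv := fun x => (extLinearEquivA B M).symm_apply_apply x
  right_inv := fun x => (extLinearEquivA B M).apply_symm_apply x

variable {A} in
/-- The comparison isomorphism in `ModuleCat B`. -/
noncomputable def extObjIso (M : Type u) [AddCommGroup M] [Module A M] :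
    (ext A B).obj (ModuleCat.of A M) ≅ ModuleCat.of B (TensorProduct A B M) :=
  (extLinearEquiv B M).toModuleIso

variable {A} in
theorem flat_ext_obj (N : ModuleCat.{u} A) [Module.Flat A N] :
    Module.Flat B ((ext A B).obj N) :=
  Module.Flat.of_linearEquiv (extLinearEquiv B N)

variable {A} in
theorem finite_ext_obj (N : ModuleCat.{u} A) [Module.Finite A N] :
    Module.Finite B ((ext A B).obj N) :=
  Module.Finite.equiv (extLinearEquiv B N).symm

variable {A} in
theorem free_ext_obj (N : ModuleCat.{u} A) [Module.Free A N] :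
    Module.Free B ((ext A B).obj N) :=
  Module.Free.of_equiv (extLinearEquiv B N).symm

variable {A} in
theorem projective_ext_obj (N : ModuleCat.{u} A) [Module.Projective A N] :
    Module.Projective B ((ext A B).obj N) :=
  Module.Projective.of_equiv (extLinearEquiv B N).symm

section Derived

variable [Module.Flat A B]

/-- Derived base change along a flat map. -/
noncomputable abbrev G : DerivedCategory (ModuleCat.{u} A) ⥤ DerivedCategory (ModuleCat.{u} B) :=
  (ext A B).mapDerivedCategory

/-- The termwise base change of complexes. -/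
noncomputable abbrev extCx : DRing.Cx A ⥤ DRing.Cx B :=
  (ext A B).mapHomologicalComplex (ComplexShape.up ℤ)

variable {A} in
/-- `G (Q E) ≅ Q (B ⊗ E)`. -/
noncomputable def GQIso (E : DRing.Cx A) :
    (G A B).obj (DRing.toD E) ≅ DRing.toD ((extCx A B).obj E) :=
  (ext A B).mapDerivedCategoryFactors.app E

variable {A} in
/-- `G (M[0]) ≅ (B ⊗ M)[0]`. -/
noncomputable def GInDIso (M : Type u) [AddCommGroup M] [Module A M] :
    (G A B).obj (Dual.inD A M) ≅ Dual.inD B (TensorProduct A B M) :=
  ((ext A B).mapDerivedCategorySingleFunctor 0).app (ModuleCat.of A M) ≪≫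
    (DerivedCategory.singleFunctor (ModuleCat.{u} B) 0).mapIso (extObjIso B M)

/-- complex-level comparison of homology -/
noncomputable def homologyIsoCx (i : ℤ) :
    extCx A B ⋙ HomologicalComplex.homologyFunctor (ModuleCat.{u} B) (ComplexShape.up ℤ) i ≅
      HomologicalComplex.homologyFunctor (ModuleCat.{u} A) (ComplexShape.up ℤ) i ⋙ ext A B :=
  NatIso.ofComponents (fun K => (K.sc i).mapHomologyIso (ext A B))
    (fun f => ShortComplex.mapHomologyIso_hom_naturality
      ((HomologicalComplex.shortComplexFunctor _ _ i).map f) (ext A B))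

/-- derived-level comparison of homology: `H^i (B ⊗ K) ≅ B ⊗ H^i K`. -/
noncomputable def homologyIso (i : ℤ) :
    G A B ⋙ DerivedCategory.homologyFunctor (ModuleCat.{u} B) i ≅
      DerivedCategory.homologyFunctor (ModuleCat.{u} A) i ⋙ ext A B :=
  let _ : Localization.Lifting DerivedCategory.Q
      (HomologicalComplex.quasiIso (ModuleCat.{u} A) (ComplexShape.up ℤ))
      (extCx A B ⋙ HomologicalComplex.homologyFunctor (ModuleCat.{u} B) (ComplexShape.up ℤ) i)
      (G A B ⋙ DerivedCategory.homologyFunctor (ModuleCat.{u} B) i) :=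
    ⟨(Functor.associator _ _ _).symm ≪≫
      Functor.isoWhiskerRight (ext A B).mapDerivedCategoryFactors _ ≪≫
      Functor.associator _ _ _ ≪≫
      Functor.isoWhiskerLeft _ (DerivedCategory.homologyFunctorFactors (ModuleCat.{u} B) i)⟩
  let _ : Localization.Lifting DerivedCategory.Q
      (HomologicalComplex.quasiIso (ModuleCat.{u} A) (ComplexShape.up ℤ))
      (HomologicalComplex.homologyFunctor (ModuleCat.{u} A) (ComplexShape.up ℤ) i ⋙ ext A B)
      (DerivedCategory.homologyFunctor (ModuleCat.{u} A) i ⋙ ext A B) :=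
    ⟨(Functor.associator _ _ _).symm ≪≫
      Functor.isoWhiskerRight (DerivedCategory.homologyFunctorFactors (ModuleCat.{u} A) i) _⟩
  Localization.liftNatIso DerivedCategory.Q
    (HomologicalComplex.quasiIso (ModuleCat.{u} A) (ComplexShape.up ℤ)) _ _ _ _
    (homologyIsoCx A B i)

variable {A B} in
theorem isIso_homology_map_G {X Y : DerivedCategory (ModuleCat.{u} A)} (α : X ⟶ Y) (i : ℤ)
    (h : IsIso ((DerivedCategory.homologyFunctor (ModuleCat.{u} A) i).map α)) :
    IsIso ((DerivedCategory.homologyFunctor (ModuleCat.{u} B) i).map ((G A B).map α)) := by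
  have h1 : IsIso ((DerivedCategory.homologyFunctor (ModuleCat.{u} A) i ⋙ ext A B).map α) := by
    dsimp; infer_instance
  exact (NatIso.isIso_map_iff (homologyIso A B i) α).mpr h1

variable {A B} in
theorem epi_homology_map_G {X Y : DerivedCategory (ModuleCat.{u} A)} (α : X ⟶ Y) (i : ℤ)
    (h : Epi ((DerivedCategory.homologyFunctor (ModuleCat.{u} A) i).map α)) :
    Epi ((DerivedCategory.homologyFunctor (ModuleCat.{u} B) i).map ((G A B).map α)) := by
  have h1 : Epi ((DerivedCategory.homologyFunctor (ModuleCat.{u} A) i ⋙ ext A B).map α) := by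
    dsimp; infer_instance
  have e : (G A B ⋙ DerivedCategory.homologyFunctor (ModuleCat.{u} B) i).map α =
      (homologyIso A B i).hom.app X ≫
        (DerivedCategory.homologyFunctor (ModuleCat.{u} A) i ⋙ ext A B).map α ≫
        (homologyIso A B i).inv.app Y := by
    rw [← (homologyIso A B i).hom.naturality_assoc, Iso.hom_inv_id_app, Category.comp_id]
  change Epi ((G A B ⋙ DerivedCategory.homologyFunctor (ModuleCat.{u} B) i).map α)
  rw [e]
  infer_instance

variable {A} in
theorem vanishesOutside_extCx (E : DRing.Cx A) (a b : ℤ) (h : DRing.VanishesOutside E a b) :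
    DRing.VanishesOutside ((extCx A B).obj E) a b :=
  fun i hi => (ext A B).map_isZero (h i hi)

variable {A} in
theorem vanishesAbove_extCx (E : DRing.Cx A) (b : ℤ) (h : DRing.VanishesAbove E b) :
    DRing.VanishesAbove ((extCx A B).obj E) b :=
  fun i hi => (ext A B).map_isZero (h i hi)

variable {A} in
theorem termwiseFlat_extCx (E : DRing.Cx A) (h : DRing.TermwiseFlat E) :
    DRing.TermwiseFlat ((extCx A B).obj E) := fun i =>
  have := h i
  flat_ext_obj B (E.X i)

variable {A} in
theorem termwiseFiniteFree_extCx (E : DRing.Cx A) (h : DRing.TermwiseFiniteFree E) :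
    DRing.TermwiseFiniteFree ((extCx A B).obj E) := fun i =>
  have := (h i).1
  have := (h i).2
  ⟨finite_ext_obj B (E.X i), free_ext_obj B (E.X i)⟩

variable {A} in
theorem termwiseFiniteProjective_extCx (E : DRing.Cx A) (h : DRing.TermwiseFiniteProjective E) :
    DRing.TermwiseFiniteProjective ((extCx A B).obj E) := fun i =>
  have := (h i).1
  have := (h i).2
  ⟨finite_ext_obj B (E.X i), projective_ext_obj B (E.X i)⟩

variable {A} in
theorem hasTorAmplitudeIn_G (a b : ℤ) (K : Dual.D A) (h : DRing.HasTorAmplitudeIn A a b K) :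
    DRing.HasTorAmplitudeIn B a b ((G A B).obj K) := by
  obtain ⟨E, hv, hE, ⟨e⟩⟩ := h
  exact ⟨(extCx A B).obj E, vanishesOutside_extCx B E a b hv, termwiseFlat_extCx B E hE,
    ⟨(GQIso B E).symm ≪≫ (G A B).mapIso e⟩⟩

variable {A} in
theorem isPerfect_G (K : Dual.D A) (h : DRing.IsPerfect A K) :
    DRing.IsPerfect B ((G A B).obj K) := by
  obtain ⟨E, a, b, hv, hE, ⟨e⟩⟩ := h
  exact ⟨(extCx A B).obj E, a, b, vanishesOutside_extCx B E a b hv,
    termwiseFiniteProjective_extCx B E hE, ⟨(GQIso B E).symm ≪≫ (G A B).mapIso e⟩⟩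

variable {A} in
theorem isPseudoCoherent'_G (K : Dual.D A) (h : DRing.IsPseudoCoherent' A K) :
    DRing.IsPseudoCoherent' B ((G A B).obj K) := by
  obtain ⟨E, b, hv, hE, ⟨e⟩⟩ := h
  exact ⟨(extCx A B).obj E, b, vanishesAbove_extCx B E b hv,
    termwiseFiniteFree_extCx B E hE, ⟨(GQIso B E).symm ≪≫ (G A B).mapIso e⟩⟩

variable {A} in
theorem isPseudoCoherent_G (m : ℤ) (K : Dual.D A) (h : DRing.IsPseudoCoherent A m K) :
    DRing.IsPseudoCoherent B m ((G A B).obj K) := by
  obtain ⟨E, a, b, α, hv, hE, hiso, hepi⟩ := h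
  refine ⟨(extCx A B).obj E, a, b, (GQIso B E).inv ≫ (G A B).map α, vanishesOutside_extCx B E a b hv,
    termwiseFiniteFree_extCx B E hE, fun i hi => ?_, ?_⟩
  · have := isIso_homology_map_G (B := B) α i (hiso i hi)
    rw [Functor.map_comp]
    infer_instance
  · have := epi_homology_map_G (B := B) α m hepi
    rw [Functor.map_comp]
    infer_instance

theorem hasTorAmplitudeIn_of_iso {a b : ℤ} {K K' : Dual.D B} (e : K ≅ K')
    (h : DRing.HasTorAmplitudeIn B a b K) : DRing.HasTorAmplitudeIn B a b K' := by
  obtain ⟨E, hv, hE, ⟨e'⟩⟩ := h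
  exact ⟨E, hv, hE, ⟨e' ≪≫ e⟩⟩

theorem isPerfect_of_iso {K K' : Dual.D B} (e : K ≅ K')
    (h : DRing.IsPerfect B K) : DRing.IsPerfect B K' := by
  obtain ⟨E, a, b, hv, hE, ⟨e'⟩⟩ := h
  exact ⟨E, a, b, hv, hE, ⟨e' ≪≫ e⟩⟩

theorem isPseudoCoherent'_of_iso {K K' : Dual.D B} (e : K ≅ K')
    (h : DRing.IsPseudoCoherent' B K) : DRing.IsPseudoCoherent' B K' := by
  obtain ⟨E, b, hv, hE, ⟨e'⟩⟩ := h
  exact ⟨E, b, hv, hE, ⟨e' ≪≫ e⟩⟩

theorem isPseudoCoherent_of_iso {m : ℤ} {K K' : Dual.D B} (e : K ≅ K')
    (h : DRing.IsPseudoCoherent B m K) : DRing.IsPseudoCoherent B m K' := by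
  obtain ⟨E, a, b, α, hv, hE, hiso, hepi⟩ := h
  refine ⟨E, a, b, α ≫ e.hom, hv, hE, fun i hi => ?_, ?_⟩
  · have := hiso i hi
    rw [Functor.map_comp]
    infer_instance
  · rw [Functor.map_comp]
    infer_instance

end Derived

end Groth.Agent.Lib.Helper35.FlatBC
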