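import Groth.Agent.Lib.Helper35.TADescent2
import Groth.Agent.Lib.Helper35.PerfAmp
import Groth.Agent.Lib.Helper6.FlatDescent

set_option autoImplicit false
set_option linter.unusedSectionVars false
universe u
open CategoryTheory CategoryTheory.Limits DerivedCategory
attribute [local instance] HasDerivedCategory.standard

namespace Groth.Agent.Lib.Helper35.TA

open Groth.Agent.Lib.Helper35.FlatBC
open scoped TensorProduct

variable {R : Type u} [CommRing R]

theorem TAmp_of_isPerfect {K : Dual.D R} (h : DRing.IsPerfect R K) : ∃ a b : ℤ, TAmp a b K := by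
  obtain ⟨E, a, b, hv, hE, ⟨e⟩⟩ := h
  refine ⟨a, b, E, hv, fun i => ?_, ⟨e⟩⟩
  have := (hE i).2
  infer_instance

/-- Perfectness descends along a finite jointly faithfully flat family. -/
theorem isPerfect_descent {J : Type} [Finite J] (B : J → Type u) [∀ j, CommRing (B j)]
    [∀ j, Algebra R (B j)] [∀ j, Module.Flat R (B j)]
    (hB : JFF (R := R) B)
    (hsub : ∀ M : ModuleCat.{u} R, (∀ i, Subsingleton (TensorProduct R (B i) M)) → Subsingleton M)
    (hfin : ∀ M : ModuleCat.{u} R, (∀ i, Module.Finite (B i) (TensorProduct R (B i) M)) →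
      Module.Finite R M)
    (K : DRing.Cx R)
    (hK : ∀ j, DRing.IsPerfect (B j) (DRing.toD ((extCx R (B j)).obj K))) :
    DRing.IsPerfect R (DRing.toD K) := by
  have H : Groth.Agent.Lib.Helper6.PCDescent.Hyp B (fun j => G R (B j)) :=
    Groth.Agent.Lib.Helper6.PCDescent.hyp_of_flat B hsub hfin
  have hpc : DRing.IsPseudoCoherent' R (DRing.toD K) :=
    Groth.Agent.Lib.Helper6.PCDescent.descent' H (DRing.toD K) (fun j =>
      isPseudoCoherent'_of_iso (B j) (GQIso (B j) K).symm
        (Groth.Agent.Lib.Helper35.KL.isPseudoCoherent'_of_isPerfect (hK j)))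
  choose a₀ b₀ hab using fun j => TAmp_of_isPerfect (hK j)
  obtain ⟨b, hb⟩ := (Set.finite_range b₀).bddAbove
  obtain ⟨a, ha⟩ := (Set.finite_range a₀).bddBelow
  have hTA : TAmp a b (DRing.toD K) :=
    TAmp_descent B hB K a b (fun j => (hab j).mono (ha ⟨j, rfl⟩) (hb ⟨j, rfl⟩))
  exact isPerfect_of_isPseudoCoherent'_of_TAmp _ hpc a b hTA

theorem isPerfect_of_faithfullyFlat (R' : Type u) [CommRing R'] [Algebra R R']
    [Module.FaithfullyFlat R R'] (K : DRing.Cx R)
    (hK : DRing.IsPerfect R' (DRing.toD ((extCx R R').obj K))) :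
    DRing.IsPerfect R (DRing.toD K) :=
  isPerfect_descent (fun _ : Unit => R') (jff_of_faithfullyFlat R')
    (fun M h => (Module.FaithfullyFlat.subsingleton_tensorProduct_iff_right R R').1 (h ()))
    (fun M h => by
      have := h ()
      exact Module.Finite.of_finite_tensorProduct_of_faithfullyFlat R')
    K (fun _ => hK)

theorem isPerfect_of_span_eq_top {r : ℕ} (f : Fin r → R) (hf : Ideal.span (Set.range f) = ⊤)
    (K : DRing.Cx R)
    (hK : ∀ i, DRing.IsPerfect (Localization.Away (f i))
      (DRing.toD ((extCx R (Localization.Away (f i))).obj K))) :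
    DRing.IsPerfect R (DRing.toD K) := by
  refine isPerfect_descent (fun i : Fin r => Localization.Away (f i)) (jff_of_span_eq_top f hf)
    (fun M h => ?_) (fun M h => ?_) K hK
  · refine ⟨fun x y => ?_⟩
    refine Module.eq_of_isLocalized_span (Set.range f) hf
      (fun s => Localization.Away s.1 ⊗[R] M)
      (fun s => TensorProduct.mk R (Localization.Away s.1) M 1) x y ?_
    rintro ⟨_, i, rfl⟩
    exact (h i).elim _ _
  · refine Module.Finite.of_localizationSpan' (Set.range f) hf
      (Mₚ := fun s => Localization.Away s.1 ⊗[R] M) (Rₚ := fun s => Localization.Away s.1)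
      (fun s => TensorProduct.mk R (Localization.Away s.1) M 1) ?_
    rintro ⟨_, i, rfl⟩
    exact h i

end Groth.Agent.Lib.Helper35.TA
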