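import Groth.Agent.Lib.Helper35.NLCompare
import Groth.Agent.Lib.Helper35.CotLoc
import Groth.Agent.Lib.Helper35.PerfDescent
import Groth.Agent.Lib.Helper35.TADescent2

/-! The naive cotangent complex of a local complete intersection ring map is perfect of
tor amplitude `[-1, 0]` (helper35). -/

set_option autoImplicit false
universe u
open CategoryTheory CategoryTheory.Limits TensorProduct
attribute [local instance] HasDerivedCategory.standard

namespace Groth.Agent.Lib.Helper35.NLP

open Groth.Agent.Lib.Helper35.TT Groth.Agent.Lib.Helper35.NLC Groth.Agent.Lib.Helper35.CotLoc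
  Groth.Agent.Lib.Helper35.TA Groth.Agent.Lib.Helper35.FlatBC Algebra

variable {A B : Type u} [CommRing A] [CommRing B] [Algebra A B]

section Local

variable (E : Extension.{u} A B) (g : E.Ring)

/-- transfer of "finite free" along an isomorphism with an extended module. -/
theorem finite_free_ext_obj (S' : Type u) [CommRing S'] [Algebra B S'] (X : ModuleCat.{u} B)
    (M : Type u) [AddCommGroup M] [Module B M] (e : X ≅ ModuleCat.of B M)
    (h : Module.Free S' (S' ⊗[B] M) ∧ Module.Finite S' (S' ⊗[B] M)) :
    Module.Finite S' ((ext B S').obj X) ∧ Module.Free S' ((ext B S').obj X) := by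
  obtain ⟨h1, h2⟩ := h
  let e' : ((ext B S').obj X) ≃ₗ[S'] (S' ⊗[B] M) :=
    ((ext B S').mapIso e).toLinearEquiv ≪≫ₗ extLinearEquiv (A := B) S' M
  exact ⟨Module.Finite.equiv e'.symm, Module.Free.of_equiv e'.symm⟩

/-- The localized two-term cotangent complex has finite free terms as soon as the localized
cotangent module is finite free. -/
theorem local_terms [Module.Free B E.CotangentSpace] [Module.Finite B E.CotangentSpace]
    (h : Module.Free (Localization.Away (gb E g)) (Localization.Away (gb E g) ⊗[B] E.Cotangent) ∧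
      Module.Finite (Localization.Away (gb E g))
        (Localization.Away (gb E g) ⊗[B] E.Cotangent)) :
    DRing.VanishesOutside ((extCx B (Localization.Away (gb E g))).obj (nlCx E)) (-1) 0 ∧
      DRing.TermwiseFiniteFree ((extCx B (Localization.Away (gb E g))).obj (nlCx E)) := by
  constructor
  · intro i hi
    exact (ext B (Localization.Away (gb E g))).map_isZero
      (isZero_dbl_X _ i (by omega) (by omega))
  · intro i
    by_cases h1 : i = -1
    · subst h1
      exact finite_free_ext_obj _ _ E.Cotangent (iso₁ _) h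
    · by_cases h0 : i = 0
      · subst h0
        exact finite_free_ext_obj _ _ E.CotangentSpace (iso₀ _) ⟨inferInstance, inferInstance⟩
      · have hz : IsZero (((extCx B (Localization.Away (gb E g))).obj (nlCx E)).X i) :=
          (ext B (Localization.Away (gb E g))).map_isZero (isZero_dbl_X _ i h1 h0)
        have := ModuleCat.subsingleton_of_isZero hz
        exact ⟨inferInstance, Module.Free.of_subsingleton _ _⟩

theorem local_perfect_TAmp [Module.Free B E.CotangentSpace] [Module.Finite B E.CotangentSpace]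
    (h : Module.Free (Localization.Away (gb E g)) (Localization.Away (gb E g) ⊗[B] E.Cotangent) ∧
      Module.Finite (Localization.Away (gb E g))
        (Localization.Away (gb E g) ⊗[B] E.Cotangent)) :
    DRing.IsPerfect (Localization.Away (gb E g))
        (DRing.toD ((extCx B (Localization.Away (gb E g))).obj (nlCx E))) ∧
      TAmp (-1) 0 (DRing.toD ((extCx B (Localization.Away (gb E g))).obj (nlCx E))) := by
  obtain ⟨hv, hf⟩ := local_terms E g h
  refine ⟨⟨_, -1, 0, hv, fun i => ?_, ⟨Iso.refl _⟩⟩, ⟨_, hv, fun i => ?_, ⟨Iso.refl _⟩⟩⟩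
  · have h1 := (hf i).1
    have h2 := (hf i).2
    exact ⟨h1, inferInstance⟩
  · have h2 := (hf i).2
    infer_instance

end Local

section Global

variable {n : ℕ} (f : MvPolynomial (Fin n) A →ₐ[A] B) (hf : Function.Surjective f)

/-- the extension given by a finite presentation. -/
noncomputable abbrev Ef : Extension.{u} A B := (Generators.ofAlgHom f hf).toExtension

lemma algebraMap_Ef (x : MvPolynomial (Fin n) A) : algebraMap (Ef f hf).Ring B x = f x := by
  show MvPolynomial.aeval (f ∘ MvPolynomial.X) x = f x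
  have : MvPolynomial.aeval (f ∘ MvPolynomial.X) = f := by
    ext
    simp
  rw [this]

lemma ker_Ef : (Ef f hf).ker = RingHom.ker f.toRingHom := by
  ext x
  show algebraMap (Ef f hf).Ring B x = 0 ↔ f x = 0
  rw [algebraMap_Ef]

instance : Module.Finite B (Ef f hf).CotangentSpace :=
  Module.Finite.of_basis (Generators.ofAlgHom f hf).cotangentSpaceBasis

theorem nl_perfect_TAmp (hI : LCI.IsKoszulRegularIdeal (RingHom.ker f.toRingHom)) :
    DRing.IsPerfect B (DRing.toD (nlCx (Ef f hf))) ∧ TAmp (-1) 0 (DRing.toD (nlCx (Ef f hf))) := by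
  classical
  let E := Ef f hf
  let Φ : E.Ring → Prop := fun g =>
    Module.Free (Localization.Away (gb E g)) (Localization.Away (gb E g) ⊗[B] E.Cotangent) ∧
      Module.Finite (Localization.Away (gb E g)) (Localization.Away (gb E g) ⊗[B] E.Cotangent)
  have hcov : ∀ p : PrimeSpectrum E.Ring, ∃ g : E.Ring, g ∉ p.asIdeal ∧ Φ g := by
    intro p
    by_cases hp : E.ker ≤ p.asIdeal
    · obtain ⟨g, hg, l, hl, hIl⟩ := hI p (by rw [← ker_Ef f hf]; exact hp)
      refine ⟨g, hg, free_finite_tensor_cotangent E g l hl ?_⟩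
      rw [ker_locExt, ker_Ef]
      exact hIl
    · obtain ⟨g, hgI, hgp⟩ := Set.not_subset.1 hp
      exact ⟨g, hgp, free_finite_tensor_cotangent_of_mem E g hgI⟩
  have htop : Ideal.span {g : E.Ring | Φ g} = ⊤ := by
    by_contra hne
    obtain ⟨m, hm, hle⟩ := Ideal.exists_le_maximal _ hne
    obtain ⟨g, hg, hΦ⟩ := hcov ⟨m, hm.isPrime⟩
    exact hg (hle (Ideal.subset_span hΦ))
  obtain ⟨s, hs, hstop⟩ := (Ideal.span_eq_top_iff_finite _).1 htop
  let f' : Fin s.card → B := fun i => gb E (s.equivFin.symm i : E.Ring)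
  have hrange : Set.range f' = (algebraMap E.Ring B) '' (s : Set E.Ring) := by
    ext x
    constructor
    · rintro ⟨i, rfl⟩
      exact ⟨_, (s.equivFin.symm i).2, rfl⟩
    · rintro ⟨y, hy, rfl⟩
      exact ⟨s.equivFin ⟨y, hy⟩, by simp [f']⟩
  have hf' : Ideal.span (Set.range f') = ⊤ := by
    rw [hrange, ← Ideal.map_span, hstop, Ideal.map_top]
  have hK : ∀ i, Φ (s.equivFin.symm i : E.Ring) := fun i => hs (s.equivFin.symm i).2
  refine ⟨isPerfect_of_span_eq_top f' hf' (nlCx E) (fun i => (local_perfect_TAmp E _ (hK i)).1),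
    TAmp_descent (fun i : Fin s.card => Localization.Away (f' i)) (jff_of_span_eq_top f' hf')
      (nlCx E) (-1) 0 (fun i => (local_perfect_TAmp E _ (hK i)).2)⟩

/-- The naive cotangent complex of a local complete intersection ring map is perfect, of tor
amplitude in `[-1, 0]`. -/
theorem NL_perfect_TAmp (h : LCI.IsLCI A B) :
    DRing.IsPerfect B (LCI.NL A B) ∧ DRing.HasTorAmplitudeIn B (-1) 0 (LCI.NL A B) := by
  obtain ⟨-, n, f, hf, hI⟩ := h
  obtain ⟨e⟩ := nonempty_NL_iso (Generators.ofAlgHom f hf)
  obtain ⟨h1, h2⟩ := nl_perfect_TAmp f hf hI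
  exact ⟨KL.isPerfect_of_iso e.symm h1, TAmp.of_iso h2 e.symm⟩

end Global

end Groth.Agent.Lib.Helper35.NLP
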