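import Mathlib
import Groth.Prelude.Def_SheafNL
import Groth.Agent.S7221
import Groth.Agent.Lib.Helper35.NLPerf

/-! `H^{-1}` of the base-changed naive cotangent complex: independence of the chosen morphism of
presentations, functoriality, and comparison of kernels (helper35). -/

set_option autoImplicit false
universe u
open TensorProduct Algebra

namespace Groth.Agent.Lib.Helper35.BcH1

section General

variable {R S R' S' : Type u} [CommRing R] [CommRing S] [CommRing R'] [CommRing S']
  [Algebra R S] [Algebra R' S'] [Algebra R R'] [Algebra S S'] [Algebra R S']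
  [IsScalarTower R R' S'] [IsScalarTower R S S']
variable {P Q : Extension.{u} R S} {P' Q' : Extension.{u} R' S'}

/-- the `S'`-linear extension of the cotangent map. -/
noncomputable abbrev L (f : P.Hom P') : S' ⊗[S] P.Cotangent →ₗ[S'] P'.Cotangent :=
  LinearMap.liftBaseChange S' (Extension.Cotangent.map f)

lemma L_sub (f g : P.Hom P') (x : S' ⊗[S] P.Cotangent) :
    L f x - L g x =
      LinearMap.liftBaseChange S' (f.sub g) (P.cotangentComplex.baseChange S' x) := by
  induction x using TensorProduct.induction_on with
  | zero => simp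
  | tmul s m =>
    simp only [L, LinearMap.liftBaseChange_tmul, LinearMap.baseChange_tmul]
    rw [← smul_sub, ← LinearMap.sub_apply, Extension.Cotangent.map_sub_map]
    rfl
  | add a b ha hb =>
    simp only [map_add]
    rw [← ha, ← hb]
    abel

omit [IsScalarTower R S S'] in
lemma L_comm (f : P.Hom P') (x : S' ⊗[S] P.Cotangent) :
    P'.cotangentComplex (L f x) =
      LinearMap.liftBaseChange S' (Extension.CotangentSpace.map f)
        (P.cotangentComplex.baseChange S' x) := by
  induction x using TensorProduct.induction_on with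
  | zero => simp
  | tmul s m =>
    simp only [L, LinearMap.liftBaseChange_tmul, LinearMap.baseChange_tmul, map_smul]
    rw [Extension.CotangentSpace.map_cotangentComplex]
  | add a b ha hb =>
    simp only [map_add]
    rw [← ha, ← hb]

lemma bcH1Map_coe (f : P.Hom P') (x : NLCx.bcH1 P S') :
    P'.h1Cotangentι (NLCx.bcH1Map f x) = L f x.1 := rfl

theorem bcH1Map_eq (f g : P.Hom P') : NLCx.bcH1Map f = NLCx.bcH1Map g := by
  ext x
  have h := L_sub f g x.1
  have hx : P.cotangentComplex.baseChange S' x.1 = 0 := x.2
  rw [hx, map_zero, sub_eq_zero] at h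
  exact h

omit [IsScalarTower R S S'] in
lemma L_comp_right (f : P.Hom P') (γ : P'.Hom Q') (x : S' ⊗[S] P.Cotangent) :
    L (γ.comp f) x = Extension.Cotangent.map γ (L f x) := by
  induction x using TensorProduct.induction_on with
  | zero => simp
  | tmul s m =>
    simp only [L, LinearMap.liftBaseChange_tmul, map_smul]
    rw [Extension.Cotangent.map_comp]
    rfl
  | add a b ha hb =>
    simp only [map_add]
    rw [← ha, ← hb]

theorem bcH1Map_comp_right (f : P.Hom P') (γ : P'.Hom Q') (g : P.Hom Q') :
    NLCx.bcH1Map g = (Extension.H1Cotangent.map γ) ∘ₗ NLCx.bcH1Map f := by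
  rw [bcH1Map_eq g (γ.comp f)]
  ext x
  exact L_comp_right f γ x.1

/-- functoriality of `H^{-1}(NL(P) ⊗ S')` in the presentation `P` of `S` over `R`. -/
noncomputable def bcH1Base (α : P.Hom Q) : NLCx.bcH1 P S' →ₗ[S'] NLCx.bcH1 Q S' :=
  ((Extension.Cotangent.map α).baseChange S').restrict
    (p := NLCx.bcH1 P S') (q := NLCx.bcH1 Q S') (fun x hx => by
      simp only [NLCx.bcH1, LinearMap.mem_ker] at hx ⊢
      have key : Q.cotangentComplex.baseChange S' ∘ₗ (Extension.Cotangent.map α).baseChange S' =
          (Extension.CotangentSpace.map α).baseChange S' ∘ₗ P.cotangentComplex.baseChange S' := by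
        rw [← LinearMap.baseChange_comp, ← LinearMap.baseChange_comp]
        congr 1
        ext y
        exact (Extension.CotangentSpace.map_cotangentComplex α y).symm
      have := congr($key x)
      simp only [LinearMap.coe_comp, Function.comp_apply, hx, map_zero] at this
      exact this)

lemma bcH1Base_coe (α : P.Hom Q) (x : NLCx.bcH1 P S') :
    ((bcH1Base (S' := S') α x : NLCx.bcH1 Q S') : S' ⊗[S] Q.Cotangent) =
      (Extension.Cotangent.map α).baseChange S' x.1 := rfl

theorem bcH1Base_eq (α β : P.Hom Q) : bcH1Base (S' := S') α = bcH1Base β := by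
  ext x
  rw [bcH1Base_coe, bcH1Base_coe, ← sub_eq_zero, ← LinearMap.sub_apply, ← LinearMap.baseChange_sub,
    Extension.Cotangent.map_sub_map, LinearMap.baseChange_comp]
  have hx : P.cotangentComplex.baseChange S' x.1 = 0 := x.2
  rw [LinearMap.comp_apply, hx, map_zero]

theorem bcH1Base_id : bcH1Base (S' := S') (Extension.Hom.id P) = LinearMap.id := by
  ext x
  rw [bcH1Base_coe, Extension.Cotangent.map_id, LinearMap.baseChange_id]
  rfl

theorem bcH1Base_comp {T : Extension.{u} R S} (α : P.Hom Q) (β : Q.Hom T) :
    bcH1Base (S' := S') (β.comp α) = bcH1Base β ∘ₗ bcH1Base α := by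
  ext x
  rw [bcH1Base_coe, Extension.Cotangent.map_comp, LinearMap.comp_apply, bcH1Base_coe, bcH1Base_coe]
  have : ((Extension.Cotangent.map β).restrictScalars S ∘ₗ Extension.Cotangent.map α) =
      (Extension.Cotangent.map β) ∘ₗ Extension.Cotangent.map α := rfl
  rw [this, LinearMap.baseChange_comp]
  rfl

/-- `H^{-1}(NL(P) ⊗ S')` does not depend on the presentation. -/
noncomputable def bcH1Equiv (α : P.Hom Q) (β : Q.Hom P) : NLCx.bcH1 P S' ≃ₗ[S'] NLCx.bcH1 Q S' :=
  LinearEquiv.ofLinearMap (bcH1Base α) (bcH1Base β)
    (by rw [← bcH1Base_comp, bcH1Base_eq (α.comp β) (Extension.Hom.id Q), bcH1Base_id])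
    (by rw [← bcH1Base_comp, bcH1Base_eq (β.comp α) (Extension.Hom.id P), bcH1Base_id])

lemma L_comp_left (α : P.Hom Q) (f : Q.Hom P') (x : S' ⊗[S] P.Cotangent) :
    L (f.comp α) x = L f ((Extension.Cotangent.map α).baseChange S' x) := by
  induction x using TensorProduct.induction_on with
  | zero => simp
  | tmul s m =>
    simp only [L, LinearMap.liftBaseChange_tmul, LinearMap.baseChange_tmul]
    rw [Extension.Cotangent.map_comp]
    rfl
  | add a b ha hb =>
    simp only [map_add]
    rw [← ha, ← hb]

theorem bcH1Map_comp_left (α : P.Hom Q) (f : Q.Hom P') (g : P.Hom P') :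
    NLCx.bcH1Map g = NLCx.bcH1Map f ∘ₗ bcH1Base α := by
  rw [bcH1Map_eq g (f.comp α)]
  ext x
  exact L_comp_left α f x.1

/-- comparison of the kernels of `bcH1Map` for two pairs of presentations. -/
theorem nonempty_ker_bcH1Map_equiv (g : P.Hom P') (f : Q.Hom Q') (α : P.Hom Q) (β : Q.Hom P)
    (γ : Q'.Hom P') (δ : P'.Hom Q') :
    Nonempty (LinearMap.ker (NLCx.bcH1Map g) ≃ₗ[S'] LinearMap.ker (NLCx.bcH1Map f)) := by
  have h1 : NLCx.bcH1Map g = Extension.H1Cotangent.map γ ∘ₗ NLCx.bcH1Map f ∘ₗ bcH1Base α := by
    rw [bcH1Map_comp_left α (γ.comp f) g, bcH1Map_comp_right f γ (γ.comp f)]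
    rfl
  have hinj : Function.Injective (Extension.H1Cotangent.map γ) :=
    (Extension.H1Cotangent.equiv γ δ).injective
  have h2 : LinearMap.ker (NLCx.bcH1Map g) =
      (LinearMap.ker (NLCx.bcH1Map f)).comap (bcH1Equiv (S' := S') α β).toLinearMap := by
    ext x
    rw [LinearMap.mem_ker, Submodule.mem_comap, LinearMap.mem_ker, h1]
    constructor
    · intro hx
      exact hinj (hx.trans (map_zero _).symm)
    · intro hx
      show Extension.H1Cotangent.map γ (NLCx.bcH1Map f (bcH1Base α x)) = 0
      have hx' : NLCx.bcH1Map f (bcH1Base α x) = 0 := hx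
      rw [hx', map_zero]
  exact ⟨(LinearEquiv.ofEq _ _ h2).trans ((bcH1Equiv (S' := S') α β).ofSubmodule' _)⟩

/-- when the map on cotangent spaces is injective, the kernel of `bcH1Map` is the kernel of the
map on cotangent modules. -/
noncomputable def kerEquiv (f : P.Hom P')
    (hs : Function.Injective (LinearMap.liftBaseChange S' (Extension.CotangentSpace.map f))) :
    LinearMap.ker (NLCx.bcH1Map f) ≃ₗ[S'] LinearMap.ker (L f) where
  toFun x := ⟨x.1.1, by
    have h := x.2
    rw [LinearMap.mem_ker] at h ⊢
    have h2 := congrArg P'.h1Cotangentι h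
    rw [bcH1Map_coe, map_zero] at h2
    exact h2⟩
  map_add' _ _ := rfl
  map_smul' _ _ := rfl
  invFun y := ⟨⟨y.1, by
      show P.cotangentComplex.baseChange S' y.1 = 0
      apply hs
      rw [map_zero, ← L_comm, LinearMap.mem_ker.1 y.2, map_zero]⟩, by
      rw [LinearMap.mem_ker]
      apply Subtype.ext
      exact LinearMap.mem_ker.1 y.2⟩
  left_inv _ := rfl
  right_inv _ := rfl

end General

section Split

variable {A : Type*} [CommRing A] {M N : Type*} [AddCommGroup M] [Module A M]
  [AddCommGroup N] [Module A N]

/-- the kernel of a surjection from a finite projective module onto a projective module is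
finite projective. -/
theorem ker_finite_projective (c : M →ₗ[A] N) (hc : Function.Surjective c)
    [Module.Projective A N] [Module.Finite A M] [Module.Projective A M] :
    Module.Finite A (LinearMap.ker c) ∧ Module.Projective A (LinearMap.ker c) := by
  obtain ⟨s, hs⟩ := Module.projective_lifting_property c LinearMap.id hc
  have hs' : ∀ n, c (s n) = n := fun n => congr($hs n)
  let r : M →ₗ[A] LinearMap.ker c :=
    (LinearMap.id - s ∘ₗ c).codRestrict (LinearMap.ker c) (fun m => by
      rw [LinearMap.mem_ker, LinearMap.sub_apply, map_sub, LinearMap.comp_apply, hs']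
      exact sub_self _)
  have hr : r ∘ₗ (LinearMap.ker c).subtype = LinearMap.id := by
    ext x
    show x.1 - s (c x.1) = x.1
    rw [LinearMap.mem_ker.1 x.2, map_zero, sub_zero]
  have hsurj : Function.Surjective r := fun x => ⟨x.1, congr($hr x)⟩
  exact ⟨Module.Finite.of_surjective r hsurj,
    Module.Projective.of_split (LinearMap.ker c).subtype r hr⟩

end Split

section Retract

variable {R S : Type u} [CommRing R] [CommRing S] [Algebra R S]

/-- `I₁/I₁²` is a retract of `I₂/I₂² ⊕ Ω_{P₁} ⊗ S` whenever there are morphisms of presentations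
in both directions. -/
theorem cotangent_finite_projective_of_homs {P₁ P₂ : Extension.{u} R S} (φ : P₁.Hom P₂)
    (ψ : P₂.Hom P₁)
    [Module.Finite S P₂.Cotangent] [Module.Projective S P₂.Cotangent]
    [Module.Finite S P₁.CotangentSpace] [Module.Projective S P₁.CotangentSpace] :
    Module.Finite S P₁.Cotangent ∧ Module.Projective S P₁.Cotangent := by
  let hh : P₁.CotangentSpace →ₗ[S] P₁.Cotangent := (ψ.comp φ).sub (Extension.Hom.id P₁)
  let i : P₁.Cotangent →ₗ[S] (P₂.Cotangent × P₁.CotangentSpace) :=
    (Extension.Cotangent.map φ).prod P₁.cotangentComplex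
  let r : (P₂.Cotangent × P₁.CotangentSpace) →ₗ[S] P₁.Cotangent :=
    (Extension.Cotangent.map ψ).coprod (-hh)
  have key : Extension.Cotangent.map (ψ.comp φ) - Extension.Cotangent.map (Extension.Hom.id P₁) =
      hh ∘ₗ P₁.cotangentComplex := Extension.Cotangent.map_sub_map _ _
  have hr : r ∘ₗ i = LinearMap.id := by
    ext m
    have h1 := congr($key m)
    rw [LinearMap.sub_apply, Extension.Cotangent.map_id, LinearMap.id_apply,
      Extension.Cotangent.map_comp, LinearMap.comp_apply, LinearMap.comp_apply] at h1
    show Extension.Cotangent.map ψ (Extension.Cotangent.map φ m) + (-hh) (P₁.cotangentComplex m) = m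
    rw [LinearMap.neg_apply, ← sub_eq_add_neg, ← h1]
    simp
  have hsurj : Function.Surjective r := fun x => ⟨i x, congr($hr x)⟩
  exact ⟨Module.Finite.of_surjective r hsurj, Module.Projective.of_split i r hr⟩

end Retract

section StepA

open Groth.Agent.Lib.Helper35.CotLoc Groth.Agent.Lib.Helper35.NLP

variable {A B : Type u} [CommRing A] [CommRing B] [Algebra A B]
  {n : ℕ} (f : MvPolynomial (Fin n) A →ₐ[A] B) (hf : Function.Surjective f)

/-- the conormal module of a presentation with Koszul-regular kernel is finite projective. -/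
theorem cotangent_finite_projective_Ef
    (hI : LCI.IsKoszulRegularIdeal (RingHom.ker f.toRingHom)) :
    Module.Finite B (Ef f hf).Cotangent ∧ Module.Projective B (Ef f hf).Cotangent := by
  classical
  let E := Ef f hf
  let Ψ : B → Prop := fun b =>
    Module.Free (Localization.Away b) (Localization.Away b ⊗[B] E.Cotangent) ∧
      Module.Finite (Localization.Away b) (Localization.Away b ⊗[B] E.Cotangent)
  have hcov : ∀ p : PrimeSpectrum E.Ring, ∃ g : E.Ring, g ∉ p.asIdeal ∧ Ψ (gb E g) := by
    intro p
    by_cases hp : E.ker ≤ p.asIdeal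
    · obtain ⟨g, hg, l, hl, hIl⟩ := hI p (by rw [← ker_Ef f hf]; exact hp)
      refine ⟨g, hg, free_finite_tensor_cotangent E g l hl ?_⟩
      rw [ker_locExt, ker_Ef]
      exact hIl
    · obtain ⟨g, hgI, hgp⟩ := Set.not_subset.1 hp
      exact ⟨g, hgp, free_finite_tensor_cotangent_of_mem E g hgI⟩
  let s : Set B := {b | Ψ b}
  have htop : Ideal.span s = ⊤ := by
    by_contra hne
    obtain ⟨m, hm, hle⟩ := Ideal.exists_le_maximal _ hne
    have hprime : (m.comap (algebraMap E.Ring B)).IsPrime := Ideal.comap_isPrime _ _
    obtain ⟨g, hg, hΨ⟩ := hcov ⟨m.comap (algebraMap E.Ring B), hprime⟩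
    exact hg (hle (Ideal.subset_span hΨ))
  have hfp : Module.FinitePresentation B E.Cotangent :=
    Module.FinitePresentation.of_localizationSpan' s htop
      (Mₚ := fun b => Localization.Away b.1 ⊗[B] E.Cotangent)
      (Rₚ := fun b => Localization.Away b.1)
      (fun b => TensorProduct.mk B (Localization.Away b.1) E.Cotangent 1)
      (fun b => by
        have h1 : Module.Free (Localization.Away b.1) (Localization.Away b.1 ⊗[B] E.Cotangent) :=
          b.2.1
        have h2 : Module.Finite (Localization.Away b.1)
            (Localization.Away b.1 ⊗[B] E.Cotangent) := b.2.2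
        exact Module.finitePresentation_of_projective _ _)
  have hflat : Module.Flat B E.Cotangent :=
    Module.flat_of_isLocalized_span B E.Cotangent s htop
      (fun b => Localization.Away b.1 ⊗[B] E.Cotangent)
      (fun b => TensorProduct.mk B (Localization.Away b.1) E.Cotangent 1)
      (fun b => by
        have h1 : Module.Free (Localization.Away b.1) (Localization.Away b.1 ⊗[B] E.Cotangent) :=
          b.2.1
        exact Module.Flat.trans B (Localization.Away b.1) _)
  exact ⟨inferInstance, Module.Flat.projective_of_finitePresentation⟩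

end StepA

section Main

open Groth.Agent.Lib.Helper35.NLP

variable {R S R' S' : Type u} [CommRing R] [CommRing S] [CommRing R'] [CommRing S']
  [Algebra R S] [Algebra R' S'] [Algebra R R'] [Algebra S S'] [Algebra R S']
  [IsScalarTower R R' S'] [IsScalarTower R S S']

lemma aeval_map_eq' {ι : Type*} (v : ι → S) (p : MvPolynomial ι R) :
    MvPolynomial.aeval (R := R') (fun i => algebraMap S S' (v i))
      (MvPolynomial.map (algebraMap R R') p) = algebraMap S S' (MvPolynomial.aeval v p) := by
  induction p using MvPolynomial.induction_on with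
  | C a =>
    rw [MvPolynomial.map_C, MvPolynomial.aeval_C, MvPolynomial.aeval_C,
      ← IsScalarTower.algebraMap_apply R R' S', ← IsScalarTower.algebraMap_apply R S S']
  | add p q hp hq => rw [map_add, map_add, map_add, map_add, hp, hq]
  | mul_X p i hp =>
    rw [map_mul, map_mul, map_mul, map_mul, hp, MvPolynomial.map_X, MvPolynomial.aeval_X,
      MvPolynomial.aeval_X]

variable [Algebra.IsPushout R R' S S']

lemma aeval_bc_surjective {ι : Type*} (v : ι → S)
    (hv : Function.Surjective (MvPolynomial.aeval (R := R) v)) :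
    Function.Surjective (MvPolynomial.aeval (R := R') (fun i => algebraMap S S' (v i))) := by
  intro x
  obtain ⟨t, rfl⟩ := (Algebra.IsPushout.equiv R R' S S').surjective x
  induction t using TensorProduct.induction_on with
  | zero => exact ⟨0, by simp⟩
  | tmul r b =>
    obtain ⟨p, rfl⟩ := hv b
    refine ⟨MvPolynomial.C r * MvPolynomial.map (algebraMap R R') p, ?_⟩
    rw [map_mul, MvPolynomial.aeval_C, aeval_map_eq', Algebra.IsPushout.equiv_tmul]
  | add a b ha hb =>
    obtain ⟨p, hp⟩ := ha
    obtain ⟨q, hq⟩ := hb
    exact ⟨p + q, by rw [map_add, map_add, hp, hq]⟩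

theorem ker_bcH1Map_self_finite_projective (hB : LCI.IsLCI R S) (hB' : LCI.IsLCI R' S') :
    Module.Finite S' (LinearMap.ker (NLCx.bcH1Map
        ((Algebra.Generators.self R S).defaultHom
          (Algebra.Generators.self R' S')).toExtensionHom)) ∧
      Module.Projective S' (LinearMap.ker (NLCx.bcH1Map
        ((Algebra.Generators.self R S).defaultHom
          (Algebra.Generators.self R' S')).toExtensionHom)) := by
  obtain ⟨-, n, f, hf, hI⟩ := hB
  obtain ⟨-, m, f', hf', hI'⟩ := hB'
  let G₁ : Generators R S (Fin n) := Generators.ofAlgHom f hf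
  let G₁' : Generators R' S' (Fin m) := Generators.ofAlgHom f' hf'
  let G₀ : Generators R S (ULift.{u} (Fin n)) := G₁.reindex Equiv.ulift
  have hv : Function.Surjective (MvPolynomial.aeval (R := R) G₀.val) := fun b =>
    ⟨G₀.σ b, G₀.aeval_val_σ b⟩
  let G₀' : Generators R' S' (ULift.{u} (Fin n)) :=
    Generators.ofSurjective (fun i => algebraMap S S' (G₀.val i)) (aeval_bc_surjective G₀.val hv)
  have h : ∀ i, G₀'.val i = algebraMap S S' (G₀.val i) := fun i => rfl
  obtain ⟨hF1, hP1⟩ := cotangent_finite_projective_Ef f hf hI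
  obtain ⟨hF1', hP1'⟩ := cotangent_finite_projective_Ef f' hf' hI'
  have hQ : Module.Finite S G₀.toExtension.Cotangent ∧
      Module.Projective S G₀.toExtension.Cotangent := by
    have : Module.Finite S G₀.toExtension.CotangentSpace :=
      Module.Finite.of_basis G₀.cotangentSpaceBasis
    have : Module.Free S G₀.toExtension.CotangentSpace :=
      Module.Free.of_basis G₀.cotangentSpaceBasis
    exact cotangent_finite_projective_of_homs (P₁ := G₀.toExtension) (P₂ := Ef f hf)
      (G₀.defaultHom G₁).toExtensionHom (G₁.defaultHom G₀).toExtensionHom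
  have hQ' : Module.Finite S' G₀'.toExtension.Cotangent ∧
      Module.Projective S' G₀'.toExtension.Cotangent := by
    have : Module.Finite S' G₀'.toExtension.CotangentSpace :=
      Module.Finite.of_basis G₀'.cotangentSpaceBasis
    have : Module.Free S' G₀'.toExtension.CotangentSpace :=
      Module.Free.of_basis G₀'.cotangentSpaceBasis
    exact cotangent_finite_projective_of_homs (P₁ := G₀'.toExtension) (P₂ := Ef f' hf')
      (G₀'.defaultHom G₁').toExtensionHom (G₁'.defaultHom G₀').toExtensionHom
  obtain ⟨hQF, hQP⟩ := hQ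
  obtain ⟨hQF', hQP'⟩ := hQ'
  have hc : Function.Surjective (L (S' := S') (NLCx.sameVarsHom G₀ G₀' h).toExtensionHom) :=
    Groth.Agent.S7221.lift_cotangent_surjective G₀ G₀' h
  have hs := (Groth.Agent.S7221.lift_cotangentSpace_bijective G₀ G₀' h).1
  obtain ⟨k1, k2⟩ := ker_finite_projective
    (L (S' := S') (NLCx.sameVarsHom G₀ G₀' h).toExtensionHom) hc
  obtain ⟨e⟩ := nonempty_ker_bcH1Map_equiv
    (g := ((Algebra.Generators.self R S).defaultHom
      (Algebra.Generators.self R' S')).toExtensionHom)
    (f := (NLCx.sameVarsHom G₀ G₀' h).toExtensionHom)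
    ((Algebra.Generators.self R S).defaultHom G₀).toExtensionHom
    (G₀.defaultHom (Algebra.Generators.self R S)).toExtensionHom
    (G₀'.defaultHom (Algebra.Generators.self R' S')).toExtensionHom
    ((Algebra.Generators.self R' S').defaultHom G₀').toExtensionHom
  let e2 := kerEquiv (NLCx.sameVarsHom G₀ G₀' h).toExtensionHom hs
  exact ⟨Module.Finite.equiv (e.trans e2).symm, Module.Projective.of_equiv (e.trans e2).symm⟩

end Main

end Groth.Agent.Lib.Helper35.BcH1

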