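import Mathlib
import Groth.Agent.Lib.Helper35.RegPerf
import Groth.Agent.Lib.Helper35.TorDim

/-! Regular rings of finite Krull dimension have finite weak global dimension (helper35). -/

set_option autoImplicit false
universe u

open CategoryTheory Limits

namespace Groth.Agent.Lib.Helper35.RegTD

open Groth.Agent.Lib.Helper35.KL Groth.Agent.Lib.Helper35.TA

variable {A : Type u} [CommRing A]

lemma exists_nat_of_lt_top (h : ringKrullDim A < ⊤) : ∃ d : ℕ, ringKrullDim A ≤ d := by
  by_cases hb : ringKrullDim A = ⊥
  · exact ⟨0, by rw [hb]; exact bot_le⟩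
  · obtain ⟨x, hx⟩ := WithBot.ne_bot_iff_exists.mp hb
    have hx' : x ≠ ⊤ := by
      rintro rfl
      rw [← hx] at h
      exact lt_irrefl _ h
    obtain ⟨d, rfl⟩ := ENat.ne_top_iff_exists.mp hx'
    exact ⟨d, by rw [← hx]; rfl⟩

theorem flat_Syz_of_isRegularRing [IsRegularRing A] (d : ℕ) (hd : ringKrullDim A ≤ d)
    (M : ModuleCat.{u} A) : Module.Flat A (Syz M d) := by
  apply Module.flat_of_localized_maximal
  intro m hm
  have hmp : m.IsPrime := hm.isPrime
  let p : PrimeSpectrum A := ⟨m, hmp⟩
  have hfin : m.height ≠ ⊤ := Ideal.height_ne_top hm.ne_top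
  have he : ringKrullDim (Localization.AtPrime m) = (m.height.toNat : ℕ) := by
    rw [IsLocalization.AtPrime.ringKrullDim_eq_height m (Localization.AtPrime m)]
    have : (m.height.toNat : ℕ∞) = m.height := ENat.natCast_toNat hfin
    rw [← this]
    rfl
  have hle : m.height.toNat ≤ d := by
    have h1 : (m.height : WithBot ℕ∞) ≤ ringKrullDim A := Ideal.height_le_ringKrullDim_of_ne_top hm.ne_top
    have h2 : (m.height : WithBot ℕ∞) ≤ ((d : ℕ∞) : WithBot ℕ∞) := h1.trans hd
    have h3 : m.height ≤ (d : ℕ∞) := WithBot.coe_le_coe.mp h2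
    have : (m.height.toNat : ℕ∞) = m.height := ENat.natCast_toNat hfin
    rw [← this] at h3
    exact_mod_cast h3
  have h0' : HasProjectiveDimensionLT (SyzLoc M p 0) (m.height.toNat + 1) :=
    Groth.Agent.S0563.result (Localization.AtPrime m) _ he (LocalizedModule m.primeCompl M)
  have h0 : HasProjectiveDimensionLT (SyzLoc M p 0) (d + 1) :=
    hasProjectiveDimensionLT_of_ge _ (m.height.toNat + 1) (d + 1) (by omega)
  have h1 := pd_iter M p d 0 h0
  rw [zero_add] at h1
  have hproj : Module.Projective (Localization.AtPrime m)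
      (LocalizedModule m.primeCompl (Syz M d)) := by
    rw [IsProjective.iff_projective, projective_iff_hasProjectiveDimensionLT_one]
    exact h1
  have hfl : Module.Flat (Localization.AtPrime m) (LocalizedModule m.primeCompl (Syz M d)) :=
    Module.Flat.of_projective
  exact Module.Flat.trans A (Localization.AtPrime m) (LocalizedModule m.primeCompl (Syz M d))

theorem TD_Syz_of_flat [IsNoetherianRing A] (M : ModuleCat.{u} A) (k : ℕ) :
    ∀ i : ℕ, Module.Flat A (Syz M (i + k)) → TD k (Syz M i) := by
  induction k with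
  | zero =>
    intro i h
    exact TD_zero_of_flat _
  | succ k ih =>
    intro i h
    have hfl : Module.Flat A (syzSC M i).X₂ := inferInstanceAs (Module.Flat A (coverObj (Syz M i)))
    refine (TD_succ_iff (syzSC M i) (syzSC_shortExact M i) k).2 (ih (i + 1) ?_)
    rwa [show i + 1 + k = i + (k + 1) by omega]

/-- every module over a regular ring of Krull dimension `≤ d` has tor dimension `≤ d`. -/
theorem hasTorDimLE_of_isRegularRing [IsRegularRing A] (d : ℕ) (hd : ringKrullDim A ≤ d)
    (M : Type u) [AddCommGroup M] [Module A M] : DRing.HasTorDimLE A d M := by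
  rw [hasTorDimLE_iff_TD]
  have h := TD_Syz_of_flat (ModuleCat.of A M) d 0
    (by rw [zero_add]; exact flat_Syz_of_isRegularRing d hd _)
  exact h

end Groth.Agent.Lib.Helper35.RegTD
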