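import Groth.Agent.Lib.Helper35.IALib2

/-! Injective amplitude, part 3: construction of injective representatives and the TFAE
(helper35). -/

set_option autoImplicit false
universe w v u

namespace Groth.Agent.Lib.Helper35.KL

open CategoryTheory Limits DerivedCategory Pretriangulated ZeroObject

attribute [local instance] HasDerivedCategory.standard

variable {R : Type u} [CommRing R]

/-- Normalized construction of an injective representative. -/
theorem IA_norm (n : ℕ) : ∀ (K : DerivedCategory (ModuleCat.{u} R)), K.IsGE 0 → K.IsLE (n : ℤ) →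
    (∀ (J : Ideal R) (m : ℤ) (_ : m = (n : ℤ) + 1)
      (f : (DerivedCategory.singleFunctor (ModuleCat.{u} R) 0).obj (ModuleCat.of R (R ⧸ J)) ⟶ K⟦m⟧),
      f = 0) →
    IA 0 (n : ℤ) K := by
  induction n with
  | zero =>
    intro K hG hL h
    have hL' : K.IsLE 0 := by simpa using hL
    obtain ⟨H, ⟨e0⟩⟩ := exists_iso_singleFunctor_obj_of_isGE_of_isLE K 0
    have hI : Injective H := by
      apply injective_of_hom_quotient_vanishing
      intro J f
      have h1 := h J 1 (by simp) (f ≫ e0.inv⟦(1 : ℤ)⟧')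
      have : IsIso (e0.inv⟦(1 : ℤ)⟧') := inferInstance
      exact (cancel_mono (e0.inv⟦(1 : ℤ)⟧')).mp (h1.trans zero_comp.symm)
    have := IA.of_iso e0.symm (IA.single H)
    simpa using this
  | succ n ih =>
    intro K hG hL h
    have : EnoughInjectives (ModuleCat.{u} R) := inferInstance
    let H := (homologyFunctor (ModuleCat.{u} R) 0).obj K
    let I := Injective.under H
    have hI : Injective I := inferInstance
    obtain ⟨jt, hjt⟩ := exists_extend K I (Injective.ι H)
    have hmono : Mono ((homologyFunctor (ModuleCat.{u} R) 0).map jt) := by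
      rw [hjt]
      infer_instance
    obtain ⟨Z, g, δ, hT⟩ := distinguished_cocone_triangle jt
    have hIG : ((DerivedCategory.singleFunctor (ModuleCat.{u} R) 0).obj I).IsGE 0 := inferInstance
    have hIL : ((DerivedCategory.singleFunctor (ModuleCat.{u} R) 0).obj I).IsLE 0 := inferInstance
    have hZG : Z.IsGE 0 := by
      rw [DerivedCategory.isGE_iff]
      intro i hi
      refine isZero_homology_obj₃ _ hT i (i + 1) rfl ?_ ?_
      · exact (isZero_of_isGE ((DerivedCategory.singleFunctor (ModuleCat.{u} R) 0).obj I) 0 i hi).epi _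
      · by_cases hi0 : i + 1 = 0
        · rw [hi0]
          exact hmono
        · exact (isZero_of_isGE K 0 (i + 1) (by omega)).mono _
    have hZL : Z.IsLE (n : ℤ) := by
      rw [DerivedCategory.isLE_iff]
      intro i hi
      refine isZero_homology_obj₃ _ hT i (i + 1) rfl ?_ ?_
      · exact (isZero_of_isLE ((DerivedCategory.singleFunctor (ModuleCat.{u} R) 0).obj I) 0 i
          (by omega)).epi _
      · exact (isZero_of_isLE K ((n + 1 : ℕ) : ℤ) (i + 1) (by push_cast; omega)).mono _
    have hZ : IA 0 (n : ℤ) Z := by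
      refine ih Z hZG hZL (fun J m hm f => ?_)
      refine hom_obj₃_shift_eq_zero _ hT _ m (fun φ => ?_) (fun φ => ?_) f
      · let e : ((singleFunctor (ModuleCat.{u} R) 0).obj I)⟦m⟧ ≅
            (singleFunctor (ModuleCat.{u} R) (-m)).obj I :=
          ((DerivedCategory.singleFunctors (ModuleCat.{u} R)).shiftIso m (-m) 0 (by omega)).app I
        have hX : ((DerivedCategory.singleFunctor (ModuleCat.{u} R) 0).obj
          (ModuleCat.of R (R ⧸ J))).IsGE 0 := inferInstance
        have h2 : φ ≫ e.hom = 0 :=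
          hom_to_single_injective_eq_zero (I := I) _ 0 (-m) (by omega) _
        exact (cancel_mono e.hom).mp (h2.trans zero_comp.symm)
      · let e : K⟦m + 1⟧ ≅ (K⟦m⟧)⟦(1 : ℤ)⟧ :=
          (shiftFunctorAdd' (DerivedCategory (ModuleCat.{u} R)) m 1 (m + 1) rfl).app K
        have h2 : φ ≫ e.inv = 0 := h J (m + 1) (by push_cast; omega) _
        exact (cancel_mono e.inv).mp (h2.trans zero_comp.symm)
    have hT' := inv_rot_of_distTriang _ (inv_rot_of_distTriang _ hT)
    have h1 : IA (0 + 1) (((n + 1 : ℕ) : ℤ) + 1)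
        (((DerivedCategory.singleFunctor (ModuleCat.{u} R) 0).obj I)⟦(-1 : ℤ)⟧) :=
      ((IA.single I).shift (-1)).mono (by omega) (by push_cast; omega)
    have h2 : IA 0 ((n + 1 : ℕ) : ℤ) (Z⟦(-1 : ℤ)⟧) :=
      (hZ.shift (-1)).mono (by omega) (by push_cast; omega)
    exact IA.obj₃ _ hT' h1 h2

/-- General form: an object in degrees `[a, b]` with `Hom((R/J)[0], K[b+1]) = 0` for all ideals
`J` has injective amplitude `[a, b]`. -/
theorem IA_of_hom_vanishing (K : DerivedCategory (ModuleCat.{u} R)) (a b : ℤ) (hG : K.IsGE a)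
    (hL : K.IsLE b)
    (h : ∀ (J : Ideal R)
      (f : (DerivedCategory.singleFunctor (ModuleCat.{u} R) 0).obj (ModuleCat.of R (R ⧸ J)) ⟶
        K⟦b + 1⟧), f = 0) :
    IA a b K := by
  by_cases hab : b < a
  · exact IA.of_isZero (TStructure.t.isZero K b a hab)
  have hG' : TStructure.t.IsGE (K⟦a⟧) 0 := TStructure.t.isGE_shift K a a 0 (by omega)
  have hL' : TStructure.t.IsLE (K⟦a⟧) (((b - a).toNat : ℕ) : ℤ) :=
    TStructure.t.isLE_shift K b a _ (by omega)
  have h1 := IA_norm (b - a).toNat (K⟦a⟧) hG' hL' (fun J m hm f => by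
    let e : K⟦b + 1⟧ ≅ (K⟦a⟧)⟦m⟧ :=
      (shiftFunctorAdd' (DerivedCategory (ModuleCat.{u} R)) a m (b + 1) (by omega)).app K
    have h2 : f ≫ e.inv = 0 := h J _
    exact (cancel_mono e.inv).mp (h2.trans zero_comp.symm))
  exact ((h1.shift (-a)).of_iso (shiftShiftNeg K a)).mono (by omega) (by omega)

theorem eq_zero_of_subsingleton_hom_shift (X K : DerivedCategory (ModuleCat.{u} R)) (i : ℤ)
    (hs : Subsingleton (X ⟶ K⟦i⟧)) (f : X⟦-i⟧ ⟶ K) : f = 0 := by
  have h1 : (shiftNegShift X i).inv ≫ f⟦i⟧' = 0 := hs.elim _ _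
  have h2 : f⟦i⟧' = 0 := (cancel_epi (shiftNegShift X i).inv).mp (h1.trans comp_zero.symm)
  exact (shiftFunctor (DerivedCategory (ModuleCat.{u} R)) i).map_injective
    (by rw [h2, Functor.map_zero])

/-- The three characterizations of injective amplitude. -/
theorem IA_tfae (K : DerivedCategory (ModuleCat.{u} R)) (a b : ℤ) :
    [IA a b K,
      ∀ (N : ModuleCat.{u} R) (i : ℤ), (i < a ∨ b < i) →
        Subsingleton ((singleFunctor (ModuleCat.{u} R) 0).obj N ⟶ K⟦i⟧),
      ∀ (J : Ideal R) (i : ℤ), (i < a ∨ b < i) →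
        Subsingleton ((singleFunctor (ModuleCat.{u} R) 0).obj (ModuleCat.of R (R ⧸ J)) ⟶ K⟦i⟧)].TFAE := by
  tfae_have 1 → 2 := by
    intro hK N i hi
    refine ⟨fun φ ψ => ?_⟩
    have hz : ∀ ξ : (singleFunctor (ModuleCat.{u} R) 0).obj N ⟶ K⟦i⟧, ξ = 0 := by
      intro ξ
      rcases hi with hi | hi
      · have := hK.isGE
        have hG : TStructure.t.IsGE (K⟦i⟧) (a - i) := TStructure.t.isGE_shift K a i (a - i) (by omega)
        have hL : TStructure.t.IsLE ((singleFunctor (ModuleCat.{u} R) 0).obj N) 0 := inferInstance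
        exact TStructure.t.zero ξ 0 (a - i) (by omega)
      · have hG0 : TStructure.t.IsGE ((singleFunctor (ModuleCat.{u} R) 0).obj N) 0 := inferInstance
        have hG : DerivedCategory.IsGE ((singleFunctor (ModuleCat.{u} R) 0).obj N) (b - i + 1) :=
          TStructure.t.isGE_of_ge _ (b - i + 1) 0 (by omega)
        exact hom_eq_zero_of_injAmp (a - i) (b - i) (K⟦i⟧) (hK.shift i) _ ξ
    rw [hz φ, hz ψ]
  tfae_have 2 → 3 := fun h J i hi => h (ModuleCat.of R (R ⧸ J)) i hi
  tfae_have 3 → 1 := by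
    intro h
    have hz : ∀ i : ℤ, (i < a ∨ b < i) → IsZero ((homologyFunctor (ModuleCat.{u} R) i).obj K) := by
      intro i hi
      refine isZero_homology_of_hom_from_projective K i (ModuleCat.of R (R ⧸ (⊥ : Ideal R)))
        isZero_of_hom_quotient_bot (fun f => ?_)
      let e : ((singleFunctor (ModuleCat.{u} R) 0).obj (ModuleCat.of R (R ⧸ (⊥ : Ideal R))))⟦-i⟧ ≅
          (singleFunctor (ModuleCat.{u} R) i).obj (ModuleCat.of R (R ⧸ (⊥ : Ideal R))) :=
        ((DerivedCategory.singleFunctors (ModuleCat.{u} R)).shiftIso (-i) i 0 (by omega)).app _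
      have h1 : e.hom ≫ f = 0 := eq_zero_of_subsingleton_hom_shift _ K i (h ⊥ i hi) _
      exact (cancel_epi e.hom).mp (h1.trans comp_zero.symm)
    have hL : K.IsLE b := by
      rw [DerivedCategory.isLE_iff]
      exact fun i hi => hz i (Or.inr hi)
    have hG : K.IsGE a := by
      rw [DerivedCategory.isGE_iff]
      exact fun i hi => hz i (Or.inl hi)
    exact IA_of_hom_vanishing K a b hG hL (fun J f => (h J (b + 1) (Or.inr (by omega))).elim _ _)
  tfae_finish

end Groth.Agent.Lib.Helper35.KL
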