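import Groth.Prelude.Def_DerSch
import Groth.Prelude.Def_MeroDiv
import Groth.Agent.S6947
import Groth.Agent.Lib.Helper35.FTD

/-!
# Stalkwise tor amplitude relative to a composite (helper35)
-/

set_option autoImplicit false
universe u
open CategoryTheory CategoryTheory.Limits AlgebraicGeometry TopologicalSpace

attribute [local instance] HasDerivedCategory.standard

namespace Groth.Agent.Lib.Helper35.StalkTA

variable {X : Scheme.{u}}

/-! ### the stalk of the module `O_X` (copied from helper45's `RefHullStalk`) -/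
section Unit

/-- A function regarded as a section of the module `O_X`. -/
def toMod {U : X.Opens} (a : Γ(X, U)) : Γ(Coh.structureModule X, U) := a

theorem toMod_smul {U : X.Opens} (a b : Γ(X, U)) :
    a • (toMod b : Γ(Coh.structureModule X, U)) = toMod (a * b) := rfl

theorem map_toMod {U W : X.Opens} (i : W ⟶ U) (a : Γ(X, U)) :
    (Coh.structureModule X).presheaf.map i.op (toMod a) = toMod (X.presheaf.map i.op a) := rfl

theorem toMod_surjective {U : X.Opens} (s : Γ(Coh.structureModule X, U)) :
    ∃ a : Γ(X, U), toMod a = s := ⟨s, rfl⟩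

theorem toMod_eq_zero {U : X.Opens} (a : Γ(X, U))
    (h : (toMod a : Γ(Coh.structureModule X, U)) = 0) : a = 0 := h

/-- The germ of `1` in the stalk of the module `O_X`. -/
noncomputable def oneGerm (x : X) : (Coh.structureModule X).presheaf.stalk x :=
  (Coh.structureModule X).presheaf.germ ⊤ x trivial (toMod 1)

theorem germ_smul_oneGerm {U : X.Opens} (x : X) (hx : x ∈ U) (a : Γ(X, U)) :
    X.presheaf.germ U x hx a • oneGerm x =
      (Coh.structureModule X).presheaf.germ U x hx (toMod a) := by
  have e1 : oneGerm x = (Coh.structureModule X).presheaf.germ U x hx (toMod 1) := by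
    have := TopCat.Presheaf.germ_res_apply (Coh.structureModule X).presheaf
      (homOfLE (le_top : U ≤ ⊤)) x hx (toMod 1)
    rw [map_toMod, map_one] at this
    exact this.symm
  rw [e1, ← Mero.germ_smul, toMod_smul, mul_one]

/-- `a ↦ a • 1`, from the local ring to the stalk of the module `O_X`. -/
noncomputable def unitStalkMap (x : X) :
    X.presheaf.stalk x →ₗ[X.presheaf.stalk x] (Coh.structureModule X).presheaf.stalk x :=
  LinearMap.toSpanSingleton _ _ (oneGerm x)

theorem unitStalkMap_germ {U : X.Opens} (x : X) (hx : x ∈ U) (a : Γ(X, U)) :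
    unitStalkMap x (X.presheaf.germ U x hx a) =
      (Coh.structureModule X).presheaf.germ U x hx (toMod a) := by
  rw [unitStalkMap, LinearMap.toSpanSingleton_apply]
  exact germ_smul_oneGerm x hx a

theorem unitStalkMap_bijective (x : X) : Function.Bijective (unitStalkMap x) := by
  constructor
  · rw [injective_iff_map_eq_zero]
    intro a ha
    obtain ⟨U, hxU, r, rfl⟩ := TopCat.Presheaf.exists_germ_eq X.presheaf a
    rw [unitStalkMap_germ] at ha
    obtain ⟨W, hxW, i, _, e⟩ := TopCat.Presheaf.germ_eq (Coh.structureModule X).presheaf x hxU hxU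
      (toMod r) 0 (by rw [ha, map_zero])
    rw [map_zero, map_toMod] at e
    have e' := toMod_eq_zero _ e
    rw [← TopCat.Presheaf.germ_res_apply X.presheaf i x hxW r, e', map_zero]
  · intro b
    obtain ⟨U, hxU, s, rfl⟩ := TopCat.Presheaf.exists_germ_eq (Coh.structureModule X).presheaf b
    obtain ⟨a, rfl⟩ := toMod_surjective s
    exact ⟨X.presheaf.germ U x hxU a, unitStalkMap_germ x hxU a⟩

/-- The stalk of the module `O_X` at `x` is the local ring `O_{X,x}`. -/
noncomputable def unitStalkEquiv (x : X) :
    (Coh.structureModule X).presheaf.stalk x ≃ₗ[X.presheaf.stalk x] X.presheaf.stalk x :=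
  (LinearEquiv.ofBijective (unitStalkMap x) (unitStalkMap_bijective x)).symm

end Unit

open Groth.Agent.Lib.Helper35.TA

section TorDim

variable {Y Z : Scheme.{u}} (g : Y ⟶ Z) (y : Y)

/-- The complex of stalks of `O_Y[0]` over `O_{Z, g y}` is `O_{Y,y}[0]`. -/
noncomputable def stalkUnitIso :
    letI := (g.stalkMap y).hom.toAlgebra
    DRing.toD ((DerSch.stalkCxOver g y).obj (DerSch.unitCx Y)) ≅
      Dual.inD (Z.presheaf.stalk (g.base y)) (Y.presheaf.stalk y) := by
  letI := (g.stalkMap y).hom.toAlgebra
  have e1 : (DerSch.stalkCxOver g y).obj (DerSch.unitCx Y) ≅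
      (HomologicalComplex.single (ModuleCat.{u} (Z.presheaf.stalk (g.base y)))
        (ComplexShape.up ℤ) 0).obj ((DerSch.stalkOver g y).obj (Coh.structureModule Y)) :=
    (HomologicalComplex.singleMapHomologicalComplex (DerSch.stalkOver g y)
      (ComplexShape.up ℤ) 0).app (Coh.structureModule Y)
  have e2 : (DerSch.stalkOver g y).obj (Coh.structureModule Y) ≅
      ModuleCat.of (Z.presheaf.stalk (g.base y)) (Y.presheaf.stalk y) :=
    (ModuleCat.restrictScalars (g.stalkMap y).hom).mapIso (unitStalkEquiv y).toModuleIso ≪≫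
      Groth.Agent.Lib.Helper35.FTD.restrIso (A := Z.presheaf.stalk (g.base y))
        (B := Y.presheaf.stalk y) (Y.presheaf.stalk y)
  exact DerivedCategory.Q.mapIso e1 ≪≫
    ((DerivedCategory.singleFunctorIsoCompQ (ModuleCat.{u} (Z.presheaf.stalk (g.base y))) 0).app
      _).symm ≪≫
    (DerivedCategory.singleFunctor (ModuleCat.{u} (Z.presheaf.stalk (g.base y))) 0).mapIso e2

end TorDim

section Comp

variable {Y Z : Scheme.{u}} (f : X ⟶ Y) (g : Y ⟶ Z) (x : X)

/-- The complex of stalks over the composite is the restriction of scalars of the complex of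
stalks over `f`. -/
noncomputable def stalkCxOverCompIso (F : CochainComplex X.Modules ℤ) :
    (DerSch.stalkCxOver (f ≫ g) x).obj F ≅
      (DRing.restrictCx (g.stalkMap (f.base x)).hom).obj ((DerSch.stalkCxOver f x).obj F) :=
  HomologicalComplex.Hom.isoOfComponents
    (fun i => ModuleCat.restrictScalarsComp'App (g.stalkMap (f.base x)).hom (f.stalkMap x).hom
      ((f ≫ g).stalkMap x).hom (by rw [Scheme.Hom.stalkMap_comp]; rfl)
      ((DerSch.stalkFunctor X x).obj (F.X i)))
    (by
      intro i j _
      rfl)

/-- S6187. -/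
theorem hasTorAmplitude_comp (n : ℕ) (hg : DerSch.HasTorDimLE g n)
    (F : CochainComplex X.Modules ℤ) (a b : ℤ) (hF : DerSch.HasTorAmplitude f a b F) :
    DerSch.HasTorAmplitude (f ≫ g) (a - n) b F := by
  intro x
  letI := (g.stalkMap (f.base x)).hom.toAlgebra
  have h1 : DRing.HasTorAmplitudeIn (Z.presheaf.stalk (g.base (f.base x))) (-(n : ℤ)) 0
      (Dual.inD (Z.presheaf.stalk (g.base (f.base x))) (Y.presheaf.stalk (f.base x))) :=
    TAmp.of_iso (hg (f.base x)) (stalkUnitIso g (f.base x))
  have h2 := Groth.Agent.S6947.result n h1 (DRing.toD ((DerSch.stalkCxOver f x).obj F)) a b (hF x)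
  have e : (DRing.restrictD (g.stalkMap (f.base x)).hom).obj
      (DRing.toD ((DerSch.stalkCxOver f x).obj F)) ≅
      DRing.toD ((DerSch.stalkCxOver (f ≫ g) x).obj F) :=
    (ModuleCat.restrictScalars (g.stalkMap (f.base x)).hom).mapDerivedCategoryFactors.app _ ≪≫
      DerivedCategory.Q.mapIso (stalkCxOverCompIso f g x F).symm
  exact TAmp.of_iso h2 e

end Comp

end Groth.Agent.Lib.Helper35.StalkTA
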