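import Mathlib.Algebra.Homology.DerivedCategory.KProjective
import Mathlib.Algebra.Homology.DerivedCategory.KInjective
import Mathlib.Algebra.Homology.DerivedCategory.Basic
import Mathlib.Algebra.Category.ModuleCat.Biproducts
import Mathlib.Algebra.Category.ModuleCat.Projective
import Mathlib.Algebra.Module.Projective
import Mathlib.RingTheory.Finiteness.Prod

/-! Cones of morphisms between objects represented by K-projective complexes (helper35). -/

universe w v u

namespace Groth.Agent.Lib.Helper35.KL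

open CategoryTheory Limits CochainComplex DerivedCategory Pretriangulated

section General

variable {C : Type u} [Category.{v} C] [Abelian C] [HasDerivedCategory.{w} C]

/-- Morphisms out of (the image of) a K-projective complex lift to chain maps. -/
theorem exists_Q_map_eq_of_isKProjective (E₁ E₂ : CochainComplex C ℤ) [E₁.IsKProjective]
    (ξ : Q.obj E₁ ⟶ Q.obj E₂) : ∃ f : E₁ ⟶ E₂, Q.map f = ξ := by
  obtain ⟨φ, hφ⟩ := (IsKProjective.Qh_map_bijective E₁
    ((HomotopyCategory.quotient C (ComplexShape.up ℤ)).obj E₂)).2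
    ((quotientCompQhIso C).hom.app E₁ ≫ ξ ≫ (quotientCompQhIso C).inv.app E₂)
  obtain ⟨f, rfl⟩ := (HomotopyCategory.quotient C (ComplexShape.up ℤ)).map_surjective φ
  refine ⟨f, ?_⟩
  have h1 := quotientCompQhIso_hom_naturality f
  rw [hφ, Category.assoc, Category.assoc, Iso.inv_hom_id_app, Category.comp_id] at h1
  exact ((cancel_epi _).mp h1).symm

/-- Morphisms into (the image of) a K-injective complex lift to chain maps. -/
theorem exists_Q_map_eq_of_isKInjective (E₁ E₂ : CochainComplex C ℤ) [E₂.IsKInjective]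
    (ξ : Q.obj E₁ ⟶ Q.obj E₂) : ∃ f : E₁ ⟶ E₂, Q.map f = ξ := by
  obtain ⟨φ, hφ⟩ := (IsKInjective.Qh_map_bijective
    ((HomotopyCategory.quotient C (ComplexShape.up ℤ)).obj E₁) E₂).2
    ((quotientCompQhIso C).hom.app E₁ ≫ ξ ≫ (quotientCompQhIso C).inv.app E₂)
  obtain ⟨f, rfl⟩ := (HomotopyCategory.quotient C (ComplexShape.up ℤ)).map_surjective φ
  refine ⟨f, ?_⟩
  have h1 := quotientCompQhIso_hom_naturality f
  rw [hφ, Category.assoc, Category.assoc, Iso.inv_hom_id_app, Category.comp_id] at h1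
  exact ((cancel_epi _).mp h1).symm

/-- The third vertex of a distinguished triangle whose first map is the image of a chain map `f`
is the mapping cone of `f`. -/
theorem nonempty_iso_mappingCone (T : Triangle (DerivedCategory C)) (hT : T ∈ distTriang _)
    {E₁ E₂ : CochainComplex C ℤ} (e₁ : Q.obj E₁ ≅ T.obj₁) (e₂ : Q.obj E₂ ≅ T.obj₂)
    (f : E₁ ⟶ E₂) (hf : Q.map f = e₁.hom ≫ T.mor₁ ≫ e₂.inv) :
    Nonempty (Q.obj (mappingCone f) ≅ T.obj₃) := by
  have hT' := mappingCone_triangle_distinguished f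
  have comm : (Q.mapTriangle.obj (mappingCone.triangle f)).mor₁ ≫ e₂.hom = e₁.hom ≫ T.mor₁ := by
    change Q.map f ≫ e₂.hom = e₁.hom ≫ T.mor₁
    rw [hf, Category.assoc, Category.assoc, Iso.inv_hom_id, Category.comp_id]
  exact ⟨Triangle.π₃.mapIso (isoTriangleOfIso₁₂ _ T hT' hT e₁ e₂ comm)⟩

theorem nonempty_iso_mappingCone_of_isKProjective (T : Triangle (DerivedCategory C))
    (hT : T ∈ distTriang _) {E₁ E₂ : CochainComplex C ℤ} [E₁.IsKProjective]
    (e₁ : Q.obj E₁ ≅ T.obj₁) (e₂ : Q.obj E₂ ≅ T.obj₂) :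
    ∃ f : E₁ ⟶ E₂, Nonempty (Q.obj (mappingCone f) ≅ T.obj₃) := by
  obtain ⟨f, hf⟩ := exists_Q_map_eq_of_isKProjective E₁ E₂ (e₁.hom ≫ T.mor₁ ≫ e₂.inv)
  exact ⟨f, nonempty_iso_mappingCone T hT e₁ e₂ f hf⟩

theorem nonempty_iso_mappingCone_of_isKInjective (T : Triangle (DerivedCategory C))
    (hT : T ∈ distTriang _) {E₁ E₂ : CochainComplex C ℤ} [E₂.IsKInjective]
    (e₁ : Q.obj E₁ ≅ T.obj₁) (e₂ : Q.obj E₂ ≅ T.obj₂) :
    ∃ f : E₁ ⟶ E₂, Nonempty (Q.obj (mappingCone f) ≅ T.obj₃) := by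
  obtain ⟨f, hf⟩ := exists_Q_map_eq_of_isKInjective E₁ E₂ (e₁.hom ≫ T.mor₁ ≫ e₂.inv)
  exact ⟨f, nonempty_iso_mappingCone T hT e₁ e₂ f hf⟩

end General

section Module

variable {R : Type u} [CommRing R]

/-- The terms of a mapping cone of complexes of modules. -/
noncomputable def mappingConeXLinearEquiv {E₁ E₂ : CochainComplex (ModuleCat.{u} R) ℤ}
    (f : E₁ ⟶ E₂) (i : ℤ) : (mappingCone f).X i ≃ₗ[R] (E₁.X (i + 1) × E₂.X i) :=
  ((HomologicalComplex.homotopyCofiber.XIsoBiprod f i (i + 1) rfl) ≪≫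
    ModuleCat.biprodIsoProd _ _).toLinearEquiv

end Module

end Groth.Agent.Lib.Helper35.KL
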