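import Groth.Agent.Lib.Helper35.NilPC
import Groth.Agent.Lib.Helper35.TorRestr
import Mathlib.RingTheory.IsTensorProduct
import Groth.Prelude.Def_DualSh

/-! Flat base change for relatively perfect complexes (helper35). -/

set_option autoImplicit false
set_option linter.unusedSectionVars false
universe u
open CategoryTheory CategoryTheory.Limits MonoidalCategory DerivedCategory CochainComplex
  TensorProduct
attribute [local instance] HasDerivedCategory.standard

namespace Groth.Agent.Lib.Helper35.TA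

open Groth.Agent.Lib.Helper32.LBC Groth.Agent.Lib.Helper35.FlatBC

section BC

attribute [local instance] Algebra.TensorProduct.rightAlgebra

variable (R A R' : Type u) [CommRing R] [CommRing A] [Algebra R A] [CommRing R'] [Algebra R R']

/-- `X ↦ R' ⊗_R X` on `A`-modules (restricted to `R`). -/
noncomputable abbrev bcR : ModuleCat.{u} A ⥤ ModuleCat.{u} R' :=
  ModuleCat.restrictScalars.{u} (algebraMap R A) ⋙ ModuleCat.extendScalars.{u, u, u} (algebraMap R R')

/-- `X ↦ (R' ⊗_R A) ⊗_A X` on `A`-modules, restricted to `R'`. -/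
noncomputable abbrev bcL : ModuleCat.{u} A ⥤ ModuleCat.{u} R' :=
  ModuleCat.extendScalars.{u, u, u} (algebraMap A (R' ⊗[R] A)) ⋙
    ModuleCat.restrictScalars.{u} (algebraMap R' (R' ⊗[R] A))

variable {A}

set_option backward.isDefEq.respectTransparency false in
/-- the comparison equivalence `R' ⊗_R X ≃ (R' ⊗_R A) ⊗_A X` -/
noncomputable def bcEquiv (X : ModuleCat.{u} A) :
    ((bcR R A R').obj X) ≃ₗ[R'] ((bcL R A R').obj X) := by
  let _ : Module R X := Module.compHom X (algebraMap R A)
  have : IsScalarTower R A X := IsScalarTower.of_algebraMap_smul (fun _ _ => rfl)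
  let e1 : ((bcR R A R').obj X) ≃ₗ[R'] R' ⊗[R] X := extLinearEquiv R' X
  let e2 : (R' ⊗[R] A) ⊗[A] X ≃ₗ[R'] R' ⊗[R] X :=
    Algebra.IsPushout.cancelBaseChange R R' A (R' ⊗[R] A) X
  let e3 : ((ModuleCat.extendScalars.{u, u, u} (algebraMap A (R' ⊗[R] A))).obj X) ≃ₗ[R' ⊗[R] A]
      (R' ⊗[R] A) ⊗[A] X := extLinearEquiv (R' ⊗[R] A) X
  let e3' : ((bcL R A R').obj X) ≃ₗ[R'] (R' ⊗[R] A) ⊗[A] X :=
    { toFun := fun z => e3 z
      invFun := fun z => e3.symm z
      map_add' := fun x y => e3.map_add x y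
      map_smul' := fun r
          (z : (ModuleCat.extendScalars.{u, u, u} (algebraMap A (R' ⊗[R] A))).obj X) => by
        change e3 ((algebraMap R' (R' ⊗[R] A) r) • z) = r • e3 z
        rw [map_smul, algebraMap_smul]
      left_inv := fun z => e3.symm_apply_apply z
      right_inv := fun z => e3.apply_symm_apply z }
  exact e1.trans (e2.symm.trans e3'.symm)

set_option backward.isDefEq.respectTransparency false in
theorem bcEquiv_one_tmul (X : ModuleCat.{u} A) (x : X) :
    bcEquiv R R' X (show (bcR R A R').obj X from ((1 : R') ⊗ₜ[R] x)) =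
      (show (bcL R A R').obj X from ((1 : R' ⊗[R] A) ⊗ₜ[A] x)) := by
  let _ : Module R X := Module.compHom X (algebraMap R A)
  have : IsScalarTower R A X := IsScalarTower.of_algebraMap_smul (fun _ _ => rfl)
  have h2 : (Algebra.IsPushout.cancelBaseChange R R' A (R' ⊗[R] A) X).symm ((1 : R') ⊗ₜ[R] x) =
      (1 : R' ⊗[R] A) ⊗ₜ[A] x := by
    rw [Algebra.IsPushout.cancelBaseChange_symm_tmul, map_one]
  simp only [bcEquiv, LinearEquiv.trans_apply]
  erw [h2]

set_option backward.isDefEq.respectTransparency false in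
/-- base change compatibility as a natural isomorphism -/
noncomputable def bcNatIso : bcR R A R' ≅ bcL R A R' :=
  NatIso.ofComponents (fun X => (bcEquiv R R' X).toModuleIso) (by
    intro X Y f
    apply ModuleCat.ExtendScalars.hom_ext
    intro m
    change bcEquiv R R' Y (show (bcR R A R').obj Y from ((1 : R') ⊗ₜ[R] (f m))) =
      ((bcL R A R').map f).hom (bcEquiv R R' X (show (bcR R A R').obj X from ((1 : R') ⊗ₜ[R] m)))
    rw [bcEquiv_one_tmul, bcEquiv_one_tmul]
    rfl)

variable {R' R}

theorem flat_restrictScalars_of_flat [Module.Flat R A] (N : ModuleCat.{u} A) [Module.Flat A N] :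
    Module.Flat R ((ModuleCat.restrictScalars.{u} (algebraMap R A)).obj N) :=
  (TD_zero_iff_flat _).1 (TD_restrict_of_flat 0 ((TD_zero_iff_flat (ModuleCat.of R A)).2
    inferInstance) N)

variable (R R')

/-- the comparison of complexes -/
noncomputable def bcCxIso (E : DRing.Cx A) :
    ((ModuleCat.extendScalars.{u, u, u} (algebraMap R R')).mapHomologicalComplex
      (ComplexShape.up ℤ)).obj (((ModuleCat.restrictScalars.{u}
        (algebraMap R A)).mapHomologicalComplex (ComplexShape.up ℤ)).obj E) ≅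
    ((ModuleCat.restrictScalars.{u} (algebraMap R' (R' ⊗[R] A))).mapHomologicalComplex
      (ComplexShape.up ℤ)).obj (((ModuleCat.extendScalars.{u, u, u}
        (algebraMap A (R' ⊗[R] A))).mapHomologicalComplex (ComplexShape.up ℤ)).obj E) :=
  HomologicalComplex.Hom.isoOfComponents (fun i => (bcNatIso R R').app (E.X i))
    (fun i j _ => ((bcNatIso R R').hom.naturality (E.d i j)).symm)

theorem nonempty_restrict_LBC_iso [Module.Flat R A] (E : DRing.Cx A) (b' : ℤ)
    (hEb : DRing.VanishesAbove E b') (hE : ∀ i : ℤ, Module.Flat A (E.X i))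
    [DRing.HasLBaseChange (algebraMap A (R' ⊗[R] A))] [DRing.HasLBaseChange (algebraMap R R')] :
    Nonempty ((DRing.restrictD (algebraMap R' (R' ⊗[R] A))).obj
        ((DRing.LBaseChange (algebraMap A (R' ⊗[R] A))).obj (DRing.toD E)) ≅
      (DRing.LBaseChange (algebraMap R R')).obj
        ((DRing.restrictD (algebraMap R A)).obj (DRing.toD E))) := by
  obtain ⟨e1⟩ := nonempty_lbc_iso_of_flat (algebraMap A (R' ⊗[R] A)) E b' hEb hE
  let ER : DRing.Cx R := ((ModuleCat.restrictScalars.{u}
        (algebraMap R A)).mapHomologicalComplex (ComplexShape.up ℤ)).obj E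
  have hER : ∀ i : ℤ, Module.Flat R (ER.X i) := fun i => by
    have := hE i
    exact flat_restrictScalars_of_flat (E.X i)
  have hERb : DRing.VanishesAbove ER b' := fun i hi =>
    CategoryTheory.Functor.map_isZero (ModuleCat.restrictScalars.{u} (algebraMap R A)) (hEb i hi)
  obtain ⟨e2⟩ := nonempty_lbc_iso_of_flat (algebraMap R R') ER b' hERb hER
  have e3 : (DRing.restrictD (algebraMap R A)).obj (DRing.toD E) ≅ DRing.toD ER :=
    (ModuleCat.restrictScalars.{u} (algebraMap R A)).mapDerivedCategoryFactors.app E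
  have e4 := (ModuleCat.restrictScalars.{u} (algebraMap R' (R' ⊗[R] A))).mapDerivedCategoryFactors.app
    (((ModuleCat.extendScalars.{u, u, u}
        (algebraMap A (R' ⊗[R] A))).mapHomologicalComplex (ComplexShape.up ℤ)).obj E)
  exact ⟨(DRing.restrictD (algebraMap R' (R' ⊗[R] A))).mapIso e1 ≪≫ e4 ≪≫
    DerivedCategory.Q.mapIso (bcCxIso R R' E).symm ≪≫ e2.symm ≪≫
    (DRing.LBaseChange (algebraMap R R')).mapIso e3.symm⟩

end BC

section RelPerf

variable (R A R' : Type u) [CommRing R] [CommRing A] [Algebra R A] [CommRing R'] [Algebra R R']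

open Groth.Agent.Lib.Helper6 in
/-- base change preserves pseudo-coherence -/
theorem isPseudoCoherent'_LBaseChange {A B : Type u} [CommRing A] [CommRing B] (φ : A →+* B)
    [DRing.HasLBaseChange φ] (K : Dual.D A) (h : DRing.IsPseudoCoherent' A K) :
    DRing.IsPseudoCoherent' B ((DRing.LBaseChange φ).obj K) := by
  rw [Resol.isPC'_iff] at h ⊢
  exact fun m => LBCPC.isPC_LBaseChange φ K m (h m)

/-- base change preserves tor amplitude -/
theorem TAmp_LBaseChange {A B : Type u} [CommRing A] [CommRing B] (φ : A →+* B)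
    [DRing.HasLBaseChange φ] (K : Dual.D A) (a b : ℤ) (hK : TAmp a b K) :
    TAmp a b ((DRing.LBaseChange φ).obj K) := by
  obtain ⟨E, hv, hfl, ⟨e⟩⟩ := hK
  obtain ⟨e'⟩ := nonempty_lbc_iso_of_flat φ E b (fun i hi => hv i (Or.inr hi)) hfl
  let _ : Algebra A B := φ.toAlgebra
  refine ⟨((ModuleCat.extendScalars.{u, u, u} φ).mapHomologicalComplex
    (ComplexShape.up ℤ)).obj E, ?_, ?_, ⟨e'.symm ≪≫ (DRing.LBaseChange φ).mapIso e⟩⟩
  · intro i hi
    exact CategoryTheory.Functor.map_isZero (ModuleCat.extendScalars.{u, u, u} φ) (hv i hi)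
  · intro i
    have := hfl i
    exact flat_ext_obj B (E.X i)

/-- the flat base change isomorphism for pseudo-coherent objects -/
theorem nonempty_restrict_LBC_iso' [Module.Flat R A]
    [DRing.HasLBaseChange (Algebra.TensorProduct.includeRight.toRingHom : A →+* R' ⊗[R] A)]
    [DRing.HasLBaseChange (algebraMap R R')]
    (K : Dual.D A) (hK : DRing.IsPseudoCoherent' A K) :
    Nonempty ((DRing.restrictD (algebraMap R' (R' ⊗[R] A))).obj
        ((DRing.LBaseChange
          (Algebra.TensorProduct.includeRight.toRingHom : A →+* R' ⊗[R] A)).obj K) ≅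
      (DRing.LBaseChange (algebraMap R R')).obj ((DRing.restrictD (algebraMap R A)).obj K)) := by
  obtain ⟨E, b', hEb, hE, ⟨e⟩⟩ := hK
  obtain ⟨e1⟩ := nonempty_restrict_LBC_iso R R' E b' hEb (fun i => by
    have := (hE i).2
    infer_instance)
  exact ⟨(DRing.restrictD (algebraMap R' (R' ⊗[R] A))).mapIso
      ((DRing.LBaseChange
        (Algebra.TensorProduct.includeRight.toRingHom : A →+* R' ⊗[R] A)).mapIso e.symm) ≪≫
    e1 ≪≫ (DRing.LBaseChange (algebraMap R R')).mapIso
      ((DRing.restrictD (algebraMap R A)).mapIso e)⟩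

theorem isRelPerfect_LBaseChange [Module.Flat R A]
    [DRing.HasLBaseChange (Algebra.TensorProduct.includeRight.toRingHom : A →+* R' ⊗[R] A)]
    (K : Dual.D A) (hK : Dual2.IsRelPerfect R A K) :
    Dual2.IsRelPerfect R' (R' ⊗[R] A)
      ((DRing.LBaseChange
        (Algebra.TensorProduct.includeRight.toRingHom : A →+* R' ⊗[R] A)).obj K) := by
  obtain ⟨hpc, a, b, hab⟩ := hK
  have := hasLBaseChange (algebraMap R R')
  refine ⟨isPseudoCoherent'_LBaseChange _ K hpc, a, b, ?_⟩
  obtain ⟨e1⟩ := nonempty_restrict_LBC_iso' R A R' K hpc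
  exact (TAmp_LBaseChange (algebraMap R R') _ a b hab).of_iso e1.symm

end RelPerf

end Groth.Agent.Lib.Helper35.TA
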