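import Groth.Agent.Lib.Helper35.FlatAcyc
import Groth.Agent.Lib.Helper35.TACore
import Groth.Agent.Lib.Helper32.LBC

/-! `LBaseChange` and `LTensor` computed on bounded above flat complexes (helper35). -/

set_option autoImplicit false
set_option linter.unusedSectionVars false
universe u
open CategoryTheory CategoryTheory.Limits MonoidalCategory DerivedCategory CochainComplex
attribute [local instance] HasDerivedCategory.standard

namespace Groth.Agent.Lib.Helper35.TA

variable {R : Type u} [CommRing R]

theorem isZero_of_forall_isZero_homology (X : Dual.D R)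
    (h : ∀ n : ℤ, IsZero ((homologyFunctor (ModuleCat.{u} R) n).obj X)) : IsZero X := by
  have h0 : IsIso (0 : X ⟶ X) := by
    rw [DerivedCategory.isIso_iff]
    intro n
    exact ⟨0, (h n).eq_of_src _ _, (h n).eq_of_src _ _⟩
  rw [IsZero.iff_id_eq_zero]
  have := IsIso.hom_inv_id (0 : X ⟶ X)
  rw [zero_comp] at this
  exact this.symm

theorem quasiIso_of_exactAt_mappingCone {S : Type u} [CommRing S]
    {T E : CochainComplex (ModuleCat.{u} S) ℤ} (φ : T ⟶ E)
    (h : ∀ n : ℤ, (mappingCone φ).ExactAt n) : QuasiIso φ := by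
  have hT := mappingCone_triangle_distinguished φ
  have hz : IsZero (Q.obj (mappingCone φ)) := by
    apply isZero_of_forall_isZero_homology
    intro n
    have := h n
    rw [HomologicalComplex.exactAt_iff_isZero_homology] at this
    exact this.of_iso
      ((DerivedCategory.homologyFunctorFactors (ModuleCat.{u} S) n).app (mappingCone φ))
  have hiso : IsIso (Q.mapTriangle.obj (mappingCone.triangle φ)).mor₁ :=
    (Pretriangulated.Triangle.isZero₃_iff_isIso₁ _ hT).1 hz
  rw [← isIso_Q_map_iff_quasiIso]
  exact hiso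

/-- An additive functor which preserves acyclicity of bounded above flat complexes preserves
quasi-isomorphisms between bounded above flat complexes. -/
theorem quasiIso_map_of_flat {S : Type u} [CommRing S] (F : ModuleCat.{u} R ⥤ ModuleCat.{u} S)
    [F.Additive]
    (hF : ∀ (C : CochainComplex (ModuleCat.{u} R) ℤ) (b : ℤ), (∀ i : ℤ, b < i → IsZero (C.X i)) →
      (∀ i : ℤ, Module.Flat R (C.X i)) → (∀ i : ℤ, C.ExactAt i) →
      ∀ j : ℤ, ((F.mapHomologicalComplex (ComplexShape.up ℤ)).obj C).ExactAt j)
    {P E : CochainComplex (ModuleCat.{u} R) ℤ} (π : P ⟶ E) [QuasiIso π] (b : ℤ)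
    (hPb : ∀ i : ℤ, b < i → IsZero (P.X i)) (hEb : ∀ i : ℤ, b < i → IsZero (E.X i))
    (hP : ∀ i : ℤ, Module.Flat R (P.X i)) (hE : ∀ i : ℤ, Module.Flat R (E.X i)) :
    QuasiIso ((F.mapHomologicalComplex (ComplexShape.up ℤ)).map π) := by
  let C := mappingCone π
  have hCb : ∀ i : ℤ, b < i → IsZero (C.X i) := by
    intro i hi
    rw [CochainComplex.mappingCone.isZero_X_iff]
    exact ⟨hPb (i + 1) (by omega), hEb i hi⟩
  have hCflat : ∀ i : ℤ, Module.Flat R (C.X i) := by
    intro i
    have := hP (i + 1)
    have := hE i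
    have : Module.Flat R (P.X (i + 1) × E.X i) := flat_prod
    exact Module.Flat.of_linearEquiv
      (Groth.Agent.Lib.Helper35.KL.mappingConeXLinearEquiv π i)
  have hCex : ∀ i : ℤ, C.ExactAt i := fun i => exactAt_mappingCone_of_quasiIso π i
  have h1 := hF C b hCb hCflat hCex
  apply quasiIso_of_exactAt_mappingCone
  intro n
  exact (h1 n).of_iso (CochainComplex.mappingCone.mapHomologicalComplexIso π F)


open Groth.Agent.Lib.Helper32.LBC in
/-- `LBaseChange` on bounded above termwise flat complexes is computed termwise. -/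
theorem nonempty_lbc_iso_of_flat {A B : Type u} [CommRing A] [CommRing B] (φ : A →+* B)
    [DRing.HasLBaseChange φ] (E : DRing.Cx A) (b : ℤ) (hEb : DRing.VanishesAbove E b)
    (hE : ∀ i : ℤ, Module.Flat A (E.X i)) :
    Nonempty ((DRing.LBaseChange φ).obj (DRing.toD E) ≅
      DRing.toD ((((ModuleCat.extendScalars.{u, u, u} φ).mapHomologicalComplex
        (ComplexShape.up ℤ))).obj E)) := by
  have hs : E.IsStrictlyLE b := by
    rw [CochainComplex.isStrictlyLE_iff]
    exact fun i hi => hEb i hi
  have hLE : (Q.obj E).IsLE b := inferInstance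
  obtain ⟨P, π, hPb, hPproj, hπ⟩ := exists_projective_resolution_cx E b
  have hKP : P.IsKProjective := isKProjective_of_vanishesAbove P b hPb hPproj
  have hPflat : ∀ i : ℤ, Module.Flat A (P.X i) := fun i => by
    have := hPproj i
    infer_instance
  have hq : QuasiIso (((ModuleCat.extendScalars.{u, u, u} φ).mapHomologicalComplex
      (ComplexShape.up ℤ)).map π) :=
    quasiIso_map_of_flat (ModuleCat.extendScalars.{u, u, u} φ)
      (fun C b hb hfl hex j => exactAt_extendScalars φ C b hb hfl hex j) π b hPb hEb hPflat hE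
  have hiso : IsIso (Q.map π) := by
    rw [isIso_Q_map_iff_quasiIso]; infer_instance
  have hiso2 : IsIso (Q.map (((ModuleCat.extendScalars.{u, u, u} φ).mapHomologicalComplex
      (ComplexShape.up ℤ)).map π)) := by
    rw [isIso_Q_map_iff_quasiIso]; exact hq
  exact ⟨((DRing.LBaseChange φ).mapIso (asIso (Q.map π))).symm ≪≫ lbcIso φ P ≪≫
    asIso (Q.map (((ModuleCat.extendScalars.{u, u, u} φ).mapHomologicalComplex
      (ComplexShape.up ℤ)).map π))⟩

open Groth.Agent.Lib.Helper32.LBC in
/-- `LTensor` on bounded above termwise flat complexes is computed termwise. -/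
theorem nonempty_lt_iso_of_flat {A : Type u} [CommRing A] (M : ModuleCat.{u} A)
    [DRing.HasLTensor A M] (E : DRing.Cx A) (b : ℤ) (hEb : DRing.VanishesAbove E b)
    (hE : ∀ i : ℤ, Module.Flat A (E.X i)) :
    Nonempty ((DRing.LTensor A M).obj (DRing.toD E) ≅
      DRing.toD (((tensorRight M).mapHomologicalComplex (ComplexShape.up ℤ)).obj E)) := by
  have hs : E.IsStrictlyLE b := by
    rw [CochainComplex.isStrictlyLE_iff]
    exact fun i hi => hEb i hi
  have hLE : (Q.obj E).IsLE b := inferInstance
  obtain ⟨P, π, hPb, hPproj, hπ⟩ := exists_projective_resolution_cx E b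
  have hKP : P.IsKProjective := isKProjective_of_vanishesAbove P b hPb hPproj
  have hPflat : ∀ i : ℤ, Module.Flat A (P.X i) := fun i => by
    have := hPproj i
    infer_instance
  have hq : QuasiIso (((tensorRight M).mapHomologicalComplex (ComplexShape.up ℤ)).map π) :=
    quasiIso_map_of_flat (tensorRight M)
      (fun C b hb hfl hex j => exactAt_tensorRight C b hb hfl hex M j) π b hPb hEb hPflat hE
  have hiso : IsIso (Q.map π) := by
    rw [isIso_Q_map_iff_quasiIso]; infer_instance
  have hiso2 : IsIso (Q.map (((tensorRight M).mapHomologicalComplex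
      (ComplexShape.up ℤ)).map π)) := by
    rw [isIso_Q_map_iff_quasiIso]; exact hq
  exact ⟨((DRing.LTensor A M).mapIso (asIso (Q.map π))).symm ≪≫ ltIso A M P ≪≫
    asIso (Q.map (((tensorRight M).mapHomologicalComplex (ComplexShape.up ℤ)).map π))⟩

end Groth.Agent.Lib.Helper35.TA
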