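import Mathlib.RingTheory.AdicCompletion.Exactness

/-!
# Exactness of adic completion under an Artin–Rees hypothesis (helper35)

Mathlib's proofs of `AdicCompletion.map_injective` and `AdicCompletion.map_exact` only use the
consequence `I ^ (n + k) • ⊤ ⊓ range f ≤ I ^ n • range f` of the Artin–Rees lemma; here they are
restated with this hypothesis instead of finiteness over a Noetherian ring (the proofs are adapted
from `Mathlib.RingTheory.AdicCompletion.Exactness`, by Judith Ludwig and Christian Merten).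
-/

set_option autoImplicit false
universe u

open LinearMap

namespace Groth.Agent.Lib.Helper35.ARExact

open AdicCompletion

variable {R : Type u} [CommRing R] (I : Ideal R)
variable {M : Type u} [AddCommGroup M] [Module R M]
variable {N : Type u} [AddCommGroup N] [Module R N]
variable {P : Type u} [AddCommGroup P] [Module R P]

/-- The Artin–Rees property of a linear map `f : M → N` for the ideal `I`. -/
def AR (f : M →ₗ[R] N) (k : ℕ) : Prop :=
  ∀ n : ℕ, (I ^ (n + k) • ⊤ ⊓ LinearMap.range f : Submodule R N) ≤ I ^ n • LinearMap.range f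

variable {I}

theorem AR.mem {f : M →ₗ[R] N} {k : ℕ} (h : AR I f k) (hf : Function.Injective f) (n : ℕ) (y : M)
    (hy : f y ∈ (I ^ (n + k) • ⊤ : Submodule R N)) : y ∈ (I ^ n • ⊤ : Submodule R M) := by
  rw [← Submodule.comap_map_eq_of_injective hf (I ^ n • ⊤ : Submodule R M),
    Submodule.map_smul'', Submodule.map_top]
  exact h n ⟨hy, ⟨y, rfl⟩⟩

variable (I)

/-- Adic completion preserves injectivity of maps with the Artin–Rees property. -/
theorem map_injective_of_AR {f : M →ₗ[R] N} (hf : Function.Injective f) {k : ℕ}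
    (hk : AR I f k) : Function.Injective (map I f) := by
  rw [← LinearMap.ker_eq_bot, LinearMap.ker_eq_bot']
  intro x
  apply AdicCompletion.induction_on I M x (fun a ↦ ?_)
  intro hx
  refine AdicCompletion.mk_zero_of _ _ _ ⟨42, fun n _ ↦ ⟨n + k, by omega, n, by omega, ?_⟩⟩
  apply hk.mem hf
  simpa using congrArg (fun x ↦ x.val (n + k)) hx

section

variable {f : M →ₗ[R] N} {g : N →ₗ[R] P} (hf : Function.Injective f)
  (hfg : Function.Exact f g) (hg : Function.Surjective g)

section

variable {I}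
variable {k : ℕ} (hkn : AR I f k)
  (x : AdicCauchySequence I N) (hker : ∀ (n : ℕ), g (x n) ∈ (I ^ n • ⊤ : Submodule R P))

include hf hkn in
/-- In each step, a preimage is constructed from the preimage of the previous step by
adding this delta. -/
theorem exists_delta {n : ℕ} {d : N}
    (hdmem : d ∈ (I ^ (k + n + 1) • ⊤ : Submodule R N)) {y yₙ : M}
    (hd : f y = x (k + n + 1) - d) (hyₙ : f yₙ - x (k + n) ∈ (I ^ (k + n) • ⊤ : Submodule R N)) :
    ∃ d : M, d ∈ (I ^ n • ⊤ : Submodule R M) ∧
      f (yₙ + d) - x (k + n + 1) ∈ (I ^ (k + n + 1) • ⊤ : Submodule R N) := by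
  have h : f (y - yₙ) ∈ (I ^ (k + n) • ⊤ : Submodule R N) := by
    simp only [map_sub, hd]
    have heq : x (k + n + 1) - d - f yₙ = x (k + n + 1) - x (k + n) - d - (f yₙ - x (k + n)) := by
      abel
    rw [heq]
    refine Submodule.sub_mem _ (Submodule.sub_mem _ ?_ ?_) hyₙ
    · rw [← Submodule.Quotient.eq]
      exact AdicCauchySequence.mk_eq_mk (by omega) _
    · exact (Submodule.smul_mono_left (Ideal.pow_le_pow_right (by omega))) hdmem
  have hyyₙ : y - yₙ ∈ (I ^ n • ⊤ : Submodule R M) := by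
    apply hkn.mem hf
    rw [add_comm n k]
    exact h
  refine ⟨y - yₙ, hyyₙ, ?_⟩
  have : f (yₙ + (y - yₙ)) - x (k + n + 1) = -d := by
    rw [add_sub_cancel, hd]
    abel
  rw [this]
  exact Submodule.neg_mem _ hdmem

include hfg hg hker in
theorem exists_d_y (n : ℕ) : ∃ (d : N) (y : M),
    d ∈ (I ^ (k + n) • ⊤ : Submodule R N) ∧ f y = x (k + n) - d := by
  have h1 : g (x (k + n)) ∈ Submodule.map g (I ^ (k + n) • ⊤ : Submodule R N) := by
    rw [Submodule.map_smul'', Submodule.map_top, range_eq_top.mpr hg]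
    exact hker (k + n)
  obtain ⟨d, hdmem, hd⟩ := h1
  obtain ⟨y, hdy⟩ := (hfg (x (k + n) - d)).mp (by simp [hd])
  exact ⟨d, y, hdmem, hdy⟩

include hf hfg hg hkn hker in
/-- Inductively construct preimage of Cauchy sequence in kernel of `g.adicCompletion I`. -/
theorem exists_seq : ∃ a : ℕ → M, (∀ n, f (a n) - x (k + n) ∈ (I ^ (k + n) • ⊤ : Submodule R N)) ∧
    ∀ n, a (n + 1) - a n ∈ (I ^ n • ⊤ : Submodule R M) := by
  -- the initial term
  obtain ⟨d₀, y₀, hd₀, hy₀⟩ := exists_d_y hfg hg x hker (k := k) 0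
  have h0 : f y₀ - x (k + 0) ∈ (I ^ (k + 0) • ⊤ : Submodule R N) := by
    rw [hy₀]
    have : x (k + 0) - d₀ - x (k + 0) = -d₀ := by abel
    rw [this]
    exact Submodule.neg_mem _ hd₀
  -- the recursion step
  have step : ∀ (n : ℕ) (yₙ : M), f yₙ - x (k + n) ∈ (I ^ (k + n) • ⊤ : Submodule R N) →
      ∃ y' : M, f y' - x (k + (n + 1)) ∈ (I ^ (k + (n + 1)) • ⊤ : Submodule R N) ∧
        y' - yₙ ∈ (I ^ n • ⊤ : Submodule R M) := by
    intro n yₙ hyₙ
    obtain ⟨d, y, hd, hy⟩ := exists_d_y hfg hg x hker (k := k) (n + 1)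
    obtain ⟨δ, hδ, hδ'⟩ := exists_delta hf hkn x (n := n) hd hy hyₙ
    exact ⟨yₙ + δ, hδ', by rwa [add_sub_cancel_left]⟩
  choose! nxt hnxt hnxt' using step
  let a : ℕ → {p : ℕ × M // f p.2 - x (k + p.1) ∈ (I ^ (k + p.1) • ⊤ : Submodule R N)} :=
    fun n => Nat.rec ⟨(0, y₀), h0⟩ (fun _ p => ⟨(p.1.1 + 1, nxt p.1.1 p.1.2), hnxt p.1.1 p.1.2 p.2⟩) n
  have ha1 : ∀ n, (a n).1.1 = n := by
    intro n
    induction n with
    | zero => rfl
    | succ n ih =>
      change (a n).1.1 + 1 = n + 1
      rw [ih]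
  refine ⟨fun n => (a n).1.2, fun n => ?_, fun n => ?_⟩
  · have := (a n).2
    rwa [ha1 n] at this
  · change nxt (a n).1.1 (a n).1.2 - (a n).1.2 ∈ _
    have := hnxt' (a n).1.1 (a n).1.2 (a n).2
    rw [ha1 n] at this ⊢
    exact this

end

include hf hfg hg in
/-- Adic completion is exact on short exact sequences whose first map has the Artin–Rees
property. -/
theorem map_exact_of_AR {k : ℕ} (hk : AR I f k) : Function.Exact (map I f) (map I g) := by
  refine LinearMap.exact_of_comp_eq_zero_of_ker_le_range ?_ (fun y ↦ ?_)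
  · rw [map_comp, hfg.linearMap_comp_eq_zero, AdicCompletion.map_zero]
  · apply AdicCompletion.induction_on I N y (fun b ↦ ?_)
    intro hz
    have hb (n : ℕ) : g (b n) ∈ (I ^ n • ⊤ : Submodule R P) := by
      simpa using congrArg (fun x ↦ x.val n) hz
    obtain ⟨a, ha, ha'⟩ := exists_seq hf hfg hg hk b hb
    refine ⟨AdicCompletion.mk I M (AdicCauchySequence.mk I M (fun n ↦ a n) ?_), ?_⟩
    · intro n
      refine SModEq.symm ?_
      rw [SModEq.sub_mem]
      exact ha' n
    · ext n
      suffices h : Submodule.Quotient.mk (p := (I ^ n • ⊤ : Submodule R N)) (f (a n)) =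
            Submodule.Quotient.mk (p := (I ^ n • ⊤ : Submodule R N)) (b (k + n)) by
        simp [h, AdicCauchySequence.mk_eq_mk (show n ≤ k + n by omega)]
      rw [Submodule.Quotient.eq]
      have hle : (I ^ (k + n) • ⊤ : Submodule R N) ≤ (I ^ n • ⊤ : Submodule R N) :=
        Submodule.smul_mono_left (Ideal.pow_le_pow_right (by omega))
      exact hle (ha n)

end

end Groth.Agent.Lib.Helper35.ARExact
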