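import Groth.Agent.Lib.Helper35.ARExact
import Mathlib.RingTheory.Flat.Basic
import Mathlib.RingTheory.Flat.Stability
import Mathlib.LinearAlgebra.TensorProduct.RightExactness

/-! The Artin–Rees property is preserved by tensoring with a flat module (helper35). -/

set_option autoImplicit false
universe u

open TensorProduct

namespace Groth.Agent.Lib.Helper35.ARFlat

open Groth.Agent.Lib.Helper35.ARExact

variable {A : Type u} [CommRing A] (N : Type u) [AddCommGroup N] [Module A N]
variable {M₁ M₂ : Type u} [AddCommGroup M₁] [Module A M₁] [AddCommGroup M₂] [Module A M₂]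

/-- the image of `U ⊗ N` in `M₂ ⊗ N`. -/
def tn (U : Submodule A M₂) : Submodule A (M₂ ⊗[A] N) :=
  LinearMap.range (U.subtype.rTensor N)

variable {N}

lemma tmul_mem_tn {U : Submodule A M₂} {u : M₂} (hu : u ∈ U) (x : N) : u ⊗ₜ[A] x ∈ tn N U :=
  ⟨(⟨u, hu⟩ : U) ⊗ₜ[A] x, rfl⟩

lemma tn_le_iff {U : Submodule A M₂} {W : Submodule A (M₂ ⊗[A] N)} :
    tn N U ≤ W ↔ ∀ u ∈ U, ∀ x : N, u ⊗ₜ[A] x ∈ W := by
  constructor
  · intro h u hu x
    exact h (tmul_mem_tn hu x)
  · rintro h _ ⟨z, rfl⟩
    induction z using TensorProduct.induction_on with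
    | zero => simp
    | tmul u x => exact h u u.2 x
    | add y z hy hz =>
      rw [map_add]
      exact W.add_mem hy hz

variable (N)

lemma tn_mono {U V : Submodule A M₂} (h : U ≤ V) : tn N U ≤ tn N V :=
  tn_le_iff.2 (fun _ hu x => tmul_mem_tn (h hu) x)

lemma tn_top : tn N (⊤ : Submodule A M₂) = ⊤ := by
  rw [eq_top_iff]
  intro z _
  induction z using TensorProduct.induction_on with
  | zero => exact Submodule.zero_mem _
  | tmul u x => exact tmul_mem_tn Submodule.mem_top x
  | add y z hy hz => exact Submodule.add_mem _ (hy trivial) (hz trivial)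

lemma tn_range (f : M₁ →ₗ[A] M₂) : tn N (LinearMap.range f) = LinearMap.range (f.rTensor N) := by
  apply le_antisymm
  · rw [tn_le_iff]
    intro u hu x
    obtain ⟨m, rfl⟩ := LinearMap.mem_range.1 hu
    exact LinearMap.mem_range.2 ⟨m ⊗ₜ[A] x, rfl⟩
  · rintro _ ⟨z, rfl⟩
    induction z using TensorProduct.induction_on with
    | zero => simp
    | tmul m x => exact tmul_mem_tn (LinearMap.mem_range_self f m) x
    | add y z hy hz =>
      rw [map_add]
      exact Submodule.add_mem _ hy hz

lemma tn_smul (J : Ideal A) (U : Submodule A M₂) : tn N (J • U) = J • tn N U := by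
  apply le_antisymm
  · rw [tn_le_iff]
    intro w hw x
    refine Submodule.smul_induction_on hw ?_ ?_
    · intro j hj u hu
      rw [← TensorProduct.smul_tmul']
      exact Submodule.smul_mem_smul hj (tmul_mem_tn hu x)
    · intro w₁ w₂ h₁ h₂
      rw [TensorProduct.add_tmul]
      exact Submodule.add_mem _ h₁ h₂
  · rw [Submodule.smul_le]
    intro j hj t ht
    obtain ⟨z, rfl⟩ := ht
    induction z using TensorProduct.induction_on with
    | zero => simp
    | tmul u x =>
      change j • ((u : M₂) ⊗ₜ[A] x) ∈ _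
      rw [TensorProduct.smul_tmul']
      exact tmul_mem_tn (Submodule.smul_mem_smul hj u.2) x
    | add y z hy hz =>
      rw [map_add, smul_add]
      exact Submodule.add_mem _ hy hz

variable [Module.Flat A N]

lemma tn_inf_le (U V : Submodule A M₂) : tn N U ⊓ tn N V ≤ tn N (U ⊓ V) := by
  rintro t ⟨htU, ⟨y, rfl⟩⟩
  -- the exact sequence `U ⊓ V → V → M₂ / U`
  let i : (U ⊓ V : Submodule A M₂) →ₗ[A] V := Submodule.inclusion inf_le_right
  let p : V →ₗ[A] M₂ ⧸ U := U.mkQ ∘ₗ V.subtype
  have hex : Function.Exact i p := by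
    intro v
    constructor
    · intro hv
      have hvU : (v : M₂) ∈ U := (Submodule.Quotient.mk_eq_zero U).1 hv
      exact ⟨⟨v, ⟨hvU, v.2⟩⟩, rfl⟩
    · rintro ⟨w, rfl⟩
      exact (Submodule.Quotient.mk_eq_zero U).2 w.2.1
  have hexN : Function.Exact (i.rTensor N) (p.rTensor N) := Module.Flat.rTensor_exact N hex
  -- `U ⊗ N → M₂ ⊗ N → (M₂ / U) ⊗ N` is exact
  have hexU : Function.Exact (U.subtype.rTensor N) (U.mkQ.rTensor N) :=
    rTensor_exact N (LinearMap.exact_subtype_mkQ U) (Submodule.mkQ_surjective U)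
  have hy : p.rTensor N y = 0 := by
    have h1 : U.mkQ.rTensor N (V.subtype.rTensor N y) = 0 := (hexU _).2 htU
    rw [← LinearMap.comp_apply, ← LinearMap.rTensor_comp] at h1
    exact h1
  obtain ⟨z, rfl⟩ := (hexN y).1 hy
  refine ⟨z, ?_⟩
  rw [← LinearMap.comp_apply, ← LinearMap.rTensor_comp]
  rfl

/-- **The Artin–Rees property is stable under tensoring with a flat module.** -/
theorem AR.rTensor (I : Ideal A) {f : M₁ →ₗ[A] M₂} {k : ℕ} (h : AR I f k) :
    AR I (f.rTensor N) k := by
  intro n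
  calc (I ^ (n + k) • ⊤ ⊓ LinearMap.range (f.rTensor N) : Submodule A (M₂ ⊗[A] N))
      = tn N (I ^ (n + k) • ⊤) ⊓ tn N (LinearMap.range f) := by
        rw [tn_smul, tn_top, tn_range]
    _ ≤ tn N (I ^ (n + k) • ⊤ ⊓ LinearMap.range f) := tn_inf_le N _ _
    _ ≤ tn N (I ^ n • LinearMap.range f) := tn_mono N (h n)
    _ = I ^ n • LinearMap.range (f.rTensor N) := by rw [tn_smul, tn_range]

/-- The Artin–Rees lemma as the property `AR`. -/
theorem AR.of_noetherian [IsNoetherianRing A] [Module.Finite A M₂] (I : Ideal A)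
    (f : M₁ →ₗ[A] M₂) : ∃ k : ℕ, AR I f k := by
  obtain ⟨k, hk⟩ := Ideal.exists_pow_inf_eq_pow_smul I (LinearMap.range f)
  refine ⟨k, fun n => ?_⟩
  rw [hk (n + k) (by omega), Nat.add_sub_cancel]
  exact smul_mono_right _ inf_le_right

end Groth.Agent.Lib.Helper35.ARFlat
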