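import Groth.Agent.Lib.Helper35.BCIso

/-! Relative perfectness and nilpotent thickenings (helper35). -/

set_option autoImplicit false
set_option linter.unusedSectionVars false
universe u
open CategoryTheory CategoryTheory.Limits MonoidalCategory DerivedCategory CochainComplex
  TensorProduct
attribute [local instance] HasDerivedCategory.standard

namespace Groth.Agent.Lib.Helper35.TA

section Nil

variable (R' A' R : Type u) [CommRing R'] [CommRing A'] [Algebra R' A'] [CommRing R] [Algebra R' R]

variable {R' R}

/-- `R' ⧸ ker ≃ R` as `R'`-modules -/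
noncomputable def quotKerLinearEquiv' (hs : Function.Surjective (algebraMap R' R)) :
    (R' ⧸ RingHom.ker (algebraMap R' R)) ≃ₗ[R'] R where
  toFun := fun q => RingHom.quotientKerEquivOfSurjective hs q
  invFun := fun b => (RingHom.quotientKerEquivOfSurjective hs).symm b
  map_add' := fun x y => map_add (RingHom.quotientKerEquivOfSurjective hs) x y
  map_smul' := fun a q => by
    change RingHom.quotientKerEquivOfSurjective hs (a • q) =
      a • RingHom.quotientKerEquivOfSurjective hs q
    rw [Algebra.smul_def, Algebra.smul_def, map_mul]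
    congr 1
  left_inv := fun q => (RingHom.quotientKerEquivOfSurjective hs).symm_apply_apply q
  right_inv := fun b => (RingHom.quotientKerEquivOfSurjective hs).apply_symm_apply _

theorem includeRight_surjective (hs : Function.Surjective (algebraMap R' R)) :
    Function.Surjective (Algebra.TensorProduct.includeRight.toRingHom : A' →+* R ⊗[R'] A') := by
  intro z
  induction z using TensorProduct.induction_on with
  | zero => exact ⟨0, map_zero _⟩
  | tmul r a =>
    obtain ⟨r', rfl⟩ := hs r
    refine ⟨r' • a, ?_⟩
    change (1 : R) ⊗ₜ[R'] (r' • a) = (algebraMap R' R r') ⊗ₜ[R'] a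
    rw [← TensorProduct.smul_tmul, Algebra.smul_def, mul_one]
  | add x y hx hy =>
    obtain ⟨x', rfl⟩ := hx
    obtain ⟨y', rfl⟩ := hy
    exact ⟨x' + y', map_add _ _ _⟩

theorem ker_includeRight_le (hs : Function.Surjective (algebraMap R' R)) :
    RingHom.ker (Algebra.TensorProduct.includeRight.toRingHom : A' →+* R ⊗[R'] A') ≤
      Ideal.map (algebraMap R' A') (RingHom.ker (algebraMap R' R)) := by
  intro x hx
  have h0 : (1 : R) ⊗ₜ[R'] x = 0 := hx
  have h1 : TensorProduct.mk R' (R' ⧸ RingHom.ker (algebraMap R' R)) A' 1 x = 0 := by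
    have := congrArg (TensorProduct.congr (quotKerLinearEquiv' hs).symm (LinearEquiv.refl R' A')) h0
    rw [map_zero, TensorProduct.congr_tmul] at this
    have h2 : (quotKerLinearEquiv' hs).symm (1 : R) = 1 := by
      change (RingHom.quotientKerEquivOfSurjective hs).symm 1 = 1
      exact map_one _
    rw [h2] at this
    exact this
  have h3 : x ∈ (RingHom.ker (algebraMap R' R)) • (⊤ : Submodule R' A') := by
    rw [← LinearMap.ker_tensorProductMk]
    exact h1
  refine Submodule.smul_induction_on h3 ?_ ?_
  · intro r hr a _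
    rw [Algebra.smul_def]
    exact Ideal.mul_mem_right _ _ (Ideal.mem_map_of_mem _ hr)
  · intro x y hx hy
    exact Ideal.add_mem _ hx hy

theorem isNilpotent_ker_includeRight (hs : Function.Surjective (algebraMap R' R))
    (hn : IsNilpotent (RingHom.ker (algebraMap R' R))) :
    IsNilpotent (RingHom.ker
      (Algebra.TensorProduct.includeRight.toRingHom : A' →+* R ⊗[R'] A')) := by
  obtain ⟨n, hn⟩ := hn
  refine ⟨n, ?_⟩
  have h1 := Ideal.pow_right_mono (ker_includeRight_le (A' := A') hs) n
  rw [← Ideal.map_pow, hn, Ideal.zero_eq_bot, Ideal.map_bot] at h1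
  exact le_bot_iff.1 h1

variable (R' R)

theorem isRelPerfect_of_LBaseChange_nilpotent [Module.Flat R' A']
    (hs : Function.Surjective (algebraMap R' R)) (hn : IsNilpotent (RingHom.ker (algebraMap R' R)))
    [DRing.HasLBaseChange (Algebra.TensorProduct.includeRight.toRingHom : A' →+* R ⊗[R'] A')]
    (K' : Dual.D A')
    (hK : Dual2.IsRelPerfect R (R ⊗[R'] A')
      ((DRing.LBaseChange
        (Algebra.TensorProduct.includeRight.toRingHom : A' →+* R ⊗[R'] A')).obj K')) :
    Dual2.IsRelPerfect R' A' K' := by
  obtain ⟨hpc, a, b, hab⟩ := hK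
  have := hasLBaseChange (algebraMap R' R)
  have hpc' : DRing.IsPseudoCoherent' A' K' :=
    (isPseudoCoherent'_LBaseChange_iff_of_nilpotent _ (includeRight_surjective A' hs)
      (isNilpotent_ker_includeRight A' hs hn) K').1 hpc
  refine ⟨hpc', a, b, ?_⟩
  obtain ⟨e1⟩ := nonempty_restrict_LBC_iso' R' A' R K' hpc'
  exact TAmp_of_LBaseChange_nilpotent (algebraMap R' R) hs hn _ a b (TAmp.of_iso hab e1)

end Nil

end Groth.Agent.Lib.Helper35.TA
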