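import Mathlib.RingTheory.Bezout
import Mathlib.LinearAlgebra.FreeModule.Basic
import Mathlib.RingTheory.Finiteness.Defs
import Mathlib.RingTheory.Finiteness.Basic
import Mathlib.RingTheory.Finiteness.Prod
import Mathlib.Algebra.Exact.Basic
import Mathlib.Algebra.Module.Projective
import Mathlib.LinearAlgebra.FreeModule.Finite.Basic
import Mathlib.LinearAlgebra.Basis.Prod

/-! Finitely generated submodules of free modules over Bézout domains are free (helper35). -/

universe u
namespace Groth.Agent.Lib.Helper35

variable {R : Type*} [CommRing R] [IsDomain R] [IsBezout R]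

/-- A finitely generated ideal of a Bézout domain is a free module. -/
theorem free_of_fg_ideal (I : Ideal R) (hI : I.FG) : Module.Free R I := by
  obtain ⟨a, ha⟩ := (IsBezout.isPrincipal_of_FG I hI).principal
  by_cases h0 : a = 0
  · have : I = ⊥ := by rw [ha, h0]; simp
    subst this
    exact Module.Free.of_subsingleton R _
  · have e : R ≃ₗ[R] I := (LinearEquiv.toSpanNonzeroSingleton R R a h0).trans
      (LinearEquiv.ofEq _ _ ha.symm)
    exact Module.Free.of_equiv e

/-- A finitely generated submodule of `Fin n → R` over a Bézout domain is free. -/
theorem free_of_fg_submodule_pi (n : ℕ) :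
    ∀ N : Submodule R (Fin n → R), N.FG → Module.Free R N := by
  induction n with
  | zero =>
    intro N _
    have : Subsingleton N := inferInstance
    exact Module.Free.of_subsingleton R N
  | succ n ih =>
    intro N hN
    have : Module.Finite R N := Module.Finite.iff_fg.mpr hN
    -- projection to the zeroth coordinate
    let g : N →ₗ[R] R := (LinearMap.proj (R := R) (φ := fun _ : Fin (n + 1) => R) 0) ∘ₗ N.subtype
    let I : Ideal R := LinearMap.range g
    have hIfg : I.FG := by
      have : I = Submodule.map g ⊤ := (Submodule.map_top g).symm
      rw [this]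
      exact Submodule.FG.map g Module.Finite.fg_top
    have : Module.Free R I := free_of_fg_ideal I hIfg
    let g' : N →ₗ[R] I := g.rangeRestrict
    have hg' : Function.Surjective g' := LinearMap.surjective_rangeRestrict g
    obtain ⟨s, hs⟩ := Module.projective_lifting_property g' LinearMap.id hg'
    have e := (Function.Exact.splitSurjectiveEquiv
      (LinearMap.exact_subtype_ker_map g') (Submodule.injective_subtype _) ⟨s, hs⟩).1
    -- the kernel embeds in `Fin n → R`
    let tl : (Fin (n + 1) → R) →ₗ[R] (Fin n → R) := LinearMap.funLeft R R Fin.succ
    let j : LinearMap.ker g' →ₗ[R] (Fin n → R) := tl ∘ₗ N.subtype ∘ₗ (LinearMap.ker g').subtype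
    have hj : Function.Injective j := by
      have key := (injective_iff_map_eq_zero j)
      apply key.mpr
      rintro ⟨⟨v, hvN⟩, hv⟩ hjv
      have h0 : v 0 = 0 := by
        have := LinearMap.mem_ker.mp hv
        have h2 := congrArg Subtype.val this
        simpa [g', g] using h2
      have h1 : ∀ i : Fin n, v i.succ = 0 := by
        intro i
        have := congrFun hjv i
        simpa [j, tl, LinearMap.funLeft_apply] using this
      have : v = 0 := by
        funext i
        refine Fin.cases h0 h1 i
      subst this
      rfl
    have : Module.Finite R (LinearMap.ker g') :=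
      Module.Finite.of_surjective ((LinearMap.fst R (LinearMap.ker g') I) ∘ₗ e.toLinearMap)
        ((LinearMap.fst_surjective (R := R) (M := LinearMap.ker g') (M₂ := I)).comp e.surjective)
    have hKfg : (LinearMap.range j).FG := by
      rw [← Submodule.map_top]
      exact Submodule.FG.map j Module.Finite.fg_top
    have : Module.Free R (LinearMap.range j) := ih _ hKfg
    have : Module.Free R (LinearMap.ker g') :=
      Module.Free.of_equiv (LinearEquiv.ofInjective j hj).symm
    exact Module.Free.of_equiv e.symm

/-- Over a Bézout domain, a finitely generated submodule of a free module is free. -/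
theorem free_of_fg_submodule_of_free (F : Type*) [AddCommGroup F] [Module R F] [Module.Free R F]
    (N : Submodule R F) (hN : N.FG) : Module.Free R N := by
  classical
  let b := Module.Free.chooseBasis R F
  obtain ⟨S, hS⟩ := hN
  let t : Finset (Module.Free.ChooseBasisIndex R F) := S.biUnion fun v => (b.repr v).support
  have hsupp : ∀ v ∈ N, (b.repr v) ∈ Finsupp.supported R R (t : Set _) := by
    have h1 : N ≤ (Finsupp.supported R R (t : Set _)).comap b.repr.toLinearMap := by
      rw [← hS, Submodule.span_le]
      intro m hm
      simp only [Submodule.comap_coe, Set.mem_preimage, SetLike.mem_coe, Finsupp.mem_supported,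
        LinearEquiv.coe_coe]
      intro x hx
      simp only [t, Finset.coe_biUnion, Set.mem_iUnion]
      exact ⟨m, hm, hx⟩
    intro v hv
    exact h1 hv
  let enum : Fin t.card ≃ t := t.equivFin.symm
  let ρ : F →ₗ[R] (Fin t.card → R) :=
    LinearMap.pi fun k => (Finsupp.lapply (enum k : Module.Free.ChooseBasisIndex R F)) ∘ₗ
      b.repr.toLinearMap
  let j : N →ₗ[R] (Fin t.card → R) := ρ ∘ₗ N.subtype
  have hj : Function.Injective j := by
    have key := (injective_iff_map_eq_zero j)
    apply key.mpr
    rintro ⟨v, hvN⟩ hjv
    have h0 : b.repr v = 0 := by
      ext i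
      by_cases hi : i ∈ t
      · have := congrFun hjv (enum.symm ⟨i, hi⟩)
        simpa [j, ρ] using this
      · have := hsupp v hvN
        rw [Finsupp.mem_supported] at this
        have hi' : i ∉ (b.repr v).support := fun h => hi (by exact_mod_cast this h)
        simpa using hi'
    have : v = 0 := by simpa using h0
    subst this
    rfl
  have hfg : (LinearMap.range j).FG := by
    rw [← Submodule.map_top]
    have : Module.Finite R N := Module.Finite.iff_fg.mpr ⟨S, hS⟩
    exact Submodule.FG.map j Module.Finite.fg_top
  have : Module.Free R (LinearMap.range j) := free_of_fg_submodule_pi _ _ hfg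
  exact Module.Free.of_equiv (LinearEquiv.ofInjective j hj).symm

end Groth.Agent.Lib.Helper35
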