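import Groth.Agent.Lib.Helper35.TriYoga
import Mathlib.CategoryTheory.Triangulated.Triangulated
import Mathlib.CategoryTheory.Adjunction.Comma
import Mathlib.CategoryTheory.ObjectProperty.FullSubcategory

/-! Bousfield-type localization triangles in a triangulated category (helper35). -/

set_option autoImplicit false
set_option linter.unusedSectionVars false

namespace Groth.Agent.Lib.Helper35.Bousfield

open CategoryTheory Limits Pretriangulated ZeroObject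

variable {D : Type*} [Category D] [Preadditive D] [HasZeroObject D] [HasShift D ℤ]
  [∀ n : ℤ, (shiftFunctor D n).Additive] [Pretriangulated D]

/-- `Z` is left orthogonal to all shifts of objects satisfying `P`. -/
def LOrth (P : ObjectProperty D) (Z : D) : Prop :=
  ∀ L, P L → ∀ n : ℤ, Subsingleton (Z ⟶ L⟦n⟧)

/-- `K` admits a localization triangle `K ⟶ C ⟶ Z ⟶ K⟦1⟧` with `C` in `P` and `Z` left orthogonal
to `P`. -/
def HasLoc (P : ObjectProperty D) (K : D) : Prop :=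
  ∃ (C Z : D) (η : K ⟶ C) (p : C ⟶ Z) (δ : Z ⟶ K⟦(1 : ℤ)⟧),
    Triangle.mk η p δ ∈ distTriang D ∧ P C ∧ LOrth P Z

theorem LOrth.of_isZero (P : ObjectProperty D) {Z : D} (hZ : IsZero Z) : LOrth P Z :=
  fun _ _ _ => ⟨fun u v => hZ.eq_of_src u v⟩

theorem LOrth.of_iso {P : ObjectProperty D} {Z Z' : D} (e : Z ≅ Z') (h : LOrth P Z) :
    LOrth P Z' := fun L hL n =>
  ⟨fun u v => (cancel_epi e.hom).1 ((h L hL n).elim (e.hom ≫ u) (e.hom ≫ v))⟩

theorem LOrth.obj₂ {P : ObjectProperty D} (T : Triangle D) (hT : T ∈ distTriang D)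
    (h₁ : LOrth P T.obj₁) (h₃ : LOrth P T.obj₃) : LOrth P T.obj₂ := by
  intro L hL n
  refine ⟨fun u v => ?_⟩
  suffices hz : ∀ φ : T.obj₂ ⟶ L⟦n⟧, φ = 0 by rw [hz u, hz v]
  intro φ
  have h0 : T.mor₁ ≫ φ = 0 := (h₁ L hL n).elim _ _
  obtain ⟨ψ, hψ⟩ := Triangle.yoneda_exact₂ T hT φ h0
  rw [hψ, (h₃ L hL n).elim ψ 0, comp_zero]

theorem LOrth.mono {P P' : ObjectProperty D} (hP : ∀ L, P' L → P L) {Z : D} (h : LOrth P Z) :
    LOrth P' Z := fun L hL n => h L (hP L hL) n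

/-- Composition of localization triangles. -/
theorem HasLoc.comp [IsTriangulated D] (P₁ P₂ P : ObjectProperty D)
    (hP₁ : ∀ L, P L → P₁ L) (hP₂ : ∀ L, P L → P₂ L) (hP : ∀ L, P₁ L → P₂ L → P L) (K : D)
    (h₁ : HasLoc P₁ K)
    (h₂ : ∀ C₁ : D, P₁ C₁ → ∃ (C Z : D) (η : C₁ ⟶ C) (p : C ⟶ Z) (δ : Z ⟶ C₁⟦(1 : ℤ)⟧),
      Triangle.mk η p δ ∈ distTriang D ∧ P₁ C ∧ P₂ C ∧ LOrth P₂ Z) :
    HasLoc P K := by
  obtain ⟨C₁, Z₁, η₁, p₁, δ₁, hT₁, hC₁, hZ₁⟩ := h₁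
  obtain ⟨C₂, Z₂, η₂, p₂, δ₂, hT₂, hC₂, hC₂', hZ₂⟩ := h₂ C₁ hC₁
  obtain ⟨Z, p, δ, hT⟩ := distinguished_cocone_triangle (η₁ ≫ η₂)
  have o := Triangulated.someOctahedron rfl hT₁ hT₂ hT
  refine ⟨C₂, Z, η₁ ≫ η₂, p, δ, hT, hP _ hC₂ hC₂', ?_⟩
  exact LOrth.obj₂ _ o.mem (hZ₁.mono hP₁) (hZ₂.mono hP₂)

theorem HasLoc.id (P : ObjectProperty D) (K : D) (hK : P K) : HasLoc P K :=
  ⟨K, 0, 𝟙 K, 0, 0, contractible_distinguished K, hK, LOrth.of_isZero P (isZero_zero D)⟩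

/-- The universal property of a localization triangle. -/
theorem bijective_precomp {P : ObjectProperty D} {K C Z : D} (η : K ⟶ C) (p : C ⟶ Z)
    (δ : Z ⟶ K⟦(1 : ℤ)⟧) (hT : Triangle.mk η p δ ∈ distTriang D) (hZ : LOrth P Z)
    (L : D) (hL : P L) : Function.Bijective (fun φ : C ⟶ L => η ≫ φ) := by
  have hZL : Subsingleton (Z ⟶ L) := by
    let e := (shiftFunctorZero D ℤ).app L
    refine ⟨fun u v => ?_⟩
    have := (hZ L hL 0).elim (u ≫ e.inv) (v ≫ e.inv)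
    exact (cancel_mono e.inv).1 this
  constructor
  · intro φ ψ hφψ
    have h0 : (Triangle.mk η p δ).mor₁ ≫ (φ - ψ) = 0 := by
      change η ≫ (φ - ψ) = 0
      rw [Preadditive.comp_sub]
      exact sub_eq_zero.mpr hφψ
    obtain ⟨χ, hχ⟩ := Triangle.yoneda_exact₂ _ hT (φ - ψ) h0
    rw [hZL.elim χ 0] at hχ
    exact sub_eq_zero.mp (hχ.trans comp_zero)
  · intro ψ
    have h1 : (Triangle.mk η p δ).mor₃ ≫ ψ⟦(1 : ℤ)⟧' = 0 := (hZ L hL 1).elim _ _
    obtain ⟨φ, hφ⟩ := KL.exists_of_mor₃_comp_shift_eq_zero _ hT ψ h1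
    exact ⟨φ, hφ.symm⟩

/-- If every object has a localization triangle, the inclusion of `P` has a left adjoint. -/
theorem isRightAdjoint_of_hasLoc (P : ObjectProperty D) (h : ∀ K : D, HasLoc P K) :
    P.ι.IsRightAdjoint := by
  have : ∀ K : D, HasInitial (StructuredArrow K P.ι) := by
    intro K
    obtain ⟨C, Z, η, p, δ, hT, hC, hZ⟩ := h K
    let C' : P.FullSubcategory := ⟨C, hC⟩
    let η' : K ⟶ P.ι.obj C' := η
    let X : StructuredArrow K P.ι := StructuredArrow.mk (Y := C') η'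
    have hbij := fun (L : P.FullSubcategory) => bijective_precomp η p δ hT hZ L.obj L.property
    refine (IsInitial.ofUniqueHom (X := X)
      (fun Y => StructuredArrow.homMk
        (ObjectProperty.homMk ((hbij Y.right).2 Y.hom).choose : C' ⟶ Y.right)
        (by exact ((hbij Y.right).2 Y.hom).choose_spec)) ?_).hasInitial
    intro Y m
    apply StructuredArrow.hom_ext
    apply ObjectProperty.hom_ext
    apply (hbij Y.right).1
    have h1 := StructuredArrow.w m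
    exact h1.trans ((hbij Y.right).2 Y.hom).choose_spec.symm
  exact isRightAdjointOfStructuredArrowInitials _

/-- `K` is right orthogonal to the class `S`. -/
def ROrth (S : ObjectProperty D) (K : D) : Prop := ∀ X, S X → Subsingleton (X ⟶ K)

theorem ROrth.of_iso {S : ObjectProperty D} {K K' : D} (e : K ≅ K') (h : ROrth S K) :
    ROrth S K' := fun X hX =>
  ⟨fun u v => (cancel_mono e.inv).1 ((h X hX).elim (u ≫ e.inv) (v ≫ e.inv))⟩

theorem ROrth.shift {S : ObjectProperty D} (hS : ∀ (X : D) (n : ℤ), S X → S (X⟦n⟧)) {K : D}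
    (h : ROrth S K) (n : ℤ) : ROrth S (K⟦n⟧) := by
  intro X hX
  refine ⟨fun u v => ?_⟩
  let e := shiftShiftNeg K n
  have h1 : u⟦-n⟧' ≫ e.hom = v⟦-n⟧' ≫ e.hom := (h _ (hS X (-n) hX)).elim _ _
  exact (shiftFunctor D (-n)).map_injective ((cancel_mono e.hom).1 h1)

theorem ROrth.obj₃ {S : ObjectProperty D} (hS : ∀ (X : D) (n : ℤ), S X → S (X⟦n⟧))
    (T : Triangle D) (hT : T ∈ distTriang D) (h₁ : ROrth S T.obj₁) (h₂ : ROrth S T.obj₂) :
    ROrth S T.obj₃ := by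
  intro X hX
  refine ⟨fun u v => ?_⟩
  suffices hz : ∀ φ : X ⟶ T.obj₃, φ = 0 by rw [hz u, hz v]
  intro φ
  have h0 : φ ≫ T.mor₃ = 0 := ((h₁.shift hS 1) X hX).elim _ _
  obtain ⟨ψ, hψ⟩ := Triangle.coyoneda_exact₃ T hT φ h0
  rw [hψ, (h₂ X hX).elim ψ 0, zero_comp]

theorem LOrth_of_mem {S : ObjectProperty D} (hS : ∀ (X : D) (n : ℤ), S X → S (X⟦n⟧)) {X : D}
    (hX : S X) : LOrth (ROrth S) X := fun _ hL n => (hL.shift hS n) X hX

/-- Covariant criterion for the vanishing of maps to the cone. -/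
theorem subsingleton_hom_obj₃ (T : Triangle D) (hT : T ∈ distTriang D) (X X' : D)
    (e : X'⟦(1 : ℤ)⟧ ≅ X)
    (hsurj : ∀ g : X ⟶ T.obj₂, ∃ h : X ⟶ T.obj₁, h ≫ T.mor₁ = g)
    (hinj : ∀ h : X' ⟶ T.obj₁, h ≫ T.mor₁ = 0 → h = 0) : Subsingleton (X ⟶ T.obj₃) := by
  refine ⟨fun u v => ?_⟩
  suffices hz : ∀ φ : X ⟶ T.obj₃, φ = 0 by rw [hz u, hz v]
  intro φ
  have h0 : φ ≫ T.mor₃ = 0 := by
    obtain ⟨w', hw'⟩ := (shiftFunctor D (1 : ℤ)).map_surjective (e.hom ≫ φ ≫ T.mor₃)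
    have h1 : w' ≫ T.mor₁ = 0 := by
      apply (shiftFunctor D (1 : ℤ)).map_injective
      rw [Functor.map_comp, hw', Functor.map_zero, Category.assoc, Category.assoc,
        comp_distTriang_mor_zero₃₁ _ hT, comp_zero, comp_zero]
    rw [hinj w' h1, Functor.map_zero] at hw'
    exact (cancel_epi e.hom).1 (hw'.symm.trans comp_zero.symm)
  obtain ⟨ψ, hψ⟩ := Triangle.coyoneda_exact₃ T hT φ h0
  obtain ⟨χ, hχ⟩ := hsurj ψ
  rw [hψ, ← hχ, Category.assoc, comp_distTriang_mor_zero₁₂ _ hT, comp_zero]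

end Groth.Agent.Lib.Helper35.Bousfield
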