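import Groth.Agent.Lib.Helper35.Bousfield

/-! Localization triangles with an extra property, and uniqueness (helper35). -/

set_option autoImplicit false
set_option linter.unusedSectionVars false

namespace Groth.Agent.Lib.Helper35.Bousfield

open CategoryTheory Limits Pretriangulated ZeroObject

variable {D : Type*} [Category D] [Preadditive D] [HasZeroObject D] [HasShift D ℤ]
  [∀ n : ℤ, (shiftFunctor D n).Additive] [Pretriangulated D]

/-- `K` admits a localization triangle whose local object satisfies the extra property `Qp`. -/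
def HasLocQ (P Qp : ObjectProperty D) (K : D) : Prop :=
  ∃ (C Z : D) (η : K ⟶ C) (p : C ⟶ Z) (δ : Z ⟶ K⟦(1 : ℤ)⟧),
    Triangle.mk η p δ ∈ distTriang D ∧ P C ∧ LOrth P Z ∧ Qp C

theorem HasLocQ.comp [IsTriangulated D] (P₁ P₂ P Q₁ Q₂ : ObjectProperty D)
    (hP₁ : ∀ L, P L → P₁ L) (hP₂ : ∀ L, P L → P₂ L) (hP : ∀ L, P₁ L → P₂ L → P L) (K : D)
    (h₁ : HasLocQ P₁ Q₁ K)
    (h₂ : ∀ C₁ : D, P₁ C₁ → Q₁ C₁ →
      ∃ (C Z : D) (η : C₁ ⟶ C) (p : C ⟶ Z) (δ : Z ⟶ C₁⟦(1 : ℤ)⟧),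
      Triangle.mk η p δ ∈ distTriang D ∧ P₁ C ∧ P₂ C ∧ LOrth P₂ Z ∧ Q₂ C) :
    HasLocQ P Q₂ K := by
  obtain ⟨C₁, Z₁, η₁, p₁, δ₁, hT₁, hC₁, hZ₁, hQ₁⟩ := h₁
  obtain ⟨C₂, Z₂, η₂, p₂, δ₂, hT₂, hC₂, hC₂', hZ₂, hQ₂⟩ := h₂ C₁ hC₁ hQ₁
  obtain ⟨Z, p, δ, hT⟩ := distinguished_cocone_triangle (η₁ ≫ η₂)
  have o := Triangulated.someOctahedron rfl hT₁ hT₂ hT
  refine ⟨C₂, Z, η₁ ≫ η₂, p, δ, hT, hP _ hC₂ hC₂', ?_, hQ₂⟩
  exact LOrth.obj₂ _ o.mem (hZ₁.mono hP₁) (hZ₂.mono hP₂)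

theorem HasLocQ.id (P Qp : ObjectProperty D) (K : D) (hK : P K) (hQ : Qp K) : HasLocQ P Qp K :=
  ⟨K, 0, 𝟙 K, 0, 0, contractible_distinguished K, hK, LOrth.of_isZero P (isZero_zero D), hQ⟩

/-- Two objects with the universal property of the localization are isomorphic. -/
theorem nonempty_iso_of_universal {P : ObjectProperty D} {K C C' : D} (η : K ⟶ C) (η' : K ⟶ C')
    (hC : P C) (hC' : P C')
    (h : ∀ L, P L → Function.Bijective (fun φ : C ⟶ L => η ≫ φ))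
    (h' : ∀ L, P L → Function.Bijective (fun φ : C' ⟶ L => η' ≫ φ)) :
    ∃ e : C ≅ C', η ≫ e.hom = η' := by
  obtain ⟨a, ha⟩ := (h C' hC').2 η'
  obtain ⟨b, hb⟩ := (h' C hC).2 η
  refine ⟨⟨a, b, ?_, ?_⟩, ha⟩
  · apply (h C hC).1
    change η ≫ a ≫ b = η ≫ 𝟙 C
    rw [← Category.assoc]
    rw [show η ≫ a = η' from ha]
    exact hb.trans (Category.comp_id _).symm
  · apply (h' C' hC').1
    change η' ≫ b ≫ a = η' ≫ 𝟙 C'
    rw [← Category.assoc]
    rw [show η' ≫ b = η from hb]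
    exact ha.trans (Category.comp_id _).symm

/-- Transfer of the extra property to any object with the universal property. -/
theorem HasLocQ.prop_of_universal {P Qp : ObjectProperty D} {K : D} (h : HasLocQ P Qp K)
    (hQ : ∀ X Y : D, (X ≅ Y) → Qp X → Qp Y) {C' : D} (η' : K ⟶ C') (hC' : P C')
    (h' : ∀ L, P L → Function.Bijective (fun φ : C' ⟶ L => η' ≫ φ)) : Qp C' := by
  obtain ⟨C, Z, η, p, δ, hT, hC, hZ, hQC⟩ := h
  obtain ⟨e, -⟩ := nonempty_iso_of_universal η η' hC hC'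
    (fun L hL => bijective_precomp η p δ hT hZ L hL) h'
  exact hQ _ _ e hQC

/-- The unit of an adjunction `F ⊣ P.ι` has the universal property. -/
theorem bijective_precomp_unit {P : ObjectProperty D} {F : D ⥤ P.FullSubcategory}
    (adj : F ⊣ P.ι) (K : D) (L : D) (hL : P L) :
    Function.Bijective (fun φ : (F.obj K).obj ⟶ L => adj.unit.app K ≫ φ) := by
  let L' : P.FullSubcategory := ⟨L, hL⟩
  constructor
  · intro φ ψ h
    have h1 : adj.homEquiv K L' (ObjectProperty.homMk φ) =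
        adj.homEquiv K L' (ObjectProperty.homMk ψ) := by
      rw [Adjunction.homEquiv_unit, Adjunction.homEquiv_unit]
      exact h
    have h2 := (adj.homEquiv K L').injective h1
    exact congrArg (fun x => x.hom) h2
  · intro g
    refine ⟨((adj.homEquiv K L').symm g).hom, ?_⟩
    have h1 := (adj.homEquiv K L').apply_symm_apply g
    rw [Adjunction.homEquiv_unit] at h1
    exact h1

end Groth.Agent.Lib.Helper35.Bousfield
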