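import Groth.Prelude.Def_DRing4
import Groth.Agent.Lib.Helper32.RDerCrit
import Groth.Agent.Lib.Helper32.KInjRes
import Groth.Agent.Lib.Helper6.RHomKProj
import Groth.Agent.Lib.Helper26.KProjQ

/-!
# `RHomCx E` computed on K-injective complexes (helper35)
-/

set_option autoImplicit false
universe u

open CategoryTheory Limits DerivedCategory CochainComplex HomComplex

namespace Groth.Agent.Lib.Helper35.RHomKInj

attribute [local instance] HasDerivedCategory.standard

variable {A : Type u} [CommRing A]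

/-- right composition with a fixed cochain as a linear map -/
noncomputable def compRightLin (E : DRing.Cx A) {L L' : DRing.Cx A} {m : ℤ} (c : Cochain L L' m)
    (n n' : ℤ) (h : n + m = n') : Cochain E L n →ₗ[A] Cochain E L' n' where
  toFun z := z.comp c h
  map_add' z z' := by simp
  map_smul' a z := by simp

/-- the degree `-1` cochain on Hom complexes induced by a homotopy -/
noncomputable def homCxCochain (E : DRing.Cx A) {L L' : DRing.Cx A} {f g : L ⟶ L'}
    (h : Homotopy f g) : Cochain (DRing.homCx E L) (DRing.homCx E L') (-1) :=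
  Cochain.mk (fun p q hpq => ModuleCat.ofHom (compRightLin E (Cochain.ofHomotopy h) p q hpq))

lemma homCxCochain_spec (E : DRing.Cx A) {L L' : DRing.Cx A} {f g : L ⟶ L'}
    (h : Homotopy f g) :
    Cochain.ofHom (DRing.homCxMap E f) =
      δ (-1) 0 (homCxCochain E h) + Cochain.ofHom (DRing.homCxMap E g) := by
  refine Cochain.ext _ _ (fun p q hpq => ?_)
  obtain rfl : p = q := by omega
  rw [Cochain.add_v, Cochain.ofHom_v, Cochain.ofHom_v,
    δ_v (-1) 0 (by omega) _ p p (add_zero p) (p - 1) (p + 1) (by omega) (by omega)]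
  refine ModuleCat.hom_ext (LinearMap.ext (fun (z : Cochain E L p) => ?_))
  simp only [Int.negOnePow_zero, one_smul]
  change z.comp (Cochain.ofHom f) (add_zero p) =
    δ (p - 1) p (z.comp (Cochain.ofHomotopy h) (by omega)) +
      (δ p (p + 1) z).comp (Cochain.ofHomotopy h) (by omega) +
      z.comp (Cochain.ofHom g) (add_zero p)
  rw [δ_comp z (Cochain.ofHomotopy h) (show p + (-1) = p - 1 by omega) (p + 1) 0 p
    (by omega) rfl (by omega), δ_ofHomotopy, Cochain.comp_sub]
  simp only [Int.negOnePow_neg, Int.negOnePow_one, Units.neg_smul, one_smul]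
  abel

/-- `Hom•(E, -)` preserves homotopies. -/
noncomputable def homCxHomotopy (E : DRing.Cx A) {L L' : DRing.Cx A} {f g : L ⟶ L'}
    (h : Homotopy f g) : Homotopy (DRing.homCxMap E f) (DRing.homCxMap E g) :=
  (Cochain.equivHomotopy _ _).symm ⟨homCxCochain E h, homCxCochain_spec E h⟩

lemma hasKInjRes (A : Type u) [CommRing A] :
    Groth.Agent.Lib.Helper32.KInjDerived.HasKInjRes (ModuleCat.{u} A) := by
  intro K
  obtain ⟨I, f, hI, hf, -, -⟩ := Groth.Agent.Lib.Helper32.KInjRes.exists_kInjective_resolution K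
  exact ⟨I, f, hI, hf⟩

/-- `Hom•(E, -)` on the homotopy category, followed by localization. -/
noncomputable def homCxQh (E : DRing.Cx A) :
    HomotopyCategory (ModuleCat.{u} A) (ComplexShape.up ℤ) ⥤ Dual.D A :=
  CategoryTheory.Quotient.lift _ (DRing.homCxQ E) (by
    intro K L f g ⟨h⟩
    exact Groth.Agent.Lib.Helper26.KProjQ.Q_map_eq_of_homotopy _ _ (homCxHomotopy E h))

lemma quotient_comp_homCxQh (E : DRing.Cx A) :
    HomotopyCategory.quotient (ModuleCat.{u} A) (ComplexShape.up ℤ) ⋙ homCxQh E =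
      DRing.homCxQ E :=
  CategoryTheory.Quotient.lift_spec _ _ _

variable (E : DRing.Cx A) [DRing.HasRHomCx E]

/-- The unit `Q (Hom•(E, L)) ⟶ RHom(E, Q L)`. -/
noncomputable def rhomUnit (L : DRing.Cx A) :
    DRing.toD (DRing.homCx E L) ⟶ (DRing.RHomCx E).obj (DRing.toD L) :=
  ((DRing.homCxQ E).totalRightDerivedUnit Q
    (HomologicalComplex.quasiIso (ModuleCat.{u} A) (ComplexShape.up ℤ))).app L

lemma rhomUnit_naturality {L L' : DRing.Cx A} (f : L ⟶ L') :
    Q.map (DRing.homCxMap E f) ≫ rhomUnit E L' =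
      rhomUnit E L ≫ (DRing.RHomCx E).map (Q.map f) :=
  ((DRing.homCxQ E).totalRightDerivedUnit Q
    (HomologicalComplex.quasiIso (ModuleCat.{u} A) (ComplexShape.up ℤ))).naturality f

/-- **R1**: the unit is an isomorphism on K-injective complexes. -/
theorem isIso_rhomUnit (I : DRing.Cx A) [I.IsKInjective] : IsIso (rhomUnit E I) := by
  let α := (DRing.homCxQ E).totalRightDerivedUnit Q
    (HomologicalComplex.quasiIso (ModuleCat.{u} A) (ComplexShape.up ℤ))
  let e : HomotopyCategory.quotient (ModuleCat.{u} A) (ComplexShape.up ℤ) ⋙ homCxQh E ≅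
      DRing.homCxQ E := eqToIso (quotient_comp_homCxQh E)
  let α' : HomotopyCategory.quotient (ModuleCat.{u} A) (ComplexShape.up ℤ) ⋙ homCxQh E ⟶
      Q ⋙ DRing.RHomCx E := e.hom ≫ α
  have : (DRing.RHomCx E).IsRightDerivedFunctor α'
      (HomologicalComplex.quasiIso (ModuleCat.{u} A) (ComplexShape.up ℤ)) := by
    rw [Functor.isRightDerivedFunctor_iff_isLeftKanExtension]
    have := Functor.IsRightDerivedFunctor.isLeftKanExtension (DRing.RHomCx E) α
      (HomologicalComplex.quasiIso (ModuleCat.{u} A) (ComplexShape.up ℤ))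
    exact (Functor.isLeftKanExtension_iff_of_iso₂ α α' e.symm (Iso.refl _)
      (by ext X; simp [α'])).1 this
  have h1 := Groth.Agent.Lib.Helper32.RDerCrit.isIso_app_kInjective (hasKInjRes A)
    (DRing.RHomCx E) (Groth.Agent.Lib.Helper32.KInjDerived.βh (homCxQh E) (DRing.RHomCx E) α') I
  rw [Groth.Agent.Lib.Helper32.KInjDerived.βh_app] at h1
  have h2 : IsIso (α'.app I) := IsIso.of_isIso_comp_right _
    ((DRing.RHomCx E).map ((DerivedCategory.quotientCompQhIso (ModuleCat.{u} A)).inv.app I))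
  have h3 : α'.app I = e.hom.app I ≫ rhomUnit E I := rfl
  rw [h3] at h2
  exact IsIso.of_isIso_comp_left (e.hom.app I) _

/-! ### cocycles into a K-injective complex -/

section KInj

open Groth.Agent.Lib.Helper6.ExtCocycle

variable {F L : DRing.Cx A} {n : ℤ}

lemma exists_map_eq_inj {Y : DRing.Cx A} [Y.IsKInjective]
    (e : Q.obj F ⟶ Q.obj Y) : ∃ φ : F ⟶ Y, Q.map φ = e := by
  obtain ⟨g, hg⟩ := (IsKInjective.Qh_map_bijective
    ((HomotopyCategory.quotient _ _).obj F) Y).surjective
    ((quotientCompQhIso _).hom.app F ≫ e ≫ (quotientCompQhIso _).inv.app Y)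
  obtain ⟨φ, rfl⟩ := (HomotopyCategory.quotient _ _).map_surjective g
  refine ⟨φ, ?_⟩
  have := quotientCompQhIso_hom_naturality φ
  rw [hg] at this
  simp only [Category.assoc, Iso.inv_hom_id_app, Category.comp_id] at this
  exact ((cancel_epi ((quotientCompQhIso (ModuleCat.{u} A)).hom.app F)).1 this).symm

lemma map_eq_zero_iff_inj {Y : DRing.Cx A} [Y.IsKInjective]
    (φ : F ⟶ Y) : Q.map φ = 0 ↔ (HomotopyCategory.quotient _ _).map φ = 0 := by
  constructor
  · intro h
    apply (IsKInjective.Qh_map_bijective ((HomotopyCategory.quotient _ _).obj F) Y).injective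
    have := quotientCompQhIso_hom_naturality φ
    rw [h, Limits.comp_zero] at this
    rw [Functor.map_zero]
    exact (cancel_mono ((quotientCompQhIso (ModuleCat.{u} A)).hom.app Y)).1 (by
      rw [this, Limits.zero_comp])
  · intro h
    have := quotientCompQhIso_hom_naturality φ
    rw [h, Functor.map_zero, Limits.zero_comp] at this
    exact (cancel_epi ((quotientCompQhIso (ModuleCat.{u} A)).hom.app F)).1 (by
      rw [← this, Limits.comp_zero])

lemma ext1_surjective_inj [L.IsKInjective] (e : Q.obj F ⟶ (Q.obj L)⟦n⟧) :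
    ∃ c : Cocycle F L n, ext1 F L n c = e := by
  obtain ⟨φ, hφ⟩ := exists_map_eq_inj (Y := L⟦n⟧) (e ≫ (Q.commShiftIso n).inv.app L)
  refine ⟨Cocycle.equivHomShift φ, ?_⟩
  unfold ext1
  rw [AddEquiv.symm_apply_apply, hφ, Category.assoc, Iso.inv_hom_id_app]
  exact Category.comp_id e

lemma ext1_eq_zero_iff_inj [L.IsKInjective] (c : Cocycle F L n) :
    ext1 F L n c = 0 ↔ c ∈ coboundaries F L n := by
  rw [← CohomologyClass.toHom_mk_eq_zero_iff, CohomologyClass.toHom_mk,
    ← map_eq_zero_iff_inj (Y := L⟦n⟧)]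
  unfold ext1
  constructor
  · intro h
    have := congrArg (fun t => t ≫ (Q.commShiftIso n).inv.app L) h
    simpa using this
  · intro h
    rw [h, Limits.zero_comp]

lemma ext1_precomp (c : Cocycle F L n) {F' : DRing.Cx A} (g : F' ⟶ F) :
    ext1 F' L n (c.precomp g) = Q.map g ≫ ext1 F L n c := by
  unfold ext1
  rw [Cocycle.equivHomShift_symm_precomp, CategoryTheory.Functor.map_comp, Category.assoc]

lemma ext1_sub' (c c' : Cocycle F L n) :
    ext1 F L n (c - c') = ext1 F L n c - ext1 F L n c' := by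
  have h := Groth.Agent.Lib.Helper6.ExtConst.ext1_add (c - c') c'
  rw [sub_add_cancel] at h
  rw [h, add_sub_cancel_right]

end KInj

/-! ### precomposition on Hom complexes -/

/-- precomposition with `φ` as a linear map on cochains -/
noncomputable def precompLin {E E' : DRing.Cx A} (φ : E' ⟶ E) (L : DRing.Cx A) (i : ℤ) :
    Cochain E L i →ₗ[A] Cochain E' L i where
  toFun z := (Cochain.ofHom φ).comp z (zero_add i)
  map_add' z z' := by simp
  map_smul' a z := by simp

/-- `Hom•(E, L) ⟶ Hom•(E', L)` induced by `φ : E' ⟶ E`. -/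
noncomputable def homCxPre {E E' : DRing.Cx A} (φ : E' ⟶ E) (L : DRing.Cx A) :
    DRing.homCx E L ⟶ DRing.homCx E' L where
  f i := ModuleCat.ofHom (precompLin φ L i)
  comm' i j _ := by
    ext z
    change δ i j ((Cochain.ofHom φ).comp z (zero_add i)) =
      (Cochain.ofHom φ).comp (δ i j z) (zero_add j)
    exact δ_ofHom_comp φ z j

section pre

open Groth.Agent.Lib.Helper6.ExtCocycle

variable {E E' : DRing.Cx A} (φ : E' ⟶ E) [QuasiIso φ] (I : DRing.Cx A) [I.IsKInjective]

include φ in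
lemma isIso_Q_map_of_quasiIso : IsIso (Q.map φ) := by
  rw [isIso_Q_map_iff_quasiIso]
  infer_instance

lemma exists_cocycle_lift_pre (n : ℤ) (z' : Cochain E' I n) (hz' : δ n (n + 1) z' = 0) :
    ∃ z : Cochain E I n, δ n (n + 1) z = 0 ∧
      ∃ w' : Cochain E' I (n - 1),
        (Cochain.ofHom φ).comp z (zero_add n) - z' = δ (n - 1) n w' := by
  have hiso := isIso_Q_map_of_quasiIso φ
  let c' : Cocycle E' I n := Cocycle.mk z' (n + 1) rfl hz'
  obtain ⟨c, hc⟩ := ext1_surjective_inj (F := E) (L := I) (n := n)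
    (inv (Q.map φ) ≫ ext1 E' I n c')
  have h1 : ext1 E' I n (c.precomp φ) = ext1 E' I n c' := by
    rw [ext1_precomp, hc, IsIso.hom_inv_id_assoc]
  have h2 : ext1 E' I n (c.precomp φ - c') = 0 := by
    rw [ext1_sub', h1, sub_self]
  rw [ext1_eq_zero_iff_inj, mem_coboundaries_iff _ (n - 1) (by omega)] at h2
  obtain ⟨β, hβ⟩ := h2
  exact ⟨c.1, Cocycle.δ_eq_zero c (n + 1), β, hβ.symm⟩

lemma exists_coboundary_pre (n : ℤ) (z : Cochain E I n) (hz : δ n (n + 1) z = 0)
    (h : ∃ w' : Cochain E' I (n - 1), (Cochain.ofHom φ).comp z (zero_add n) = δ (n - 1) n w') :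
    ∃ w : Cochain E I (n - 1), z = δ (n - 1) n w := by
  have hiso := isIso_Q_map_of_quasiIso φ
  let c : Cocycle E I n := Cocycle.mk z (n + 1) rfl hz
  obtain ⟨w', hw'⟩ := h
  have h1 : ext1 E' I n (c.precomp φ) = 0 := by
    rw [ext1_eq_zero_iff_inj, mem_coboundaries_iff _ (n - 1) (by omega)]
    exact ⟨w', hw'.symm⟩
  rw [ext1_precomp] at h1
  have h2 : ext1 E I n c = 0 := by
    rw [← cancel_epi (Q.map φ), h1, comp_zero]
  rw [ext1_eq_zero_iff_inj, mem_coboundaries_iff _ (n - 1) (by omega)] at h2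
  obtain ⟨β, hβ⟩ := h2
  exact ⟨β, hβ.symm⟩

/-- **R2**: `Hom•(-, I)` sends quasi-isomorphisms to quasi-isomorphisms when `I` is
K-injective. -/
theorem quasiIso_homCxPre : QuasiIso (homCxPre φ I) := by
  apply Groth.Agent.Lib.Helper6.QisCrit.quasiIso_of_elementwise
  · intro n z' hz'
    exact exists_cocycle_lift_pre φ I n z' hz'
  · intro n z hz h
    exact exists_coboundary_pre φ I n z hz h

end pre

/-- **L1**: `RHom(E, L) ≅ Hom•(P, L)` for any K-projective `P` quasi-isomorphic to `E`. -/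
theorem nonempty_rhom_iso (E : DRing.Cx A) [DRing.HasRHomCx E] (P : DRing.Cx A) [P.IsKProjective]
    (e : DRing.toD P ≅ DRing.toD E) (L : DRing.Cx A) :
    Nonempty ((DRing.RHomCx E).obj (DRing.toD L) ≅ DRing.toD (DRing.homCx P L)) := by
  obtain ⟨φ, hφ⟩ := Groth.Agent.Lib.Helper6.ExtCocycle.exists_map_eq (F := P) (Y := E) e.hom
  have hq : QuasiIso φ := by
    rw [← isIso_Q_map_iff_quasiIso, hφ]
    infer_instance
  obtain ⟨I, j, hI, hj⟩ := hasKInjRes A L
  have h1 : IsIso (Q.map j) := by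
    rw [isIso_Q_map_iff_quasiIso]
    exact hj
  have h2 := isIso_rhomUnit E I
  have h3 : IsIso (Q.map (homCxPre φ I)) := by
    rw [isIso_Q_map_iff_quasiIso]
    exact quasiIso_homCxPre φ I
  have h4 : IsIso (Q.map (DRing.homCxMap P j)) := by
    rw [isIso_Q_map_iff_quasiIso]
    exact Groth.Agent.Lib.Helper6.RHomKProj.quasiIso_homCxMap P j
  exact ⟨(DRing.RHomCx E).mapIso (asIso (Q.map j)) ≪≫ (asIso (rhomUnit E I)).symm ≪≫
    asIso (Q.map (homCxPre φ I)) ≪≫ (asIso (Q.map (DRing.homCxMap P j))).symm⟩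

end Groth.Agent.Lib.Helper35.RHomKInj
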