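import Groth.Agent.Lib.Helper35.LDGen
import Groth.Agent.Lib.Helper6.NormDual1
import Groth.Agent.Lib.Helper6.DualShift
import Groth.Agent.S1749

set_option autoImplicit false
set_option linter.unusedSectionVars false
universe u

open CategoryTheory CategoryTheory.Limits DerivedCategory Pretriangulated Opposite

attribute [local instance] HasDerivedCategory.standard

namespace Groth.Agent.Lib.Helper35.CdDual

variable {C : Type u} [CommRing C]

/-- the projection `C/J^n' → C/J^n` -/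
noncomputable def proj (J : Ideal C) {n n' : ℕ} (h : n ≤ n') :
    ModuleCat.of C (C ⧸ J ^ n') ⟶ ModuleCat.of C (C ⧸ J ^ n) :=
  ModuleCat.ofHom (Submodule.mapQ (J ^ n') (J ^ n) LinearMap.id (Ideal.pow_le_pow_right h))

/-- a class in `Hom(C/J^n, K[i])` all of whose transition images are nonzero gives a nonzero
element of `HDI`. -/
theorem not_subsingleton_HDI (J : Ideal C) (K : Dual.D C) (i : ℤ) (n : ℕ)
    (ξ : Dual.inD C (C ⧸ J ^ n) ⟶ K⟦i⟧)
    (h : ∀ (n' : ℕ) (hn : n ≤ n'),
      (singleFunctor (ModuleCat.{u} C) 0).map (proj J hn) ≫ ξ ≠ 0) :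
    ¬ Subsingleton (Dual2.HDI C J K i) := by
  intro hsub
  let F := ((localCohomology.ringModIdeals (localCohomology.idealPowersDiagram J) ⋙
      DerivedCategory.singleFunctor (ModuleCat.{u} C) 0).op ⋙
        (linearYoneda C (Dual.D C)).obj (K⟦i⟧))
  have h0 : colimit.ι F (op (op n)) ξ = 0 := hsub.elim _ _
  obtain ⟨j', f, hf⟩ := Concrete.colimit_rep_eq_zero C F (op (op n)) ξ h0
  have hle : n ≤ j'.unop.unop := f.unop.unop.down.down
  exact h j'.unop.unop hle hf


section Colon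

variable (J : Ideal C) (a : C)

/-- `c ↦ [c * a] ∈ C/J^n` -/
noncomputable def mulQ (n : ℕ) : C →ₗ[C] C ⧸ J ^ n :=
  (Submodule.mkQ (J ^ n)) ∘ₗ (LinearMap.toSpanSingleton C C a)

lemma mulQ_apply (n : ℕ) (c : C) : mulQ J a n c = Submodule.Quotient.mk (c * a) := rfl

/-- the colon ideal `(J^n : a)` -/
noncomputable def colonI (n : ℕ) : Ideal C := LinearMap.ker (mulQ J a n)

lemma mem_colonI (n : ℕ) (c : C) : c ∈ colonI J a n ↔ c * a ∈ J ^ n := by
  rw [colonI, LinearMap.mem_ker, mulQ_apply, Submodule.Quotient.mk_eq_zero]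

/-- multiplication by `a`, `C/(J^n : a) → C/J^n` -/
noncomputable def mu (n : ℕ) : C ⧸ colonI J a n →ₗ[C] C ⧸ J ^ n :=
  (colonI J a n).liftQ (mulQ J a n) le_rfl

lemma mu_injective (n : ℕ) : Function.Injective (mu J a n) := by
  rw [← LinearMap.ker_eq_bot]
  exact Submodule.ker_liftQ_eq_bot _ _ _ le_rfl

lemma colonI_mono {n n' : ℕ} (h : n ≤ n') : colonI J a n' ≤ colonI J a n := by
  intro c hc
  rw [mem_colonI] at hc ⊢
  exact Ideal.pow_le_pow_right h hc

/-- the projection `C/(J^n' : a) → C/(J^n : a)` -/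
noncomputable def piQ {n n' : ℕ} (h : n ≤ n') : C ⧸ colonI J a n' →ₗ[C] C ⧸ colonI J a n :=
  Submodule.mapQ _ _ LinearMap.id (colonI_mono J a h)

lemma piQ_surjective {n n' : ℕ} (h : n ≤ n') : Function.Surjective (piQ J a h) := by
  intro x
  obtain ⟨x, rfl⟩ := Submodule.Quotient.mk_surjective _ x
  exact ⟨Submodule.Quotient.mk x, rfl⟩

lemma square {n n' : ℕ} (h : n ≤ n') :
    (mu J a n) ∘ₗ (piQ J a h) =
      (Submodule.mapQ (J ^ n') (J ^ n) LinearMap.id (Ideal.pow_le_pow_right h)) ∘ₗ (mu J a n') := by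
  apply Submodule.linearMap_qext
  ext
  rfl

lemma sup_pow_le (P : Ideal C) (n : ℕ) : (J ⊔ P) ^ n ≤ J ^ n ⊔ P := by
  induction n with
  | zero => simp
  | succ n ih =>
    rw [pow_succ]
    refine (Ideal.mul_mono_left ih).trans ?_
    rw [Ideal.sup_mul, Ideal.mul_sup, Ideal.mul_sup]
    refine sup_le (sup_le ?_ ?_) (sup_le ?_ ?_)
    · rw [← pow_succ]; exact le_sup_left
    · exact Ideal.mul_le_right.trans le_sup_right
    · exact Ideal.mul_le_left.trans le_sup_right
    · exact Ideal.mul_le_left.trans le_sup_right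

variable [IsLocalRing C] [IsNoetherianRing C]

lemma isFiniteLength_quot_colonI (P : Ideal C) (hP : ∀ x ∈ P, x * a = 0) (N : ℕ)
    (hN : IsLocalRing.maximalIdeal C ^ N ≤ J ⊔ P) (n : ℕ) :
    IsFiniteLength C (C ⧸ colonI J a n) := by
  have h1 : IsLocalRing.maximalIdeal C ^ (N * n) ≤ colonI J a n := by
    rw [pow_mul]
    refine (Ideal.pow_right_mono hN n).trans ((sup_pow_le J P n).trans (sup_le ?_ ?_))
    · intro c hc
      rw [mem_colonI]
      exact Ideal.mul_mem_right _ _ hc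
    · intro c hc
      rw [mem_colonI, hP c hc]
      exact zero_mem _
  have h2 := Groth.Agent.Lib.Helper2.isFiniteLength_quot_maximalIdeal_pow C (N * n)
  exact h2.of_surjective (f := Submodule.mapQ _ _ LinearMap.id h1) (by
    intro x
    obtain ⟨x, rfl⟩ := Submodule.Quotient.mk_surjective _ x
    exact ⟨Submodule.Quotient.mk x, rfl⟩)

end Colon


section Main

variable [IsLocalRing C] [IsNoetherianRing C] (Ω : Dual.D C) (hΩ : Dual.IsDualizing C Ω)
  (hnΩ : Dual.IsNormalized C Ω)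

include hΩ hnΩ in
/-- restriction along a surjection from a finite length module is injective on `Hom(-, Ω)`. -/
lemma eq_zero_of_comp_surjective {N' N : Type u} [AddCommGroup N'] [Module C N']
    [AddCommGroup N] [Module C N] (π : N' →ₗ[C] N) (hπ : Function.Surjective π)
    (hN' : IsFiniteLength C N') (φ : Dual.inD C N ⟶ Ω)
    (h : (singleFunctor (ModuleCat.{u} C) 0).map (ModuleCat.ofHom π) ≫ φ = 0) : φ = 0 := by
  obtain ⟨E, _, _, f, hf⟩ := Groth.Agent.Lib.Helper35.LD.exists_injectiveHull_residueField C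
  let ι := (LinearMap.ker π).subtype
  have hfg : Function.Exact ι π := LinearMap.exact_subtype_ker_map π
  let S := ModuleCat.shortComplexOfCompEqZero ι π hfg.linearMap_comp_eq_zero
  have hS : S.ShortExact :=
    ModuleCat.shortComplex_shortExact S hfg (Submodule.injective_subtype _) hπ
  have hT := hS.singleTriangle_distinguished
  obtain ⟨ψ, hψ⟩ := Triangle.yoneda_exact₃ _ hT φ h
  have hK : IsFiniteLength C (LinearMap.ker π) :=
    hN'.of_injective (f := (LinearMap.ker π).subtype) (Submodule.injective_subtype _)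
  have h1 : Subsingleton (Dual.inD C (LinearMap.ker π) ⟶ Ω⟦(-1 : ℤ)⟧) :=
    (Groth.Agent.S1749.result C Ω hΩ hnΩ E f hf _ hK).1 (-1) (by norm_num)
  have h2 : Subsingleton ((Dual.inD C (LinearMap.ker π))⟦(1 : ℤ)⟧ ⟶ Ω) :=
    Groth.Agent.Lib.Helper35.LD.subsingleton_shift_left _ _ (-1) h1
  rw [hψ, h2.elim ψ 0]
  exact Limits.comp_zero


include hΩ hnΩ in
/-- key nonvanishing: a nonzero class in `Hom(C/J^n₀, Ω)` surviving in the colimit. -/
theorem exists_surviving_class (J P : Ideal C) (a : C) (ha : a ≠ 0) (hP : ∀ x ∈ P, x * a = 0)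
    (N : ℕ) (hN : IsLocalRing.maximalIdeal C ^ N ≤ J ⊔ P) (hJ : J ≠ ⊤) :
    ∃ (n : ℕ) (ξ : Dual.inD C (C ⧸ J ^ n) ⟶ Ω), ∀ (n' : ℕ) (hn : n ≤ n'),
      (singleFunctor (ModuleCat.{u} C) 0).map (proj J hn) ≫ ξ ≠ 0 := by
  obtain ⟨E, _, _, f, hf⟩ := Groth.Agent.Lib.Helper35.LD.exists_injectiveHull_residueField C
  -- Krull
  obtain ⟨n, hna⟩ : ∃ n : ℕ, a ∉ J ^ n := by
    by_contra hcon
    push Not at hcon
    apply ha
    have : a ∈ ⨅ i : ℕ, J ^ i := by
      rw [Submodule.mem_iInf]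
      exact hcon
    rw [Ideal.iInf_pow_eq_bot_of_isLocalRing J hJ] at this
    exact this
  have hne : colonI J a n ≠ ⊤ := by
    intro htop
    apply hna
    have h1 : (1 : C) ∈ colonI J a n := by rw [htop]; trivial
    rw [mem_colonI, one_mul] at h1
    exact h1
  have hfl : ∀ k, IsFiniteLength C (C ⧸ colonI J a k) :=
    isFiniteLength_quot_colonI J a P hP N hN
  haveI : Nontrivial (C ⧸ colonI J a n) := Ideal.Quotient.nontrivial_iff.mpr hne
  obtain ⟨-, ⟨e⟩⟩ := Groth.Agent.S1749.result C Ω hΩ hnΩ E f hf (C ⧸ colonI J a n) (hfl n)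
  -- a nonzero class on the finite length module
  obtain ⟨ξ₀, hξ₀⟩ : ∃ ξ₀ : Dual.inD C (C ⧸ colonI J a n) ⟶ Ω, ξ₀ ≠ 0 := by
    by_contra hcon
    push Not at hcon
    have hs : Subsingleton ((C ⧸ colonI J a n) →ₗ[C] E) :=
      ⟨fun x y => e.symm.injective ((hcon _).trans (hcon _).symm)⟩
    have := (Groth.Agent.Lib.Helper35.LD.subsingleton_hom_injHull_iff f hf (C ⧸ colonI J a n)).mp hs
    exact not_subsingleton _ this
  -- extend along the injection `mu`
  let g := (LinearMap.range (mu J a n)).mkQ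
  have hfg : Function.Exact (mu J a n) g := LinearMap.exact_map_mkQ_range (mu J a n)
  let S := ModuleCat.shortComplexOfCompEqZero (mu J a n) g hfg.linearMap_comp_eq_zero
  have hS : S.ShortExact :=
    ModuleCat.shortComplex_shortExact S hfg (mu_injective J a n) (Submodule.mkQ_surjective _)
  have h₃ : Subsingleton ((singleFunctor (ModuleCat.{u} C) 0).obj S.X₃ ⟶ Ω⟦(1 : ℤ)⟧) :=
    Groth.Agent.Lib.Helper6.InjDimMax.subsingleton_hom_of_isNormalized Ω hΩ hnΩ _ 1 (by norm_num)
  obtain ⟨ξ, hξ⟩ := Triangle.yoneda_exact₂ _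
    (inv_rot_of_distTriang _ hS.singleTriangle_distinguished) ξ₀ (by
      exact Groth.Agent.Lib.Helper35.KL.eq_zero_of_subsingleton_hom_shift _ Ω 1 h₃ _)
  refine ⟨n, ξ, fun n' hn hzero => hξ₀ ?_⟩
  -- restriction to the finite length submodule
  apply eq_zero_of_comp_surjective Ω hΩ hnΩ (piQ J a hn) (piQ_surjective J a hn) (hfl n')
  have hsq : ModuleCat.ofHom (piQ J a hn) ≫ ModuleCat.ofHom (mu J a n) =
      ModuleCat.ofHom (mu J a n') ≫ proj J hn := by
    rw [← ModuleCat.ofHom_comp, proj, ← ModuleCat.ofHom_comp, square J a hn]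
  have hξ' : (singleFunctor (ModuleCat.{u} C) 0).map (ModuleCat.ofHom (mu J a n)) ≫ ξ = ξ₀ :=
    hξ.symm
  rw [← hξ', ← Category.assoc, ← Functor.map_comp, hsq, Functor.map_comp, Category.assoc, hzero,
    Limits.comp_zero]

end Main

section Final

variable [IsLocalRing C] [IsNoetherianRing C]

/-- If `P` is a minimal prime with `J + P` primary to the maximal ideal, then `H^0_J(ω) ≠ 0` for a
normalized dualizing complex `ω`. -/
theorem not_subsingleton_HDI_of_minimalPrime (ω : Dual.D C) (hω : Dual.IsDualizing C ω)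
    (hn : Dual.IsNormalized C ω) (J P : Ideal C) (hP : P ∈ minimalPrimes C) (N : ℕ)
    (hN : IsLocalRing.maximalIdeal C ^ N ≤ J ⊔ P) (hJ : J ≠ ⊤) :
    ¬ Subsingleton (Dual2.HDI C J ω 0) := by
  have hΩ : Dual.IsDualizing C (ω⟦(0 : ℤ)⟧) :=
    Groth.Agent.Lib.Helper6.DualShift.isDualizing_shift ω hω 0
  have hnΩ : Dual.IsNormalized C (ω⟦(0 : ℤ)⟧) :=
    Groth.Agent.Lib.Helper6.DualShift.isNormalized_shift ω 0 (fun i hi => hn i hi)
  -- an element with annihilator `P`
  have hass : P ∈ associatedPrimes C C := by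
    apply Module.associatedPrimes.minimalPrimes_annihilator_subset_associatedPrimes C C
    have : Module.annihilator C C = ⊥ := by
      rw [Module.annihilator_eq_bot]
      infer_instance
    rw [this]
    exact hP
  obtain ⟨hPp, a, haP⟩ := (Submodule.isAssociatedPrime_iff (N := (⊥ : Submodule C C))).mp hass
  have ha : a ≠ 0 := by
    rintro rfl
    apply hPp.ne_top
    rw [haP, eq_top_iff]
    intro c _
    rw [Submodule.mem_colon_singleton]
    simp
  have hPa : ∀ x ∈ P, x * a = 0 := by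
    intro x hx
    rw [haP, Submodule.mem_colon_singleton] at hx
    simpa using hx
  obtain ⟨n, ξ, hξ⟩ := exists_surviving_class (ω⟦(0 : ℤ)⟧) hΩ hnΩ J P a ha hPa N hN hJ
  exact not_subsingleton_HDI J ω 0 n ξ hξ

end Final

end Groth.Agent.Lib.Helper35.CdDual
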