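import Groth.Agent.Lib.Helper35.HDIFlat
import Groth.Agent.S1812

set_option autoImplicit false
set_option linter.unusedSectionVars false
universe u

open CategoryTheory CategoryTheory.Limits DerivedCategory Pretriangulated Opposite

attribute [local instance] HasDerivedCategory.standard

namespace Groth.Agent.Lib.Helper35.CdDualB

variable {A B : Type u} [CommRing A] [CommRing B] (φ : A →+* B)
  [IsNoetherianRing A] [IsNoetherianRing B] (I : Ideal A)
  [DRing.HasRgammaI I] [DRing.HasRgammaI (I.map φ)] [DRing.HasLBaseChange φ]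

/-- vanishing of `H^q_I(K)` is preserved by flat base change. -/
theorem subsingleton_HDI_lbc (hφ : φ.Flat) (K : Dual.D A) (q : ℤ)
    (h : Subsingleton (Dual2.HDI A I K q)) :
    Subsingleton (Dual2.HDI B (I.map φ) ((DRing.LBaseChange φ).obj K) q) := by
  obtain ⟨e1⟩ := Groth.Agent.S1812.result A I
    ((isNoetherianRing_iff_ideal_fg A).1 inferInstance _) K q
  obtain ⟨e2⟩ := Groth.Agent.S1812.result B (I.map φ)
    ((isNoetherianRing_iff_ideal_fg B).1 inferInstance _) ((DRing.LBaseChange φ).obj K) q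
  haveI : Subsingleton (Dual.HD A ((DRing.RgammaI I).obj K) q) := e1.toEquiv.subsingleton
  have hz : IsZero ((homologyFunctor (ModuleCat.{u} A) q).obj ((DRing.RgammaI I).obj K)) :=
    ModuleCat.isZero_of_subsingleton _
  obtain ⟨e3⟩ := Groth.Agent.Lib.Helper35.HDIFlat.nonempty_Rgamma_lbc_iso φ hφ I K
  obtain ⟨e4⟩ := Groth.Agent.Lib.Helper35.HDIFlat.nonempty_homology_lbc_iso φ hφ
    ((DRing.RgammaI I).obj K) q
  have hz2 : IsZero ((homologyFunctor (ModuleCat.{u} B) q).obj
      ((DRing.RgammaI (I.map φ)).obj ((DRing.LBaseChange φ).obj K))) := by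
    refine IsZero.of_iso ?_ ((homologyFunctor (ModuleCat.{u} B) q).mapIso e3 ≪≫ e4)
    exact (ModuleCat.extendScalars.{u, u, u} φ).map_isZero hz
  haveI : Subsingleton (Dual.HD B ((DRing.RgammaI (I.map φ)).obj ((DRing.LBaseChange φ).obj K)) q) :=
    ModuleCat.subsingleton_of_isZero hz2
  exact e2.symm.toEquiv.subsingleton

end Groth.Agent.Lib.Helper35.CdDualB
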