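import Groth.Agent.Lib.Helper35.DComplBd
import Groth.Agent.Lib.Helper35.TwoTerm
import Mathlib.CategoryTheory.Triangulated.Adjunction

/-! Derived completion is a triangulated functor (helper35). -/

set_option autoImplicit false
set_option linter.unusedSectionVars false
universe u

open CategoryTheory CategoryTheory.Limits DerivedCategory Pretriangulated ZeroObject

attribute [local instance] HasDerivedCategory.standard

namespace Groth.Agent.Lib.Helper35.DCE

variable {A : Type u} [CommRing A] (I : Ideal A)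

instance isClosedUnderIsomorphisms_isDerivedComplete :
    (DRing.IsDerivedComplete I).IsClosedUnderIsomorphisms where
  of_iso {K K'} e h := fun f hf n =>
    ⟨fun u v => by
      have := h f hf n
      have h1 : u ≫ (e.inv)⟦n⟧' = v ≫ (e.inv)⟦n⟧' := Subsingleton.elim _ _
      exact (cancel_mono _).1 h1⟩

instance isTriangulated_isDerivedComplete : (DRing.IsDerivedComplete I).IsTriangulated where
  exists_zero := ⟨0, isZero_zero _, fun f hf n =>
    ⟨fun u v => ((shiftFunctor (Dual.D A) n).map_isZero (isZero_zero _)).eq_of_tgt u v⟩⟩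
  isStableUnderShiftBy a :=
    { le_shift := fun K h f hf n => by
        let e := (shiftFunctorAdd' (Dual.D A) a n (a + n) rfl).app K
        have := h f hf (a + n)
        exact ⟨fun u v => (cancel_mono e.inv).1 (Subsingleton.elim (u ≫ e.inv) (v ≫ e.inv))⟩ }
  toIsTriangulatedClosed₂ := .mk' (by
    intro T hT h₁ h₃ f hf n
    have hT' := Triangle.shift_distinguished T hT n
    refine ⟨fun u v => ?_⟩
    suffices hz : ∀ φ : Dual.inD A (Localization.Away f) ⟶ T.obj₂⟦n⟧, φ = 0 by rw [hz u, hz v]
    intro φ
    have h0 : φ ≫ ((Triangle.shiftFunctor (Dual.D A) n).obj T).mor₂ = 0 :=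
      (h₃ f hf n).elim _ _
    obtain ⟨ψ, hψ⟩ := Triangle.coyoneda_exact₂ _ hT' φ h0
    have h1 : ψ = 0 := (h₁ f hf n).elim _ _
    rw [hψ, h1]
    exact zero_comp)

section Completion

variable [DRing.HasDerivedCompletion I]

/-- The triangle of derived completions of a distinguished triangle is distinguished. -/
theorem exists_distinguished_completion (T : Triangle (Dual.D A)) (hT : T ∈ distTriang (Dual.D A)) :
    ∃ δ : ((DRing.derivedCompletion I).obj T.obj₃).obj ⟶
        (((DRing.derivedCompletion I).obj T.obj₁).obj)⟦(1 : ℤ)⟧,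
      Triangle.mk ((DRing.derivedCompletion I).map T.mor₁).hom
        ((DRing.derivedCompletion I).map T.mor₂).hom δ ∈ distTriang (Dual.D A) := by
  let adj := DRing.derivedCompletionAdj I
  let _ : (DRing.derivedCompletion I).CommShift ℤ := adj.leftAdjointCommShift ℤ
  have : adj.CommShift ℤ := adj.commShift_of_rightAdjoint ℤ
  have : (DRing.derivedCompletion I).IsTriangulated := adj.isTriangulated_leftAdjoint
  have h := (DRing.derivedCompletion I).map_distinguished T hT
  exact ⟨_, h⟩

theorem epi_homology_mor₁ (T : Triangle (Dual.D A)) (hT : T ∈ distTriang (Dual.D A)) (n : ℤ)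
    (h : IsZero ((homologyFunctor (ModuleCat.{u} A) n).obj T.obj₃)) :
    Epi ((homologyFunctor (ModuleCat.{u} A) n).map T.mor₁) :=
  (HomologySequence.epi_homologyMap_mor₁_iff T hT n).2 (h.eq_of_tgt _ _)

theorem mono_homology_mor₁ (T : Triangle (Dual.D A)) (hT : T ∈ distTriang (Dual.D A)) (n₀ n₁ : ℤ)
    (hn : n₀ + 1 = n₁) (h : IsZero ((homologyFunctor (ModuleCat.{u} A) n₀).obj T.obj₃)) :
    Mono ((homologyFunctor (ModuleCat.{u} A) n₁).map T.mor₁) :=
  (HomologySequence.mono_homologyMap_mor₁_iff T hT n₀ n₁ hn).2 (h.eq_of_src _ _)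

theorem isIso_homology_mor₁ (T : Triangle (Dual.D A)) (hT : T ∈ distTriang (Dual.D A)) (n₀ n₁ : ℤ)
    (hn : n₀ + 1 = n₁) (h0 : IsZero ((homologyFunctor (ModuleCat.{u} A) n₀).obj T.obj₃))
    (h1 : IsZero ((homologyFunctor (ModuleCat.{u} A) n₁).obj T.obj₃)) :
    IsIso ((homologyFunctor (ModuleCat.{u} A) n₁).map T.mor₁) := by
  have := epi_homology_mor₁ T hT n₁ h1
  have := mono_homology_mor₁ T hT n₀ n₁ hn h0
  exact isIso_of_mono_of_epi _

/-- Completion preserves "isomorphism in degrees `≥ 1`, surjection in degree `0`". -/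
theorem completion_map_of_pos (s : Finset A) (hs : Ideal.span (s : Set A) = I) {K L : Dual.D A}
    (φ : K ⟶ L)
    (hiso : ∀ i : ℤ, 1 ≤ i → IsIso ((homologyFunctor (ModuleCat.{u} A) i).map φ))
    (hepi : Epi ((homologyFunctor (ModuleCat.{u} A) 0).map φ)) :
    (∀ i : ℤ, 1 ≤ i → IsIso ((homologyFunctor (ModuleCat.{u} A) i).map
        ((DRing.derivedCompletion I).map φ).hom)) ∧
      Epi ((homologyFunctor (ModuleCat.{u} A) 0).map ((DRing.derivedCompletion I).map φ).hom) := by
  obtain ⟨M, p, δ, hT⟩ := distinguished_cocone_triangle φ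
  have hM : UB (-1) M := by
    intro i hi
    have h1 : Epi ((homologyFunctor (ModuleCat.{u} A) i).map (Triangle.mk φ p δ).mor₁) := by
      by_cases h0 : i = 0
      · subst h0
        exact hepi
      · have := hiso i (by omega)
        exact inferInstanceAs (Epi ((homologyFunctor (ModuleCat.{u} A) i).map φ))
    have h2 : Mono ((homologyFunctor (ModuleCat.{u} A) (i + 1)).map (Triangle.mk φ p δ).mor₁) := by
      have := hiso (i + 1) (by omega)
      exact inferInstanceAs (Mono ((homologyFunctor (ModuleCat.{u} A) (i + 1)).map φ))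
    exact KL.isZero_homology_obj₃ _ hT i (i + 1) rfl h1 h2
  have hM' := (bd_derivedCompletion I s hs M).2 (-1) hM
  obtain ⟨δ', hT'⟩ := exists_distinguished_completion I _ hT
  constructor
  · intro i hi
    exact isIso_homology_mor₁ _ hT' (i - 1) i (by omega) (hM' (i - 1) (by omega)) (hM' i (by omega))
  · exact epi_homology_mor₁ _ hT' 0 (hM' 0 (by omega))

/-- Completion and "isomorphism in degrees `≤ -1`, injection in degree `0`". -/
theorem completion_map_of_neg (s : Finset A) (hs : Ideal.span (s : Set A) = I) {K L : Dual.D A}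
    (φ : K ⟶ L)
    (hiso : ∀ i : ℤ, i ≤ -1 → IsIso ((homologyFunctor (ModuleCat.{u} A) i).map φ))
    (hmono : Mono ((homologyFunctor (ModuleCat.{u} A) 0).map φ)) :
    (∀ i : ℤ, i ≤ -(s.card : ℤ) - 1 → IsIso ((homologyFunctor (ModuleCat.{u} A) i).map
        ((DRing.derivedCompletion I).map φ).hom)) ∧
      Mono ((homologyFunctor (ModuleCat.{u} A) (-(s.card : ℤ))).map
        ((DRing.derivedCompletion I).map φ).hom) := by
  obtain ⟨M, p, δ, hT⟩ := distinguished_cocone_triangle φ
  have hM : LB 0 M := by
    intro i hi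
    have h1 : Epi ((homologyFunctor (ModuleCat.{u} A) i).map (Triangle.mk φ p δ).mor₁) := by
      have := hiso i (by omega)
      exact inferInstanceAs (Epi ((homologyFunctor (ModuleCat.{u} A) i).map φ))
    have h2 : Mono ((homologyFunctor (ModuleCat.{u} A) (i + 1)).map (Triangle.mk φ p δ).mor₁) := by
      by_cases h0 : i + 1 = 0
      · rw [h0]
        exact hmono
      · have := hiso (i + 1) (by omega)
        exact inferInstanceAs (Mono ((homologyFunctor (ModuleCat.{u} A) (i + 1)).map φ))
    exact KL.isZero_homology_obj₃ _ hT i (i + 1) rfl h1 h2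
  have hM' := (bd_derivedCompletion I s hs M).1 0 hM
  obtain ⟨δ', hT'⟩ := exists_distinguished_completion I _ hT
  constructor
  · intro i hi
    exact isIso_homology_mor₁ _ hT' (i - 1) i (by omega) (hM' (i - 1) (by omega)) (hM' i (by omega))
  · exact mono_homology_mor₁ _ hT' (-(s.card : ℤ) - 1) (-(s.card : ℤ)) (by omega)
      (hM' _ (by omega))

end Completion

end Groth.Agent.Lib.Helper35.DCE
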