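import Groth.Agent.Lib.Helper35.RHomCone
import Groth.Agent.Lib.Helper35.Bousfield2
import Groth.Agent.Lib.Helper35.DComplTri

/-! `RHom(K, -)` commutes with derived completion (helper35). -/

set_option autoImplicit false
set_option linter.unusedSectionVars false
universe u

open CategoryTheory CategoryTheory.Limits DerivedCategory CochainComplex HomComplex Pretriangulated

attribute [local instance] HasDerivedCategory.standard

namespace Groth.Agent.Lib.Helper35.RHomCompl

open Groth.Agent.Lib.Helper35.DC Groth.Agent.Lib.Helper35.DCE Groth.Agent.Lib.Helper35.Bousfield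
  Groth.Agent.Lib.Helper35.PiCx Groth.Agent.Lib.Helper35.RHomKInj
  Groth.Agent.Lib.Helper35.RHomPi Groth.Agent.Lib.Helper35.RHomCone

variable {A : Type u} [CommRing A]

section Formal

variable {D : Type*} [Category D]

theorem bijective_precomp_iso {X Y : D} (e : X ≅ Y) (E : D) :
    Function.Bijective (fun ψ : Y ⟶ E => e.hom ≫ ψ) :=
  ⟨fun a b h => (cancel_epi e.hom).1 h, fun a => ⟨e.inv ≫ a, by simp⟩⟩

theorem bijective_precomp_comp {X Y Z : D} (a : X ⟶ Y) (b : Y ⟶ Z) (E : D)
    (ha : Function.Bijective (fun ψ : Y ⟶ E => a ≫ ψ))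
    (hb : Function.Bijective (fun ψ : Z ⟶ E => b ≫ ψ)) :
    Function.Bijective (fun ψ : Z ⟶ E => (a ≫ b) ≫ ψ) := by
  have h : (fun ψ : Z ⟶ E => (a ≫ b) ≫ ψ) =
      (fun ψ : Y ⟶ E => a ≫ ψ) ∘ (fun ψ : Z ⟶ E => b ≫ ψ) := by
    funext ψ
    simp
  rw [h]
  exact ha.comp hb

end Formal

variable (K : DRing.Cx A) [DRing.HasRHomCx K]

/-- The completion step with respect to one element `f`, compatible with `RHom(K, -)`. -/
theorem exists_step_G (f : A) (s : Set A) (C₁ : Dual.D A) (h₁ : ∀ g ∈ s, Pg g C₁) :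
    ∃ (C : Dual.D A) (η : C₁ ⟶ C), (∀ g ∈ s, Pg g C) ∧ Pg f C ∧
      (∀ E, Pg f E → Function.Bijective (fun ψ : C ⟶ E => η ≫ ψ)) ∧
      (∀ E, Pg f E → Function.Bijective (fun ψ : (DRing.RHomCx K).obj C ⟶ E =>
        (DRing.RHomCx K).map η ≫ ψ)) := by
  obtain ⟨J, j, hJ, hj⟩ := Groth.Agent.Lib.Helper32.KInjTower.exists_kInjective_resolution
    (K := Q.objPreimage C₁)
  have : IsIso (Q.map j) := by
    rw [isIso_Q_map_iff_quasiIso]
    exact hj
  let eK : C₁ ≅ Q.obj J := (Q.objObjPreimageIso C₁).symm ≪≫ asIso (Q.map j)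
  have hTinj : (TJ (aw f) J).IsKInjective := isKInjective_TJ (aw f) (flat_aw f) J
  let φ : TJ (aw f) J ⟶ J := εJ (aw f) J
  have hMinj : (mappingCone φ).IsKInjective := isKInjective_mappingCone φ
  have hT := mappingCone_triangle_distinguished φ
  have hT' := rot_of_distTriang _ hT
  have hZ : LOrth (Pg f) ((Q.obj (TJ (aw f) J))⟦(1 : ℤ)⟧) :=
    LOrth_of_mem (Im_shift (aw f)) (Im_shift (aw f) _ 1 (Im_Q (aw f) _))
  have hbij : ∀ E, Pg f E → Function.Bijective
      (fun ψ : Q.obj (mappingCone φ) ⟶ E => Q.map (mappingCone.inr φ) ≫ ψ) := by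
    intro E hE
    exact bijective_precomp _ _ _ hT' hZ E hE
  refine ⟨Q.obj (mappingCone φ), eK.hom ≫ Q.map (mappingCone.inr φ), ?_, ?_, ?_, ?_⟩
  · intro g hg
    have h2 : ROrth (Im (aw g)) (Q.obj J) := (h₁ g hg).of_iso eK
    have h3 := rOrth_TJ (aw f) (flat_aw f) (aw g) (im_aw f g) J h2
    exact ROrth.obj₃ (Im_shift (aw g)) _ hT h3 h2
  · intro Y hY
    exact subsingleton_hom_obj₃ _ hT Y (Y⟦(-1 : ℤ)⟧) (shiftNegShift Y 1)
      (fun g => surj' (aw f) (flat_aw f) J Y hY g)
      (fun h hh => inj' (aw f) (flat_aw f) J _ (Im_shift (aw f) Y (-1) hY) h hh)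
  · intro E hE
    exact bijective_precomp_comp _ _ E (bijective_precomp_iso eK E) (hbij E hE)
  · intro E hE
    rw [Functor.map_comp]
    refine bijective_precomp_comp _ _ E
      (bijective_precomp_iso ((DRing.RHomCx K).mapIso eK) E) ?_
    have hu1 := isIso_rhomUnit K J
    have hu2 := isIso_rhomUnit K (mappingCone φ)
    have hnat := rhomUnit_naturality K (mappingCone.inr φ)
    have hTbij : ∀ q : ℤ, Function.Bijective (fun x : (TJ (aw f) J).X q => f • x) :=
      fun q => bijective_smul_restrict f _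
    have hb := bijective_precomp_homCx_inr K φ f hTbij E hE
    have h4 : (DRing.RHomCx K).map (Q.map (mappingCone.inr φ)) =
        (inv (rhomUnit K J) ≫ Q.map (DRing.homCxMap K (mappingCone.inr φ))) ≫
          rhomUnit K (mappingCone φ) := by
      rw [Category.assoc, hnat, IsIso.inv_hom_id_assoc]
    rw [h4]
    refine bijective_precomp_comp _ _ E ?_
      (bijective_precomp_iso (asIso (rhomUnit K (mappingCone φ))) E)
    exact bijective_precomp_comp _ _ E
      (bijective_precomp_iso (asIso (rhomUnit K J)).symm E) hb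

/-- A reflection `η : L ⟶ C` onto `P` such that `RHom(K, η)` is again a reflection onto `P`. -/
def HasLocG (P : ObjectProperty (Dual.D A)) (L : Dual.D A) : Prop :=
  ∃ (C : Dual.D A) (η : L ⟶ C), P C ∧
    (∀ E, P E → Function.Bijective (fun ψ : C ⟶ E => η ≫ ψ)) ∧
    P ((DRing.RHomCx K).obj C) ∧
    (∀ E, P E → Function.Bijective (fun ψ : (DRing.RHomCx K).obj C ⟶ E =>
      (DRing.RHomCx K).map η ≫ ψ))

theorem hasLocG_PS (s : Finset A) : ∀ L : Dual.D A, HasLocG K (PS (s : Set A)) L := by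
  classical
  induction s using Finset.induction_on with
  | empty =>
    intro L
    refine ⟨L, 𝟙 L, fun g hg => by simp at hg, fun E _ => ?_, fun g hg => by simp at hg,
      fun E _ => ?_⟩
    · exact bijective_precomp_iso (Iso.refl L) E
    · rw [CategoryTheory.Functor.map_id]
      exact bijective_precomp_iso (Iso.refl _) E
  | insert f s _ ih =>
    intro L
    obtain ⟨C₁, η₁, hC₁, hη₁, hGC₁, hGη₁⟩ := ih L
    obtain ⟨C, η, hCs, hCf, hη, hGη⟩ := exists_step_G K f (s : Set A) C₁ hC₁
    have hC : PS ((insert f s : Finset A) : Set A) C := by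
      intro g hg
      simp only [Finset.coe_insert, Set.mem_insert_iff] at hg
      rcases hg with rfl | hg
      · exact hCf
      · exact hCs g hg
    refine ⟨C, η₁ ≫ η, hC, ?_, ?_, ?_⟩
    · intro E hE
      exact bijective_precomp_comp _ _ E (hη₁ E (fun g hg => hE g (by simp [hg])))
        (hη E (hE f (by simp)))
    · intro g hg
      exact pg_RHom K g C (hC g hg)
    · intro E hE
      rw [Functor.map_comp]
      exact bijective_precomp_comp _ _ E (hGη₁ E (fun g hg => hE g (by simp [hg])))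
        (hGη E (hE f (by simp)))

/-- `RHom(K, L^∧)` is the derived completion of `RHom(K, L)`. -/
theorem main (I : Ideal A) (hI : I.FG) [DRing.HasDerivedCompletion I] (L : Dual.D A) :
    DRing.IsDerivedComplete I
        ((DRing.RHomCx K).obj ((DRing.derivedCompletion I).obj L).obj) ∧
      ∀ E : Dual.D A, DRing.IsDerivedComplete I E →
        Function.Bijective
          (fun φ : (DRing.RHomCx K).obj ((DRing.derivedCompletion I).obj L).obj ⟶ E =>
            (DRing.RHomCx K).map (DRing.toDerivedCompletion I L) ≫ φ) := by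
  obtain ⟨s, hs⟩ := hI
  have hP : ∀ X : Dual.D A, DRing.IsDerivedComplete I X ↔ PS (s : Set A) X := by
    intro X
    rw [← hs]
    exact isDerivedComplete_span_iff s X
  obtain ⟨C, η, hC, hη, hGC, hGη⟩ := hasLocG_PS K s L
  set Λ := ((DRing.derivedCompletion I).obj L).obj with hΛdef
  set u := DRing.toDerivedCompletion I L with hudef
  have hΛ : DRing.IsDerivedComplete I Λ := ((DRing.derivedCompletion I).obj L).property
  have hu := fun (E : Dual.D A) (hE : DRing.IsDerivedComplete I E) =>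
    Bousfield.bijective_precomp_unit (DRing.derivedCompletionAdj I) L E hE
  obtain ⟨h, hh⟩ := (hu C ((hP C).2 hC)).2 η
  change u ≫ h = η at hh
  obtain ⟨h', hh'⟩ := (hη Λ ((hP Λ).1 hΛ)).2 u
  change η ≫ h' = u at hh'
  have h1 : h ≫ h' = 𝟙 Λ := by
    apply (hu Λ hΛ).1
    change u ≫ h ≫ h' = u ≫ 𝟙 Λ
    rw [← Category.assoc, hh, hh', Category.comp_id]
  have h2 : h' ≫ h = 𝟙 C := by
    apply (hη C hC).1
    change η ≫ h' ≫ h = η ≫ 𝟙 C
    rw [← Category.assoc, hh', hh, Category.comp_id]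
  let e : Λ ≅ C := ⟨h, h', h1, h2⟩
  have hue : u = η ≫ e.inv := hh'.symm
  refine ⟨?_, fun E hE => ?_⟩
  · rw [hP]
    intro g hg
    exact ROrth.of_iso ((DRing.RHomCx K).mapIso e).symm (hGC g hg)
  · rw [hue, Functor.map_comp]
    exact bijective_precomp_comp _ _ E (hGη E ((hP E).1 hE))
      (bijective_precomp_iso ((DRing.RHomCx K).mapIso e.symm) E)

end Groth.Agent.Lib.Helper35.RHomCompl
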