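import Groth.Agent.Lib.Helper26.AdjKProj
import Groth.Agent.Lib.Helper32.KInjTower
import Mathlib.Algebra.Homology.DerivedCategory.KInjective

/-! K-injective complexes, adjunctions, and maps out of restrictions of scalars (helper35). -/

set_option autoImplicit false

universe w v u

open CategoryTheory CategoryTheory.Limits DerivedCategory

namespace Groth.Agent.Lib.Helper35.CoextAdj

open Groth.Agent.Lib.Helper6.DerivedAdj Groth.Agent.Lib.Helper26.KProjQ
  Groth.Agent.Lib.Helper26.AdjKProj

section KInj

variable {C : Type u} [Category.{v} C] [Abelian C] [HasDerivedCategory.{w} C]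

lemma Q_map_surjective_of_isKInjective (X J : CochainComplex C ℤ) [J.IsKInjective]
    (g : (Q : CochainComplex C ℤ ⥤ DerivedCategory C).obj X ⟶ Q.obj J) :
    ∃ f : X ⟶ J, Q.map f = g := by
  obtain ⟨f', hf'⟩ := (CochainComplex.IsKInjective.Qh_map_bijective
    ((HomotopyCategory.quotient _ _).obj X) J).surjective
      ((quotientCompQhIso C).hom.app X ≫ g ≫ (quotientCompQhIso C).inv.app J)
  obtain ⟨f, rfl⟩ := (HomotopyCategory.quotient _ _).map_surjective f'
  refine ⟨f, ?_⟩
  have h1 := quotientCompQhIso_hom_naturality (C := C) f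
  rw [hf'] at h1
  simp only [Category.assoc, Iso.inv_hom_id_app, Category.comp_id] at h1
  exact ((cancel_epi _).1 h1).symm

lemma nonempty_homotopy_of_Q_map_eq_of_isKInjective {X J : CochainComplex C ℤ} [J.IsKInjective]
    (f g : X ⟶ J)
    (h : (Q : CochainComplex C ℤ ⥤ DerivedCategory C).map f = Q.map g) :
    Nonempty (Homotopy f g) := by
  have h1 := quotientCompQhIso_hom_naturality (C := C) f
  have h2 := quotientCompQhIso_hom_naturality (C := C) g
  rw [h] at h1
  have h3 := (cancel_mono _).1 (h1.trans h2.symm)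
  exact ⟨HomotopyCategory.homotopyOfEq _ _
    ((CochainComplex.IsKInjective.Qh_map_bijective _ J).injective h3)⟩

omit [HasDerivedCategory.{w} C] in
/-- An acyclic K-injective complex is contractible: every map into it is null-homotopic. -/
lemma nonempty_homotopy_zero_of_acyclic_isKInjective {X J : CochainComplex C ℤ} [J.IsKInjective]
    (hJ : J.Acyclic) (f : X ⟶ J) : Nonempty (Homotopy f 0) := by
  have h := CochainComplex.IsKInjective.homotopyZero (𝟙 J) hJ
  have h' := h.compLeft f
  rw [Category.comp_id, comp_zero] at h'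
  exact ⟨h'⟩

end KInj

section Adj

variable {V W : Type u} [Category.{v} V] [Category.{v} W] [Abelian V] [Abelian W]
  {L : V ⥤ W} {R : W ⥤ V} (adj : L ⊣ R) [L.Additive] [R.Additive]

local notation "Lc" => L.mapHomologicalComplex (ComplexShape.up ℤ)
local notation "Rc" => R.mapHomologicalComplex (ComplexShape.up ℤ)
local notation "ηc" => unitC adj (ComplexShape.up ℤ)
local notation "εc" => counitC adj (ComplexShape.up ℤ)

/-- Homotopies transfer along `adjunct`. -/
noncomputable def adjunctHomotopy {K : CochainComplex V ℤ} {Z : CochainComplex W ℤ}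
    {f f' : (Lc).obj K ⟶ Z} (h : Homotopy f f') : Homotopy (adjunct adj f) (adjunct adj f') :=
  (R.mapHomotopy h).compLeft ((ηc).app K)

lemma adjunct_zero {K : CochainComplex V ℤ} {Z : CochainComplex W ℤ} :
    adjunct adj (0 : (Lc).obj K ⟶ Z) = 0 := by
  dsimp only [adjunct]
  rw [Functor.map_zero, comp_zero]

section Exact

variable [L.PreservesHomology]

lemma acyclic_map_left {Y : CochainComplex V ℤ} (hY : Y.Acyclic) :
    ((Lc).obj Y).Acyclic := by
  intro i
  have h : (Y.sc i).Exact := hY i
  exact h.map L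

include adj in
/-- The right adjoint of an exact functor preserves K-injective complexes. -/
lemma isKInjective_map (J : CochainComplex W ℤ) [J.IsKInjective] :
    CochainComplex.IsKInjective ((Rc).obj J) where
  nonempty_homotopy_zero {Y} f hY := by
    have h := CochainComplex.IsKInjective.homotopyZero (adjunctInv adj f) (acyclic_map_left hY)
    have h' := adjunctHomotopy adj h
    rw [adjunct_adjunctInv, adjunct_zero] at h'
    exact ⟨h'⟩

end Exact

section Derived

variable [HasDerivedCategory.{w} W] [L.PreservesHomology]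

include adj in
/-- If `J` is K-injective and `R J` is acyclic, there are no nonzero maps `L X ⟶ J` in the derived
category. -/
lemma Q_map_eq_zero_of_acyclic_map (X : CochainComplex V ℤ) (J : CochainComplex W ℤ)
    [J.IsKInjective] (hJ : ((Rc).obj J).Acyclic)
    (g : (Q : CochainComplex W ℤ ⥤ _).obj ((Lc).obj X) ⟶ Q.obj J) : g = 0 := by
  obtain ⟨g', rfl⟩ := Q_map_surjective_of_isKInjective _ J g
  have := isKInjective_map adj J
  obtain ⟨h⟩ := nonempty_homotopy_zero_of_acyclic_isKInjective hJ (adjunct adj g')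
  have h' := adjunctInvHomotopy adj h
  rw [adjunctInv_adjunct, adjunctInv_zero] at h'
  rw [Q_map_eq_of_homotopy _ _ h', Functor.map_zero]

end Derived

end Adj

section Single

variable {B : Type u} [Ring B]

/-- A complex of `B`-modules is exact at `n` as soon as all maps from `B[-n]` are
null-homotopic. -/
lemma exactAt_of_forall_homotopy_zero (Y : CochainComplex (ModuleCat.{u} B) ℤ) (n : ℤ)
    (h : ∀ c : (HomologicalComplex.single (ModuleCat.{u} B) (ComplexShape.up ℤ) n).obj
      (ModuleCat.of B B) ⟶ Y, Nonempty (Homotopy c 0)) : Y.ExactAt n := by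
  rw [HomologicalComplex.exactAt_iff' Y (n - 1) n (n + 1) (by simp) (by simp),
    ShortComplex.ShortExact.moduleCat_exact_iff_function_exact]
  change Function.Exact (Y.d (n - 1) n).hom (Y.d n (n + 1)).hom
  intro y
  constructor
  · intro hy
    let φ : ModuleCat.of B B ⟶ Y.X n := ModuleCat.ofHom (LinearMap.toSpanSingleton B _ y)
    have hφ : φ ≫ Y.d n (n + 1) = 0 := by
      ext
      simpa [φ] using hy
    obtain ⟨H⟩ := h (HomologicalComplex.mkHomFromSingle φ (by
      intro k hk
      have hk' : n + 1 = k := hk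
      subst hk'
      exact hφ))
    have h1 := H.comm n
    rw [HomologicalComplex.mkHomFromSingle_f, dNext_eq H.hom (show (ComplexShape.up ℤ).Rel n (n + 1) from rfl),
      prevD_eq H.hom (show (ComplexShape.up ℤ).Rel (n - 1) n by simp),
      HomologicalComplex.single_obj_d, zero_comp, zero_add, HomologicalComplex.zero_f,
      add_zero] at h1
    refine ⟨(H.hom n (n - 1)).hom
      ((HomologicalComplex.singleObjXSelf (ComplexShape.up ℤ) n (ModuleCat.of B B)).inv.hom 1), ?_⟩
    have h2 := congrArg (fun ψ => ψ.hom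
      ((HomologicalComplex.singleObjXSelf (ComplexShape.up ℤ) n (ModuleCat.of B B)).inv.hom 1)) h1
    simp only [ModuleCat.hom_comp, LinearMap.comp_apply] at h2
    rw [← h2]
    have h3 : (HomologicalComplex.singleObjXSelf (ComplexShape.up ℤ) n (ModuleCat.of B B)).hom.hom
        ((HomologicalComplex.singleObjXSelf (ComplexShape.up ℤ) n (ModuleCat.of B B)).inv.hom 1) =
          (1 : B) := by
      rw [← LinearMap.comp_apply, ← ModuleCat.hom_comp, Iso.inv_hom_id]
      rfl
    rw [h3]
    simp [φ]
  · rintro ⟨x, rfl⟩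
    rw [← LinearMap.comp_apply, ← ModuleCat.hom_comp, Y.d_comp_d]
    rfl

end Single

section SingleHom

variable {C : Type u} [Category.{v} C] [Abelian C] [HasDerivedCategory.{w} C]

lemma subsingleton_single_hom (M : C) {K K' : DerivedCategory C} (e : K ≅ K') (n : ℤ)
    (h : Subsingleton ((singleFunctor C 0).obj M ⟶ K⟦n⟧)) :
    Subsingleton ((singleFunctor C n).obj M ⟶ K') := by
  let s : ((singleFunctor C n).obj M)⟦n⟧ ≅ (singleFunctor C 0).obj M :=
    ((DerivedCategory.singleFunctors C).shiftIso n 0 n (by omega)).app M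
  refine ⟨fun u v => ?_⟩
  have h1 : s.inv ≫ (u ≫ e.inv)⟦n⟧' = s.inv ≫ (v ≫ e.inv)⟦n⟧' := Subsingleton.elim _ _
  have h2 := (shiftFunctor (DerivedCategory C) n).map_injective ((cancel_epi s.inv).1 h1)
  exact (cancel_mono e.inv).1 h2

lemma subsingleton_single_hom' (M : C) {K K' : DerivedCategory C} (e : K ≅ K') (n : ℤ)
    (h : Subsingleton ((singleFunctor C n).obj M ⟶ K')) :
    Subsingleton ((singleFunctor C 0).obj M ⟶ K⟦n⟧) := by
  let s : ((singleFunctor C n).obj M)⟦n⟧ ≅ (singleFunctor C 0).obj M :=
    ((DerivedCategory.singleFunctors C).shiftIso n 0 n (by omega)).app M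
  refine ⟨fun u v => ?_⟩
  obtain ⟨u', hu'⟩ := (shiftFunctor (DerivedCategory C) n).map_surjective (s.hom ≫ u)
  obtain ⟨v', hv'⟩ := (shiftFunctor (DerivedCategory C) n).map_surjective (s.hom ≫ v)
  have h1 : u' ≫ e.hom = v' ≫ e.hom := Subsingleton.elim _ _
  have h2 : u' = v' := (cancel_mono e.hom).1 h1
  rw [h2, hv'] at hu'
  exact ((cancel_epi s.hom).1 hu').symm

end SingleHom

section Modules

attribute [local instance] HasDerivedCategory.standard

variable {A B : Type u} [CommRing A] [CommRing B] (φ : A →+* B)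

instance coextendScalars_additive : (ModuleCat.coextendScalars.{u, u, u} φ).Additive :=
  (ModuleCat.restrictCoextendScalarsAdj.{u, u, u} φ).right_adjoint_additive

/-- `Hom_A(B, J)` is acyclic when there are no maps `B[-n] ⟶ J` in `D(A)`. -/
lemma acyclic_coext (J : CochainComplex (ModuleCat.{u} A) ℤ) [J.IsKInjective]
    (h : ∀ n : ℤ, Subsingleton ((singleFunctor (ModuleCat.{u} A) n).obj
      ((ModuleCat.restrictScalars.{u} φ).obj (ModuleCat.of B B)) ⟶ Q.obj J)) :
    (((ModuleCat.coextendScalars.{u, u, u} φ).mapHomologicalComplex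
      (ComplexShape.up ℤ)).obj J).Acyclic := by
  intro n
  apply exactAt_of_forall_homotopy_zero
  intro c
  let adj := ModuleCat.restrictCoextendScalarsAdj.{u, u, u} φ
  let ι := (HomologicalComplex.singleMapHomologicalComplex (ModuleCat.restrictScalars.{u} φ)
    (ComplexShape.up ℤ) n).app (ModuleCat.of B B)
  let c' := ι.inv ≫ adjunctInv adj c
  have hc' : Q.map c' = 0 := by
    have := h n
    let e := (singleFunctorIsoCompQ (ModuleCat.{u} A) n).app
      ((ModuleCat.restrictScalars.{u} φ).obj (ModuleCat.of B B))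
    have h1 : e.hom ≫ Q.map c' = e.hom ≫ 0 := Subsingleton.elim _ _
    exact (cancel_epi e.hom).1 h1
  obtain ⟨H⟩ := nonempty_homotopy_of_Q_map_eq_of_isKInjective c' 0
    (by rw [hc', Functor.map_zero])
  have H2 : Homotopy (adjunctInv adj c) 0 :=
    (Homotopy.ofEq (by simp [c'])).trans ((H.compLeft ι.hom).trans (Homotopy.ofEq (by simp)))
  have H3 := adjunctHomotopy adj H2
  rw [adjunct_adjunctInv, adjunct_zero] at H3
  exact ⟨H3⟩

open Groth.Agent.Lib.Helper32 in
/-- If `Hom_{D(A)}(B, K[n]) = 0` for all `n`, then there are no nonzero maps from the restriction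
of an object of `D(B)` to `K`. -/
theorem subsingleton_hom_restrict (K : DerivedCategory (ModuleCat.{u} A))
    (h : ∀ n : ℤ, Subsingleton ((singleFunctor (ModuleCat.{u} A) 0).obj
      ((ModuleCat.restrictScalars.{u} φ).obj (ModuleCat.of B B)) ⟶ K⟦n⟧))
    (E : DerivedCategory (ModuleCat.{u} B)) :
    Subsingleton ((ModuleCat.restrictScalars.{u} φ).mapDerivedCategory.obj E ⟶ K) := by
  obtain ⟨J, f, hJ, hf⟩ := KInjTower.exists_kInjective_resolution (K := Q.objPreimage K)
  have : IsIso (Q.map f) := by
    rw [isIso_Q_map_iff_quasiIso]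
    exact hf
  let eK : K ≅ Q.obj J := (Q.objObjPreimageIso K).symm ≪≫ asIso (Q.map f)
  let X := Q.objPreimage E
  let eE : (ModuleCat.restrictScalars.{u} φ).mapDerivedCategory.obj E ≅
      Q.obj (((ModuleCat.restrictScalars.{u} φ).mapHomologicalComplex (ComplexShape.up ℤ)).obj X) :=
    (ModuleCat.restrictScalars.{u} φ).mapDerivedCategory.mapIso (Q.objObjPreimageIso E).symm ≪≫
      (ModuleCat.restrictScalars.{u} φ).mapDerivedCategoryFactors.app X
  have hJ' := acyclic_coext φ J (fun n => subsingleton_single_hom _ eK n (h n))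
  let adj := ModuleCat.restrictCoextendScalarsAdj.{u, u, u} φ
  refine ⟨fun u v => ?_⟩
  have hu := Q_map_eq_zero_of_acyclic_map adj X J hJ' (eE.inv ≫ u ≫ eK.hom)
  have hv := Q_map_eq_zero_of_acyclic_map adj X J hJ' (eE.inv ≫ v ≫ eK.hom)
  have h1 := (cancel_epi eE.inv).1 (hu.trans hv.symm)
  exact (cancel_mono eK.hom).1 h1

end Modules

end Groth.Agent.Lib.Helper35.CoextAdj
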