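import Mathlib
import Groth.Agent.Lib.Helper35.RHomKInj
import Groth.Agent.Lib.Helper35.CoextAdj

/-! `RHom` out of a flat module placed in degree `0`, computed termwise on K-injective complexes;
composition of two such (helper35). -/

set_option autoImplicit false
universe u

open CategoryTheory CategoryTheory.Limits MonoidalCategory CochainComplex CochainComplex.HomComplex
  DerivedCategory

attribute [local instance] HasDerivedCategory.standard

namespace Groth.Agent.Lib.Helper35.RHomLoc

variable {A : Type u} [CommRing A]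

instance ihom_additive (N : ModuleCat.{u} A) : (ihom N).Additive :=
  (ihom.adjunction N).right_adjoint_additive

/-- the termwise Hom complex `Hom_A(N, J^•)`. -/
noncomputable abbrev homMod (N : ModuleCat.{u} A) : DRing.Cx A ⥤ DRing.Cx A :=
  (ihom N).mapHomologicalComplex (ComplexShape.up ℤ)

/-- `N` placed in degree `0`. -/
noncomputable abbrev sg (N : ModuleCat.{u} A) : DRing.Cx A :=
  (CochainComplex.singleFunctor (ModuleCat.{u} A) 0).obj N

example (N : ModuleCat.{u} A) :
    sg N = (HomologicalComplex.single (ModuleCat.{u} A) (ComplexShape.up ℤ) 0).obj N := rfl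

/-- cochains out of a single module are maps. -/
noncomputable def cochainEquiv (N : ModuleCat.{u} A) (J : DRing.Cx A) (n : ℤ) :
    Cochain (sg N) J n ≃ₗ[A] (N ⟶ J.X n) :=
  { Cochain.fromSingleEquiv (X := N) (K := J) (zero_add n) with
    map_smul' := fun a z => by
      show (HomologicalComplex.singleObjXSelf (ComplexShape.up ℤ) 0 N).inv ≫
          (a • z).v 0 n (zero_add n) = a • ((HomologicalComplex.singleObjXSelf
            (ComplexShape.up ℤ) 0 N).inv ≫ z.v 0 n (zero_add n))
      rw [Cochain.smul_v]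
      exact Linear.comp_smul (R := A) (C := ModuleCat.{u} A) (X := N) _ _ _ a _ }

lemma cochainEquiv_δ (N : ModuleCat.{u} A) (J : DRing.Cx A) (n m : ℤ) (z : Cochain (sg N) J n) :
    cochainEquiv N J m (δ n m z) = cochainEquiv N J n z ≫ J.d n m := by
  obtain ⟨f, rfl⟩ := Cochain.fromSingleMk_surjective z n (zero_add n)
  rw [Cochain.δ_fromSingleMk f (zero_add n) m m (zero_add m)]
  show Cochain.fromSingleEquiv (zero_add m) (Cochain.fromSingleMk (f ≫ J.d n m) (zero_add m)) =
    Cochain.fromSingleEquiv (zero_add n) (Cochain.fromSingleMk f (zero_add n)) ≫ J.d n m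
  rw [Cochain.fromSingleEquiv_fromSingleMk, Cochain.fromSingleEquiv_fromSingleMk]

/-- `Hom•(N[0], J) ≅ Hom_A(N, J^•)`. -/
noncomputable def singleHomIso (N : ModuleCat.{u} A) (J : DRing.Cx A) :
    DRing.homCx (sg N) J ≅ (homMod N).obj J :=
  HomologicalComplex.Hom.isoOfComponents
    (fun n => (cochainEquiv N J n).toModuleIso)
    (fun n m _ => by
      ext z
      exact (cochainEquiv_δ N J n m z).symm)

/-- `Hom_A(N, J^•)` is K-injective for flat `N` and K-injective `J`. -/
theorem isKInjective_homMod (N : ModuleCat.{u} A) [Module.Flat A N] (J : DRing.Cx A)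
    [J.IsKInjective] : ((homMod N).obj J).IsKInjective := by
  have : PreservesFiniteLimits (tensorLeft N) := inferInstance
  have : (tensorLeft N).PreservesHomology := inferInstance
  exact Groth.Agent.Lib.Helper35.CoextAdj.isKInjective_map (ihom.adjunction N) J

/-- `RHom(N[0], Q J) ≅ Q (Hom_A(N, J^•))` for K-injective `J`. -/
theorem nonempty_rhom_single_iso (N : ModuleCat.{u} A) [DRing.HasRHomCx (sg N)] (J : DRing.Cx A)
    [J.IsKInjective] :
    Nonempty ((DRing.RHomCx (sg N)).obj (DRing.toD J) ≅ DRing.toD ((homMod N).obj J)) := by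
  have h2 := Groth.Agent.Lib.Helper35.RHomKInj.isIso_rhomUnit (sg N) J
  exact ⟨(asIso (Groth.Agent.Lib.Helper35.RHomKInj.rhomUnit (sg N) J)).symm ≪≫
    Q.mapIso (singleHomIso N J)⟩

/-- `Hom(N, Hom(N', -)) ≅ Hom(N' ⊗ N, -)`. -/
noncomputable def ihomCompIso (X Y : ModuleCat.{u} A) : ihom X ⋙ ihom Y ≅ ihom (X ⊗ Y) :=
  (((ihom.adjunction Y).comp (ihom.adjunction X)).ofNatIsoLeft
    (tensorLeftTensor X Y).symm).rightAdjointUniq (ihom.adjunction (X ⊗ Y))

/-- `ihom` of isomorphic objects. -/
noncomputable def ihomCongr {X Y : ModuleCat.{u} A} (e : X ≅ Y) : ihom X ≅ ihom Y :=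
  (MonoidalClosed.internalHom.mapIso e.symm.op)

/-- iterated termwise Hom complexes. -/
noncomputable def homModComp (X Y Z : ModuleCat.{u} A) (e : X ⊗ Y ≅ Z) (J : DRing.Cx A) :
    (homMod Y).obj ((homMod X).obj J) ≅ (homMod Z).obj J :=
  HomologicalComplex.Hom.isoOfComponents
    (fun n => (ihomCompIso X Y ≪≫ ihomCongr e).app (J.X n))
    (fun n m _ => ((ihomCompIso X Y ≪≫ ihomCongr e).hom.naturality (J.d n m)).symm)

/-- `RHom(Y, RHom(X, K)) ≅ RHom(X ⊗ Y, K)` for flat modules `X`, `Y` (existence). -/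
theorem nonempty_rhom_comp_iso (X Y Z : ModuleCat.{u} A) [Module.Flat A X] [Module.Flat A Y]
    (e : X ⊗ Y ≅ Z) [DRing.HasRHomCx (sg X)] [DRing.HasRHomCx (sg Y)] [DRing.HasRHomCx (sg Z)]
    (K : Dual.D A) :
    Nonempty ((DRing.RHomCx (sg Y)).obj ((DRing.RHomCx (sg X)).obj K) ≅
      (DRing.RHomCx (sg Z)).obj K) := by
  obtain ⟨J, j, hJ, hj⟩ := Groth.Agent.Lib.Helper35.RHomKInj.hasKInjRes A (Q.objPreimage K)
  have h1 : IsIso (Q.map j) := by
    rw [isIso_Q_map_iff_quasiIso]
    exact hj
  let e0 : K ≅ DRing.toD J := (Q.objObjPreimageIso K).symm ≪≫ asIso (Q.map j)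
  obtain ⟨e1⟩ := nonempty_rhom_single_iso X J
  have := isKInjective_homMod X J
  obtain ⟨e2⟩ := nonempty_rhom_single_iso Y ((homMod X).obj J)
  obtain ⟨e4⟩ := nonempty_rhom_single_iso Z J
  exact ⟨(DRing.RHomCx (sg Y)).mapIso ((DRing.RHomCx (sg X)).mapIso e0 ≪≫ e1) ≪≫ e2 ≪≫
    Q.mapIso (homModComp X Y Z e J) ≪≫ e4.symm ≪≫ (DRing.RHomCx (sg Z)).mapIso e0.symm⟩

open TensorProduct in
/-- `A_g ⊗ A_f ≅ A_{fg}`. -/
noncomputable def awayTensorIso (f g : A) :
    ModuleCat.of A (Localization.Away g) ⊗ ModuleCat.of A (Localization.Away f) ≅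
      ModuleCat.of A (Localization.Away (f * g)) :=
  (((IsLocalization.Away.tensorEquiv (R := A) (Localization.Away g) (r := f)
      (A := Localization.Away f)).toLinearEquiv.restrictScalars A) ≪≫ₗ
    (IsLocalization.algEquiv (Submonoid.powers (f * g))
      (Localization.Away (algebraMap A (Localization.Away g) f))
      (Localization.Away (f * g))).toLinearEquiv).toModuleIso

theorem nonempty_rhom_away_comp_iso (f g : A)
    [DRing.HasRHomCx (sg (ModuleCat.of A (Localization.Away f)))]
    [DRing.HasRHomCx (sg (ModuleCat.of A (Localization.Away g)))]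
    [DRing.HasRHomCx (sg (ModuleCat.of A (Localization.Away (f * g))))] (K : Dual.D A) :
    Nonempty ((DRing.RHomCx (sg (ModuleCat.of A (Localization.Away f)))).obj
        ((DRing.RHomCx (sg (ModuleCat.of A (Localization.Away g)))).obj K) ≅
      (DRing.RHomCx (sg (ModuleCat.of A (Localization.Away (f * g))))).obj K) :=
  nonempty_rhom_comp_iso (ModuleCat.of A (Localization.Away g))
    (ModuleCat.of A (Localization.Away f)) (ModuleCat.of A (Localization.Away (f * g)))
    (awayTensorIso f g) K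

end Groth.Agent.Lib.Helper35.RHomLoc

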