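import Groth.Agent.Lib.Helper35.HomLoc
import Groth.Agent.Lib.Helper35.RHomCompl
import Groth.Agent.Lib.Helper35.RHomLoc

/-! Derived completion as `RHom` out of the extended Čech complex (helper35). -/

set_option autoImplicit false
set_option linter.unusedSectionVars false
universe u

open CategoryTheory CategoryTheory.Limits DerivedCategory CochainComplex HomComplex Pretriangulated

attribute [local instance] HasDerivedCategory.standard

namespace Groth.Agent.Lib.Helper35.CechCompl

open Groth.Agent.Lib.Helper35.DC Groth.Agent.Lib.Helper35.DCE Groth.Agent.Lib.Helper35.Bousfield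
  Groth.Agent.Lib.Helper35.PiCx Groth.Agent.Lib.Helper35.RHomKInj
  Groth.Agent.Lib.Helper35.RHomPi Groth.Agent.Lib.Helper35.RHomCone
  Groth.Agent.Lib.Helper35.HomCone Groth.Agent.Lib.Helper35.RHomCompl

variable {A : Type u} [CommRing A]

section Formal

variable {D : Type*} [Category D]

/-- Two reflections onto the same class of objects are isomorphic. -/
theorem exists_iso_of_reflections (P : ObjectProperty D) {K C C' : D} (η : K ⟶ C) (η' : K ⟶ C')
    (hC : P C) (hC' : P C')
    (h : ∀ E, P E → Function.Bijective (fun ψ : C ⟶ E => η ≫ ψ))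
    (h' : ∀ E, P E → Function.Bijective (fun ψ : C' ⟶ E => η' ≫ ψ)) :
    ∃ e : C ≅ C', η ≫ e.hom = η' := by
  obtain ⟨a, ha⟩ := (h C' hC').2 η'
  change η ≫ a = η' at ha
  obtain ⟨b, hb⟩ := (h' C hC).2 η
  change η' ≫ b = η at hb
  have h1 : a ≫ b = 𝟙 C := by
    apply (h C hC).1
    change η ≫ a ≫ b = η ≫ 𝟙 C
    rw [← Category.assoc, ha, hb, Category.comp_id]
  have h2 : b ≫ a = 𝟙 C' := by
    apply (h' C' hC').1
    change η' ≫ b ≫ a = η' ≫ 𝟙 C'
    rw [← Category.assoc, hb, ha, Category.comp_id]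
  exact ⟨⟨a, b, h1, h2⟩, ha⟩

end Formal

/-- `Hom•(A[0], J) ≅ J`. -/
noncomputable def singleUnitIso (J : DRing.Cx A) :
    DRing.homCx (Groth.Agent.Lib.Helper35.RHomLoc.sg (ModuleCat.of A A)) J ≅ J :=
  HomologicalComplex.Hom.isoOfComponents
    (fun n => ((Groth.Agent.Lib.Helper35.RHomLoc.cochainEquiv (ModuleCat.of A A) J n) ≪≫ₗ
        (ModuleCat.homLinearEquiv (S := A)) ≪≫ₗ
        LinearMap.ringLmapEquivSelf A A (J.X n)).toModuleIso)
    (fun n m _ => by
      ext z
      have h := Groth.Agent.Lib.Helper35.RHomLoc.cochainEquiv_δ (ModuleCat.of A A) J n m z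
      exact (congrArg (fun t => t.hom (1 : A)) h).symm)

/-- The chain-level reflection property: `Q J ⟶ Q (Hom•(X, J))` is a reflection onto the objects
which are derived complete with respect to all elements of `fs`. -/
def Refl (fs : List A) (X : DRing.Cx A) : Prop :=
  ∀ (J : DRing.Cx A) [J.IsKInjective], ∃ η : Q.obj J ⟶ Q.obj (DRing.homCx X J),
    (∀ g ∈ fs, Pg g (Q.obj (DRing.homCx X J))) ∧
    ∀ E : Dual.D A, (∀ g ∈ fs, Pg g E) →
      Function.Bijective (fun ψ : Q.obj (DRing.homCx X J) ⟶ E => η ≫ ψ)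

theorem refl_nil : Refl ([] : List A) (DerCA.extCech (ModuleCat.of A A) []) := by
  intro J _
  refine ⟨(Q.mapIso (singleUnitIso J)).inv, fun g hg => by simp at hg, fun E _ => ?_⟩
  exact bijective_precomp_iso (Q.mapIso (singleUnitIso J)).symm E

theorem refl_cons (f : A) (fs : List A) (X : DRing.Cx A) (ih : Refl fs X) :
    Refl (f :: fs)
      (CochainComplex.mappingCocone (DerCA.locCxUnit (Submonoid.powers f) X)) := by
  intro J _
  have hTinj : (TJ (aw f) J).IsKInjective := isKInjective_TJ (aw f) (flat_aw f) J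
  let ε : TJ (aw f) J ⟶ J := εJ (aw f) J
  have hMinj : (mappingCone ε).IsKInjective := isKInjective_mappingCone ε
  have hT := mappingCone_triangle_distinguished ε
  have hT' := rot_of_distTriang _ hT
  have hZ : LOrth (Pg f) ((Q.obj (TJ (aw f) J))⟦(1 : ℤ)⟧) :=
    LOrth_of_mem (Im_shift (aw f)) (Im_shift (aw f) _ 1 (Im_Q (aw f) _))
  have hbij : ∀ E, Pg f E → Function.Bijective
      (fun ψ : Q.obj (mappingCone ε) ⟶ E => Q.map (mappingCone.inr ε) ≫ ψ) := by
    intro E hE
    exact bijective_precomp _ _ _ hT' hZ E hE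
  have hMf : Pg f (Q.obj (mappingCone ε)) := by
    intro Y hY
    exact subsingleton_hom_obj₃ _ hT Y (Y⟦(-1 : ℤ)⟧) (shiftNegShift Y 1)
      (fun g => surj' (aw f) (flat_aw f) J Y hY g)
      (fun h hh => inj' (aw f) (flat_aw f) J _ (Im_shift (aw f) Y (-1) hY) h hh)
  obtain ⟨ηM, hPS, hrefl⟩ := ih (mappingCone ε)
  set u := DerCA.locCxUnit (Submonoid.powers f) X with hu
  -- the two quasi-isomorphisms
  have hTbij : ∀ q : ℤ, Function.Bijective (fun x : (TJ (aw f) J).X q => f • x) :=
    fun q => bijective_smul_restrict f _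
  have hac1 : HomAcyclic (mappingCocone u) (TJ (aw f) J) :=
    homAcyclic_cocone u _ (fun k => bijective_precomp_locCxUnit (Submonoid.powers f) X _
      (fun q s => isUnit_algebraMap_end_of_bijective f _ (hTbij q) s) k)
  have hq1 : QuasiIso (DRing.homCxMap (mappingCocone u) (mappingCone.inr ε)) :=
    quasiIso_homCxMap_inr _ ε hac1
  have hac2 : HomAcyclic ((DerCA.locCx (Submonoid.powers f)).obj X) (mappingCone ε) :=
    homAcyclic_of_pg f _ _ (fun q => bijective_smul_localizedModule f (X.X q)) hMf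
  have hq2 : QuasiIso (homCxPre (mappingCocone.fst u) (mappingCone ε)) :=
    quasiIso_homCxPre_fst u _ hac2
  have hi1 : IsIso (Q.map (DRing.homCxMap (mappingCocone u) (mappingCone.inr ε))) := by
    rw [isIso_Q_map_iff_quasiIso]
    exact hq1
  have hi2 : IsIso (Q.map (homCxPre (mappingCocone.fst u) (mappingCone ε))) := by
    rw [isIso_Q_map_iff_quasiIso]
    exact hq2
  let e : Q.obj (DRing.homCx X (mappingCone ε)) ≅ Q.obj (DRing.homCx (mappingCocone u) J) :=
    asIso (Q.map (homCxPre (mappingCocone.fst u) (mappingCone ε))) ≪≫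
      (asIso (Q.map (DRing.homCxMap (mappingCocone u) (mappingCone.inr ε)))).symm
  refine ⟨(Q.map (mappingCone.inr ε) ≫ ηM) ≫ e.hom, ?_, ?_⟩
  · intro g hg
    rcases List.mem_cons.1 hg with rfl | hg
    · exact ROrth.of_iso e (pg_homCx X (mappingCone ε) g hMf)
    · exact ROrth.of_iso e (hPS g hg)
  · intro E hE
    refine bijective_precomp_comp _ _ E ?_ (bijective_precomp_iso e E)
    exact bijective_precomp_comp _ _ E (hbij E (hE f (List.mem_cons_self)))
      (hrefl E (fun g hg => hE g (List.mem_cons_of_mem f hg)))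

theorem refl_extCech : ∀ fs : List A, Refl fs (DerCA.extCech (ModuleCat.of A A) fs)
  | [] => refl_nil
  | f :: fs => refl_cons f fs _ (refl_extCech fs)

/-- The derived completion is `RHom` out of the extended Čech complex. -/
theorem main (fs : List A) (I : Ideal A) (hI : Ideal.span {x : A | x ∈ fs} = I)
    [DRing.HasDerivedCompletion I] [DRing.HasRHomCx (DerCA.extCech (ModuleCat.of A A) fs)]
    (K : Dual.D A) :
    Nonempty (((DRing.derivedCompletion I).obj K).obj ≅
      (DRing.RHomCx (DerCA.extCech (ModuleCat.of A A) fs)).obj K) := by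
  classical
  obtain ⟨J, j, hJ, hj⟩ := Groth.Agent.Lib.Helper32.KInjTower.exists_kInjective_resolution
    (K := Q.objPreimage K)
  have : IsIso (Q.map j) := by
    rw [isIso_Q_map_iff_quasiIso]
    exact hj
  let eK : K ≅ Q.obj J := (Q.objObjPreimageIso K).symm ≪≫ asIso (Q.map j)
  obtain ⟨η, hPS, hrefl⟩ := refl_extCech fs J
  let P : ObjectProperty (Dual.D A) := fun X => ∀ g ∈ fs, Pg g X
  have hP : ∀ X : Dual.D A, DRing.IsDerivedComplete I X ↔ P X := by
    intro X
    have h1 : Ideal.span ((fs.toFinset : Finset A) : Set A) = I := by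
      rw [← hI]
      congr 1
      ext x
      simp
    rw [← h1, isDerivedComplete_span_iff]
    constructor
    · intro h g hg
      exact h g (by simpa using hg)
    · intro h g hg
      exact h g (by simpa using hg)
  set Λ := ((DRing.derivedCompletion I).obj K).obj with hΛdef
  set u := DRing.toDerivedCompletion I K with hudef
  have hΛ : DRing.IsDerivedComplete I Λ := ((DRing.derivedCompletion I).obj K).property
  have hu : ∀ E, P E → Function.Bijective (fun ψ : Λ ⟶ E => u ≫ ψ) := fun E hE =>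
    Bousfield.bijective_precomp_unit (DRing.derivedCompletionAdj I) K E ((hP E).2 hE)
  have hη' : ∀ E, P E → Function.Bijective
      (fun ψ : Q.obj (DRing.homCx (DerCA.extCech (ModuleCat.of A A) fs) J) ⟶ E =>
        (eK.hom ≫ η) ≫ ψ) := fun E hE =>
    bijective_precomp_comp _ _ E (bijective_precomp_iso eK E) (hrefl E hE)
  obtain ⟨e, -⟩ := exists_iso_of_reflections P u (eK.hom ≫ η) ((hP Λ).1 hΛ) hPS hu hη'
  have h2 := isIso_rhomUnit (DerCA.extCech (ModuleCat.of A A) fs) J
  exact ⟨e ≪≫ asIso (rhomUnit (DerCA.extCech (ModuleCat.of A A) fs) J) ≪≫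
    ((DRing.RHomCx (DerCA.extCech (ModuleCat.of A A) fs)).mapIso eK).symm⟩

end Groth.Agent.Lib.Helper35.CechCompl
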