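import Groth.Agent.Lib.Helper35.GMPart2

/-! Generalized Čech-type dévissage of the cone of `Γ_𝔞 J ⟶ J` (helper35). -/

set_option autoImplicit false
set_option linter.unusedSectionVars false
universe u

open CategoryTheory CategoryTheory.Limits DerivedCategory Pretriangulated

attribute [local instance] HasDerivedCategory.standard

namespace Groth.Agent.Lib.Helper35.ConeN

open Groth.Agent.Lib.Helper35.DCE Groth.Agent.Lib.Helper35.Bousfield Groth.Agent.Lib.Helper35.GM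
open Groth.Agent.Lib.Helper32 Groth.Agent.Lib.Helper32.GammaNoeth
  Groth.Agent.Lib.Helper32.GammaNoethD Groth.Agent.Lib.Helper32.KInjDerived

variable {A : Type u} [CommRing A]

/-- The cone of `Γ_𝔞 J ⟶ J` satisfies `N`, for every complex `J` of injectives. -/
def ConeN (𝔞 : Ideal A) (N : ObjectProperty (Dual.D A)) : Prop :=
  ∀ J : DRing.Cx A, (∀ q, Module.Baer A (J.X q)) →
    ∃ (W : Dual.D A) (p : Q.obj J ⟶ W) (δ : W ⟶ (Q.obj (Gam 𝔞 J))⟦(1 : ℤ)⟧),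
      Triangle.mk (Q.map (ιΓ 𝔞 J)) p δ ∈ distTriang (Dual.D A) ∧ N W

theorem coneN_bot (N : ObjectProperty (Dual.D A)) (hN0 : ∀ Z : Dual.D A, IsZero Z → N Z) :
    ConeN (⊥ : Ideal A) N := by
  intro J _
  haveI := isIso_ιΓ_bot J
  obtain ⟨W, p, δ, hT⟩ := distinguished_cocone_triangle (Q.map (ιΓ (⊥ : Ideal A) J))
  have hW : IsZero W := (Triangle.isZero₃_iff_isIso₁ _ hT).2 (by
    change IsIso (Q.map (ιΓ (⊥ : Ideal A) J))
    infer_instance)
  exact ⟨W, p, δ, hT, hN0 W hW⟩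

theorem coneN_sup [IsNoetherianRing A] (𝔞 : Ideal A) (f : A) (N : ObjectProperty (Dual.D A))
    (hN : ∀ T ∈ distTriang (Dual.D A), N T.obj₁ → N T.obj₃ → N T.obj₂)
    (hf : ∀ Y : DRing.Cx A, N (Q.obj ((DerCA.locCx (Submonoid.powers f)).obj Y)))
    (h : ConeN 𝔞 N) :
    ConeN (𝔞 ⊔ Ideal.span {f}) N := by
  intro J hJ
  have hJ' : ∀ q, Module.Baer A ((Gam 𝔞 J).X q) := fun q => baer_torsionSub 𝔞 (hJ q)
  obtain ⟨W₂, p₂, δ₂, hT₂, hW₂⟩ := h J hJ
  have hS := sesΓ_shortExact f (Gam 𝔞 J) hJ'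
  have hT₁ : Triangle.mk (Q.map (ιΓ (Ideal.span {f}) (Gam 𝔞 J)))
      (Q.map (DerCA.locCxUnit (Submonoid.powers f) (Gam 𝔞 J)))
      (DerivedCategory.triangleOfSESδ hS) ∈ distTriang (Dual.D A) :=
    DerivedCategory.triangleOfSES_distinguished hS
  have hW₁ : N (Q.obj ((DerCA.locCx (Submonoid.powers f)).obj (Gam 𝔞 J))) := hf _
  obtain ⟨W, p, δ, hT⟩ := distinguished_cocone_triangle
    (Q.map (ιΓ (Ideal.span {f}) (Gam 𝔞 J)) ≫ Q.map (ιΓ 𝔞 J))
  have o := Triangulated.someOctahedron rfl hT₁ hT₂ hT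
  have hW : N W := hN _ o.mem hW₁ hW₂
  let e₁ := Q.mapIso (compIso 𝔞 (Ideal.span {f}) J)
  refine ⟨W, p, δ ≫ e₁.hom⟦(1 : ℤ)⟧', ?_, hW⟩
  refine isomorphic_distinguished _ hT _ ?_
  refine Triangle.isoMk _ _ e₁.symm (Iso.refl _) (Iso.refl _) ?_ ?_ ?_
  · change Q.map (ιΓ (𝔞 ⊔ Ideal.span {f}) J) ≫ 𝟙 _ =
      Q.map (compIso 𝔞 (Ideal.span {f}) J).inv ≫
        Q.map (ιΓ (Ideal.span {f}) (Gam 𝔞 J)) ≫ Q.map (ιΓ 𝔞 J)
    rw [Category.comp_id, ← Functor.map_comp, ← Functor.map_comp, ← compIso_hom_ιΓ,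
      Iso.inv_hom_id_assoc]
  · exact (Category.comp_id _).trans (Category.id_comp _).symm
  · change (δ ≫ e₁.hom⟦(1 : ℤ)⟧') ≫ e₁.inv⟦(1 : ℤ)⟧' = 𝟙 _ ≫ δ
    rw [Category.id_comp, Category.assoc, ← Functor.map_comp, Iso.hom_inv_id,
      CategoryTheory.Functor.map_id, Category.comp_id]

theorem coneN_span [IsNoetherianRing A] (N : ObjectProperty (Dual.D A))
    (hN0 : ∀ Z : Dual.D A, IsZero Z → N Z)
    (hN : ∀ T ∈ distTriang (Dual.D A), N T.obj₁ → N T.obj₃ → N T.obj₂) (s : Finset A)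
    (hs : ∀ f ∈ s, ∀ Y : DRing.Cx A, N (Q.obj ((DerCA.locCx (Submonoid.powers f)).obj Y))) :
    ConeN (Ideal.span (s : Set A)) N := by
  classical
  induction s using Finset.induction_on with
  | empty =>
    rw [Finset.coe_empty, Ideal.span_empty]
    exact coneN_bot N hN0
  | insert f s _ ih =>
    have h1 : Ideal.span ((insert f s : Finset A) : Set A) =
        Ideal.span (s : Set A) ⊔ Ideal.span {f} := by
      rw [Finset.coe_insert, Ideal.span_insert, sup_comm]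
    rw [h1]
    exact coneN_sup _ f N hN (hs f (by simp)) (ih (fun g hg => hs g (by simp [hg])))

end Groth.Agent.Lib.Helper35.ConeN
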