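import Groth.Agent.Lib.Helper29.FormallyEquidim
import Groth.Agent.Lib.Helper29.EquidimCatenary
import Groth.Agent.Lib.Helper29.CplQuotEquidim
import Groth.Agent.Lib.Helper29.FlatAscent4
import Groth.Agent.Lib.Helper29.DepthQuot

/-! Dimension bookkeeping for the completion of a formally catenary local ring (helper35). -/

set_option autoImplicit false
universe u

namespace Groth.Agent.Lib.Helper35.CutoffCpl

open IsLocalRing Groth.Agent.Lib.Helper29

section A

variable (R : Type u) [CommRing R] [IsNoetherianRing R] [IsLocalRing R]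

theorem isEquidim_of_isDomain (D : Type u) [CommRing D] [IsDomain D] : EGA4.IsEquidim D := by
  intro p hp
  have hbot : p = ⊥ := by
    have h1 : (⊥ : Ideal D) ∈ (⊥ : Ideal D).minimalPrimes := by
      rw [Ideal.minimalPrimes_eq_subsingleton_self]
      rfl
    have h2 : minimalPrimes D = {⊥} := by
      change (⊥ : Ideal D).minimalPrimes = {⊥}
      exact Ideal.minimalPrimes_eq_subsingleton_self
    rw [h2] at hp
    exact hp
  subst hbot
  exact ringKrullDim_eq_of_ringEquiv (RingEquiv.quotientBot D)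

/-- In a catenary Noetherian local ring, `dim R/Q + ht (Q/P) = dim R/P` for primes `P ≤ Q`. -/
theorem dim_add_height_map (hcat : CAlg.IsCatenary R) (P Q : Ideal R) [hP : P.IsPrime]
    [hQ : Q.IsPrime] (hPQ : P ≤ Q) :
    ringKrullDim (R ⧸ Q) + (((Q.map (Ideal.Quotient.mk P)).height : ℕ∞) : WithBot ℕ∞) =
      ringKrullDim (R ⧸ P) := by
  haveI : Nontrivial (R ⧸ P) := Ideal.Quotient.nontrivial_iff.mpr hP.ne_top
  haveI : IsLocalRing (R ⧸ P) :=
    IsLocalRing.of_surjective' (Ideal.Quotient.mk P) Ideal.Quotient.mk_surjective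
  have heq : EGA4.IsEquidim (R ⧸ P) := isEquidim_of_isDomain (R ⧸ P)
  have hcat' : CAlg.IsCatenary (R ⧸ P) :=
    Groth.Agent.H46.isCatenary_of_surjective (Ideal.Quotient.mk P) Ideal.Quotient.mk_surjective hcat
  have hQ' : (Q.map (Ideal.Quotient.mk P)).IsPrime :=
    Ideal.map_isPrime_of_surjective Ideal.Quotient.mk_surjective (by rwa [Ideal.mk_ker])
  have key := ringKrullDim_quotient_add_height_of_isEquidim_of_isCatenary (R ⧸ P) heq hcat'
    ⟨Q.map (Ideal.Quotient.mk P), hQ'⟩
  have hcomap : (Q.map (Ideal.Quotient.mk P)).comap (Ideal.Quotient.mk P) = Q := by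
    rw [Ideal.comap_map_of_surjective' _ Ideal.Quotient.mk_surjective, Ideal.mk_ker]
    exact sup_eq_left.mpr hPQ
  rw [ringKrullDim_quotient_quotient P (Q.map (Ideal.Quotient.mk P)), hcomap] at key
  exact key

end A

section B

variable (A : Type u) [CommRing A] [IsLocalRing A] [IsNoetherianRing A]

/-- For a prime `p` of `A` with `A/p` formally equidimensional and a prime `P'` of `Â` containing
`pÂ`: `dim Â/P' + ht (P'/pÂ) = dim A/p`. -/
theorem dim_cpl_quot_add_height (p : Ideal A) [hp : p.IsPrime]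
    (hFE : EGA4.IsFormallyEquidim (A ⧸ p)) (P' : Ideal (EGA4.Cpl A)) [hP' : P'.IsPrime]
    (hle : p.map (algebraMap A (EGA4.Cpl A)) ≤ P') :
    ringKrullDim (EGA4.Cpl A ⧸ P') +
        (((P'.map (Ideal.Quotient.mk (p.map (algebraMap A (EGA4.Cpl A))))).height : ℕ∞) :
          WithBot ℕ∞) = ringKrullDim (A ⧸ p) := by
  haveI := isLocalRing_cpl A
  haveI := isNoetherianRing_cpl A
  have heqC : EGA4.IsEquidim (CplQ A p) := isEquidim_of_ringEquiv (cplQuotientEquiv A p) hFE
  have hcatC : CAlg.IsCatenary (CplQ A p) := isCatenary_of_isAdicComplete (CplQ A p)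
  have hdimC := ringKrullDim_cplQ A p
  have hQ' : (P'.map (Ideal.Quotient.mk (p.map (algebraMap A (EGA4.Cpl A))))).IsPrime :=
    Ideal.map_isPrime_of_surjective Ideal.Quotient.mk_surjective (by rwa [Ideal.mk_ker])
  have key := ringKrullDim_quotient_add_height_of_isEquidim_of_isCatenary (CplQ A p) heqC hcatC
    ⟨P'.map (Ideal.Quotient.mk (p.map (algebraMap A (EGA4.Cpl A)))), hQ'⟩
  have hcomap : (P'.map (Ideal.Quotient.mk (p.map (algebraMap A (EGA4.Cpl A))))).comap
      (Ideal.Quotient.mk (p.map (algebraMap A (EGA4.Cpl A)))) = P' := by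
    rw [Ideal.comap_map_of_surjective' _ Ideal.Quotient.mk_surjective, Ideal.mk_ker]
    exact sup_eq_left.mpr hle
  rw [ringKrullDim_quotient_quotient (p.map (algebraMap A (EGA4.Cpl A)))
    (P'.map (Ideal.Quotient.mk (p.map (algebraMap A (EGA4.Cpl A))))), hcomap, hdimC] at key
  exact key

end B

section C

/-- `dim (R_q / I R_q) = ht (q/I)`. -/
theorem ringKrullDim_localization_quotient_map (R : Type u) [CommRing R] (I q : Ideal R)
    [hq : q.IsPrime] (hIq : I ≤ q) :
    ringKrullDim (Localization.AtPrime q ⧸ I.map (algebraMap R (Localization.AtPrime q))) =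
      (((q.map (Ideal.Quotient.mk I)).height : ℕ∞) : WithBot ℕ∞) := by
  have hprime : (q.map (Ideal.Quotient.mk I)).IsPrime :=
    Ideal.map_isPrime_of_surjective Ideal.Quotient.mk_surjective (by rwa [Ideal.mk_ker])
  have h1 : IsLocalization (Algebra.algebraMapSubmonoid (R ⧸ I) q.primeCompl)
      (Localization.AtPrime q ⧸ I.map (algebraMap R (Localization.AtPrime q))) := inferInstance
  rw [algebraMapSubmonoid_quotient_primeCompl' R hIq] at h1
  exact IsLocalization.AtPrime.ringKrullDim_eq_height (q.map (Ideal.Quotient.mk I)) _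

variable (A B : Type u) [CommRing A] [CommRing B] [Algebra A B]

/-- the dimension of the fibre local ring at `p'` is the height of `p'` in `B/pB`. -/
theorem ringKrullDim_fibLocRing (p' : Ideal B) [hp' : p'.IsPrime] :
    ringKrullDim (EGA4.FibLocRing A B p') =
      (((p'.map (Ideal.Quotient.mk ((p'.under A).map (algebraMap A B)))).height : ℕ∞) :
        WithBot ℕ∞) := by
  have hle : (p'.under A).map (algebraMap A B) ≤ p' := Ideal.map_comap_le
  rw [← ringKrullDim_localization_quotient_map B ((p'.under A).map (algebraMap A B)) p' hle]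
  have heq : (p'.under A).map (algebraMap A (Localization.AtPrime p')) =
      ((p'.under A).map (algebraMap A B)).map (algebraMap B (Localization.AtPrime p')) := by
    rw [Ideal.map_map, ← IsScalarTower.algebraMap_eq]
  exact ringKrullDim_eq_of_ringEquiv (Ideal.quotEquivOfEq heq)

end C

section D

variable (A B : Type u) [CommRing A] [CommRing B] [Algebra A B] [IsNoetherianRing B]

/-- `(S_n)` fibre rings give the `(S_n)` inequality for the fibre local rings. -/
theorem min_le_depth_fibLocRing (n : ℕ)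
    (hS : ∀ (p : Ideal A) [p.IsPrime], LocCoh.HasSk n (p.Fiber B) (p.Fiber B))
    (p' : Ideal B) [hp' : p'.IsPrime] [IsLocalRing (EGA4.FibLocRing A B p')] (d : ℕ)
    (hd : ringKrullDim (EGA4.FibLocRing A B p') = ((d : ℕ) : WithBot ℕ∞)) :
    min (n : ℕ∞) (d : ℕ∞) ≤ LocCoh.depth (EGA4.FibLocRing A B p') (EGA4.FibLocRing A B p') := by
  obtain ⟨q'', hq'', ⟨e⟩⟩ := exists_fiber_prime_equiv_fibLocRing A B p'
  have hNF : IsNoetherianRing ((p'.under A).Fiber B) := isNoetherianRing_fiber A B (p'.under A)
  have hNq : IsNoetherianRing (Localization.AtPrime q'') :=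
    IsLocalization.isNoetherianRing q''.primeCompl _ inferInstance
  have h1 := (hasSk_self_iff n ((p'.under A).Fiber B)).mp (hS (p'.under A)) q''
  rw [depth_self_eq_of_ringEquiv e] at h1
  have h2 : ((q''.height : ℕ∞) : WithBot ℕ∞) = ((d : ℕ) : WithBot ℕ∞) := by
    rw [← hd, ← ringKrullDim_eq_of_ringEquiv e]
    exact (IsLocalization.AtPrime.ringKrullDim_eq_height q'' (Localization.AtPrime q'')).symm
  have h3 : q''.height = (d : ℕ∞) := by exact_mod_cast h2
  rwa [h3] at h1

end D

end Groth.Agent.Lib.Helper35.CutoffCpl
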