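import Groth.Agent.Lib.Helper35.CutoffCplA
import Groth.Agent.Lib.Helper29.FormalFibreCMModule
import Groth.Agent.Lib.Helper29.DepthRees
import Groth.Agent.Lib.Helper93.HeightQuot2
import Groth.Prelude.Def_DualLC

/-! Depth and height bookkeeping for pairs of primes of the completion (helper35). -/

set_option autoImplicit false
universe u

namespace Groth.Agent.Lib.Helper35.CutoffCpl

open IsLocalRing Groth.Agent.Lib.Helper29 TensorProduct

section

variable (A : Type u) [CommRing A] [IsLocalRing A] [IsNoetherianRing A]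

/-- depth of a localization of the completed module as a localization of the base change. -/
theorem depth_localizedModule_cpl (M : Type u) [AddCommGroup M] [Module A M]
    [Module.Finite A M] (p' : Ideal (EGA4.Cpl A)) [p'.IsPrime] :
    LocCoh.depth (Localization.AtPrime p')
        (LocalizedModule p'.primeCompl (AdicCompletion (maximalIdeal A) M)) =
      LocCoh.depth (Localization.AtPrime p')
        (LocalizedModule p'.primeCompl (EGA4.Cpl A ⊗[A] M)) := by
  let e := AdicCompletion.ofTensorProductEquivOfFiniteNoetherian (maximalIdeal A) M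
  let e' := IsLocalizedModule.mapEquiv p'.primeCompl
    (LocalizedModule.mkLinearMap p'.primeCompl (EGA4.Cpl A ⊗[A] M))
    (LocalizedModule.mkLinearMap p'.primeCompl (AdicCompletion (maximalIdeal A) M))
    (Localization.AtPrime p') e
  exact (idealDepth_congr _ e').symm

/-- the fibre local ring is a local ring. -/
theorem isLocalRing_fibLocRing (B : Type u) [CommRing B] [Algebra A B] (p' : Ideal B)
    [p'.IsPrime] : IsLocalRing (EGA4.FibLocRing A B p') := by
  haveI : p'.LiesOver (p'.under A) := ⟨rfl⟩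
  haveI : Nontrivial (EGA4.FibLocRing A B p') := nontrivial_fibLoc (p'.under A) p'
  exact IsLocalRing.of_surjective' (Ideal.Quotient.mk _) Ideal.Quotient.mk_surjective

/-- the depth formula for localizations of the completed module. -/
theorem depth_cpl_eq_add (M : Type u) [AddCommGroup M] [Module A M]
    [Module.Finite A M] (p' : Ideal (EGA4.Cpl A)) [p'.IsPrime] :
    haveI := isLocalRing_fibLocRing A (EGA4.Cpl A) p'
    LocCoh.depth (Localization.AtPrime p')
        (LocalizedModule p'.primeCompl (AdicCompletion (maximalIdeal A) M)) =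
      LocCoh.depth (Localization.AtPrime (p'.under A))
          (LocalizedModule (p'.under A).primeCompl M) +
        LocCoh.depth (EGA4.FibLocRing A (EGA4.Cpl A) p') (EGA4.FibLocRing A (EGA4.Cpl A) p') := by
  haveI := isNoetherianRing_cpl A
  haveI : Module.Flat A (EGA4.Cpl A) := (faithfullyFlat_cpl A).toFlat
  haveI : p'.LiesOver (p'.under A) := ⟨rfl⟩
  haveI := isLocalRing_fibLocRing A (EGA4.Cpl A) p'
  rw [depth_localizedModule_cpl A M p']
  exact depth_localizedModule_tensor_of_flat (R := A) (S := EGA4.Cpl A) (p'.under A) p' M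

end

section Heights

variable (A : Type u) [CommRing A] [IsLocalRing A] [IsNoetherianRing A]

open Groth.Agent.Lib.Helper93.HeightQuot

/-- The relation `ht(q'/p') + ht(p'/pÂ) = ht(q'/qÂ) + ht(q/p)` for primes `p' ≤ q'` of the
completion of a formally catenary, catenary Noetherian local ring, `p = p' ∩ A`, `q = q' ∩ A`. -/
theorem height_relation (hFC : EGA4.IsFormallyCatenary A) (hcatA : CAlg.IsCatenary A)
    (p' q' : PrimeSpectrum (EGA4.Cpl A)) (hpq : p' ≤ q') :
    Order.height (⟨q', hpq⟩ : Set.Ici p') +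
        (p'.asIdeal.map (Ideal.Quotient.mk
          ((p'.asIdeal.under A).map (algebraMap A (EGA4.Cpl A))))).height =
      (q'.asIdeal.map (Ideal.Quotient.mk
          ((q'.asIdeal.under A).map (algebraMap A (EGA4.Cpl A))))).height +
        Order.height (⟨PrimeSpectrum.comap (algebraMap A (EGA4.Cpl A)) q',
          (Ideal.comap_mono hpq : PrimeSpectrum.comap (algebraMap A (EGA4.Cpl A)) p' ≤
            PrimeSpectrum.comap (algebraMap A (EGA4.Cpl A)) q')⟩ :
          Set.Ici (PrimeSpectrum.comap (algebraMap A (EGA4.Cpl A)) p')) := by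
  haveI := isLocalRing_cpl A
  haveI := isNoetherianRing_cpl A
  have hcatB : CAlg.IsCatenary (EGA4.Cpl A) := isCatenary_cpl A
  set p : PrimeSpectrum A := PrimeSpectrum.comap (algebraMap A (EGA4.Cpl A)) p' with hp
  set q : PrimeSpectrum A := PrimeSpectrum.comap (algebraMap A (EGA4.Cpl A)) q' with hq
  have hpqA : p ≤ q := Ideal.comap_mono hpq
  have E1 := dim_cpl_quot_add_height A p.asIdeal (hFC p.asIdeal) p'.asIdeal Ideal.map_comap_le
  have E2 := dim_cpl_quot_add_height A q.asIdeal (hFC q.asIdeal) q'.asIdeal Ideal.map_comap_le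
  have E3 := dim_add_height_map (EGA4.Cpl A) hcatB p'.asIdeal q'.asIdeal hpq
  have E4 := dim_add_height_map A hcatA p.asIdeal q.asIdeal hpqA
  rw [height_map_eq_height_Ici p' q' hpq] at E3
  rw [height_map_eq_height_Ici p q hpqA] at E4
  -- `b = dim Â/q'` is a natural number
  haveI : Nontrivial (EGA4.Cpl A ⧸ q'.asIdeal) :=
    Ideal.Quotient.nontrivial_iff.mpr q'.isPrime.ne_top
  haveI : IsLocalRing (EGA4.Cpl A ⧸ q'.asIdeal) :=
    IsLocalRing.of_surjective' (Ideal.Quotient.mk _) Ideal.Quotient.mk_surjective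
  obtain ⟨b, hb⟩ := exists_nat_ringKrullDim_eq (EGA4.Cpl A ⧸ q'.asIdeal)
  have hsum : ringKrullDim (EGA4.Cpl A ⧸ q'.asIdeal) +
      ((Order.height (⟨q', hpq⟩ : Set.Ici p') +
        (p'.asIdeal.map (Ideal.Quotient.mk
          ((p'.asIdeal.under A).map (algebraMap A (EGA4.Cpl A))))).height : ℕ∞) : WithBot ℕ∞) =
      ringKrullDim (EGA4.Cpl A ⧸ q'.asIdeal) +
      (((q'.asIdeal.map (Ideal.Quotient.mk
          ((q'.asIdeal.under A).map (algebraMap A (EGA4.Cpl A))))).height +
        Order.height (⟨q, hpqA⟩ : Set.Ici p) : ℕ∞) : WithBot ℕ∞) := by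
    push_cast
    rw [← add_assoc, E3, ← add_assoc]
    rw [show (p'.asIdeal.under A) = p.asIdeal from rfl, E1]
    rw [show (q'.asIdeal.under A) = q.asIdeal from rfl, E2, E4]
  rw [hb] at hsum
  have hcancel : ∀ (X Y : ℕ∞), ((b : ℕ) : WithBot ℕ∞) + (X : WithBot ℕ∞) =
      ((b : ℕ) : WithBot ℕ∞) + (Y : WithBot ℕ∞) → X = Y := by
    intro X Y h
    have h' : (((b : ℕ∞) + X : ℕ∞) : WithBot ℕ∞) = (((b : ℕ∞) + Y : ℕ∞) : WithBot ℕ∞) := by
      push_cast
      exact h
    have h'' : (b : ℕ∞) + X = (b : ℕ∞) + Y := WithBot.coe_injective h'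
    exact ENat.add_right_injective_of_ne_top (ENat.natCast_ne_top b) h''
  exact hcancel _ _ hsum

end Heights

end Groth.Agent.Lib.Helper35.CutoffCpl
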