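import Groth.Agent.Lib.Helper28.TensCx5

/-! Splitting of the mapping cylinder sequence when the cokernel is contractible (helper35). -/

set_option autoImplicit false
universe u v

open CategoryTheory CategoryTheory.Limits

namespace Groth.Agent.Lib.Helper35.CylSplit

section General

variable {A : Type u} [Category.{v} A] [Abelian A]

/-- A degreewise split epimorphism of cochain complexes onto a contractible complex has a section
which is a morphism of complexes. -/
theorem exists_section_of_homotopy {Z C : CochainComplex A ℤ} (π : Z ⟶ C)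
    (s : ∀ q : ℤ, C.X q ⟶ Z.X q) (hs : ∀ q : ℤ, s q ≫ π.f q = 𝟙 _) (h : Homotopy (𝟙 C) 0) :
    ∃ σ : C ⟶ Z, σ ≫ π = 𝟙 C := by
  have key : ∀ p q : ℤ, p + 1 = q →
      h.hom q (q - 1) ≫ s (q - 1) ≫ Z.d (q - 1) q = h.hom q p ≫ s p ≫ Z.d p q := by
    intro p q hpq
    obtain rfl : p = q - 1 := by omega
    rfl
  let σ : C ⟶ Z :=
    { f := fun q => h.hom q (q - 1) ≫ s (q - 1) ≫ Z.d (q - 1) q +
        C.d q (q + 1) ≫ h.hom (q + 1) q ≫ s q
      comm' := by
        intro i j hij
        obtain rfl : j = i + 1 := hij.symm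
        rw [key i (i + 1) rfl]
        simp only [Preadditive.add_comp, Preadditive.comp_add, Category.assoc,
          HomologicalComplex.d_comp_d, comp_zero, zero_add, HomologicalComplex.d_comp_d_assoc,
          zero_comp, add_zero] }
  refine ⟨σ, ?_⟩
  ext q
  have h1 := h.comm q
  rw [dNext_eq h.hom (show (ComplexShape.up ℤ).Rel q (q + 1) from rfl),
    prevD_eq h.hom (show (ComplexShape.up ℤ).Rel (q - 1) q by simp)] at h1
  simp only [HomologicalComplex.zero_f, add_zero] at h1
  rw [HomologicalComplex.comp_f, h1]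
  change (h.hom q (q - 1) ≫ s (q - 1) ≫ Z.d (q - 1) q +
        C.d q (q + 1) ≫ h.hom (q + 1) q ≫ s q) ≫ π.f q = _
  rw [Preadditive.add_comp, Category.assoc, Category.assoc, Category.assoc, Category.assoc, hs,
    Category.comp_id, ← π.comm, ← Category.assoc (s (q - 1)), hs, Category.id_comp, add_comm]

/-- A short exact sequence of cochain complexes which is degreewise split and has a contractible
cokernel is split. -/
theorem nonempty_iso_biprod_of_homotopy (S : ShortComplex (CochainComplex A ℤ))
    (hS : S.ShortExact) (s : ∀ q : ℤ, S.X₃.X q ⟶ S.X₂.X q)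
    (hs : ∀ q : ℤ, s q ≫ S.g.f q = 𝟙 _) (h : Homotopy (𝟙 S.X₃) 0) :
    Nonempty (S.X₂ ≅ S.X₁ ⊞ S.X₃) := by
  obtain ⟨σ, hσ⟩ := exists_section_of_homotopy S.g s hs h
  haveI := hS.mono_f
  exact ⟨(ShortComplex.Splitting.ofExactOfSection S hS.exact σ hσ hS.mono_f).isoBinaryBiproduct⟩

end General

end Groth.Agent.Lib.Helper35.CylSplit
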