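import Groth.Agent.Lib.Helper35.DCSeq
import Mathlib.RingTheory.AdicCompletion.Basic

/-! Adically complete modules have bijective `T_f` (helper35). -/

universe u

namespace Groth.Agent.Lib.Helper35.DC

variable {A : Type*} [CommRing A] (I : Ideal A) (M : Type*) [AddCommGroup M] [Module A M]

theorem shiftT_injective_of_isHausdorff [IsHausdorff I M] (f : A) (hf : f ∈ I) :
    Function.Injective (shiftT f M) := by
  rw [shiftT_injective_iff]
  intro m hm
  rw [shiftT_eq_zero_iff] at hm
  have h1 : ∀ n i, m i = f ^ n • m (i + n) := by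
    intro n
    induction n with
    | zero => intro i; simp
    | succ n ih =>
      intro i
      rw [ih i, hm (i + n), smul_smul, ← pow_succ, add_assoc]
  funext i
  apply IsHausdorff.haus ‹IsHausdorff I M›
  intro n
  rw [SModEq.zero, h1 n i]
  exact Submodule.smul_mem_smul (Ideal.pow_mem_pow hf n) Submodule.mem_top

theorem shiftT_surjective_of_isPrecomplete [IsHausdorff I M] [IsPrecomplete I M] (f : A)
    (hf : f ∈ I) : Function.Surjective (shiftT f M) := by
  intro c
  let S : ℕ → ℕ → M := fun i k => ∑ j ∈ Finset.range k, f ^ j • c (i + j)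
  have hmono : ∀ {a b : ℕ}, a ≤ b → (I ^ b • ⊤ : Submodule A M) ≤ I ^ a • ⊤ := fun h =>
    Submodule.smul_mono_left (Ideal.pow_le_pow_right h)
  have hS : ∀ i {k k' : ℕ}, k ≤ k' → S i k ≡ S i k' [SMOD (I ^ k • ⊤ : Submodule A M)] := by
    intro i k k' hkk'
    induction k', hkk' using Nat.le_induction with
    | base => exact SModEq.refl _
    | succ k' hk' ih =>
      refine ih.trans ?_
      rw [SModEq.sub_mem]
      have : S i k' - S i (k' + 1) = - (f ^ k' • c (i + k')) := by
        simp only [S, Finset.sum_range_succ]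
        abel
      rw [this]
      exact Submodule.neg_mem _ (hmono hk'
        (Submodule.smul_mem_smul (Ideal.pow_mem_pow hf k') Submodule.mem_top))
  choose L hL using fun i => IsPrecomplete.prec ‹IsPrecomplete I M› (hS i)
  refine ⟨L, ?_⟩
  funext i
  rw [shiftT_apply, ← sub_eq_zero]
  apply IsHausdorff.haus ‹IsHausdorff I M›
  intro n
  rw [SModEq.zero]
  have h1 : S i (n + 1) = c i + f • S (i + 1) n := by
    simp only [S]
    rw [Finset.sum_range_succ', Finset.smul_sum, add_comm]
    congr 1
    · simp
    · refine Finset.sum_congr rfl fun j _ => ?_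
      rw [smul_smul, ← pow_succ', add_assoc, add_comm 1 j]
  have h2 : L i - S i (n + 1) ∈ (I ^ n • ⊤ : Submodule A M) := by
    have := (hL i (n + 1)).symm
    rw [SModEq.sub_mem] at this
    exact hmono (Nat.le_succ n) this
  have h3 : f • (S (i + 1) n - L (i + 1)) ∈ (I ^ n • ⊤ : Submodule A M) := by
    have := hL (i + 1) n
    rw [SModEq.sub_mem] at this
    exact Submodule.smul_mem _ _ this
  have h4 : L i - f • L (i + 1) - c i = (L i - S i (n + 1)) + f • (S (i + 1) n - L (i + 1)) := by
    rw [h1, smul_sub]
    abel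
  rw [h4]
  exact Submodule.add_mem _ h2 h3

theorem shiftT_bijective_of_isAdicComplete [IsAdicComplete I M] (f : A) (hf : f ∈ I) :
    Function.Bijective (shiftT f M) :=
  ⟨shiftT_injective_of_isHausdorff I M f hf, shiftT_surjective_of_isPrecomplete I M f hf⟩

end Groth.Agent.Lib.Helper35.DC
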