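import Groth.Agent.Lib.Helper35.DCObj
import Mathlib.Algebra.Homology.ShortComplex.ModuleCat
import Mathlib.LinearAlgebra.FreeModule.Finite.Basic

/-! `T_f` on the cohomology of a complex with termwise bijective `T_f` (helper35). -/

universe u

namespace Groth.Agent.Lib.Helper35.DC

open CategoryTheory Limits DerivedCategory

section Pi

variable {A : Type*} [CommRing A] (f : A)

theorem shiftT_bijective_pi {ι : Type*} (M : ι → Type*) [∀ j, AddCommGroup (M j)]
    [∀ j, Module A (M j)] (h : ∀ j, Function.Bijective (shiftT f (M j))) :
    Function.Bijective (shiftT f (∀ j, M j)) := by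
  constructor
  · intro m m' hmm
    funext n j
    have h1 : shiftT f (M j) (fun n => m n j) = shiftT f (M j) (fun n => m' n j) := by
      funext n
      have := congrFun (congrFun hmm n) j
      simpa [shiftT_apply] using this
    exact congrFun ((h j).1 h1) n
  · intro c
    choose m hm using fun j => (h j).2 (fun n => c n j)
    refine ⟨fun n j => m j n, ?_⟩
    funext n j
    have := congrFun (hm j) n
    simpa [shiftT_apply] using this

theorem shiftT_bijective_of_finite_free (M : Type*) [AddCommGroup M] [Module A M]
    [Module.Finite A M] [Module.Free A M] (h : Function.Bijective (shiftT f A)) :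
    Function.Bijective (shiftT f M) := by
  let b := Module.Free.chooseBasis A M
  have h1 : Function.Bijective (shiftT f (Module.Free.ChooseBasisIndex A M → A)) :=
    shiftT_bijective_pi f (fun _ => A) (fun _ => h)
  exact shiftT_bijective_of_linearEquiv f b.equivFun.symm h1

end Pi

attribute [local instance] HasDerivedCategory.standard

variable {A : Type u} [CommRing A] (f : A)

theorem shiftT_bijective_homology (E : CochainComplex (ModuleCat.{u} A) ℤ)
    (h : ∀ i, Function.Bijective (shiftT f (E.X i))) (i : ℤ) :
    Function.Bijective (shiftT f ((homologyFunctor (ModuleCat.{u} A) i).obj (Q.obj E))) := by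
  let S := E.sc i
  have hK : Function.Bijective (shiftT f (LinearMap.ker S.g.hom)) :=
    shiftT_bijective_ker f S.g.hom (h _) (h _).1
  have hH : Function.Bijective
      (shiftT f (LinearMap.ker S.g.hom ⧸ LinearMap.range S.moduleCatToCycles)) :=
    shiftT_bijective_quotient_range f S.moduleCatToCycles (h _).2 hK
  let e : (homologyFunctor (ModuleCat.{u} A) i).obj (Q.obj E) ≅
      ModuleCat.of A (LinearMap.ker S.g.hom ⧸ LinearMap.range S.moduleCatToCycles) :=
    (homologyFunctorFactors (ModuleCat.{u} A) i).app E ≪≫ S.moduleCatHomologyIso
  exact shiftT_bijective_of_linearEquiv f e.symm.toLinearEquiv hH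

end Groth.Agent.Lib.Helper35.DC
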