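import Groth.Agent.Lib.Helper35.DCSeq
import Mathlib.RingTheory.Ideal.Operations

/-! Derived Nakayama in terms of the operators `T_f` (helper35). -/

universe u

namespace Groth.Agent.Lib.Helper35.DC

variable {A : Type*} [CommRing A]

/-- If `T_g` is injective and `g M = M` then `M = 0`. -/
theorem subsingleton_of_shiftT_injective_of_smul_surjective (g : A) (M : Type*) [AddCommGroup M]
    [Module A M] (hT : Function.Injective (shiftT g M)) (hg : ∀ m : M, ∃ m', g • m' = m) :
    Subsingleton M := by
  refine ⟨fun x y => ?_⟩
  suffices h : ∀ m₀ : M, m₀ = 0 by rw [h x, h y]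
  intro m₀
  choose next hnext using hg
  let m : ℕ → M := fun i => Nat.rec m₀ (fun _ p => next p) i
  have hm : shiftT g M m = 0 := by
    rw [shiftT_eq_zero_iff]
    intro i
    exact (hnext (m i)).symm
  have h1 := (shiftT_injective_iff g).mp hT m hm
  exact congrFun h1 0

theorem subsingleton_of_forall_shiftT_bijective {A : Type u} [CommRing A] (s : Finset A) :
    ∀ (M : Type u) [AddCommGroup M] [Module A M],
      (∀ f ∈ s, Function.Bijective (shiftT f M)) →
      (Ideal.span (s : Set A)) • (⊤ : Submodule A M) = ⊤ → Subsingleton M := by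
  classical
  induction s using Finset.induction_on with
  | empty =>
    intro M _ _ _ h
    rw [Finset.coe_empty, Ideal.span_empty, Submodule.bot_smul] at h
    exact (Submodule.subsingleton_iff A).mp (subsingleton_of_bot_eq_top h)
  | insert g s hg ih =>
    intro M _ _ hT hM
    let u : M →ₗ[A] M := LinearMap.lsmul A M g
    have hT' : ∀ f ∈ s, Function.Bijective (shiftT f (M ⧸ LinearMap.range u)) := fun f hf =>
      shiftT_bijective_quotient_range f u (hT f (Finset.mem_insert_of_mem hf)).2
        (hT f (Finset.mem_insert_of_mem hf))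
    have hkill : (Ideal.span ({g} : Set A)) • (⊤ : Submodule A (M ⧸ LinearMap.range u)) = ⊥ := by
      rw [eq_bot_iff, Submodule.smul_le]
      intro a ha x _
      obtain ⟨c, rfl⟩ := Ideal.mem_span_singleton'.mp ha
      obtain ⟨m, rfl⟩ := Submodule.mkQ_surjective _ x
      rw [Submodule.mem_bot, ← map_smul, ← LinearMap.mem_ker, Submodule.ker_mkQ]
      exact ⟨c • m, by simp [u, smul_smul, mul_comm]⟩
    have hM' : (Ideal.span (s : Set A)) • (⊤ : Submodule A (M ⧸ LinearMap.range u)) = ⊤ := by
      have h1 : (⊤ : Submodule A (M ⧸ LinearMap.range u)) =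
          Submodule.map (LinearMap.range u).mkQ ⊤ := by
        rw [Submodule.map_top, LinearMap.range_eq_top.mpr (Submodule.mkQ_surjective _)]
      have h2 : (Ideal.span ((insert g s : Finset A) : Set A)) •
          (⊤ : Submodule A (M ⧸ LinearMap.range u)) = ⊤ := by
        conv_lhs => rw [h1, ← Submodule.map_smul'', hM]
        exact h1.symm
      rw [Finset.coe_insert, Ideal.span_insert, Submodule.sup_smul, hkill, bot_sup_eq] at h2
      exact h2
    have hsub := ih (M ⧸ LinearMap.range u) hT' hM'
    have hrange : LinearMap.range u = ⊤ := Submodule.Quotient.subsingleton_iff.mp hsub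
    have hsurj : ∀ m : M, ∃ m', g • m' = m := fun m => by
      have : m ∈ LinearMap.range u := by rw [hrange]; trivial
      obtain ⟨m', hm'⟩ := this
      exact ⟨m', hm'⟩
    exact subsingleton_of_shiftT_injective_of_smul_surjective g M
      (hT g (Finset.mem_insert_self _ _)).1 hsurj

end Groth.Agent.Lib.Helper35.DC
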