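import Mathlib.Algebra.Module.LinearMap.Basic
import Mathlib.Algebra.Module.Submodule.Ker
import Mathlib.Algebra.Module.Submodule.Range
import Mathlib.LinearAlgebra.Quotient.Basic
import Mathlib.Tactic.Abel

/-! Algebra of the operator `(m_i) ↦ (m_i - f m_{i+1})` (helper35). -/

universe u

namespace Groth.Agent.Lib.Helper35.DC

variable {A : Type*} [CommRing A] (f : A)

/-- The operator `(m_i) ↦ (m_i - f m_{i+1})` on sequences. -/
def shiftT (M : Type*) [AddCommGroup M] [Module A M] (m : ℕ → M) : ℕ → M :=
  fun i => m i - f • m (i + 1)

section Basic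

variable {M N : Type*} [AddCommGroup M] [Module A M] [AddCommGroup N] [Module A N]

theorem shiftT_apply (m : ℕ → M) (i : ℕ) : shiftT f M m i = m i - f • m (i + 1) := rfl

theorem shiftT_comp (u : M →ₗ[A] N) (m : ℕ → M) :
    shiftT f N (fun i => u (m i)) = fun i => u (shiftT f M m i) := by
  funext i
  simp [shiftT_apply]

theorem shiftT_sub (m m' : ℕ → M) : shiftT f M (m - m') = shiftT f M m - shiftT f M m' := by
  funext i
  simp only [shiftT_apply, Pi.sub_apply, smul_sub]
  abel

theorem shiftT_zero : shiftT f M (0 : ℕ → M) = 0 := by
  funext i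
  simp [shiftT_apply]

theorem shiftT_injective_iff :
    Function.Injective (shiftT f M) ↔ ∀ m : ℕ → M, shiftT f M m = 0 → m = 0 := by
  constructor
  · intro h m hm
    exact h (hm.trans (shiftT_zero f).symm)
  · intro h m m' hmm
    have := h (m - m') (by rw [shiftT_sub, hmm, sub_self])
    exact sub_eq_zero.mp this

/-- kernel of `T` : sequences with `m_i = f m_{i+1}`. -/
theorem shiftT_eq_zero_iff (m : ℕ → M) : shiftT f M m = 0 ↔ ∀ i, m i = f • m (i + 1) := by
  constructor
  · intro h i
    have := congrFun h i
    exact sub_eq_zero.mp this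
  · intro h
    funext i
    exact sub_eq_zero.mpr (h i)

end Basic

section KerCoker

variable {M N : Type*} [AddCommGroup M] [Module A M] [AddCommGroup N] [Module A N]
  (u : M →ₗ[A] N)

theorem shiftT_bijective_ker (hM : Function.Bijective (shiftT f M))
    (hN : Function.Injective (shiftT f N)) :
    Function.Bijective (shiftT f (LinearMap.ker u)) := by
  constructor
  · rw [shiftT_injective_iff]
    intro k hk
    have h1 : shiftT f M (fun i => (k i : M)) = 0 := by
      have := shiftT_comp f (LinearMap.ker u).subtype k
      simp only [Submodule.subtype_apply] at this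
      rw [this, hk]
      funext i
      simp
    have h2 := (shiftT_injective_iff f).mp hM.1 _ h1
    funext i
    exact Subtype.ext (congrFun h2 i)
  · intro c
    obtain ⟨m, hm⟩ := hM.2 (fun i => (c i : M))
    have h1 : shiftT f N (fun i => u (m i)) = 0 := by
      rw [shiftT_comp, hm]
      funext i
      exact (c i).2
    have h2 := (shiftT_injective_iff f).mp hN _ h1
    refine ⟨fun i => ⟨m i, congrFun h2 i⟩, ?_⟩
    funext i
    apply Subtype.ext
    have := congrFun hm i
    simpa [shiftT_apply] using this

theorem shiftT_bijective_quotient_range (hM : Function.Surjective (shiftT f M))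
    (hN : Function.Bijective (shiftT f N)) :
    Function.Bijective (shiftT f (N ⧸ LinearMap.range u)) := by
  constructor
  · rw [shiftT_injective_iff]
    intro c hc
    choose n hn using fun i => Submodule.mkQ_surjective (LinearMap.range u) (c i)
    have h1 : ∀ i, shiftT f N n i ∈ LinearMap.range u := by
      intro i
      have h2 := shiftT_comp f (LinearMap.range u).mkQ n
      have h3 : (fun i => (LinearMap.range u).mkQ (n i)) = c := funext hn
      rw [h3, hc] at h2
      have := congrFun h2 i
      rw [← Submodule.ker_mkQ (LinearMap.range u)]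
      exact this.symm
    choose m hm using h1
    obtain ⟨m', hm'⟩ := hM m
    have h4 : shiftT f N (fun i => u (m' i)) = shiftT f N n := by
      rw [shiftT_comp, hm']
      funext i
      exact hm i
    have h5 := hN.1 h4
    funext i
    rw [← hn i, ← congrFun h5 i]
    change (LinearMap.range u).mkQ (u (m' i)) = 0
    rw [← LinearMap.mem_ker, Submodule.ker_mkQ]
    exact ⟨m' i, rfl⟩
  · intro c
    choose n hn using fun i => Submodule.mkQ_surjective (LinearMap.range u) (c i)
    obtain ⟨n', hn'⟩ := hN.2 n
    refine ⟨fun i => (LinearMap.range u).mkQ (n' i), ?_⟩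
    rw [shiftT_comp, hn']
    exact funext hn

end KerCoker

end Groth.Agent.Lib.Helper35.DC
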