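import Groth.Agent.Lib.Helper35.DCExt
import Groth.Agent.Lib.Helper35.DCSeq
import Mathlib.Algebra.Category.ModuleCat.Projective
import Mathlib.Algebra.Homology.ShortComplex.ModuleCat
import Mathlib.RingTheory.Localization.Away.AdjoinRoot
import Mathlib.Algebra.Polynomial.Basis

/-! The two-term free resolution of `A_f` and derived `f`-completeness of modules (helper35). -/

universe u

namespace Groth.Agent.Lib.Helper35.DC

open CategoryTheory Abelian Limits Polynomial

variable {A : Type u} [CommRing A] (f : A)

/-- Multiplication by `fX - 1` on `A[X]`. -/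
noncomputable def mulFX : A[X] →ₗ[A] A[X] := LinearMap.mulLeft A (C f * X - 1)

theorem mulFX_apply (q : A[X]) : mulFX f q = (C f * X - 1) * q := rfl

theorem mulFX_injective : Function.Injective (mulFX f) := by
  rw [injective_iff_map_eq_zero]
  intro q hq
  rw [mulFX_apply] at hq
  have h0 : ∀ n, q.coeff n = 0 := by
    intro n
    induction n with
    | zero =>
      have := congrArg (fun p => p.coeff 0) hq
      simpa [sub_mul, mul_assoc] using this
    | succ n ih =>
      have := congrArg (fun p => p.coeff (n + 1)) hq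
      simp only [sub_mul, mul_assoc, one_mul, coeff_sub, coeff_C_mul, coeff_X_mul, coeff_zero,
        ih, mul_zero, zero_sub, neg_eq_zero] at this
      exact this
  ext n
  simp [h0 n]

/-- The evaluation `A[X] → A_f`, `X ↦ 1/f`, as the composite `A[X] → A[X]/(fX - 1) ≃ A_f`. -/
noncomputable def evAway : A[X] →ₗ[A] Localization.Away f :=
  (Localization.awayEquivAdjoin f).symm.toLinearMap ∘ₗ
    (AdjoinRoot.mkₐ (C f * X - 1)).toLinearMap

theorem evAway_surjective : Function.Surjective (evAway f) :=
  (Localization.awayEquivAdjoin f).symm.surjective.comp AdjoinRoot.mk_surjective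

theorem evAway_eq_zero_iff (p : A[X]) : evAway f p = 0 ↔ (C f * X - 1) ∣ p := by
  change (Localization.awayEquivAdjoin f).symm (AdjoinRoot.mk _ p) = 0 ↔ _
  rw [EmbeddingLike.map_eq_zero_iff, AdjoinRoot.mk_eq_zero]

theorem exact_mulFX_evAway : Function.Exact (mulFX f) (evAway f) := by
  intro p
  rw [evAway_eq_zero_iff]
  constructor
  · rintro ⟨q, rfl⟩
    exact ⟨q, rfl⟩
  · rintro ⟨q, rfl⟩
    exact ⟨q, rfl⟩

/-- The short complex `0 → A[X] → A[X] → A_f → 0`. -/
noncomputable def awayShortComplex : ShortComplex (ModuleCat.{u} A) :=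
  ShortComplex.mk (ModuleCat.ofHom (mulFX f)) (ModuleCat.ofHom (evAway f)) (by
    rw [← ModuleCat.ofHom_comp, (exact_mulFX_evAway f).linearMap_comp_eq_zero]
    rfl)

theorem awayShortComplex_shortExact : (awayShortComplex f).ShortExact :=
  ModuleCat.shortComplex_shortExact _ (exact_mulFX_evAway f) (mulFX_injective f)
    (evAway_surjective f)

instance : Projective (awayShortComplex f).X₁ :=
  (IsProjective.iff_projective (R := A) A[X]).mp inferInstance

instance : Projective (awayShortComplex f).X₂ :=
  (IsProjective.iff_projective (R := A) A[X]).mp inferInstance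

section Seq

variable (M : Type u) [AddCommGroup M] [Module A M]

/-- Morphisms `A[X] ⟶ M` in `ModuleCat A` are sequences in `M`. -/
noncomputable def homEquivSeq :
    ((awayShortComplex f).X₂ ⟶ ModuleCat.of A M) ≃ (ℕ → M) :=
  ModuleCat.homEquiv.trans ((basisMonomials A).constr A).symm.toEquiv

theorem homEquivSeq_apply (φ : (awayShortComplex f).X₂ ⟶ ModuleCat.of A M) (i : ℕ) :
    homEquivSeq f M φ i = φ.hom (monomial i 1) := by
  change (((basisMonomials A).constr A).symm φ.hom) i = _
  rw [Module.Basis.constr_symm_apply]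
  exact congrArg φ.hom (congrFun (coe_basisMonomials A) i)

theorem homEquivSeq_precomp (φ : (awayShortComplex f).X₂ ⟶ ModuleCat.of A M) :
    homEquivSeq f M ((awayShortComplex f).f ≫ φ) = - shiftT f M (homEquivSeq f M φ) := by
  funext i
  change _ = - (homEquivSeq f M φ i - f • homEquivSeq f M φ (i + 1))
  rw [homEquivSeq_apply, homEquivSeq_apply, homEquivSeq_apply]
  let ψ : A[X] →ₗ[A] M := φ.hom
  change ψ (mulFX f (monomial i 1)) = - (ψ (monomial i 1) - f • ψ (monomial (i + 1) 1))
  rw [mulFX_apply, sub_mul, one_mul, mul_assoc, X_mul_monomial, map_sub, neg_sub, C_mul',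
    map_smul]

theorem precomp_bijective_iff_shiftT_bijective :
    Function.Bijective (fun φ : (awayShortComplex f).X₂ ⟶ ModuleCat.of A M =>
      (awayShortComplex f).f ≫ φ) ↔ Function.Bijective (shiftT f M) := by
  have hE := (homEquivSeq f M).bijective
  have hneg : Function.Bijective (fun m : ℕ → M => -m) := (Equiv.neg (ℕ → M)).bijective
  have hcomp : (homEquivSeq f M) ∘ (fun φ : (awayShortComplex f).X₂ ⟶ ModuleCat.of A M =>
      (awayShortComplex f).f ≫ φ) =
      ((fun m : ℕ → M => -m) ∘ shiftT f M) ∘ (homEquivSeq f M) := by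
    funext φ
    exact homEquivSeq_precomp f M φ
  have h1 := Function.Bijective.of_comp_iff' hE
    (fun φ : (awayShortComplex f).X₂ ⟶ ModuleCat.of A M => (awayShortComplex f).f ≫ φ)
  refine h1.symm.trans ?_
  rw [hcomp]
  exact (Function.Bijective.of_comp_iff _ hE).trans (Function.Bijective.of_comp_iff' hneg _)

attribute [local instance] HasDerivedCategory.standard in
/-- **Lemma DC**: a module `M` is derived `f`-complete (all maps `A_f → M[n]` in `D(A)` vanish) iff
`(m_i) ↦ (m_i - f m_{i+1})` is bijective on sequences in `M`. -/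
theorem subsingleton_hom_away_iff_shiftT_bijective :
    (∀ n : ℤ, Subsingleton
      ((DerivedCategory.singleFunctor (ModuleCat.{u} A) 0).obj
          (ModuleCat.of A (Localization.Away f)) ⟶
        ((DerivedCategory.singleFunctor (ModuleCat.{u} A) 0).obj (ModuleCat.of A M))⟦n⟧)) ↔
      Function.Bijective (shiftT f M) := by
  have : HasExt.{u + 1} (ModuleCat.{u} A) := hasExt_of_hasDerivedCategory _
  rw [subsingleton_hom_shift_forall_iff, ← precomp_bijective_iff_shiftT_bijective]
  have hS := awayShortComplex_shortExact f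
  constructor
  · intro h
    exact precomp_bijective_of_subsingleton hS _ (h 0) (h 1)
  · intro h n
    obtain ⟨h0, h1⟩ := subsingleton_of_precomp_bijective hS _ h
    match n with
    | 0 => exact h0
    | 1 => exact h1
    | (k + 2) =>
      exact ⟨fun x y => by
        rw [ext_eq_zero_of_two_le hS _ (by omega) x, ext_eq_zero_of_two_le hS _ (by omega) y]⟩

end Seq

end Groth.Agent.Lib.Helper35.DC
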