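import Groth.Agent.Lib.Helper35.DCSeq
import Mathlib.RingTheory.Ideal.Operations
import Mathlib.RingTheory.Ideal.Quotient.Operations
import Mathlib.RingTheory.Ideal.Maps

/-! Nilpotence of `⋂ I^n` for derived complete rings (helper35). -/

universe u

namespace Groth.Agent.Lib.Helper35.DC

section Transfer

variable {A : Type*} [CommRing A] {M N : Type*} [AddCommGroup M] [Module A M] [AddCommGroup N]
  [Module A N]

theorem shiftT_bijective_of_linearEquiv (f : A) (e : M ≃ₗ[A] N)
    (h : Function.Bijective (shiftT f M)) : Function.Bijective (shiftT f N) := by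
  have hE : Function.Bijective (fun m : ℕ → M => fun i => e (m i)) :=
    (Equiv.piCongrRight fun _ : ℕ => e.toEquiv).bijective
  have hcomp : shiftT f N ∘ (fun m : ℕ → M => fun i => e (m i)) =
      (fun m : ℕ → M => fun i => e (m i)) ∘ shiftT f M := by
    funext m
    exact shiftT_comp f e.toLinearMap m
  rw [← Function.Bijective.of_comp_iff _ hE, hcomp]
  exact hE.comp h

end Transfer

section OneElement

variable {A : Type*} [CommRing A]

theorem iInf_smul_iInf_eq_bot (f : A) (M : Type*) [AddCommGroup M] [Module A M]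
    (hT : Function.Injective (shiftT f M)) :
    (⨅ n : ℕ, Ideal.span {f ^ n}) • (⨅ n : ℕ, (Ideal.span {f ^ n}) • (⊤ : Submodule A M)) =
      (⊥ : Submodule A M) := by
  rw [eq_bot_iff, Submodule.smul_le]
  intro a ha x hx
  rw [Submodule.mem_bot]
  have ha' : ∀ n : ℕ, ∃ b, a = f ^ n * b := fun n => by
    have h1 := (Ideal.mem_iInf.mp ha) n
    rw [Ideal.mem_span_singleton] at h1
    exact h1
  have hx' : ∀ n : ℕ, ∃ y : M, x = f ^ n • y := fun n => by
    have h1 := (Submodule.mem_iInf _).mp hx n
    rw [Submodule.ideal_span_singleton_smul] at h1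
    obtain ⟨y, -, hy⟩ := (Submodule.mem_smul_pointwise_iff_exists _ _ _).mp h1
    exact ⟨y, hy.symm⟩
  choose b hb using ha'
  choose y hy using hx'
  have hu : shiftT f M (fun i => b i • x) = 0 := by
    rw [shiftT_eq_zero_iff]
    intro i
    have h1 : f ^ i * (b i - f * b (i + 1)) = 0 := by
      rw [mul_sub, ← hb i, ← mul_assoc, ← pow_succ, ← hb (i + 1), sub_self]
    have h2 : (b i - f * b (i + 1)) • x = 0 := by
      rw [hy i, smul_smul, mul_comm, h1, zero_smul]
    rw [sub_smul, mul_smul] at h2
    exact sub_eq_zero.mp h2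
  have h3 := (shiftT_injective_iff f).mp hT _ hu
  have h0 := congrFun h3 0
  simp only [Pi.zero_apply] at h0
  rw [hb 0, pow_zero, one_mul]
  exact h0

theorem iInf_span_pow_sq_eq_bot (f : A) (hT : Function.Injective (shiftT f A)) :
    (⨅ n : ℕ, Ideal.span {f ^ n}) ^ 2 = (⊥ : Ideal A) := by
  have h := iInf_smul_iInf_eq_bot f A hT
  have h2 : (⨅ n : ℕ, (Ideal.span {f ^ n}) • (⊤ : Submodule A A)) = ⨅ n : ℕ, Ideal.span {f ^ n} := by
    congr 1
    funext n
    rw [smul_eq_mul, Ideal.mul_top]
  rw [h2, smul_eq_mul] at h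
  rw [pow_two]
  exact h

end OneElement

section Induction

theorem iInf_bot_pow_eq_bot (B : Type*) [CommRing B] :
    (⨅ n : ℕ, (⊥ : Ideal B) ^ n) = ⊥ :=
  eq_bot_iff.mpr (iInf_le_of_le 1 (by rw [pow_one]))

theorem iInf_pow_pow_eq_bot (r : ℕ) : ∀ (B : Type u) [CommRing B] (s : Finset B), s.card ≤ r →
    (∀ f ∈ s, Function.Bijective (shiftT f B)) →
    (⨅ n : ℕ, (Ideal.span (s : Set B)) ^ n) ^ (2 ^ r) = ⊥ := by
  classical
  induction r with
  | zero =>
    intro B _ s hs _
    have : s = ∅ := Finset.card_eq_zero.mp (Nat.le_zero.mp hs)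
    subst this
    rw [Finset.coe_empty, Ideal.span_empty, pow_zero, pow_one]
    exact iInf_bot_pow_eq_bot B
  | succ r ih =>
    intro B _ s hs hT
    by_cases hse : s = ∅
    · subst hse
      rw [Finset.coe_empty, Ideal.span_empty, iInf_bot_pow_eq_bot B]
      exact Ideal.bot_pow (by positivity)
    · obtain ⟨g, hg⟩ := Finset.nonempty_iff_ne_empty.mpr hse
      have hs' : (s.erase g).card ≤ r := by rw [Finset.card_erase_of_mem hg]; omega
      have hspan : Ideal.span (s : Set B) = Ideal.span ((s.erase g : Finset B) : Set B) ⊔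
          Ideal.span {g} := by
        conv_lhs => rw [← Finset.insert_erase hg, Finset.coe_insert, Ideal.span_insert, sup_comm]
      have hA : ∀ m : ℕ, (⨅ n : ℕ, (Ideal.span (s : Set B)) ^ n) ^ (2 ^ r) ≤
          Ideal.span {g ^ m} := by
        intro m
        have hTm : ∀ f' ∈ (s.erase g).image (Ideal.Quotient.mk (Ideal.span {g ^ m})),
            Function.Bijective (shiftT f' (B ⧸ Ideal.span {g ^ m})) := by
          intro f' hf'
          obtain ⟨f, hf, rfl⟩ := Finset.mem_image.mp hf'
          have hfs : f ∈ s := Finset.mem_of_mem_erase hf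
          have h1 : Function.Bijective
              (shiftT f (B ⧸ LinearMap.range (LinearMap.lsmul B B (g ^ m)))) :=
            shiftT_bijective_quotient_range f _ (hT f hfs).2 (hT f hfs)
          have hr : LinearMap.range (LinearMap.lsmul B B (g ^ m)) = Ideal.span {g ^ m} := by
            ext x
            simp [Ideal.mem_span_singleton', mul_comm]
          have h2 : Function.Bijective (shiftT f (B ⧸ Ideal.span {g ^ m})) :=
            shiftT_bijective_of_linearEquiv f (Submodule.quotEquivOfEq _ _ hr) h1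
          have h3 : shiftT (Ideal.Quotient.mk (Ideal.span {g ^ m}) f) (B ⧸ Ideal.span {g ^ m}) =
              shiftT f (B ⧸ Ideal.span {g ^ m}) := by
            funext x i
            simp only [shiftT_apply]
            rw [Algebra.smul_def f, Ideal.Quotient.algebraMap_eq, smul_eq_mul]
          rw [h3]
          exact h2
        have hIH := ih (B ⧸ Ideal.span {g ^ m})
          ((s.erase g).image (Ideal.Quotient.mk (Ideal.span {g ^ m})))
          (Finset.card_image_le.trans hs') hTm
        have hmap : Ideal.map (Ideal.Quotient.mk (Ideal.span {g ^ m}))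
            (⨅ n : ℕ, (Ideal.span (s : Set B)) ^ n) ≤
            ⨅ n : ℕ, (Ideal.span (((s.erase g).image
              (Ideal.Quotient.mk (Ideal.span {g ^ m})) : Finset _) : Set (B ⧸ Ideal.span {g ^ m}))) ^ n := by
          rw [le_iInf_iff]
          intro n
          have h4 : (⨅ n : ℕ, (Ideal.span (s : Set B)) ^ n) ≤
              (Ideal.span ((s.erase g : Finset B) : Set B)) ^ n ⊔ (Ideal.span {g}) ^ m :=
            (iInf_le _ (n + m)).trans (by rw [hspan]; exact Ideal.sup_pow_add_le_pow_sup_pow)
          refine (Ideal.map_mono h4).trans ?_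
          rw [Ideal.map_sup, Ideal.map_pow, Ideal.map_span, Ideal.span_singleton_pow,
            Ideal.map_quotient_self, sup_bot_eq, Finset.coe_image]
        have h5 : Ideal.map (Ideal.Quotient.mk (Ideal.span {g ^ m}))
            ((⨅ n : ℕ, (Ideal.span (s : Set B)) ^ n) ^ (2 ^ r)) = ⊥ := by
          rw [Ideal.map_pow, eq_bot_iff, ← hIH]
          exact Ideal.pow_right_mono hmap _
        rw [Ideal.map_eq_bot_iff_le_ker, Ideal.mk_ker] at h5
        exact h5
      have hB : (⨅ n : ℕ, (Ideal.span (s : Set B)) ^ n) ^ (2 ^ r) ≤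
          ⨅ m : ℕ, Ideal.span {g ^ m} := le_iInf hA
      rw [pow_succ, pow_mul, eq_bot_iff, ← iInf_span_pow_sq_eq_bot g (hT g hg).1]
      exact Ideal.pow_right_mono hB 2

end Induction

end Groth.Agent.Lib.Helper35.DC
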