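import Groth.Agent.Lib.Helper35.KLHeart
import Groth.Agent.Lib.Helper35.DCModule
import Groth.Agent.Lib.Helper35.DCNilp
import Mathlib.Algebra.Homology.DerivedCategory.SingleTriangle

/-! Derived `f`-completeness of an object of `D(A)` in terms of its cohomology modules
(helper35). -/

universe u

namespace Groth.Agent.Lib.Helper35.DC

open CategoryTheory Limits DerivedCategory Pretriangulated

attribute [local instance] HasDerivedCategory.standard

variable {A : Type u} [CommRing A] (f : A)

theorem subsingleton_hom_away_obj_iff (K : DerivedCategory (ModuleCat.{u} A)) :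
    (∀ n : ℤ, Subsingleton
      ((singleFunctor (ModuleCat.{u} A) 0).obj (ModuleCat.of A (Localization.Away f)) ⟶ K⟦n⟧)) ↔
      ∀ n : ℤ, Function.Bijective
        (shiftT f ((homologyFunctor (ModuleCat.{u} A) n).obj K)) := by
  have hS := awayShortComplex_shortExact f
  have hT := hS.singleTriangle_distinguished
  have h1 := KL.forall_subsingleton_hom_obj₃_iff _ hT K
  refine h1.trans ?_
  refine forall_congr' fun n => ?_
  obtain ⟨H, ⟨e⟩, hH⟩ := KL.exists_heart_object (K⟦n⟧)
  have h2 := hH (awayShortComplex f).X₁ (awayShortComplex f).X₂ (awayShortComplex f).f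
  refine h2.trans ?_
  have h3 : Function.Bijective (fun ψ : (awayShortComplex f).X₂ ⟶ H =>
      (awayShortComplex f).f ≫ ψ) ↔ Function.Bijective (shiftT f H) :=
    precomp_bijective_iff_shiftT_bijective f H
  refine h3.trans ?_
  let e' : H ≅ (homologyFunctor (ModuleCat.{u} A) n).obj K :=
    e ≪≫ ((homologyFunctor (ModuleCat.{u} A) 0).shiftIso n 0 n (add_zero n)).app K
  exact ⟨shiftT_bijective_of_linearEquiv f e'.toLinearEquiv,
    shiftT_bijective_of_linearEquiv f e'.symm.toLinearEquiv⟩

end Groth.Agent.Lib.Helper35.DC
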