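import Groth.Agent.Lib.Helper35.PALib
import Mathlib.Algebra.Category.ModuleCat.Injective
import Mathlib.Algebra.Homology.DerivedCategory.SingleTriangle
import Mathlib.CategoryTheory.Triangulated.TriangleShift

/-! Injective amplitude of objects of `D(R)` (helper35). -/

set_option autoImplicit false
universe w v u

namespace Groth.Agent.Lib.Helper35.KL

open CategoryTheory Limits DerivedCategory Pretriangulated ZeroObject

section Tri

variable {D : Type u} [Category.{v} D] [HasZeroObject D] [HasShift D ℤ] [Preadditive D]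
  [∀ n : ℤ, (shiftFunctor D n).Additive] [Pretriangulated D]

theorem precomp_mor₁_bijective (T : Triangle D) (hT : T ∈ distTriang D) (Y : D)
    (h₃ : ∀ φ : T.obj₃ ⟶ Y, φ = 0) (h₃' : ∀ φ : T.obj₃ ⟶ Y⟦(1 : ℤ)⟧, φ = 0) :
    Function.Bijective (fun φ : T.obj₂ ⟶ Y => T.mor₁ ≫ φ) := by
  constructor
  · intro φ ψ h
    have h0 : T.mor₁ ≫ (φ - ψ) = 0 := by
      rw [Preadditive.comp_sub]; exact sub_eq_zero.mpr h
    obtain ⟨g, hg⟩ := Triangle.yoneda_exact₂ T hT (φ - ψ) h0
    rw [h₃ g, comp_zero] at hg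
    exact sub_eq_zero.mp hg
  · intro ψ
    obtain ⟨φ, hφ⟩ := exists_of_mor₃_comp_shift_eq_zero T hT ψ (h₃' _)
    exact ⟨φ, hφ.symm⟩

theorem hom_obj₃_shift_eq_zero (T : Triangle D) (hT : T ∈ distTriang D) (X : D) (m : ℤ)
    (h₂ : ∀ g : X ⟶ T.obj₂⟦m⟧, g = 0) (h₁ : ∀ g : X ⟶ (T.obj₁⟦m⟧)⟦(1 : ℤ)⟧, g = 0)
    (f : X ⟶ T.obj₃⟦m⟧) : f = 0 := by
  have hT' := Triangle.shift_distinguished T hT m
  obtain ⟨g, hg⟩ := Triangle.coyoneda_exact₃ _ hT' f (h₁ _)
  have hex : ∃ g' : X ⟶ T.obj₂⟦m⟧, f = g' ≫ ((shiftFunctor (Triangle D) m).obj T).mor₂ := ⟨g, hg⟩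
  obtain ⟨g', hg'⟩ := hex
  rw [hg', h₂ g']
  exact zero_comp

end Tri

attribute [local instance] HasDerivedCategory.standard

variable {R : Type u} [CommRing R]

/-- The short complex `J → R → R/J`. -/
noncomputable def idealSC (J : Ideal R) : ShortComplex (ModuleCat.{u} R) :=
  ShortComplex.mk (ModuleCat.ofHom (Submodule.subtype J))
    (ModuleCat.ofHom (Submodule.mkQ J)) (by
      ext x
      exact (Submodule.Quotient.mk_eq_zero J).mpr x.2)

theorem idealSC_shortExact (J : Ideal R) : (idealSC J).ShortExact := by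
  apply ModuleCat.shortComplex_shortExact
  · intro x
    constructor
    · intro hx
      exact ⟨⟨x, (Submodule.Quotient.mk_eq_zero J).mp hx⟩, rfl⟩
    · rintro ⟨y, rfl⟩
      exact (Submodule.Quotient.mk_eq_zero J).mpr y.2
  · exact Submodule.injective_subtype J
  · exact Submodule.mkQ_surjective J

/-- Derived Baer criterion: a module `H` with `Hom((R/J)[0], H[1]) = 0` for all ideals `J` is
injective. -/
theorem injective_of_hom_quotient_vanishing (H : ModuleCat.{u} R)
    (h : ∀ (J : Ideal R) (f : (singleFunctor (ModuleCat.{u} R) 0).obj (ModuleCat.of R (R ⧸ J)) ⟶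
      ((singleFunctor (ModuleCat.{u} R) 0).obj H)⟦(1 : ℤ)⟧), f = 0) : Injective H := by
  have hB : Module.Baer R H := by
    intro J g
    have hT := (idealSC_shortExact J).singleTriangle_distinguished
    let g₀ : (idealSC J).X₁ ⟶ H := ModuleCat.ofHom g
    obtain ⟨φ, hφ⟩ := exists_of_mor₃_comp_shift_eq_zero _ hT
      ((singleFunctor (ModuleCat.{u} R) 0).map g₀) (h J _)
    obtain ⟨g', hg'⟩ : ∃ g' : (idealSC J).X₂ ⟶ H,
        (singleFunctor (ModuleCat.{u} R) 0).map g' = φ :=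
      (singleFunctor (ModuleCat.{u} R) 0).map_surjective φ
    have h1 : g₀ = (idealSC J).f ≫ g' := by
      apply (singleFunctor (ModuleCat.{u} R) 0).map_injective
      rw [Functor.map_comp, hg']
      exact hφ
    refine ⟨g'.hom, fun x hx => ?_⟩
    have h2 := congrArg (fun t => t.hom ⟨x, hx⟩) h1
    exact h2.symm
  have := Module.Baer.injective hB
  exact Module.injective_object_of_injective_module (R := R) (M := H)

/-- `K` has injective amplitude in `[a, b]` (categorical form). -/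
def IA (a b : ℤ) (K : Dual.D R) : Prop :=
  ∃ E : DRing.Cx R, DRing.VanishesOutside E a b ∧ (∀ i : ℤ, Injective (E.X i)) ∧
    Nonempty (DRing.toD E ≅ K)

theorem IA_iff (a b : ℤ) (K : Dual.D R) : IA a b K ↔ DRing.HasInjAmplitudeIn R a b K := by
  constructor
  · rintro ⟨E, hv, hE, he⟩
    refine ⟨E, hv, fun i => ?_, he⟩
    have := hE i
    exact Module.injective_module_of_injective_object R (E.X i)
  · rintro ⟨E, hv, hE, he⟩
    refine ⟨E, hv, fun i => ?_, he⟩
    have : Module.Injective R (E.X i) := hE i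
    exact Module.injective_object_of_injective_module (R := R) (M := E.X i)

theorem IA.of_iso {a b : ℤ} {K K' : Dual.D R} (e : K ≅ K') (h : IA a b K) : IA a b K' := by
  obtain ⟨P, hv, hP, ⟨e'⟩⟩ := h
  exact ⟨P, hv, hP, ⟨e' ≪≫ e⟩⟩

theorem IA.mono {a b a' b' : ℤ} {K : Dual.D R} (h : IA a b K) (ha : a' ≤ a) (hb : b ≤ b') :
    IA a' b' K := by
  obtain ⟨P, hv, hP, he⟩ := h
  exact ⟨P, fun i hi => hv i (by omega), hP, he⟩

theorem IA.shift {a b : ℤ} {K : Dual.D R} (h : IA a b K) (n : ℤ) : IA (a - n) (b - n) (K⟦n⟧) := by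
  obtain ⟨E, hb, hE, ⟨e⟩⟩ := h
  refine ⟨E⟦n⟧, ?_, ?_, ⟨(Q.commShiftIso n).app E ≪≫
    (CategoryTheory.shiftFunctor (DerivedCategory (ModuleCat.{u} R)) n).mapIso e⟩⟩
  · intro i hi
    exact hb (i + n) (by omega)
  · intro i
    exact hE (i + n)

theorem IA.of_isZero {a b : ℤ} {K : Dual.D R} (hK : IsZero K) : IA a b K := by
  refine ⟨0, ?_, ?_, ⟨(Q.map_isZero (isZero_zero _)).iso hK⟩⟩
  · intro i _
    exact (HomologicalComplex.eval _ _ i).map_isZero (isZero_zero _)
  · intro i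
    have hz : IsZero ((0 : DRing.Cx R).X i) :=
      (HomologicalComplex.eval _ _ i).map_isZero (isZero_zero _)
    exact hz.injective

theorem IA.single (N : ModuleCat.{u} R) [Injective N] :
    IA 0 0 ((DerivedCategory.singleFunctor (ModuleCat.{u} R) 0).obj N) := by
  refine ⟨(HomologicalComplex.single (ModuleCat.{u} R) (ComplexShape.up ℤ) 0).obj N, ?_, ?_,
    ⟨((DerivedCategory.singleFunctorIsoCompQ (ModuleCat.{u} R) 0).app N).symm⟩⟩
  · intro i hi
    exact HomologicalComplex.isZero_single_obj_X _ _ _ _ (by omega)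
  · intro i
    by_cases hi : i = 0
    · subst hi
      exact Injective.of_iso (HomologicalComplex.singleObjXSelf (ComplexShape.up ℤ) 0 N).symm
        inferInstance
    · have hz : IsZero (((HomologicalComplex.single (ModuleCat.{u} R) (ComplexShape.up ℤ) 0).obj N).X i) :=
        HomologicalComplex.isZero_single_obj_X _ _ _ _ hi
      exact hz.injective

theorem IA.isKInjective {a b : ℤ} (E : DRing.Cx R) (hv : DRing.VanishesOutside E a b)
    (hE : ∀ i : ℤ, Injective (E.X i)) : E.IsKInjective := by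
  have : E.IsStrictlyGE a := by
    rw [CochainComplex.isStrictlyGE_iff]
    exact fun i hi => hv i (Or.inl hi)
  exact CochainComplex.isKInjective_of_injective E a

theorem IA.obj₃ {a b : ℤ} (T : Triangle (Dual.D R)) (hT : T ∈ distTriang _)
    (h₁ : IA (a + 1) (b + 1) T.obj₁) (h₂ : IA a b T.obj₂) : IA a b T.obj₃ := by
  obtain ⟨E₁, hb₁, hE₁, ⟨e₁⟩⟩ := h₁
  obtain ⟨E₂, hb₂, hE₂, ⟨e₂⟩⟩ := h₂
  have hKP : E₂.IsKInjective := IA.isKInjective E₂ hb₂ hE₂
  obtain ⟨f, ⟨e⟩⟩ := nonempty_iso_mappingCone_of_isKInjective T hT e₁ e₂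
  refine ⟨CochainComplex.mappingCone f, ?_, ?_, ⟨e⟩⟩
  · intro i hi
    rw [CochainComplex.mappingCone.isZero_X_iff]
    exact ⟨hb₁ (i + 1) (by omega), hb₂ i (by omega)⟩
  · intro i
    have := hE₁ (i + 1)
    have := hE₂ i
    exact Injective.of_iso (HomologicalComplex.homotopyCofiber.XIsoBiprod f i (i + 1) rfl).symm
      inferInstance

theorem IA.isLE {a b : ℤ} {K : Dual.D R} (h : IA a b K) : K.IsLE b := by
  obtain ⟨P, hv, -, ⟨e⟩⟩ := h
  have : P.IsStrictlyLE b := by
    rw [CochainComplex.isStrictlyLE_iff]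
    exact fun i hi => hv i (Or.inr hi)
  exact TStructure.t.isLE_of_iso e b

theorem IA.isGE {a b : ℤ} {K : Dual.D R} (h : IA a b K) : K.IsGE a := by
  obtain ⟨P, hv, -, ⟨e⟩⟩ := h
  have : P.IsStrictlyGE a := by
    rw [CochainComplex.isStrictlyGE_iff]
    exact fun i hi => hv i (Or.inl hi)
  exact TStructure.t.isGE_of_iso e a

/-- No maps from an object which is `≥ b + 1` to a complex of injectives in degrees `[a, b]`. -/
theorem hom_eq_zero_of_injAmp (a b : ℤ) (L : Dual.D R) (hL : IA a b L)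
    (K : Dual.D R) [DerivedCategory.IsGE K (b + 1)] (ξ : K ⟶ L) : ξ = 0 := by
  obtain ⟨E, hE, hEinj, ⟨e⟩⟩ := hL
  have hKI : E.IsKInjective := IA.isKInjective E hE hEinj
  obtain ⟨K', hK', ⟨e'⟩⟩ := exists_iso_Q_obj_of_isGE K (b + 1)
  obtain ⟨f, hf⟩ := exists_Q_map_eq_of_isKInjective K' E (e'.inv ≫ ξ ≫ e.inv)
  have hf0 : f = 0 := by
    ext i : 1
    by_cases hi : b < i
    · exact (hE i (Or.inr hi)).eq_of_tgt _ _
    · exact (K'.isZero_of_isStrictlyGE (b + 1) i (by omega)).eq_of_src _ _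
  rw [hf0, Functor.map_zero] at hf
  have h1 : ξ = e'.hom ≫ (e'.inv ≫ ξ ≫ e.inv) ≫ e.hom := by simp
  rw [h1, ← hf, zero_comp, comp_zero]

end Groth.Agent.Lib.Helper35.KL
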