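import Groth.Agent.Lib.Helper35.NilTA2
import Groth.Agent.Lib.Helper35.DCObj
import Groth.Agent.Lib.Helper35.DCNak
import Groth.Agent.Lib.Helper35.IALib
import Groth.Agent.Lib.Helper35.TwoTerm
import Groth.Prelude.Def_DRing3
import Mathlib.Algebra.Homology.DerivedCategory.ShortExact
import Mathlib.Algebra.Homology.HomologicalComplexAbelian

/-! Derived Nakayama for derived complete complexes (helper35). -/

set_option autoImplicit false
set_option linter.unusedSectionVars false
universe u
open CategoryTheory CategoryTheory.Limits MonoidalCategory DerivedCategory CochainComplex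
  TensorProduct Pretriangulated
attribute [local instance] HasDerivedCategory.standard

namespace Groth.Agent.Lib.Helper35.DCN

section Ten

variable {A : Type u} [CommRing A]

/-- `X ⊗ N`. -/
noncomputable abbrev tenCx (X : DRing.Cx A) (N : ModuleCat.{u} A) : DRing.Cx A :=
  ((tensorRight N).mapHomologicalComplex (ComplexShape.up ℤ)).obj X

/-- Functoriality of `X ⊗ N` in `N`. -/
noncomputable def tenCxMap (X : DRing.Cx A) {N N' : ModuleCat.{u} A} (g : N ⟶ N') :
    tenCx X N ⟶ tenCx X N' :=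
  (NatTrans.mapHomologicalComplex ((tensoringRight (ModuleCat.{u} A)).map g)
    (ComplexShape.up ℤ)).app X

theorem tenCxMap_f (X : DRing.Cx A) {N N' : ModuleCat.{u} A} (g : N ⟶ N') (i : ℤ) :
    (tenCxMap X g).f i = X.X i ◁ g := rfl

theorem tenCxMap_comp (X : DRing.Cx A) {N N' N'' : ModuleCat.{u} A} (g : N ⟶ N') (g' : N' ⟶ N'') :
    tenCxMap X (g ≫ g') = tenCxMap X g ≫ tenCxMap X g' := by
  ext i : 1
  rw [HomologicalComplex.comp_f, tenCxMap_f, tenCxMap_f, tenCxMap_f, MonoidalCategory.whiskerLeft_comp]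
  rfl

theorem tenCxMap_zero (X : DRing.Cx A) (N N' : ModuleCat.{u} A) :
    tenCxMap X (0 : N ⟶ N') = 0 := by
  ext i : 1
  rw [tenCxMap_f, HomologicalComplex.zero_f]
  exact MonoidalPreadditive.whiskerLeft_zero

/-- The short complex `X ⊗ S`. -/
noncomputable def tenSC (X : DRing.Cx A) (S : ShortComplex (ModuleCat.{u} A)) :
    ShortComplex (DRing.Cx A) :=
  ShortComplex.mk (tenCxMap X S.f) (tenCxMap X S.g) (by
    rw [← tenCxMap_comp, S.zero, tenCxMap_zero])

theorem tenSC_shortExact (X : DRing.Cx A) (hX : ∀ i : ℤ, Module.Flat A (X.X i))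
    (S : ShortComplex (ModuleCat.{u} A)) (hS : S.ShortExact) : (tenSC X S).ShortExact := by
  refine HomologicalComplex.shortExact_of_degreewise_shortExact _ (fun i => ?_)
  have := hX i
  have hinj : Function.Injective S.f.hom := (ModuleCat.mono_iff_injective _).1 hS.mono_f
  have hsurj : Function.Surjective S.g.hom := (ModuleCat.epi_iff_surjective _).1 hS.epi_g
  have hex : Function.Exact S.f.hom S.g.hom :=
    (ShortComplex.ShortExact.moduleCat_exact_iff_function_exact S).1 hS.exact
  refine ModuleCat.shortComplex_shortExact _ ?_ ?_ ?_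
  · exact lTensor_exact (X.X i) hex hsurj
  · exact Module.Flat.lTensor_preserves_injective_linearMap S.f.hom hinj
  · exact LinearMap.lTensor_surjective (X.X i) hsurj

/-- multiplication by `f` on `N`. -/
noncomputable abbrev mulMap (f : A) (N : ModuleCat.{u} A) : N →ₗ[A] N := LinearMap.lsmul A N f

/-- `fN`. -/
noncomputable abbrev rangeObj (f : A) (N : ModuleCat.{u} A) : ModuleCat.{u} A :=
  ModuleCat.of A (LinearMap.range (mulMap f N))

/-- `N → fN`. -/
noncomputable def rangeπ (f : A) (N : ModuleCat.{u} A) : N ⟶ rangeObj f N :=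
  ModuleCat.ofHom (mulMap f N).rangeRestrict

/-- `fN → N`. -/
noncomputable def rangeι (f : A) (N : ModuleCat.{u} A) : rangeObj f N ⟶ N :=
  ModuleCat.ofHom (LinearMap.range (mulMap f N)).subtype

/-- `0 → N[f] → N → fN → 0`. -/
noncomputable def kerSC (f : A) (N : ModuleCat.{u} A) : ShortComplex (ModuleCat.{u} A) :=
  ShortComplex.mk (ModuleCat.ofHom (LinearMap.ker (mulMap f N)).subtype)
    (rangeπ f N) (by
      ext x
      exact x.2)

theorem kerSC_shortExact (f : A) (N : ModuleCat.{u} A) : (kerSC f N).ShortExact := by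
  refine ModuleCat.shortComplex_shortExact _ ?_ (LinearMap.ker (mulMap f N)).injective_subtype
    (mulMap f N).surjective_rangeRestrict
  intro x
  constructor
  · intro hx
    have hx' : mulMap f N x = 0 := congrArg Subtype.val hx
    exact ⟨⟨x, hx'⟩, rfl⟩
  · rintro ⟨y, rfl⟩
    apply Subtype.ext
    exact y.2

/-- `0 → fN → N → N/fN → 0`. -/
noncomputable def cokerSC (f : A) (N : ModuleCat.{u} A) : ShortComplex (ModuleCat.{u} A) :=
  ShortComplex.mk (rangeι f N)
    (ModuleCat.ofHom (LinearMap.range (mulMap f N)).mkQ) (by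
      ext x
      exact (Submodule.Quotient.mk_eq_zero _).2 x.2)

theorem cokerSC_shortExact (f : A) (N : ModuleCat.{u} A) : (cokerSC f N).ShortExact :=
  ModuleCat.shortComplex_shortExact _ (LinearMap.exact_subtype_mkQ (LinearMap.range (mulMap f N)))
    (LinearMap.range (mulMap f N)).injective_subtype
    (LinearMap.range (mulMap f N)).mkQ_surjective

theorem tensor_map_smul_eq (X : DRing.Cx A) (f : A) (N : ModuleCat.{u} A) :
    ((tensorRight N).mapHomologicalComplex (ComplexShape.up ℤ)).map (f • 𝟙 X) =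
      tenCxMap X (rangeπ f N) ≫ tenCxMap X (rangeι f N) := by
  rw [← tenCxMap_comp]
  ext i : 1
  rw [tenCxMap_f]
  apply ModuleCat.hom_ext
  apply TensorProduct.ext'
  intro x n
  change (f • x) ⊗ₜ[A] n = x ⊗ₜ[A] (f • n)
  rw [TensorProduct.smul_tmul]

end Ten

section Cone

variable {A : Type u} [CommRing A]

open Groth.Agent.Lib.Helper35.TA Groth.Agent.Lib.Helper35.KL Groth.Agent.Lib.Helper35.DC

theorem projective_mappingCone (X : DRing.Cx A) (hX : ∀ i : ℤ, Module.Projective A (X.X i))
    (φ : X ⟶ X) (i : ℤ) : Module.Projective A ((mappingCone φ).X i) := by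
  have := hX i
  have := hX (i + 1)
  let e : (mappingCone φ).X i ≅ ModuleCat.of A (X.X (i + 1) × X.X i) :=
    HomologicalComplex.homotopyCofiber.XIsoBiprod φ i (i + 1) rfl ≪≫ ModuleCat.biprodIsoProd _ _
  have : Module.Projective A (X.X (i + 1) × X.X i) := inferInstance
  exact Module.Projective.of_equiv e.toLinearEquiv.symm

/-- Exactness of `cone(f) ⊗ N` from exactness of `X ⊗ N[f]` and `X ⊗ N/fN`. -/
theorem exactAt_tenCx_mappingCone (X : DRing.Cx A) (hX : ∀ i : ℤ, Module.Flat A (X.X i)) (f : A)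
    (N : ModuleCat.{u} A) (i : ℤ)
    (h₁ : (tenCx X (kerSC f N).X₁).ExactAt (i + 1))
    (h₂ : (tenCx X (cokerSC f N).X₃).ExactAt i) :
    (tenCx (mappingCone (f • 𝟙 X)) N).ExactAt i := by
  let g := ((tensorRight N).mapHomologicalComplex (ComplexShape.up ℤ)).map (f • 𝟙 X)
  have e := mappingCone.mapHomologicalComplexIso (f • 𝟙 X) (tensorRight N)
  suffices h : (mappingCone g).ExactAt i from h.of_iso e.symm
  rw [← isZero_homology_toD_iff]
  have hT := DerivedCategory.mappingCone_triangle_distinguished g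
  have hg : g = tenCxMap X (rangeπ f N) ≫ tenCxMap X (rangeι f N) := tensor_map_smul_eq X f N
  have hS₁ := tenSC_shortExact X hX (kerSC f N) (kerSC_shortExact f N)
  have hS₂ := tenSC_shortExact X hX (cokerSC f N) (cokerSC_shortExact f N)
  have hT₁ := triangleOfSES_distinguished hS₁
  have hT₂ := triangleOfSES_distinguished hS₂
  have hz₁ : IsZero ((homologyFunctor (ModuleCat.{u} A) (i + 1)).obj (triangleOfSES hS₁).obj₁) :=
    (isZero_homology_toD_iff _ _).2 h₁
  have hz₂ : IsZero ((homologyFunctor (ModuleCat.{u} A) i).obj (triangleOfSES hS₂).obj₃) :=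
    (isZero_homology_toD_iff _ _).2 h₂
  have e1 : Epi ((homologyFunctor (ModuleCat.{u} A) i).map
      (Q.map (tenCxMap X (rangeπ f N)))) :=
    (HomologySequence.epi_homologyMap_mor₂_iff _ hT₁ i (i + 1) rfl).2 (hz₁.eq_of_tgt _ _)
  have m1 : Mono ((homologyFunctor (ModuleCat.{u} A) (i + 1)).map
      (Q.map (tenCxMap X (rangeπ f N)))) :=
    (HomologySequence.mono_homologyMap_mor₂_iff _ hT₁ (i + 1)).2 (hz₁.eq_of_src _ _)
  have e2 : Epi ((homologyFunctor (ModuleCat.{u} A) i).map
      (Q.map (tenCxMap X (rangeι f N)))) :=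
    (HomologySequence.epi_homologyMap_mor₁_iff _ hT₂ i).2 (hz₂.eq_of_tgt _ _)
  have m2 : Mono ((homologyFunctor (ModuleCat.{u} A) (i + 1)).map
      (Q.map (tenCxMap X (rangeι f N)))) :=
    (HomologySequence.mono_homologyMap_mor₁_iff _ hT₂ i (i + 1) rfl).2 (hz₂.eq_of_src _ _)
  have hmor : ∀ j : ℤ, (homologyFunctor (ModuleCat.{u} A) j).map (Q.map g) =
      (homologyFunctor (ModuleCat.{u} A) j).map (Q.map (tenCxMap X (rangeπ f N))) ≫
        (homologyFunctor (ModuleCat.{u} A) j).map (Q.map (tenCxMap X (rangeι f N))) := by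
    intro j
    rw [hg, Functor.map_comp, Functor.map_comp]
  refine isZero_homology_obj₃ _ hT i (i + 1) rfl ?_ ?_
  · change Epi ((homologyFunctor (ModuleCat.{u} A) i).map (Q.map g))
    rw [hmor]
    exact epi_comp _ _
  · change Mono ((homologyFunctor (ModuleCat.{u} A) (i + 1)).map (Q.map g))
    rw [hmor]
    exact mono_comp _ _

theorem subsingleton_hom_mappingCone (X : DRing.Cx A) (f : A) (G : Dual.D A)
    (h : ∀ n : ℤ, Subsingleton (G ⟶ (Q.obj X)⟦n⟧)) (n : ℤ) :
    Subsingleton (G ⟶ (Q.obj (mappingCone (f • 𝟙 X)))⟦n⟧) := by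
  have hT := DerivedCategory.mappingCone_triangle_distinguished (f • 𝟙 X)
  have h₂ : ∀ g : G ⟶ (Q.mapTriangle.obj (mappingCone.triangle (f • 𝟙 X))).obj₂⟦n⟧, g = 0 :=
    fun g => (h n).elim g 0
  have h₁ : ∀ g : G ⟶ ((Q.mapTriangle.obj (mappingCone.triangle (f • 𝟙 X))).obj₁⟦n⟧)⟦(1 : ℤ)⟧,
      g = 0 := by
    intro g
    let e : (Q.obj X)⟦n + 1⟧ ≅ ((Q.obj X)⟦n⟧)⟦(1 : ℤ)⟧ :=
      (CategoryTheory.shiftFunctorAdd' (DerivedCategory (ModuleCat.{u} A)) n 1 (n + 1) rfl).app (Q.obj X)
    have h2 : g ≫ e.inv = 0 := (h (n + 1)).elim _ _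
    exact (cancel_mono e.inv).mp (h2.trans zero_comp.symm)
  refine ⟨fun u v => ?_⟩
  rw [hom_obj₃_shift_eq_zero _ hT G n h₂ h₁ u, hom_obj₃_shift_eq_zero _ hT G n h₂ h₁ v]

theorem homologyMap_smul_id (X : DRing.Cx A) (a : A) (i : ℤ) :
    (HomologicalComplex.homologyFunctor (ModuleCat.{u} A) (ComplexShape.up ℤ) i).map (a • 𝟙 X) =
      a • 𝟙 ((HomologicalComplex.homologyFunctor (ModuleCat.{u} A) (ComplexShape.up ℤ) i).obj X) := by
  change HomologicalComplex.homologyMap (a • 𝟙 X) i = _
  have h3 : (HomologicalComplex.shortComplexFunctor (ModuleCat.{u} A) (ComplexShape.up ℤ) i).map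
      (a • 𝟙 X) = a • 𝟙 _ := by
    ext <;> rfl
  unfold HomologicalComplex.homologyMap
  rw [h3, ShortComplex.homologyMap_smul, ShortComplex.homologyMap_id]
  rfl

theorem homologyFunctor_map_Q_smul_apply (X : DRing.Cx A) (a : A) (i : ℤ)
    (y : (homologyFunctor (ModuleCat.{u} A) i).obj (Q.obj X)) :
    ((homologyFunctor (ModuleCat.{u} A) i).map (Q.map (a • 𝟙 X))).hom y = a • y := by
  have h1 := (homologyFunctorFactors (ModuleCat.{u} A) i).hom.naturality (a • 𝟙 X)
  rw [homologyMap_smul_id] at h1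
  have h5 := congrArg (fun φ => φ.hom y) h1
  let e := ((homologyFunctorFactors (ModuleCat.{u} A) i).app X).toLinearEquiv
  apply e.injective
  rw [map_smul]
  exact h5

theorem exactAt_of_exactAt_mappingCone (X : DRing.Cx A) (f : A) (i : ℤ)
    (hDC : ∀ n : ℤ, Subsingleton (Dual.inD A (Localization.Away f) ⟶ (Q.obj X)⟦n⟧))
    (h : (mappingCone (f • 𝟙 X)).ExactAt i) : X.ExactAt i := by
  have hT := DerivedCategory.mappingCone_triangle_distinguished (f • 𝟙 X)
  rw [← isZero_homology_toD_iff] at h ⊢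
  have hepi : Epi ((homologyFunctor (ModuleCat.{u} A) i).map (Q.map (f • 𝟙 X))) :=
    (HomologySequence.epi_homologyMap_mor₁_iff _ hT i).2 (h.eq_of_tgt _ _)
  have hsurj := (ModuleCat.epi_iff_surjective _).1 hepi
  have hbij := (subsingleton_hom_away_obj_iff f (Q.obj X)).1 hDC i
  have := subsingleton_of_shiftT_injective_of_smul_surjective f _ hbij.1 (fun m => by
    obtain ⟨m', hm'⟩ := hsurj m
    exact ⟨m', by rw [← homologyFunctor_map_Q_smul_apply]; exact hm'⟩)
  exact ModuleCat.isZero_of_subsingleton _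

end Cone

section Main

variable {A : Type u} [CommRing A]

open Groth.Agent.Lib.Helper35.TA Groth.Agent.Lib.Helper32.LBC

theorem exactAt_of_forall_killed (l : List A) :
    ∀ (X : DRing.Cx A) (_ : ∀ i : ℤ, Module.Projective A (X.X i)) (b : ℤ)
      (_ : ∀ f ∈ l, ∀ n : ℤ,
        Subsingleton (Dual.inD A (Localization.Away f) ⟶ (Q.obj X)⟦n⟧))
      (_ : ∀ N : ModuleCat.{u} A, (∀ f ∈ l, ∀ x : N, f • x = 0) →
        ∀ i : ℤ, b < i → (tenCx X N).ExactAt i)
      (i : ℤ), b < i → X.ExactAt i := by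
  induction l with
  | nil =>
    intro X hX b hDC hN i hi
    exact (hN (𝟙_ (ModuleCat.{u} A)) (by simp) i hi).of_iso (tensorRightUnitCxIso X)
  | cons f l ih =>
    intro X hX b hDC hN i hi
    have hflat : ∀ j : ℤ, Module.Flat A (X.X j) := fun j => by
      have := hX j
      infer_instance
    refine exactAt_of_exactAt_mappingCone X f i (hDC f (by simp)) ?_
    refine ih (mappingCone (f • 𝟙 X)) (projective_mappingCone X hX _) b ?_ ?_ i hi
    · intro f' hf' n
      exact subsingleton_hom_mappingCone X f _ (hDC f' (List.mem_cons_of_mem _ hf')) n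
    · intro N hNl j hj
      refine exactAt_tenCx_mappingCone X hflat f N j (hN _ ?_ (j + 1) (by omega)) (hN _ ?_ j hj)
      · intro f' hf' x
        rcases List.mem_cons.1 hf' with rfl | h
        · exact Subtype.ext x.2
        · exact Subtype.ext (hNl f' h x.1)
      · intro f' hf' y
        have hy : ∀ y : (N ⧸ LinearMap.range (mulMap f N)), f' • y = 0 := by
          intro y
          obtain ⟨x, rfl⟩ := Submodule.mkQ_surjective _ y
          rw [← map_smul]
          rcases List.mem_cons.1 hf' with rfl | h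
          · exact (Submodule.Quotient.mk_eq_zero _).2 ⟨x, rfl⟩
          · rw [hNl f' h x, map_zero]
        exact hy y

/-- Derived Nakayama: for a derived complete `K`, vanishing of `H^i(K ⊗^L A/I)` for `i > b`
implies vanishing of `H^i(K)` for `i > b`. -/
theorem isZero_homology_of_isDerivedComplete (I : Ideal A) (hI : I.FG)
    [DRing.HasLTensor A (ModuleCat.of A (A ⧸ I))]
    (K : Dual.D A) (hc : DRing.IsDerivedComplete I K) (b : ℤ)
    (h : ∀ i : ℤ, b < i → IsZero ((homologyFunctor (ModuleCat.{u} A) i).obj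
      ((DRing.LTensor A (ModuleCat.of A (A ⧸ I))).obj K)))
    (i : ℤ) (hi : b < i) : IsZero ((homologyFunctor (ModuleCat.{u} A) i).obj K) := by
  obtain ⟨s, rfl⟩ := hI
  obtain ⟨X₀, ⟨eX⟩⟩ : ∃ X : DRing.Cx A, Nonempty (DerivedCategory.Q.obj X ≅ K) :=
    ⟨_, ⟨DerivedCategory.Q.objObjPreimageIso K⟩⟩
  obtain ⟨P, p, hP, hp, hproj⟩ := KPT.exists_kProjective_resolution_moduleCat_termwise A X₀
  have e : DRing.toD P ≅ K := asIso (DerivedCategory.Q.map p) ≪≫ eX
  refine IsZero.of_iso ?_ ((homologyFunctor (ModuleCat.{u} A) i).mapIso e.symm)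
  rw [isZero_homology_toD_iff]
  refine exactAt_of_forall_killed s.toList P hproj b ?_ ?_ i hi
  · intro f hf n
    have hfI : f ∈ Ideal.span (s : Set A) := Ideal.subset_span (by simpa using hf)
    have := hc f hfI n
    exact ⟨fun u v => by
      have h1 : u ≫ (e.hom)⟦n⟧' = v ≫ (e.hom)⟦n⟧' := Subsingleton.elim _ _
      exact (cancel_mono _).1 h1⟩
  · intro N hN j hj
    have hN' : ∀ a ∈ Ideal.span (s : Set A), ∀ x : N, a • x = 0 := by
      intro a ha
      refine Submodule.span_induction (p := fun a _ => ∀ x : N, a • x = 0) ?_ ?_ ?_ ?_ ha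
      · intro f hf x
        exact hN f (by simpa using hf) x
      · intro x
        exact zero_smul _ _
      · intro a b _ _ ha hb x
        rw [add_smul, ha, hb, add_zero]
      · intro r a _ ha x
        rw [smul_eq_mul, mul_smul, ha, smul_zero]
    have := hasLTensor A N
    have h1 := isZero_homology_LTensor_of_pow (Ideal.span (s : Set A)) K b h N 1
      (by rwa [pow_one]) j hj
    have e1 := (DRing.LTensor A N).mapIso e.symm ≪≫ ltIso A N P
    rw [← isZero_homology_toD_iff]
    exact h1.of_iso ((homologyFunctor (ModuleCat.{u} A) j).mapIso e1.symm)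

theorem isZero_of_isDerivedComplete_of_LTensor_quotient (I : Ideal A) (hI : I.FG)
    [DRing.HasLTensor A (ModuleCat.of A (A ⧸ I))]
    (K : Dual.D A) (hc : DRing.IsDerivedComplete I K)
    (h0 : IsZero ((DRing.LTensor A (ModuleCat.of A (A ⧸ I))).obj K)) : IsZero K := by
  have hall : ∀ i : ℤ, IsZero ((homologyFunctor (ModuleCat.{u} A) i).obj K) := fun i =>
    isZero_homology_of_isDerivedComplete I hI K hc (i - 1)
      (fun j _ => (homologyFunctor (ModuleCat.{u} A) j).map_isZero h0) i (by omega)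
  have h1 : K.IsLE (-1) := by
    rw [DerivedCategory.isLE_iff]
    exact fun i _ => hall i
  have h2 : K.IsGE 0 := by
    rw [DerivedCategory.isGE_iff]
    exact fun i _ => hall i
  exact TStructure.t.isZero K (-1) 0 (by omega)

theorem isZero_homology_LTensor_of_isLE (N : ModuleCat.{u} A) [DRing.HasLTensor A N]
    (K : Dual.D A) (b : ℤ) [K.IsLE b] (i : ℤ) (hi : b < i) :
    IsZero ((homologyFunctor (ModuleCat.{u} A) i).obj ((DRing.LTensor A N).obj K)) := by
  obtain ⟨P, hPb, hPproj, ⟨e⟩⟩ := exists_projective_rep K b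
  have hKP : P.IsKProjective := isKProjective_of_vanishesAbove P b hPb hPproj
  have e1 := (DRing.LTensor A N).mapIso e.symm ≪≫ ltIso A N P
  refine IsZero.of_iso ?_ ((homologyFunctor (ModuleCat.{u} A) i).mapIso e1)
  rw [isZero_homology_toD_iff]
  apply exactAt_of_isZero_X
  exact CategoryTheory.Functor.map_isZero (tensorRight N) (hPb i hi)

end Main

end Groth.Agent.Lib.Helper35.DCN
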