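import Groth.Agent.Lib.Helper35.DComplTri
import Groth.Agent.Lib.Helper35.DCNakCx
import Groth.Agent.Lib.Helper35.FlatLBC
import Mathlib.Algebra.Homology.DerivedCategory.ShortExact

/-! Dévissage on finite modules over a Noetherian ring for termwise tensor products (helper35). -/

set_option autoImplicit false
set_option linter.unusedSectionVars false
universe u
open CategoryTheory CategoryTheory.Limits MonoidalCategory DerivedCategory CochainComplex
  TensorProduct Pretriangulated
attribute [local instance] HasDerivedCategory.standard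

namespace Groth.Agent.Lib.Helper35.DCDev

open Groth.Agent.Lib.Helper35.DC Groth.Agent.Lib.Helper35.DCN Groth.Agent.Lib.Helper35.TA
  Groth.Agent.Lib.Helper35

variable {A : Type u} [CommRing A]

/-- Precomposition with the first map of a distinguished triangle is bijective on morphisms to `E`
when there are no nonzero morphisms from the third object to `E` and `E⟦1⟧`. -/
theorem bijective_precomp_mor₁ (T : Triangle (Dual.D A)) (hT : T ∈ distTriang (Dual.D A))
    (E : Dual.D A) (h0 : ∀ φ : T.obj₃ ⟶ E, φ = 0) (h1 : ∀ φ : T.obj₃ ⟶ E⟦(1 : ℤ)⟧, φ = 0) :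
    Function.Bijective (fun φ : T.obj₂ ⟶ E => T.mor₁ ≫ φ) := by
  constructor
  · intro φ ψ hφψ
    have h : T.mor₁ ≫ (φ - ψ) = 0 := by
      rw [Preadditive.comp_sub]; exact sub_eq_zero.mpr hφψ
    obtain ⟨χ, hχ⟩ := Triangle.yoneda_exact₂ T hT (φ - ψ) h
    rw [h0 χ, comp_zero] at hχ
    exact sub_eq_zero.mp hχ
  · intro ψ
    obtain ⟨φ, hφ⟩ := KL.exists_of_mor₃_comp_shift_eq_zero T hT ψ (h1 _)
    exact ⟨φ, hφ.symm⟩

theorem UB_toD_of_isZero_X (X : DRing.Cx A) (b : ℤ) (hX : ∀ i : ℤ, b < i → IsZero (X.X i)) :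
    DCE.UB b (DRing.toD X) := by
  intro i hi
  rw [isZero_homology_toD_iff]
  exact exactAt_of_isZero_X _ _ (hX i hi)

theorem UB_toD_tenCx (X : DRing.Cx A) (b : ℤ) (hX : DRing.VanishesAbove X b)
    (N : ModuleCat.{u} A) : DCE.UB b (DRing.toD (tenCx X N)) :=
  UB_toD_of_isZero_X _ b (fun i hi => CategoryTheory.Functor.map_isZero (tensorRight N) (hX i hi))

/-- The distinguished triangle obtained by tensoring a termwise flat complex with a short exact
sequence of modules. -/
theorem exists_triangle_tenCx (X : DRing.Cx A) (hX : ∀ i : ℤ, Module.Flat A (X.X i))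
    (S : ShortComplex (ModuleCat.{u} A)) (hS : S.ShortExact) :
    ∃ T : Triangle (Dual.D A), T ∈ distTriang (Dual.D A) ∧
      T.obj₁ = DRing.toD (tenCx X S.X₁) ∧ T.obj₂ = DRing.toD (tenCx X S.X₂) ∧
      T.obj₃ = DRing.toD (tenCx X S.X₃) :=
  ⟨_, DerivedCategory.triangleOfSES_distinguished (tenSC_shortExact X hX S hS), rfl, rfl, rfl⟩

/-- `X ⊗ N ≅ X ⊗ N'` for isomorphic modules. -/
noncomputable def tenCxIso (X : DRing.Cx A) {N N' : ModuleCat.{u} A} (e : N ≅ N') :
    tenCx X N ≅ tenCx X N' :=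
  (NatIso.mapHomologicalComplex ((tensoringRight (ModuleCat.{u} A)).mapIso e)
    (ComplexShape.up ℤ)).app X

/-- The short exact sequence `0 → A^m → A^(m+1) → A → 0`. -/
noncomputable def finSC (m : ℕ) : ShortComplex (ModuleCat.{u} A) :=
  ShortComplex.mk
    (X₁ := ModuleCat.of A (Fin m → A)) (X₂ := ModuleCat.of A (Fin (m + 1) → A))
    (X₃ := 𝟙_ (ModuleCat.{u} A))
    (ModuleCat.ofHom ((Fin.consLinearEquiv A (fun _ : Fin (m + 1) => A)).toLinearMap ∘ₗ
      LinearMap.inr A A (Fin m → A)))
    (ModuleCat.ofHom (LinearMap.proj (0 : Fin (m + 1)) : (Fin (m + 1) → A) →ₗ[A] A)) (by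
      ext v
      rfl)

theorem finSC_shortExact (m : ℕ) : (finSC (A := A) m).ShortExact := by
  refine ModuleCat.shortComplex_shortExact _ ?_ ?_ ?_
  · intro w
    constructor
    · intro hw
      refine ⟨Fin.tail w, ?_⟩
      change Fin.cons (0 : A) (Fin.tail w) = w
      have h0 : w 0 = 0 := hw
      rw [← h0]
      exact Fin.cons_self_tail w
    · rintro ⟨v, rfl⟩
      rfl
  · intro v v' h
    have h' : (Fin.cons (0 : A) v : Fin (m + 1) → A) = Fin.cons (0 : A) v' := h
    exact (Fin.cons_injective2 h').2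
  · intro a
    exact ⟨Fin.cons a 0, rfl⟩


/-- Abstract dévissage: a family of "cohomological tests" `G n` which holds for `R` holds for
`R ⊗ M` for all finite modules `M` over a Noetherian ring. -/
theorem devissage [IsNoetherianRing A] (G : ℤ → Dual.D A → Prop) (c : ℤ)
    (hiso : ∀ (n : ℤ) (X Y : Dual.D A), (X ≅ Y) → G n X → G n Y)
    (htri : ∀ T ∈ distTriang (Dual.D A), ∀ n : ℤ, G n T.obj₂ → G (n + 1) T.obj₁ → G n T.obj₃)
    (hext : ∀ T ∈ distTriang (Dual.D A), ∀ n : ℤ, G n T.obj₁ → G n T.obj₃ → G n T.obj₂)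
    (hbd : ∀ (b : ℤ) (X : Dual.D A), DCE.UB b X → ∀ n : ℤ, b + c ≤ n → G n X)
    (R : DRing.Cx A) (b : ℤ) (hRb : DRing.VanishesAbove R b)
    (hRflat : ∀ i : ℤ, Module.Flat A (R.X i))
    (hR : ∀ n : ℤ, G n (DRing.toD R))
    (M : Type u) [AddCommGroup M] [Module A M] [Module.Finite A M] (n : ℤ) :
    G n (DRing.toD (tenCx R (ModuleCat.of A M))) := by
  -- zero complexes
  have hzero : ∀ N : ModuleCat.{u} A, IsZero N → ∀ n : ℤ, G n (DRing.toD (tenCx R N)) := by
    intro N hN n
    refine hbd (n - c) _ (UB_toD_of_isZero_X _ _ (fun i _ => ?_)) n (by omega)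
    exact CategoryTheory.Functor.map_isZero (tensorLeft (R.X i)) hN
  -- free modules
  have hfree : ∀ (m : ℕ) (n : ℤ), G n (DRing.toD (tenCx R (ModuleCat.of A (Fin m → A)))) := by
    intro m
    induction m with
    | zero =>
      intro n
      exact hzero _ (ModuleCat.isZero_of_subsingleton _) n
    | succ m ih =>
      intro n
      obtain ⟨T, hT, h₁, h₂, h₃⟩ := exists_triangle_tenCx R hRflat _ (finSC_shortExact (A := A) m)
      have := hext T hT n (by rw [h₁]; exact ih n) (by
        rw [h₃]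
        exact hiso n _ _ (DerivedCategory.Q.mapIso (tensorRightUnitCxIso R)).symm (hR n))
      rw [h₂] at this
      exact this
  -- induction on the level
  have hlevel : ∀ (k : ℕ) (M : Type u) [AddCommGroup M] [Module A M] [Module.Finite A M] (n : ℤ),
      b + c - k ≤ n → G n (DRing.toD (tenCx R (ModuleCat.of A M))) := by
    intro k
    induction k with
    | zero =>
      intro M _ _ _ n hn
      exact hbd b _ (UB_toD_tenCx R b hRb _) n (by simpa using hn)
    | succ k ih =>
      intro M _ _ _ n hn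
      obtain ⟨m, π, hπ⟩ := Module.Finite.exists_fin' A M
      let S : ShortComplex (ModuleCat.{u} A) :=
        ShortComplex.mk (ModuleCat.ofHom (LinearMap.ker π).subtype) (ModuleCat.ofHom π) (by
          ext x
          exact x.2)
      have hS : S.ShortExact := by
        refine ModuleCat.shortComplex_shortExact _ ?_ ?_ hπ
        · intro w
          constructor
          · intro hw
            exact ⟨⟨w, hw⟩, rfl⟩
          · rintro ⟨v, rfl⟩
            exact v.2
        · exact Subtype.val_injective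
      obtain ⟨T, hT, h₁, h₂, h₃⟩ := exists_triangle_tenCx R hRflat S hS
      have := htri T hT n (by rw [h₂]; exact hfree m n) (by
        rw [h₁]
        exact ih (LinearMap.ker π) (n + 1) (by push_cast at hn; omega))
      rw [h₃] at this
      exact this
  exact hlevel (b + c - n).toNat M n (by omega)


section Tests

variable (f : A)

/-- the test "no maps from `A_f` to the `n`-th shift". -/
def GA (n : ℤ) (X : Dual.D A) : Prop :=
  Subsingleton (Dual.inD A (Localization.Away f) ⟶ X⟦n⟧)

theorem GA_iso (n : ℤ) (X Y : Dual.D A) (e : X ≅ Y) (h : GA f n X) : GA f n Y := by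
  refine ⟨fun u v => ?_⟩
  have h1 : u ≫ (e.inv)⟦n⟧' = v ≫ (e.inv)⟦n⟧' := h.elim _ _
  exact (cancel_mono _).1 h1

theorem GA_tri (T : Triangle (Dual.D A)) (hT : T ∈ distTriang (Dual.D A)) (n : ℤ)
    (h₂ : GA f n T.obj₂) (h₁ : GA f (n + 1) T.obj₁) : GA f n T.obj₃ := by
  have hT' := Triangle.shift_distinguished T hT n
  refine ⟨fun u v => ?_⟩
  suffices hz : ∀ φ : Dual.inD A (Localization.Away f) ⟶ T.obj₃⟦n⟧, φ = 0 by rw [hz u, hz v]
  intro φ
  have h0 : φ ≫ ((Triangle.shiftFunctor (Dual.D A) n).obj T).mor₃ = 0 := by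
    let ε := (CategoryTheory.shiftFunctorAdd' (Dual.D A) n 1 (n + 1) rfl).symm.app T.obj₁
    have hsub : Subsingleton (Dual.inD A (Localization.Away f) ⟶ (T.obj₁⟦n⟧)⟦(1 : ℤ)⟧) :=
      ⟨fun u v => by
        rw [← cancel_mono ε.hom]
        exact h₁.elim _ _⟩
    exact hsub.elim _ _
  obtain ⟨ψ, hψ⟩ := Triangle.coyoneda_exact₃ _ hT' φ h0
  have h1 : ψ = 0 := h₂.elim _ _
  rw [hψ, h1]
  exact zero_comp

theorem GA_ext (T : Triangle (Dual.D A)) (hT : T ∈ distTriang (Dual.D A)) (n : ℤ)
    (h₁ : GA f n T.obj₁) (h₃ : GA f n T.obj₃) : GA f n T.obj₂ := by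
  have hT' := Triangle.shift_distinguished T hT n
  refine ⟨fun u v => ?_⟩
  suffices hz : ∀ φ : Dual.inD A (Localization.Away f) ⟶ T.obj₂⟦n⟧, φ = 0 by rw [hz u, hz v]
  intro φ
  have h0 : φ ≫ ((Triangle.shiftFunctor (Dual.D A) n).obj T).mor₂ = 0 := h₃.elim _ _
  obtain ⟨ψ, hψ⟩ := Triangle.coyoneda_exact₂ _ hT' φ h0
  have h1 : ψ = 0 := h₁.elim _ _
  rw [hψ, h1]
  exact zero_comp

theorem GA_bd (b : ℤ) (X : Dual.D A) (hX : DCE.UB b X) (n : ℤ) (hn : b + 2 ≤ n) : GA f n X :=
  DCE.subsingleton_hom_single_X₃ (awayShortComplex f) (awayShortComplex_shortExact f) X n (n - 1)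
    (by omega) (hX n (by omega)) (hX (n - 1) (by omega))

end Tests

/-- Tensoring a bounded above termwise flat derived complete complex with a finite module over a
Noetherian ring gives a derived complete complex. -/
theorem isDerivedComplete_tenCx [IsNoetherianRing A] (I : Ideal A) (R : DRing.Cx A) (b : ℤ)
    (hRb : DRing.VanishesAbove R b) (hRflat : ∀ i : ℤ, Module.Flat A (R.X i))
    (hR : DRing.IsDerivedComplete I (DRing.toD R))
    (M : Type u) [AddCommGroup M] [Module A M] [Module.Finite A M] :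
    DRing.IsDerivedComplete I (DRing.toD (tenCx R (ModuleCat.of A M))) := by
  intro f hf n
  exact devissage (GA f) 2 (GA_iso f) (fun T hT n => GA_tri f T hT n)
    (fun T hT n => GA_ext f T hT n) (GA_bd f) R b hRb hRflat (fun n => hR f hf n) M n

section Compl

variable (I : Ideal A) [DRing.HasDerivedCompletion I]

/-- the test "the `n`-th cohomology of the derived completion vanishes". -/
def GC (n : ℤ) (X : Dual.D A) : Prop :=
  IsZero ((homologyFunctor (ModuleCat.{u} A) n).obj ((DRing.derivedCompletion I).obj X).obj)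

theorem GC_iso (n : ℤ) (X Y : Dual.D A) (e : X ≅ Y) (h : GC I n X) : GC I n Y :=
  IsZero.of_iso h ((homologyFunctor (ModuleCat.{u} A) n).mapIso
    ((ObjectProperty.ι (DRing.IsDerivedComplete I)).mapIso
      ((DRing.derivedCompletion I).mapIso e.symm)))

theorem GC_tri (T : Triangle (Dual.D A)) (hT : T ∈ distTriang (Dual.D A)) (n : ℤ)
    (h₂ : GC I n T.obj₂) (h₁ : GC I (n + 1) T.obj₁) : GC I n T.obj₃ := by
  obtain ⟨δ, hT'⟩ := DCE.exists_distinguished_completion I T hT
  exact DCE.isZero_homology_obj₃ _ hT' n (n + 1) rfl h₂ h₁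

theorem GC_ext (T : Triangle (Dual.D A)) (hT : T ∈ distTriang (Dual.D A)) (n : ℤ)
    (h₁ : GC I n T.obj₁) (h₃ : GC I n T.obj₃) : GC I n T.obj₂ := by
  obtain ⟨δ, hT'⟩ := DCE.exists_distinguished_completion I T hT
  exact (HomologySequence.exact₂ _ hT' n).isZero_of_both_zeros (h₁.eq_of_src _ _)
    (h₃.eq_of_tgt _ _)

theorem GC_bd (s : Finset A) (hs : Ideal.span (s : Set A) = I) (b : ℤ) (X : Dual.D A)
    (hX : DCE.UB b X) (n : ℤ) (hn : b + 1 ≤ n) : GC I n X :=
  (DCE.bd_derivedCompletion I s hs X).2 b hX n (by omega)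

/-- `X` is completion-acyclic: its derived completion vanishes. -/
def IsAcyc (X : Dual.D A) : Prop := IsZero ((DRing.derivedCompletion I).obj X).obj

theorem isAcyc_iff_forall_GC (X : Dual.D A) : IsAcyc I X ↔ ∀ n : ℤ, GC I n X := by
  constructor
  · intro h n
    exact (homologyFunctor (ModuleCat.{u} A) n).map_isZero h
  · intro h
    exact isZero_of_forall_isZero_homology _ h

theorem isAcyc_iff_forall_hom_eq_zero (X : Dual.D A) :
    IsAcyc I X ↔ ∀ E : Dual.D A, DRing.IsDerivedComplete I E → ∀ φ : X ⟶ E, φ = 0 := by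
  constructor
  · intro h E hE φ
    obtain ⟨ψ, rfl⟩ := (Bousfield.bijective_precomp_unit (DRing.derivedCompletionAdj I) X E hE).2 φ
    rw [h.eq_of_src ψ 0]
    exact comp_zero
  · intro h
    have h1 := h _ ((DRing.derivedCompletion I).obj X).property (DRing.toDerivedCompletion I X)
    have h2 := (Bousfield.bijective_precomp_unit (DRing.derivedCompletionAdj I) X _
      ((DRing.derivedCompletion I).obj X).property).1
    have h3 : 𝟙 ((DRing.derivedCompletion I).obj X).obj = 0 := by
      apply h2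
      change DRing.toDerivedCompletion I X ≫ 𝟙 _ = DRing.toDerivedCompletion I X ≫ 0
      rw [Category.comp_id, comp_zero, h1]
    exact (IsZero.iff_id_eq_zero _).2 h3

/-- Tensoring a bounded above termwise flat completion-acyclic complex with a finite module over
a Noetherian ring gives a completion-acyclic complex. -/
theorem isAcyc_tenCx [IsNoetherianRing A] (W : DRing.Cx A) (b : ℤ)
    (hWb : DRing.VanishesAbove W b) (hWflat : ∀ i : ℤ, Module.Flat A (W.X i))
    (hW : IsAcyc I (DRing.toD W))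
    (M : Type u) [AddCommGroup M] [Module A M] [Module.Finite A M] :
    IsAcyc I (DRing.toD (tenCx W (ModuleCat.of A M))) := by
  obtain ⟨s, hs⟩ := (isNoetherianRing_iff_ideal_fg A).1 inferInstance I
  rw [isAcyc_iff_forall_GC]
  intro n
  exact devissage (GC I) 1 (GC_iso I) (fun T hT n => GC_tri I T hT n)
    (fun T hT n => GC_ext I T hT n) (GC_bd I s hs) W b hWb hWflat
    ((isAcyc_iff_forall_GC I _).1 hW) M n

end Compl

end Groth.Agent.Lib.Helper35.DCDev
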