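import Groth.Agent.Lib.Helper35.DCDev
import Groth.Agent.Lib.Helper35.ConeRep

/-! Derived completion commutes with `- ⊗^L M` for finite `M` over a Noetherian ring, on bounded
above objects (helper35). -/

set_option autoImplicit false
set_option linter.unusedSectionVars false
universe u
open CategoryTheory CategoryTheory.Limits MonoidalCategory DerivedCategory CochainComplex
  TensorProduct Pretriangulated
attribute [local instance] HasDerivedCategory.standard

namespace Groth.Agent.Lib.Helper35.DCDev

open Groth.Agent.Lib.Helper35.DC Groth.Agent.Lib.Helper35.DCN Groth.Agent.Lib.Helper35.TA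
  Groth.Agent.Lib.Helper35 Groth.Agent.Lib.Helper32.LBC

variable {A : Type u} [CommRing A]

theorem ltCounit_naturality (M : ModuleCat.{u} A) [DRing.HasLTensor A M] {P R : DRing.Cx A}
    (g : P ⟶ R) :
    (DRing.LTensor A M).map (Q.map g) ≫ ltCounit A M R =
      ltCounit A M P ≫ Q.map ((Groth.Agent.Lib.Helper32.LBC.tenCx A M).map g) :=
  ((DRing.tensorKh A M).totalLeftDerivedCounit DerivedCategory.Qh
    (HomotopyCategory.quasiIso (ModuleCat.{u} A) (ComplexShape.up ℤ))).naturality
      ((HomotopyCategory.quotient _ _).map g)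


section Compl

variable (I : Ideal A)

theorem isDerivedComplete_shift (E : Dual.D A) (hE : DRing.IsDerivedComplete I E) (n : ℤ) :
    DRing.IsDerivedComplete I (E⟦n⟧) :=
  (DRing.IsDerivedComplete I).le_shift n _ hE

variable [DRing.HasDerivedCompletion I]

theorem IsAcyc.of_iso {X Y : Dual.D A} (h : IsAcyc I X) (e : X ≅ Y) : IsAcyc I Y :=
  IsZero.of_iso h ((ObjectProperty.ι (DRing.IsDerivedComplete I)).mapIso
      ((DRing.derivedCompletion I).mapIso e.symm))

theorem isAcyc_obj₃_of_bijective (T : Triangle (Dual.D A)) (hT : T ∈ distTriang (Dual.D A))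
    (h : ∀ E : Dual.D A, DRing.IsDerivedComplete I E →
      Function.Bijective (fun φ : T.obj₂ ⟶ E => T.mor₁ ≫ φ)) : IsAcyc I T.obj₃ := by
  rw [isAcyc_iff_forall_hom_eq_zero]
  intro E hE φ
  have h1 := (KL.forall_subsingleton_hom_obj₃_iff T hT E).2
    (fun n => h _ (isDerivedComplete_shift I E hE n)) 0
  let ε := (shiftFunctorZero (Dual.D A) ℤ).app E
  have h2 : φ ≫ ε.inv = 0 ≫ ε.inv := h1.elim _ _
  exact (cancel_mono _).1 h2

theorem bijective_of_isAcyc_obj₃ (T : Triangle (Dual.D A)) (hT : T ∈ distTriang (Dual.D A))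
    (h : IsAcyc I T.obj₃) (E : Dual.D A) (hE : DRing.IsDerivedComplete I E) :
    Function.Bijective (fun φ : T.obj₂ ⟶ E => T.mor₁ ≫ φ) :=
  bijective_precomp_mor₁ T hT E (fun φ => (isAcyc_iff_forall_hom_eq_zero I _).1 h E hE φ)
    (fun φ => (isAcyc_iff_forall_hom_eq_zero I _).1 h _ (isDerivedComplete_shift I E hE 1) φ)

/-- For bounded above `K`, `K^∧ ⊗^L M` is the derived completion of `K ⊗^L M` when `M` is a
finite module over a Noetherian ring. -/
theorem ltensor_completion [IsNoetherianRing A] (M : Type u) [AddCommGroup M] [Module A M]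
    [Module.Finite A M] [DRing.HasLTensor A (ModuleCat.of A M)] (K : Dual.D A) (b : ℤ)
    (hK : DCE.UB b K) :
    DRing.IsDerivedComplete I ((DRing.LTensor A (ModuleCat.of A M)).obj
        ((DRing.derivedCompletion I).obj K).obj) ∧
      ∀ E : Dual.D A, DRing.IsDerivedComplete I E →
        Function.Bijective (fun φ : (DRing.LTensor A (ModuleCat.of A M)).obj
            ((DRing.derivedCompletion I).obj K).obj ⟶ E =>
          (DRing.LTensor A (ModuleCat.of A M)).map (DRing.toDerivedCompletion I K) ≫ φ) := by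
  obtain ⟨s, hs⟩ := (isNoetherianRing_iff_ideal_fg A).1 inferInstance I
  set L := ((DRing.derivedCompletion I).obj K).obj with hLdef
  set u := DRing.toDerivedCompletion I K with hudef
  have hLc : DRing.IsDerivedComplete I L := ((DRing.derivedCompletion I).obj K).property
  have hL : DCE.UB b L := (DCE.bd_derivedCompletion I s hs K).2 b hK
  have hKle : K.IsLE b := by
    rw [DerivedCategory.isLE_iff]
    exact fun i hi => hK i hi
  have hLle : L.IsLE b := by
    rw [DerivedCategory.isLE_iff]
    exact fun i hi => hL i hi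
  obtain ⟨P, hPb, hPproj, ⟨eP⟩⟩ := exists_projective_rep K b
  obtain ⟨R, hRb, hRproj, ⟨eR⟩⟩ := exists_projective_rep L b
  have hKP : P.IsKProjective := isKProjective_of_vanishesAbove P b hPb hPproj
  have hKR : R.IsKProjective := isKProjective_of_vanishesAbove R b hRb hRproj
  have hPflat : ∀ i : ℤ, Module.Flat A (P.X i) := fun i => by
    have := hPproj i
    infer_instance
  have hRflat : ∀ i : ℤ, Module.Flat A (R.X i) := fun i => by
    have := hRproj i
    infer_instance
  obtain ⟨g, hg⟩ := KL.exists_Q_map_eq_of_isKProjective P R (eP.hom ≫ u ≫ eR.inv)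
  -- the cone of `g`
  have hWb : DRing.VanishesAbove (mappingCone g) b := by
    intro i hi
    rw [CochainComplex.mappingCone.isZero_X_iff]
    exact ⟨hPb (i + 1) (by omega), hRb i hi⟩
  have hWflat : ∀ i : ℤ, Module.Flat A ((mappingCone g).X i) := by
    intro i
    have := hPflat (i + 1)
    have := hRflat i
    have : Module.Flat A (P.X (i + 1) × R.X i) := flat_prod
    exact Module.Flat.of_linearEquiv (KL.mappingConeXLinearEquiv g i)
  have hWacyc : IsAcyc I (DRing.toD (mappingCone g)) := by
    refine isAcyc_obj₃_of_bijective I _ (mappingCone_triangle_distinguished g) ?_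
    intro E hE
    have hbij := Bousfield.bijective_precomp_unit (DRing.derivedCompletionAdj I) K E hE
    change Function.Bijective (fun φ : Q.obj R ⟶ E => Q.map g ≫ φ)
    have h1 : (fun φ : Q.obj R ⟶ E => Q.map g ≫ φ) =
        (fun ψ : K ⟶ E => eP.hom ≫ ψ) ∘ (fun φ : L ⟶ E => u ≫ φ) ∘
          (fun φ : Q.obj R ⟶ E => eR.inv ≫ φ) := by
      funext φ
      simp only [Function.comp_apply, hg, Category.assoc]
    rw [h1]
    refine Function.Bijective.comp ?_ (Function.Bijective.comp hbij ?_)
    · exact ⟨fun a b h => (cancel_epi eP.hom).1 h, fun a => ⟨eP.inv ≫ a, by simp⟩⟩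
    · exact ⟨fun a b h => (cancel_epi eR.inv).1 h, fun a => ⟨eR.hom ≫ a, by simp⟩⟩
  set N := ModuleCat.of A M with hN
  have hWM := isAcyc_tenCx I (mappingCone g) b hWb hWflat hWacyc M
  -- the tensored map
  let gM := (Groth.Agent.Lib.Helper32.LBC.tenCx A N).map g
  have hconeM : IsAcyc I (DRing.toD (mappingCone gM)) :=
    IsAcyc.of_iso I hWM (DerivedCategory.Q.mapIso
      (CochainComplex.mappingCone.mapHomologicalComplexIso g (tensorRight N)))
  have hbijM := bijective_of_isAcyc_obj₃ I _ (mappingCone_triangle_distinguished gM) hconeM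
  -- comparison isomorphisms
  let β₁ : (DRing.LTensor A N).obj K ≅ DRing.toD (DCN.tenCx P N) :=
    (DRing.LTensor A N).mapIso eP.symm ≪≫ ltIso A N P
  let β₂ : (DRing.LTensor A N).obj L ≅ DRing.toD (DCN.tenCx R N) :=
    (DRing.LTensor A N).mapIso eR.symm ≪≫ ltIso A N R
  have hcomm : (DRing.LTensor A N).map u = β₁.hom ≫ Q.map gM ≫ β₂.inv := by
    have hu : u = eP.inv ≫ Q.map g ≫ eR.hom := by
      rw [hg]
      simp
    have hnat := ltCounit_naturality N g
    have h1 : (DRing.LTensor A N).map (Q.map g) = (ltIso A N P).hom ≫ Q.map gM ≫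
        (ltIso A N R).inv := by
      rw [← Category.assoc, Iso.eq_comp_inv]
      exact hnat
    rw [hu, Functor.map_comp, Functor.map_comp, h1]
    simp only [β₁, β₂, Iso.trans_hom, Iso.trans_inv, Functor.mapIso_hom, Functor.mapIso_inv,
      Iso.symm_hom, Iso.symm_inv, Category.assoc]
  refine ⟨?_, ?_⟩
  · have hRc : DRing.IsDerivedComplete I (DRing.toD R) :=
      (DRing.IsDerivedComplete I).prop_of_iso eR.symm hLc
    have := isDerivedComplete_tenCx I R b hRb hRflat hRc M
    exact (DRing.IsDerivedComplete I).prop_of_iso β₂.symm this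
  · intro E hE
    have h1 : (fun φ : (DRing.LTensor A N).obj L ⟶ E => (DRing.LTensor A N).map u ≫ φ) =
        (fun ψ : DRing.toD (DCN.tenCx P N) ⟶ E => β₁.hom ≫ ψ) ∘
          (fun φ : DRing.toD (DCN.tenCx R N) ⟶ E => Q.map gM ≫ φ) ∘
          (fun φ : (DRing.LTensor A N).obj L ⟶ E => β₂.inv ≫ φ) := by
      funext φ
      simp only [Function.comp_apply, hcomm, Category.assoc]
    rw [h1]
    refine Function.Bijective.comp ?_ (Function.Bijective.comp (hbijM E hE) ?_)
    · exact ⟨fun a b h => (cancel_epi β₁.hom).1 h, fun a => ⟨β₁.inv ≫ a, by simp⟩⟩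
    · exact ⟨fun a b h => (cancel_epi β₂.inv).1 h, fun a => ⟨β₂.hom ≫ a, by simp⟩⟩

end Compl

end Groth.Agent.Lib.Helper35.DCDev
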