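import Groth.Agent.Lib.Helper35.DCDev2
import Groth.Agent.Lib.Helper6.LTCx
import Groth.Agent.Lib.Helper30.SigmaGE
import Mathlib.Algebra.Homology.BifunctorShift
import Mathlib.Algebra.Homology.HomotopyCategory.SingleFunctors

/-! Dévissage on bounded above complexes of finite free modules for tensor products of complexes
(helper35). -/

set_option autoImplicit false
set_option linter.unusedSectionVars false
universe u
open CategoryTheory CategoryTheory.Limits MonoidalCategory DerivedCategory CochainComplex
  TensorProduct Pretriangulated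
attribute [local instance] HasDerivedCategory.standard

namespace Groth.Agent.Lib.Helper35.DCDevCx

open Groth.Agent.Lib.Helper35.DC Groth.Agent.Lib.Helper35.DCN Groth.Agent.Lib.Helper35.TA
  Groth.Agent.Lib.Helper35 Groth.Agent.Lib.Helper35.DCDev Groth.Agent.Lib.Helper28.TensCx
  Groth.Agent.Lib.Helper6.LTCx Groth.Agent.Lib.Helper30.SigmaGE

variable {A : Type u} [CommRing A]

/-- A family of cohomological tests. -/
structure GTest (A : Type u) [CommRing A] where
  /-- the tests -/
  G : ℤ → Dual.D A → Prop
  /-- the bound -/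
  c : ℤ
  iso : ∀ (n : ℤ) (X Y : Dual.D A), (X ≅ Y) → G n X → G n Y
  ext : ∀ T ∈ distTriang (Dual.D A), ∀ n : ℤ, G n T.obj₁ → G n T.obj₃ → G n T.obj₂
  bd : ∀ (b : ℤ) (X : Dual.D A), DCE.UB b X → ∀ n : ℤ, b + c ≤ n → G n X
  shift : ∀ (n a : ℤ) (X : Dual.D A), G (n + a) X → G n (X⟦a⟧)

/-- `(single q) N ≅ ((single 0) N)⟦-q⟧`. -/
noncomputable def singleShiftIso (q : ℤ) (N : ModuleCat.{u} A) :
    (CochainComplex.singleFunctor (ModuleCat.{u} A) q).obj N ≅
      ((CochainComplex.singleFunctor (ModuleCat.{u} A) 0).obj N)⟦(-q : ℤ)⟧ :=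
  (((CochainComplex.singleFunctors (ModuleCat.{u} A)).shiftIso (-q) q 0 (by omega)).app N).symm

/-- `R ⊗ (single q) A ≅ R⟦-q⟧`. -/
noncomputable def tensorSingleUnitIso (R : DRing.Cx A) (q : ℤ) :
    R ⊗ (CochainComplex.singleFunctor (ModuleCat.{u} A) q).obj (𝟙_ (ModuleCat.{u} A)) ≅
      R⟦(-q : ℤ)⟧ :=
  (tensorLeft R).mapIso (singleShiftIso q _) ≪≫
    CochainComplex.mapBifunctorShift₂Iso R _ (curriedTensor (ModuleCat.{u} A)) (-q) ≪≫
    (CategoryTheory.shiftFunctor (DRing.Cx A) (-q)).mapIso (ρ_ R)

/-- The distinguished triangle obtained by tensoring with a degreewise split short exact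
sequence of complexes. -/
theorem exists_triangle_whiskerLeft (R : DRing.Cx A) (S : ShortComplex (DRing.Cx A))
    (hS : S.ShortExact) (r : ∀ q, S.X₂.X q ⟶ S.X₁.X q) (hr : ∀ q, S.f.f q ≫ r q = 𝟙 _) :
    ∃ T : Triangle (Dual.D A), T ∈ distTriang (Dual.D A) ∧
      T.obj₁ = DRing.toD (R ⊗ S.X₁) ∧ T.obj₂ = DRing.toD (R ⊗ S.X₂) ∧
      T.obj₃ = DRing.toD (R ⊗ S.X₃) :=
  ⟨_, DerivedCategory.triangleOfSES_distinguished
    (shortExact_whiskerLeft_of_retraction R S hS r hr), rfl, rfl, rfl⟩

/-- The splitting of `0 → A^m → A^(m+1) → A → 0`. -/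
noncomputable def finSplitting (m : ℕ) : (finSC (A := A) m).Splitting where
  r := ModuleCat.ofHom
    { toFun := fun w => Fin.tail w
      map_add' := fun _ _ => rfl
      map_smul' := fun _ _ => rfl }
  s := ModuleCat.ofHom
    { toFun := fun a => Fin.cons a 0
      map_add' := fun a b => by
        funext i
        refine Fin.cases ?_ (fun j => ?_) i
        · rfl
        · simp
      map_smul' := fun a b => by
        funext i
        refine Fin.cases ?_ (fun j => ?_) i
        · rfl
        · simp }
  f_r := by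
    ext v
    rfl
  s_g := by
    apply ModuleCat.hom_ext
    apply LinearMap.ext
    intro a
    rfl
  id := by
    apply ModuleCat.hom_ext
    apply LinearMap.ext
    intro w
    have hw : ((Fin.cons (0 : A) (Fin.tail w) : Fin (m + 1) → A) +
        (Fin.cons (w 0) (0 : Fin m → A) : Fin (m + 1) → A) : Fin (m + 1) → A) = w := by
      funext i
      refine Fin.cases ?_ (fun j => ?_) i
      · change (0 : A) + w 0 = w 0
        rw [zero_add]
      · change Fin.tail w j + (0 : A) = w j.succ
        rw [add_zero]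
        rfl
    exact hw


theorem isZero_tensor_of_isZero (R : DRing.Cx A) {Z : DRing.Cx A} (h : IsZero Z) :
    IsZero (R ⊗ Z) := by
  rw [IsZero.iff_id_eq_zero, ← MonoidalCategory.whiskerLeft_id, (IsZero.iff_id_eq_zero Z).1 h,
    whiskerLeft_zero]

section Main

variable (T : GTest A) (R : DRing.Cx A) (b : ℤ) (hRb : DRing.VanishesAbove R b)
  (hRflat : ∀ i : ℤ, Module.Flat A (R.X i)) (hR : ∀ n : ℤ, T.G n (DRing.toD R))

include hR in
/-- Step 1: the unit in degree `q`. -/
theorem G_tensor_single_unit (q n : ℤ) :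
    T.G n (DRing.toD (R ⊗ (CochainComplex.singleFunctor (ModuleCat.{u} A) q).obj
      (𝟙_ (ModuleCat.{u} A)))) := by
  have e : (DRing.toD R)⟦(-q : ℤ)⟧ ≅ DRing.toD (R ⊗
      (CochainComplex.singleFunctor (ModuleCat.{u} A) q).obj (𝟙_ (ModuleCat.{u} A))) :=
    ((DerivedCategory.Q.commShiftIso (-q)).app R).symm ≪≫
      DerivedCategory.Q.mapIso (tensorSingleUnitIso R q).symm
  exact T.iso n _ _ e (T.shift n (-q) _ (hR (n + -q)))

theorem G_of_isZero (X : Dual.D A) (h : IsZero X) (n : ℤ) : T.G n X :=
  T.bd (n - T.c) X (fun i _ => (homologyFunctor (ModuleCat.{u} A) i).map_isZero h) n (by omega)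

include hR in
/-- Step 2: finite free modules in degree `q`. -/
theorem G_tensor_single_fin (q : ℤ) (m : ℕ) : ∀ n : ℤ,
    T.G n (DRing.toD (R ⊗ (CochainComplex.singleFunctor (ModuleCat.{u} A) q).obj
      (ModuleCat.of A (Fin m → A)))) := by
  induction m with
  | zero =>
    intro n
    apply G_of_isZero
    apply CategoryTheory.Functor.map_isZero DerivedCategory.Q
    apply isZero_tensor_of_isZero
    apply CategoryTheory.Functor.map_isZero
    exact ModuleCat.isZero_of_subsingleton _
  | succ m ih =>
    intro n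
    let σ' := (finSplitting (A := A) m).map (CochainComplex.singleFunctor (ModuleCat.{u} A) q)
    obtain ⟨Tr, hTr, h₁, h₂, h₃⟩ := exists_triangle_whiskerLeft R _ σ'.shortExact
      (fun i => σ'.r.f i) (fun i => by
        have := congrArg (fun φ => φ.f i) σ'.f_r
        exact this)
    have := T.ext Tr hTr n (by rw [h₁]; exact ih n) (by
      rw [h₃]
      exact G_tensor_single_unit T R hR q n)
    rw [h₂] at this
    exact this

include hR in
/-- Step 3: complexes concentrated in one degree, with a finite free term. -/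
theorem G_tensor_of_concentrated (F : DRing.Cx A) (q : ℤ)
    (hF : ∀ i : ℤ, i ≠ q → IsZero (F.X i)) (hfin : Module.Finite A (F.X q))
    (hfree : Module.Free A (F.X q)) (n : ℤ) : T.G n (DRing.toD (R ⊗ F)) := by
  have h1 : F.IsStrictlyGE q := by
    rw [CochainComplex.isStrictlyGE_iff]
    exact fun i hi => hF i (by omega)
  have h2 : F.IsStrictlyLE q := by
    rw [CochainComplex.isStrictlyLE_iff]
    exact fun i hi => hF i (by omega)
  obtain ⟨M, ⟨e⟩⟩ := F.exists_iso_single q
  let eM : M ≅ F.X q :=
    (HomologicalComplex.singleObjXSelf (ComplexShape.up ℤ) q M).symm ≪≫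
      ((HomologicalComplex.eval _ _ q).mapIso e).symm
  let bas := (Module.Free.chooseBasis A (F.X q)).reindex
    (Fintype.equivFin (Module.Free.ChooseBasisIndex A (F.X q)))
  let eN : M ≅ ModuleCat.of A (Fin (Fintype.card (Module.Free.ChooseBasisIndex A (F.X q))) → A) :=
    eM ≪≫ bas.equivFun.toModuleIso
  let eF : F ≅ (CochainComplex.singleFunctor (ModuleCat.{u} A) q).obj
      (ModuleCat.of A (Fin (Fintype.card (Module.Free.ChooseBasisIndex A (F.X q))) → A)) :=
    e ≪≫ (CochainComplex.singleFunctor (ModuleCat.{u} A) q).mapIso eN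
  exact T.iso n _ _ (DerivedCategory.Q.mapIso ((tensorLeft R).mapIso eF.symm))
    (G_tensor_single_fin T R hR q _ n)

include hRb hR in
/-- Step 4: induction on the number of relevant degrees. -/
theorem G_tensor_level (k : ℕ) : ∀ (F : DRing.Cx A) (c' : ℤ), DRing.VanishesAbove F c' →
    DRing.TermwiseFiniteFree F → ∀ n : ℤ, b + c' + T.c - k ≤ n →
      T.G n (DRing.toD (R ⊗ F)) := by
  induction k with
  | zero =>
    intro F c' hF _ n hn
    exact T.bd (b + c') _ (UB_toD_of_isZero_X _ _ (vanishesAbove_tensor hRb hF)) n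
      (by simpa using hn)
  | succ k ih =>
    intro F c' hF hFf n hn
    have hS := sc_shortExact F c'
    let r : ∀ i : ℤ, F.X i ⟶ (sigmaGE F c').X i := fun i =>
      if h : c' ≤ i then (have := isIso_ιGE_f F c' i h; inv ((ιGE F c').f i)) else 0
    have hr : ∀ i : ℤ, (ιGE F c').f i ≫ r i = 𝟙 _ := by
      intro i
      by_cases h : c' ≤ i
      · have := isIso_ιGE_f F c' i h
        simp only [r, dif_pos h]
        exact IsIso.hom_inv_id _
      · exact (isZero_sigmaGE_X F c' i (by omega)).eq_of_src _ _
    obtain ⟨Tr, hTr, h₁, h₂, h₃⟩ := exists_triangle_whiskerLeft R (sc F c') hS r hr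
    have hG₁ : T.G n (DRing.toD (R ⊗ sigmaGE F c')) := by
      have hiso := isIso_ιGE_f F c' c' le_rfl
      let e := (asIso ((ιGE F c').f c')).toLinearEquiv
      refine G_tensor_of_concentrated T R hR (sigmaGE F c') c' ?_ ?_ ?_ n
      · intro i hi
        by_cases h : i < c'
        · exact isZero_sigmaGE_X F c' i h
        · have := isIso_ιGE_f F c' i (by omega)
          exact (hF i (by omega)).of_iso (asIso ((ιGE F c').f i))
      · have := (hFf c').1
        exact Module.Finite.equiv e.symm
      · have := (hFf c').2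
        exact Module.Free.of_equiv e.symm
    have hG₃ : T.G n (DRing.toD (R ⊗ sigmaLT F c')) := by
      refine ih (sigmaLT F c') (c' - 1) ?_ ?_ n (by push_cast at hn; omega)
      · intro i hi
        exact isZero_sigmaLT_X F c' i (by omega)
      · intro i
        by_cases h : i < c'
        · have := isIso_πLT_f F c' i h
          let e := (asIso ((πLT F c').f i)).toLinearEquiv
          have := (hFf i).1
          have := (hFf i).2
          exact ⟨Module.Finite.equiv e, Module.Free.of_equiv e⟩
        · have : Subsingleton ((sigmaLT F c').X i) :=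
            ModuleCat.subsingleton_of_isZero (isZero_sigmaLT_X F c' i (by omega))
          exact ⟨inferInstance, inferInstance⟩
    have := T.ext Tr hTr n (by rw [h₁]; exact hG₁) (by rw [h₃]; exact hG₃)
    rw [h₂] at this
    exact this

include hRb hR in
/-- Dévissage for tensor products with bounded above complexes of finite free modules. -/
theorem G_tensor (F : DRing.Cx A) (c' : ℤ) (hF : DRing.VanishesAbove F c')
    (hFf : DRing.TermwiseFiniteFree F) (n : ℤ) : T.G n (DRing.toD (R ⊗ F)) :=
  G_tensor_level T R b hRb hR (b + c' + T.c - n).toNat F c' hF hFf n (by omega)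

end Main


section Tests

/-- The test "no maps from `A_f` to the `n`-th shift". -/
noncomputable def testA (f : A) : GTest A where
  G := GA f
  c := 2
  iso := GA_iso f
  ext := fun T hT n => GA_ext f T hT n
  bd := GA_bd f
  shift := by
    intro n a X h
    refine ⟨fun u v => ?_⟩
    let ε := (CategoryTheory.shiftFunctorAdd' (Dual.D A) a n (n + a) (by omega)).symm.app X
    rw [← cancel_mono ε.hom]
    exact h.elim _ _

variable (I : Ideal A) [DRing.HasDerivedCompletion I]

theorem GC_shift (n a : ℤ) (X : Dual.D A) (h : GC I (n + a) X) : GC I n (X⟦a⟧) := by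
  let adj := DRing.derivedCompletionAdj I
  let _ : (DRing.derivedCompletion I).CommShift ℤ := adj.leftAdjointCommShift ℤ
  let e₁ : (DRing.derivedCompletion I).obj (X⟦a⟧) ≅ ((DRing.derivedCompletion I).obj X)⟦a⟧ :=
    ((DRing.derivedCompletion I).commShiftIso a).app X
  let e₂ : ((DRing.derivedCompletion I).obj (X⟦a⟧)).obj ≅
      (((DRing.derivedCompletion I).obj X).obj)⟦a⟧ :=
    (ObjectProperty.ι (DRing.IsDerivedComplete I)).mapIso e₁ ≪≫
      ((ObjectProperty.ι (DRing.IsDerivedComplete I)).commShiftIso a).app _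
  refine IsZero.of_iso ?_ ((homologyFunctor (ModuleCat.{u} A) n).mapIso e₂)
  exact DCE.isZero_homology_shift _ a n (n + a) (by omega) h

/-- The test "the `n`-th cohomology of the derived completion vanishes". -/
noncomputable def testC (s : Finset A) (hs : Ideal.span (s : Set A) = I) : GTest A where
  G := GC I
  c := 1
  iso := GC_iso I
  ext := fun T hT n => GC_ext I T hT n
  bd := GC_bd I s hs
  shift := GC_shift I

end Tests

end Groth.Agent.Lib.Helper35.DCDevCx
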