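import Groth.Agent.Lib.Helper35.DCDevCx

/-! Derived completion commutes with `- ⊗^L F` for bounded above complexes `F` of finite free
modules, on bounded above objects (helper35). -/

set_option autoImplicit false
set_option linter.unusedSectionVars false
universe u
open CategoryTheory CategoryTheory.Limits MonoidalCategory DerivedCategory CochainComplex
  TensorProduct Pretriangulated
attribute [local instance] HasDerivedCategory.standard

namespace Groth.Agent.Lib.Helper35.DCDevCx

open Groth.Agent.Lib.Helper35.DC Groth.Agent.Lib.Helper35.DCN Groth.Agent.Lib.Helper35.TA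
  Groth.Agent.Lib.Helper35 Groth.Agent.Lib.Helper35.DCDev Groth.Agent.Lib.Helper28.TensCx
  Groth.Agent.Lib.Helper6.LTCx Groth.Agent.Lib.Helper30.SigmaGE Groth.Agent.Lib.Helper32.LBC
  Groth.Agent.Lib.Helper28

variable {A : Type u} [CommRing A]

theorem isZero_biprod_X {X Y : DRing.Cx A} (k : ℤ) (hX : IsZero (X.X k)) (hY : IsZero (Y.X k)) :
    IsZero ((X ⊞ Y).X k) := by
  rw [IsZero.iff_id_eq_zero]
  have h : 𝟙 (X ⊞ Y) = biprod.fst ≫ biprod.inl + biprod.snd ≫ biprod.inr := biprod.total.symm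
  have h1 := congrArg (fun φ => φ.f k) h
  simp only [HomologicalComplex.id_f, HomologicalComplex.add_f_apply,
    HomologicalComplex.comp_f] at h1
  rw [h1, hX.eq_of_tgt ((biprod.fst : X ⊞ Y ⟶ X).f k) 0, hY.eq_of_tgt ((biprod.snd : X ⊞ Y ⟶ Y).f k) 0,
    zero_comp, zero_comp, add_zero]

theorem vanishesAbove_cylC {P R : DRing.Cx A} (g : P ⟶ R) (b : ℤ)
    (hPb : DRing.VanishesAbove P b) (hRb : DRing.VanishesAbove R b) :
    DRing.VanishesAbove (cylC g) b := by
  intro k hk
  have hZ : IsZero ((cylZ P R).X k) := by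
    apply isZero_biprod_X
    · rw [CochainComplex.mappingCone.isZero_X_iff]
      exact ⟨hPb (k + 1) (by omega), hPb k hk⟩
    · exact hRb k hk
  have hS := (HomologicalComplex.shortExact_iff_degreewise_shortExact (cylS₂ g)).1
    (cylS₂_shortExact g) k
  have : Epi ((cokernel.π (cylI g)).f k) := hS.epi_g
  exact @IsZero.of_epi_eq_zero _ _ _ _ _ ((cokernel.π (cylI g)).f k) this (hZ.eq_of_src _ _)


/-- For bounded above `K`, `K^∧ ⊗^L F` is the derived completion of `K ⊗^L F` when `F` is a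
bounded above complex of finite free modules (and `I` is finitely generated). -/
theorem ltensorCx_completion (I : Ideal A) (hI : I.FG) [DRing.HasDerivedCompletion I]
    (F : DRing.Cx A) (c : ℤ) (hFc : DRing.VanishesAbove F c) (hFf : DRing.TermwiseFiniteFree F)
    [DRing.HasLTensorCx A F] (K : Dual.D A) (b : ℤ) (hK : DCE.UB b K) :
    DRing.IsDerivedComplete I ((DRing.LTensorCx A F).obj
        ((DRing.derivedCompletion I).obj K).obj) ∧
      ∀ E : Dual.D A, DRing.IsDerivedComplete I E →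
        Function.Bijective (fun φ : (DRing.LTensorCx A F).obj
            ((DRing.derivedCompletion I).obj K).obj ⟶ E =>
          (DRing.LTensorCx A F).map (DRing.toDerivedCompletion I K) ≫ φ) := by
  obtain ⟨s, hs⟩ := hI
  set L := ((DRing.derivedCompletion I).obj K).obj with hLdef
  set u := DRing.toDerivedCompletion I K with hudef
  have hLc : DRing.IsDerivedComplete I L := ((DRing.derivedCompletion I).obj K).property
  have hL : DCE.UB b L := (DCE.bd_derivedCompletion I s hs K).2 b hK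
  have hKle : K.IsLE b := by
    rw [DerivedCategory.isLE_iff]
    exact fun i hi => hK i hi
  have hLle : L.IsLE b := by
    rw [DerivedCategory.isLE_iff]
    exact fun i hi => hL i hi
  obtain ⟨P, hPb, hPproj, ⟨eP⟩⟩ := exists_projective_rep K b
  obtain ⟨R, hRb, hRproj, ⟨eR⟩⟩ := exists_projective_rep L b
  have hKP : P.IsKProjective := isKProjective_of_vanishesAbove P b hPb hPproj
  have hKR : R.IsKProjective := isKProjective_of_vanishesAbove R b hRb hRproj
  have hKF : F.IsKProjective := isKProjective_of_vanishesAbove F c hFc (fun i => by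
    have := (hFf i).2
    infer_instance)
  have hFflat : KFlat F := KProjFlat.kflat_of_isKProjective F
  obtain ⟨g, hg⟩ := KL.exists_Q_map_eq_of_isKProjective P R (eP.hom ≫ u ≫ eR.inv)
  -- the cylinder of `g`
  have hsnd : IsIso (Q.map (biprod.snd : cylZ P R ⟶ R)) := by
    rw [isIso_Q_map_iff_quasiIso]
    infer_instance
  have hcyl : Q.map (cylI g) ≫ Q.map (biprod.snd : cylZ P R ⟶ R) = Q.map g := by
    rw [← Functor.map_comp, cylI_snd]
  have hgbij : ∀ E : Dual.D A, DRing.IsDerivedComplete I E →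
      Function.Bijective (fun φ : Q.obj R ⟶ E => Q.map g ≫ φ) := by
    intro E hE
    have hbij := Bousfield.bijective_precomp_unit (DRing.derivedCompletionAdj I) K E hE
    have h1 : (fun φ : Q.obj R ⟶ E => Q.map g ≫ φ) =
        (fun ψ : K ⟶ E => eP.hom ≫ ψ) ∘ (fun φ : L ⟶ E => u ≫ φ) ∘
          (fun φ : Q.obj R ⟶ E => eR.inv ≫ φ) := by
      funext φ
      simp only [Function.comp_apply, hg, Category.assoc]
    rw [h1]
    refine Function.Bijective.comp ?_ (Function.Bijective.comp hbij ?_)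
    · exact ⟨fun a b h => (cancel_epi eP.hom).1 h, fun a => ⟨eP.inv ≫ a, by simp⟩⟩
    · exact ⟨fun a b h => (cancel_epi eR.inv).1 h, fun a => ⟨eR.hom ≫ a, by simp⟩⟩
  have hCacyc : IsAcyc I (DRing.toD (cylC g)) := by
    refine isAcyc_obj₃_of_bijective I _
      (DerivedCategory.triangleOfSES_distinguished (cylS₂_shortExact g)) ?_
    intro E hE
    change Function.Bijective (fun φ : Q.obj (cylZ P R) ⟶ E => Q.map (cylI g) ≫ φ)
    have h1 : (fun φ : Q.obj (cylZ P R) ⟶ E => Q.map (cylI g) ≫ φ) =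
        (fun φ : Q.obj R ⟶ E => Q.map g ≫ φ) ∘
          (fun φ : Q.obj (cylZ P R) ⟶ E => inv (Q.map (biprod.snd : cylZ P R ⟶ R)) ≫ φ) := by
      funext φ
      simp only [Function.comp_apply]
      rw [← hcyl, Category.assoc, IsIso.hom_inv_id_assoc]
    rw [h1]
    refine Function.Bijective.comp (hgbij E hE) ?_
    exact ⟨fun a b h => (cancel_epi _).1 h,
      fun a => ⟨Q.map (biprod.snd : cylZ P R ⟶ R) ≫ a, by simp⟩⟩
  have hCb : DRing.VanishesAbove (cylC g) b := vanishesAbove_cylC g b hPb hRb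
  -- tensoring with `F`
  have hCF : IsAcyc I (DRing.toD (cylC g ⊗ F)) := by
    rw [isAcyc_iff_forall_GC]
    intro n
    exact G_tensor (testC I s hs) (cylC g) b hCb ((isAcyc_iff_forall_GC I _).1 hCacyc) F c hFc hFf n
  have hSF := shortExact_whiskerRight_of_retraction (cylS₂ g) F (cylS₂_shortExact g)
    (cylR₂ P R) (cylI_f_cylR₂ g)
  have hbij1 := bijective_of_isAcyc_obj₃ I _
    (DerivedCategory.triangleOfSES_distinguished hSF) hCF
  have hsndF : IsIso (Q.map ((biprod.snd : cylZ P R ⟶ R) ▷ F)) := by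
    rw [isIso_Q_map_iff_quasiIso]
    exact quasiIso_whiskerRight_of_kflat (biprod.snd : cylZ P R ⟶ R) F hFflat
  have hgF : Q.map (g ▷ F) = Q.map (cylI g ▷ F) ≫ Q.map ((biprod.snd : cylZ P R ⟶ R) ▷ F) := by
    rw [← Functor.map_comp, ← MonoidalCategory.comp_whiskerRight, cylI_snd]
  have hbijgF : ∀ E : Dual.D A, DRing.IsDerivedComplete I E →
      Function.Bijective (fun φ : Q.obj (R ⊗ F) ⟶ E => Q.map (g ▷ F) ≫ φ) := by
    intro E hE
    have h1 : (fun φ : Q.obj (R ⊗ F) ⟶ E => Q.map (g ▷ F) ≫ φ) =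
        (fun φ : Q.obj (cylZ P R ⊗ F) ⟶ E => Q.map (cylI g ▷ F) ≫ φ) ∘
          (fun φ : Q.obj (R ⊗ F) ⟶ E => Q.map ((biprod.snd : cylZ P R ⟶ R) ▷ F) ≫ φ) := by
      funext φ
      simp only [Function.comp_apply, hgF, Category.assoc]
    rw [h1]
    refine Function.Bijective.comp (hbij1 E hE) ?_
    exact ⟨fun a b h => (cancel_epi _).1 h,
      fun a => ⟨inv (Q.map ((biprod.snd : cylZ P R ⟶ R) ▷ F)) ≫ a, by simp⟩⟩
  -- comparison isomorphisms
  let β₁ : (DRing.LTensorCx A F).obj K ≅ DRing.toD (P ⊗ F) :=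
    (DRing.LTensorCx A F).mapIso eP.symm ≪≫ ltcIso A F P
  let β₂ : (DRing.LTensorCx A F).obj L ≅ DRing.toD (R ⊗ F) :=
    (DRing.LTensorCx A F).mapIso eR.symm ≪≫ ltcIso A F R
  have hcomm : (DRing.LTensorCx A F).map u = β₁.hom ≫ Q.map (g ▷ F) ≫ β₂.inv := by
    have hu : u = eP.inv ≫ Q.map g ≫ eR.hom := by
      rw [hg]
      simp
    have hnat := ltcCounit_naturality A F g
    have h1 : (DRing.LTensorCx A F).map (Q.map g) = (ltcIso A F P).hom ≫ Q.map (g ▷ F) ≫
        (ltcIso A F R).inv := by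
      rw [← Category.assoc, Iso.eq_comp_inv]
      exact hnat
    rw [hu, Functor.map_comp, Functor.map_comp, h1]
    simp only [β₁, β₂, Iso.trans_hom, Iso.trans_inv, Functor.mapIso_hom, Functor.mapIso_inv,
      Iso.symm_hom, Iso.symm_inv, Category.assoc]
  refine ⟨?_, ?_⟩
  · have hRc : DRing.IsDerivedComplete I (DRing.toD R) :=
      (DRing.IsDerivedComplete I).prop_of_iso eR.symm hLc
    have : DRing.IsDerivedComplete I (DRing.toD (R ⊗ F)) := by
      intro f hf n
      exact G_tensor (testA f) R b hRb (fun n => hRc f hf n) F c hFc hFf n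
    exact (DRing.IsDerivedComplete I).prop_of_iso β₂.symm this
  · intro E hE
    have h1 : (fun φ : (DRing.LTensorCx A F).obj L ⟶ E => (DRing.LTensorCx A F).map u ≫ φ) =
        (fun ψ : DRing.toD (P ⊗ F) ⟶ E => β₁.hom ≫ ψ) ∘
          (fun φ : DRing.toD (R ⊗ F) ⟶ E => Q.map (g ▷ F) ≫ φ) ∘
          (fun φ : (DRing.LTensorCx A F).obj L ⟶ E => β₂.inv ≫ φ) := by
      funext φ
      simp only [Function.comp_apply, hcomm, Category.assoc]
    rw [h1]
    refine Function.Bijective.comp ?_ (Function.Bijective.comp (hbijgF E hE) ?_)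
    · exact ⟨fun a b h => (cancel_epi β₁.hom).1 h, fun a => ⟨β₁.inv ≫ a, by simp⟩⟩
    · exact ⟨fun a b h => (cancel_epi β₂.inv).1 h, fun a => ⟨β₂.hom ≫ a, by simp⟩⟩

end Groth.Agent.Lib.Helper35.DCDevCx
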