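import Mathlib.Algebra.Homology.DerivedCategory.Ext.ExactSequences
import Mathlib.Algebra.Homology.DerivedCategory.Ext.EnoughProjectives
import Mathlib.Algebra.Homology.DerivedCategory.TStructure
import Mathlib.CategoryTheory.Abelian.Projective.Dimension

/-! Ext out of an object with a two-term projective resolution (helper35). -/

universe w w' v u

namespace Groth.Agent.Lib.Helper35.DC

open CategoryTheory Abelian Limits

variable {C : Type u} [Category.{v} C] [Abelian C] [HasExt.{w} C]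

section TwoTerm

variable {S : ShortComplex C} (hS : S.ShortExact) (Y : C)

include hS in
/-- `Ext^n(X₃, Y) = 0` for `n ≥ 2` when `X₃` has a two-term projective resolution. -/
theorem ext_eq_zero_of_two_le [Projective S.X₁] [Projective S.X₂] {n : ℕ} (hn : 2 ≤ n) (x : Ext S.X₃ Y n) : x = 0 := by
  obtain ⟨n₀, rfl⟩ : ∃ n₀, n = 1 + n₀ := ⟨n - 1, by omega⟩
  have h1 : (Ext.mk₀ S.g).comp x (zero_add (1 + n₀)) = 0 :=
    Ext.eq_zero_of_hasProjectiveDimensionLT _ 1 (by omega)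
  obtain ⟨x₁, hx₁⟩ := Ext.contravariant_sequence_exact₃ hS Y x h1 rfl
  have h2 : x₁ = 0 := Ext.eq_zero_of_hasProjectiveDimensionLT _ 1 (by omega)
  rw [← hx₁, h2, Ext.comp_zero]

include hS in
theorem precomp_bijective_of_subsingleton (h0 : Subsingleton (Ext S.X₃ Y 0))
    (h1 : Subsingleton (Ext S.X₃ Y 1)) :
    Function.Bijective (fun φ : S.X₂ ⟶ Y => S.f ≫ φ) := by
  constructor
  · intro φ ψ h
    have h' : S.f ≫ (φ - ψ) = 0 := by
      rw [Preadditive.comp_sub]; exact sub_eq_zero.mpr h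
    have h2 : (Ext.mk₀ S.f).comp (Ext.mk₀ (φ - ψ)) (zero_add 0) = 0 := by
      rw [Ext.mk₀_comp_mk₀, h', Ext.mk₀_zero]
    obtain ⟨x₃, hx₃⟩ := Ext.contravariant_sequence_exact₂ hS Y _ h2
    rw [h0.elim x₃ 0, Ext.comp_zero] at hx₃
    have h3 : φ - ψ = 0 := (Ext.mk₀_bijective S.X₂ Y).1 (by rw [← hx₃, Ext.mk₀_zero])
    exact sub_eq_zero.mp h3
  · intro ψ
    have h2 : hS.extClass.comp (Ext.mk₀ ψ) (add_zero 1) = 0 := h1.elim _ _
    obtain ⟨x₂, hx₂⟩ := Ext.contravariant_sequence_exact₁ hS Y (Ext.mk₀ ψ) (add_zero 1) h2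
    obtain ⟨φ, rfl⟩ := (Ext.mk₀_bijective S.X₂ Y).2 x₂
    refine ⟨φ, ?_⟩
    rw [Ext.mk₀_comp_mk₀] at hx₂
    exact (Ext.mk₀_bijective S.X₁ Y).1 hx₂

include hS in
theorem subsingleton_of_precomp_bijective [Projective S.X₂]
    (h : Function.Bijective (fun φ : S.X₂ ⟶ Y => S.f ≫ φ)) :
    Subsingleton (Ext S.X₃ Y 0) ∧ Subsingleton (Ext S.X₃ Y 1) := by
  have : Epi S.g := hS.epi_g
  constructor
  · refine ⟨fun x y => ?_⟩
    suffices hz : ∀ z : Ext S.X₃ Y 0, z = 0 by rw [hz x, hz y]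
    intro z
    obtain ⟨φ, rfl⟩ := (Ext.mk₀_bijective S.X₃ Y).2 z
    have h1 : S.f ≫ (S.g ≫ φ) = S.f ≫ 0 := by
      rw [← Category.assoc, S.zero, zero_comp, comp_zero]
    have h2 : S.g ≫ φ = 0 := h.1 h1
    have h3 : φ = 0 := by
      rw [← cancel_epi S.g, h2, comp_zero]
    rw [h3, Ext.mk₀_zero]
  · refine ⟨fun x y => ?_⟩
    suffices hz : ∀ z : Ext S.X₃ Y 1, z = 0 by rw [hz x, hz y]
    intro z
    have h1 : (Ext.mk₀ S.g).comp z (zero_add 1) = 0 :=
      Ext.eq_zero_of_hasProjectiveDimensionLT _ 1 le_rfl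
    obtain ⟨x₁, hx₁⟩ := Ext.contravariant_sequence_exact₃ hS Y z h1 (add_zero 1)
    obtain ⟨ψ, rfl⟩ := (Ext.mk₀_bijective S.X₁ Y).2 x₁
    obtain ⟨φ, rfl⟩ := h.2 ψ
    rw [← hx₁, ← Ext.mk₀_comp_mk₀]
    exact hS.extClass_comp_assoc (Ext.mk₀ φ)

end TwoTerm

section Bridge

open DerivedCategory

variable [HasDerivedCategory.{w'} C] (X Y : C)

theorem subsingleton_hom_shift_iff_ext (n : ℕ) :
    Subsingleton ((singleFunctor C 0).obj X ⟶ ((singleFunctor C 0).obj Y)⟦(n : ℤ)⟧) ↔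
      Subsingleton (Ext X Y n) :=
  (Ext.homEquiv (X := X) (Y := Y) (n := n)).symm.subsingleton_congr

omit [HasExt.{w} C] in
theorem subsingleton_hom_shift_of_neg (n : ℤ) (hn : n < 0) :
    Subsingleton ((singleFunctor C 0).obj X ⟶ ((singleFunctor C 0).obj Y)⟦n⟧) := by
  have : TStructure.t.IsGE (((singleFunctor C 0).obj Y)⟦n⟧) (-n) :=
    TStructure.t.isGE_shift _ 0 n (-n) (by omega)
  refine ⟨fun φ ψ => ?_⟩
  rw [TStructure.t.zero φ 0 (-n) (by omega), TStructure.t.zero ψ 0 (-n) (by omega)]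

theorem subsingleton_hom_shift_forall_iff :
    (∀ n : ℤ, Subsingleton ((singleFunctor C 0).obj X ⟶ ((singleFunctor C 0).obj Y)⟦n⟧)) ↔
      ∀ n : ℕ, Subsingleton (Ext X Y n) := by
  constructor
  · intro h n
    exact (subsingleton_hom_shift_iff_ext X Y n).mp (h n)
  · intro h n
    by_cases hn : n < 0
    · exact subsingleton_hom_shift_of_neg X Y n hn
    · obtain ⟨k, rfl⟩ : ∃ k : ℕ, n = k := ⟨n.toNat, by omega⟩
      exact (subsingleton_hom_shift_iff_ext X Y k).mpr (h k)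

end Bridge

end Groth.Agent.Lib.Helper35.DC
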