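import Groth.Agent.Lib.Helper35.ARFlat
import Mathlib.RingTheory.AdicCompletion.AsTensorProduct
import Mathlib.RingTheory.Flat.Tensor

/-! The adic completion of a flat module over a Noetherian ring is flat, and
`M ⊗ N^ ≃ (M ⊗ N)^` for finite `M` and flat `N` (helper35). -/

set_option autoImplicit false
universe u

open TensorProduct

namespace Groth.Agent.Lib.Helper35.FlatCompl

open Groth.Agent.Lib.Helper35.ARExact Groth.Agent.Lib.Helper35.ARFlat

variable {A : Type u} [CommRing A] (I : Ideal A)

section MapLinear

variable {M N : Type u} [AddCommGroup M] [Module A M] [AddCommGroup N] [Module A N]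

theorem map_add' (f g : M →ₗ[A] N) :
    AdicCompletion.map I (f + g) = AdicCompletion.map I f + AdicCompletion.map I g := by
  ext a n
  simp

theorem map_smul' (a : A) (f : M →ₗ[A] N) (x : AdicCompletion I M) :
    AdicCompletion.map I (a • f) x = a • AdicCompletion.map I f x := by
  induction x using AdicCompletion.induction_on with
  | h b =>
    ext n
    simp only [AdicCompletion.map_mk, AdicCompletion.mk_apply_coe,
      AdicCompletion.AdicCauchySequence.map_apply_coe, LinearMap.smul_apply,
      AdicCompletion.val_smul_apply]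
    rfl

end MapLinear

variable (N : Type u) [AddCommGroup N] [Module A N]

section Cmp

variable (M' : Type u) [AddCommGroup M'] [Module A M']

/-- the comparison map `M' ⊗ N^ → (M' ⊗ N)^`. -/
noncomputable def cmp : M' ⊗[A] AdicCompletion I N →ₗ[A] AdicCompletion I (M' ⊗[A] N) :=
  TensorProduct.lift
    { toFun := fun m => (AdicCompletion.map I (TensorProduct.mk A M' N m)).restrictScalars A
      map_add' := fun m m' => by
        apply LinearMap.ext
        intro x
        simp only [LinearMap.coe_restrictScalars, LinearMap.add_apply, map_add, map_add']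
      map_smul' := fun a m => by
        apply LinearMap.ext
        intro x
        simp only [LinearMap.coe_restrictScalars, LinearMap.smul_apply, map_smul, map_smul',
          RingHom.id_apply] }

@[simp]
lemma cmp_tmul (m : M') (x : AdicCompletion I N) :
    cmp I N M' (m ⊗ₜ x) = AdicCompletion.map I (TensorProduct.mk A M' N m) x := rfl

lemma cmp_tmul_of (m : M') (n : N) :
    cmp I N M' (m ⊗ₜ AdicCompletion.of I N n) = AdicCompletion.of I (M' ⊗[A] N) (m ⊗ₜ n) := rfl

variable {M'}
variable {M₁ M₂ M₃ : Type u} [AddCommGroup M₁] [Module A M₁] [AddCommGroup M₂] [Module A M₂]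
  [AddCommGroup M₃] [Module A M₃]

lemma cmp_naturality (f : M₁ →ₗ[A] M₂) (z : M₁ ⊗[A] AdicCompletion I N) :
    AdicCompletion.map I (f.rTensor N) (cmp I N M₁ z) =
      cmp I N M₂ (f.rTensor (AdicCompletion I N) z) := by
  induction z using TensorProduct.induction_on with
  | zero => simp
  | tmul m x =>
    rw [cmp_tmul, LinearMap.rTensor_tmul, cmp_tmul, AdicCompletion.map_comp_apply]
    rfl
  | add y z hy hz => rw [map_add, map_add, map_add, map_add, hy, hz]

end Cmp

section Exactness

variable [IsNoetherianRing A] [Module.Flat A N]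
variable {M₁ M₂ M₃ : Type u} [AddCommGroup M₁] [Module A M₁] [AddCommGroup M₂] [Module A M₂]
  [AddCommGroup M₃] [Module A M₃]

theorem Φ_injective [Module.Finite A M₂] (f : M₁ →ₗ[A] M₂) (hf : Function.Injective f) :
    Function.Injective (AdicCompletion.map I (f.rTensor N)) := by
  obtain ⟨k, hk⟩ := AR.of_noetherian I f
  exact map_injective_of_AR I (Module.Flat.rTensor_preserves_injective_linearMap f hf)
    (AR.rTensor N I hk)

theorem Φ_exact [Module.Finite A M₂] (f : M₁ →ₗ[A] M₂) (g : M₂ →ₗ[A] M₃)
    (hf : Function.Injective f) (hfg : Function.Exact f g) (hg : Function.Surjective g) :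
    Function.Exact (AdicCompletion.map I (f.rTensor N)) (AdicCompletion.map I (g.rTensor N)) := by
  obtain ⟨k, hk⟩ := AR.of_noetherian I f
  exact map_exact_of_AR I (Module.Flat.rTensor_preserves_injective_linearMap f hf)
    (rTensor_exact N hfg hg) (LinearMap.rTensor_surjective N hg) (AR.rTensor N I hk)

omit [IsNoetherianRing A] [Module.Flat A N] in
theorem Φ_surjective (g : M₂ →ₗ[A] M₃) (hg : Function.Surjective g) :
    Function.Surjective (AdicCompletion.map I (g.rTensor N)) :=
  AdicCompletion.map_surjective I (LinearMap.rTensor_surjective N hg)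

end Exactness

end Groth.Agent.Lib.Helper35.FlatCompl

namespace Groth.Agent.Lib.Helper35.FlatCompl

open Groth.Agent.Lib.Helper35.ARExact Groth.Agent.Lib.Helper35.ARFlat

variable {A : Type u} [CommRing A] (I : Ideal A) (N : Type u) [AddCommGroup N] [Module A N]

section Five

variable [IsNoetherianRing A] [Module.Flat A N]
variable {M₁ M₂ M₃ : Type u} [AddCommGroup M₁] [Module A M₁] [AddCommGroup M₂] [Module A M₂]
  [AddCommGroup M₃] [Module A M₃]

omit [IsNoetherianRing A] [Module.Flat A N] in
theorem cmp_surjective_of_surjective (g : M₂ →ₗ[A] M₃) (hg : Function.Surjective g)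
    (h₂ : Function.Surjective (cmp I N M₂)) : Function.Surjective (cmp I N M₃) := by
  intro y
  obtain ⟨y', rfl⟩ := Φ_surjective I N g hg y
  obtain ⟨z, rfl⟩ := h₂ y'
  exact ⟨g.rTensor (AdicCompletion I N) z, (cmp_naturality I N g z).symm⟩

variable [Module.Finite A M₂] (f : M₁ →ₗ[A] M₂) (g : M₂ →ₗ[A] M₃)
  (hf : Function.Injective f) (hfg : Function.Exact f g) (hg : Function.Surjective g)

include hf hfg hg in
theorem cmp_surjective_of_exact (h₁ : Function.Surjective (cmp I N M₁))
    (h₃ : Function.Surjective (cmp I N M₃)) : Function.Surjective (cmp I N M₂) := by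
  intro y
  obtain ⟨z₃, hz₃⟩ := h₃ (AdicCompletion.map I (g.rTensor N) y)
  obtain ⟨z₂, rfl⟩ := LinearMap.rTensor_surjective (AdicCompletion I N) hg z₃
  have h0 : AdicCompletion.map I (g.rTensor N) (y - cmp I N M₂ z₂) = 0 := by
    rw [map_sub, cmp_naturality, hz₃, sub_self]
  obtain ⟨w, hw⟩ := (Φ_exact I N f g hf hfg hg _).1 h0
  obtain ⟨z₁, rfl⟩ := h₁ w
  refine ⟨z₂ + f.rTensor (AdicCompletion I N) z₁, ?_⟩
  rw [map_add, ← cmp_naturality, hw]
  abel

include hf hfg hg in
theorem cmp_injective_of_exact (h₁ : Function.Injective (cmp I N M₁))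
    (h₃ : Function.Injective (cmp I N M₃)) : Function.Injective (cmp I N M₂) := by
  rw [injective_iff_map_eq_zero]
  intro z hz
  have h0 : cmp I N M₃ (g.rTensor (AdicCompletion I N) z) = 0 := by
    rw [← cmp_naturality, hz, map_zero]
  have h1 : g.rTensor (AdicCompletion I N) z = 0 := (injective_iff_map_eq_zero _).1 h₃ _ h0
  obtain ⟨z₁, rfl⟩ := (rTensor_exact (AdicCompletion I N) hfg hg z).1 h1
  have h2 : AdicCompletion.map I (f.rTensor N) (cmp I N M₁ z₁) = 0 := by
    rw [cmp_naturality, hz]
  have h3 : cmp I N M₁ z₁ = 0 := (injective_iff_map_eq_zero _).1 (Φ_injective I N f hf) _ h2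
  rw [(injective_iff_map_eq_zero _).1 h₁ _ h3, map_zero]

include hf hfg hg in
theorem cmp_injective_of_surjective (h₁ : Function.Surjective (cmp I N M₁))
    (h₂ : Function.Injective (cmp I N M₂)) : Function.Injective (cmp I N M₃) := by
  rw [injective_iff_map_eq_zero]
  intro z₃ hz₃
  obtain ⟨z₂, rfl⟩ := LinearMap.rTensor_surjective (AdicCompletion I N) hg z₃
  have h0 : AdicCompletion.map I (g.rTensor N) (cmp I N M₂ z₂) = 0 := by
    rw [cmp_naturality, hz₃]
  obtain ⟨w, hw⟩ := (Φ_exact I N f g hf hfg hg _).1 h0
  obtain ⟨z₁, rfl⟩ := h₁ w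
  rw [cmp_naturality] at hw
  have h1 : f.rTensor (AdicCompletion I N) z₁ = z₂ := h₂ hw
  rw [← h1, ← LinearMap.comp_apply, ← LinearMap.rTensor_comp, hfg.linearMap_comp_eq_zero,
    LinearMap.rTensor_zero, LinearMap.zero_apply]

end Five

section Free

/-- the comparison map for `M' = A`. -/
theorem cmp_self_bijective : Function.Bijective (cmp I N A) := by
  let e : AdicCompletion I (A ⊗[A] N) ≃ₗ[AdicCompletion I A] AdicCompletion I N :=
    AdicCompletion.congr I (TensorProduct.lid A N)
  have key : ∀ z : A ⊗[A] AdicCompletion I N,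
      e (cmp I N A z) = TensorProduct.lid A (AdicCompletion I N) z := by
    intro z
    induction z using TensorProduct.induction_on with
    | zero => simp
    | tmul a x =>
      rw [cmp_tmul, AdicCompletion.congr_apply, AdicCompletion.map_comp_apply,
        TensorProduct.lid_tmul]
      have h1 : (TensorProduct.lid A N).toLinearMap ∘ₗ TensorProduct.mk A A N a =
          a • (LinearMap.id : N →ₗ[A] N) := by
        ext n
        simp
      rw [h1, map_smul', AdicCompletion.map_id]
      rfl
    | add y z hy hz => rw [map_add, map_add, map_add, hy, hz]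
  have h2 : (cmp I N A : A ⊗[A] AdicCompletion I N → AdicCompletion I (A ⊗[A] N)) =
      e.symm ∘ (TensorProduct.lid A (AdicCompletion I N)) := by
    funext z
    rw [Function.comp_apply, ← key z, LinearEquiv.symm_apply_apply]
  rw [h2]
  exact e.symm.bijective.comp (TensorProduct.lid A (AdicCompletion I N)).bijective

theorem cmp_bijective_of_subsingleton (M' : Type u) [AddCommGroup M'] [Module A M']
    [Subsingleton M'] : Function.Bijective (cmp I N M') := by
  haveI : Subsingleton (M' ⊗[A] N) := inferInstance
  haveI : Subsingleton (AdicCompletion I (M' ⊗[A] N)) :=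
    ⟨fun x y => AdicCompletion.ext (fun n => Subsingleton.elim _ _)⟩
  haveI : Subsingleton (M' ⊗[A] AdicCompletion I N) := inferInstance
  exact ⟨fun x y _ => Subsingleton.elim _ _, fun y => ⟨0, Subsingleton.elim _ _⟩⟩

variable [IsNoetherianRing A] [Module.Flat A N]

theorem cmp_pi_bijective (n : ℕ) : Function.Bijective (cmp I N (Fin n → A)) := by
  induction n with
  | zero => exact cmp_bijective_of_subsingleton I N _
  | succ n ih =>
    let f : A →ₗ[A] (Fin (n + 1) → A) := LinearMap.single A (fun _ : Fin (n + 1) => A) 0
    let g : (Fin (n + 1) → A) →ₗ[A] (Fin n → A) := LinearMap.funLeft A A Fin.succ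
    have hf : Function.Injective f := by
      intro a a' h
      have := congrFun h 0
      simpa [f] using this
    have hg : Function.Surjective g := by
      intro w
      refine ⟨Fin.cons 0 w, ?_⟩
      funext j
      simp [g, LinearMap.funLeft_apply]
    have hfg : Function.Exact f g := by
      intro v
      constructor
      · intro hv
        refine ⟨v 0, ?_⟩
        funext i
        refine Fin.cases ?_ (fun j => ?_) i
        · simp [f]
        · have := congrFun hv j
          simp only [g, LinearMap.funLeft_apply, Pi.zero_apply] at this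
          simp [f, this]
      · rintro ⟨a, rfl⟩
        funext j
        simp [f, g, LinearMap.funLeft_apply]
    exact ⟨cmp_injective_of_exact I N f g hf hfg hg (cmp_self_bijective I N).1 ih.1,
      cmp_surjective_of_exact I N f g hf hfg hg (cmp_self_bijective I N).2 ih.2⟩

/-- `M' ⊗ N^ → (M' ⊗ N)^` is surjective for finite `M'`. -/
theorem cmp_surjective (M' : Type u) [AddCommGroup M'] [Module A M'] [Module.Finite A M'] :
    Function.Surjective (cmp I N M') := by
  obtain ⟨n, π, hπ⟩ := Module.Finite.exists_fin' A M'
  exact cmp_surjective_of_surjective I N π hπ (cmp_pi_bijective I N n).2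

/-- **`M' ⊗ N^ → (M' ⊗ N)^` is bijective for finite `M'`, flat `N`, Noetherian `A`.** -/
theorem cmp_bijective (M' : Type u) [AddCommGroup M'] [Module A M'] [Module.Finite A M'] :
    Function.Bijective (cmp I N M') := by
  refine ⟨?_, cmp_surjective I N M'⟩
  obtain ⟨n, π, hπ⟩ := Module.Finite.exists_fin' A M'
  let K := LinearMap.ker π
  exact cmp_injective_of_surjective I N K.subtype π K.injective_subtype
    (LinearMap.exact_subtype_ker_map π) hπ (cmp_surjective I N K) (cmp_pi_bijective I N n).1

/-- **The adic completion of a flat module over a Noetherian ring is flat.** -/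
theorem flat_adicCompletion : Module.Flat A (AdicCompletion I N) := by
  rw [Module.Flat.iff_rTensor_injective']
  intro J
  have h1 : Function.Injective (fun z => cmp I N A (J.subtype.rTensor (AdicCompletion I N) z)) := by
    have : (fun z => cmp I N A (J.subtype.rTensor (AdicCompletion I N) z)) =
        (AdicCompletion.map I (J.subtype.rTensor N)) ∘ (cmp I N J) := by
      funext z
      exact (cmp_naturality I N J.subtype z).symm
    rw [this]
    exact (Φ_injective I N J.subtype J.injective_subtype).comp (cmp_bijective I N J).1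
  exact Function.Injective.of_comp h1

/-- the comparison isomorphism. -/
noncomputable def cmpEquiv (M' : Type u) [AddCommGroup M'] [Module A M'] [Module.Finite A M'] :
    M' ⊗[A] AdicCompletion I N ≃ₗ[A] AdicCompletion I (M' ⊗[A] N) :=
  LinearEquiv.ofBijective (cmp I N M') (cmp_bijective I N M')

lemma cmpEquiv_tmul_of (M' : Type u) [AddCommGroup M'] [Module A M'] [Module.Finite A M']
    (m : M') (n : N) :
    cmpEquiv I N M' (m ⊗ₜ AdicCompletion.of I N n) = AdicCompletion.of I (M' ⊗[A] N) (m ⊗ₜ n) :=
  rfl

end Free

end Groth.Agent.Lib.Helper35.FlatCompl
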