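import Groth.Agent.Lib.Helper35.DCNoeth
import Groth.Agent.Lib.Helper35.FlatCompl

/-! Derived completion of `K ⊗ N` for `N` flat over a Noetherian ring (helper35). -/

set_option autoImplicit false
set_option linter.unusedSectionVars false
universe u
open CategoryTheory CategoryTheory.Limits MonoidalCategory DerivedCategory CochainComplex
  TensorProduct Pretriangulated
attribute [local instance] HasDerivedCategory.standard

namespace Groth.Agent.Lib.Helper35.DCFlat

open Groth.Agent.Lib.Helper35.DC Groth.Agent.Lib.Helper35.DCN Groth.Agent.Lib.Helper35.DCRecog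
  Groth.Agent.Lib.Helper35.DCDev Groth.Agent.Lib.Helper35.TA Groth.Agent.Lib.Helper35
  Groth.Agent.Lib.Helper35.DCNoeth Groth.Agent.Lib.Helper35.FlatCompl

variable {A : Type u} [CommRing A] (I : Ideal A)

/-- Recognition of the derived completion, for a termwise flat source. -/
theorem recognition_flat (hI : I.FG) [DRing.HasDerivedCompletion I] (P P' : DRing.Cx A) (b : ℤ)
    (hPb : DRing.VanishesAbove P b) (hP'b : DRing.VanishesAbove P' b)
    (hPflat : ∀ i : ℤ, Module.Flat A (P.X i)) (hP'flat : ∀ i : ℤ, Module.Flat A (P'.X i))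
    (g' : P ⟶ P') (hc : DRing.IsDerivedComplete I (DRing.toD P'))
    (hq : QuasiIso ((T₀ I).map g')) :
    ∃ e : ((DRing.derivedCompletion I).obj (DRing.toD P)).obj ≅ DRing.toD P',
      DRing.toDerivedCompletion I (DRing.toD P) ≫ e.hom = Q.map g' := by
  have hs : P.IsStrictlyLE b := by
    rw [CochainComplex.isStrictlyLE_iff]
    exact fun i hi => hPb i hi
  have hLE : (Q.obj P).IsLE b := inferInstance
  obtain ⟨P'', π, hP''b, hP''proj, hπ⟩ := exists_projective_resolution_cx P b
  have hP''flat : ∀ i : ℤ, Module.Flat A (P''.X i) := fun i => by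
    have := hP''proj i
    infer_instance
  have hq' : QuasiIso ((T₀ I).map π) :=
    quasiIso_map_of_flat (tensorRight (qI I))
      (fun C b hb hfl hex j => exactAt_tensorRight C b hb hfl hex (qI I) j) π b hP''b hPb
      hP''flat hPflat
  have hq'' : QuasiIso ((T₀ I).map (π ≫ g')) := by
    rw [Functor.map_comp]
    infer_instance
  obtain ⟨e'', he''⟩ := recognition I hI P'' P' b hP''b hP'b hP''proj hP'flat (π ≫ g') hc hq''
  have hiso : IsIso (Q.map π) := by
    rw [isIso_Q_map_iff_quasiIso]; infer_instance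
  let κ : DRing.toD P'' ≅ DRing.toD P := asIso (Q.map π)
  have hnat : DRing.toDerivedCompletion I (DRing.toD P'') ≫
      ((DRing.derivedCompletion I).map κ.hom).hom =
      κ.hom ≫ DRing.toDerivedCompletion I (DRing.toD P) :=
    ((DRing.derivedCompletionAdj I).unit.naturality κ.hom).symm
  let ε : ((DRing.derivedCompletion I).obj (DRing.toD P'')).obj ≅
      ((DRing.derivedCompletion I).obj (DRing.toD P)).obj :=
    (ObjectProperty.ι (DRing.IsDerivedComplete I)).mapIso ((DRing.derivedCompletion I).mapIso κ)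
  refine ⟨ε.symm ≪≫ e'', ?_⟩
  have h1 : DRing.toDerivedCompletion I (DRing.toD P) =
      κ.inv ≫ DRing.toDerivedCompletion I (DRing.toD P'') ≫ ε.hom := by
    rw [← cancel_epi κ.hom, Iso.hom_inv_id_assoc]
    exact hnat.symm
  rw [h1, Iso.trans_hom, Iso.symm_hom, Category.assoc, Category.assoc, Iso.hom_inv_id_assoc, he'',
    Functor.map_comp, ← Category.assoc]
  change (κ.inv ≫ κ.hom) ≫ _ = _
  rw [Iso.inv_hom_id, Category.id_comp]

end Groth.Agent.Lib.Helper35.DCFlat

namespace Groth.Agent.Lib.Helper35.DCFlat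

open Groth.Agent.Lib.Helper35.DC Groth.Agent.Lib.Helper35.DCN Groth.Agent.Lib.Helper35.DCRecog
  Groth.Agent.Lib.Helper35.DCDev Groth.Agent.Lib.Helper35.TA Groth.Agent.Lib.Helper35
  Groth.Agent.Lib.Helper35.DCNoeth Groth.Agent.Lib.Helper35.FlatCompl

variable {A : Type u} [CommRing A] (I : Ideal A) (N : Type u) [AddCommGroup N] [Module A N]

/-- `N` as an object of `ModuleCat A`. -/
abbrev Nm (A : Type u) [CommRing A] (N : Type u) [AddCommGroup N] [Module A N] :
    ModuleCat.{u} A := ModuleCat.of A N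

/-- `N^` as an object of `ModuleCat A`. -/
noncomputable abbrev Nh : ModuleCat.{u} A := ModuleCat.of A (AdicCompletion I N)

/-- `N ⟶ N^`. -/
noncomputable def ιN : Nm A N ⟶ Nh I N := ModuleCat.ofHom (AdicCompletion.of I N)

variable [IsNoetherianRing A] [Module.Flat A N]

instance : Module.Flat A (Nh I N) := flat_adicCompletion I N

instance : Module.Flat A (Nm A N) := inferInstanceAs (Module.Flat A N)

omit [IsNoetherianRing A] [Module.Flat A N] in
lemma cmp_lTensor_of (M' : Type u) [AddCommGroup M'] [Module A M'] (y : M' ⊗[A] N) :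
    cmp I N M' ((AdicCompletion.of I N).lTensor M' y) = AdicCompletion.of I (M' ⊗[A] N) y := by
  induction y using TensorProduct.induction_on with
  | zero => simp
  | tmul m n => rfl
  | add y z hy hz => rw [map_add, map_add, map_add, hy, hz]

theorem isIso_ιN_whiskerRight : IsIso (ιN I N ▷ qI I) := by
  apply (ConcreteCategory.isIso_iff_bijective _).2
  have hc : IsAdicComplete I ((A ⧸ I) ⊗[A] N) := isAdicComplete_of_killed I _ (by
    intro a ha x
    induction x using TensorProduct.induction_on with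
    | zero => simp
    | tmul q n =>
      obtain ⟨b, rfl⟩ := Ideal.Quotient.mk_surjective q
      rw [TensorProduct.smul_tmul']
      have : a • (Ideal.Quotient.mk I b) = 0 := by
        change Ideal.Quotient.mk I (a * b) = 0
        exact Ideal.Quotient.eq_zero_iff_mem.2 (I.mul_mem_right _ ha)
      rw [this, TensorProduct.zero_tmul]
    | add y z hy hz => rw [smul_add, hy, hz, add_zero])
  have hof : Function.Bijective (AdicCompletion.of I ((A ⧸ I) ⊗[A] N)) :=
    AdicCompletion.of_bijective I _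
  have hcmp := cmp_bijective I N (A ⧸ I)
  have hl : Function.Bijective ((AdicCompletion.of I N).lTensor (A ⧸ I)) := by
    have h1 : (cmp I N (A ⧸ I)) ∘ ((AdicCompletion.of I N).lTensor (A ⧸ I)) =
        AdicCompletion.of I ((A ⧸ I) ⊗[A] N) := by
      funext y
      exact cmp_lTensor_of I N (A ⧸ I) y
    have h2 : Function.Bijective ((cmp I N (A ⧸ I)) ∘ ((AdicCompletion.of I N).lTensor (A ⧸ I))) := by
      rw [h1]; exact hof
    exact (Function.Bijective.of_comp_iff' hcmp _).1 h2
  have hr : (ιN I N ▷ qI I).hom = (TensorProduct.comm A (A ⧸ I) (AdicCompletion I N)).toLinearMap ∘ₗ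
      ((AdicCompletion.of I N).lTensor (A ⧸ I)) ∘ₗ (TensorProduct.comm A N (A ⧸ I)).toLinearMap := by
    apply TensorProduct.ext'
    intro n q
    rfl
  change Function.Bijective (ιN I N ▷ qI I).hom
  rw [hr]
  exact (TensorProduct.comm A (A ⧸ I) (AdicCompletion I N)).bijective.comp
    (hl.comp (TensorProduct.comm A N (A ⧸ I)).bijective)

/-- The chain map `P ⊗ N ⟶ P ⊗ N^`. -/
noncomputable abbrev gN (P : DRing.Cx A) : tenCx P (Nm A N) ⟶ tenCx P (Nh I N) :=
  tenCxMap P (ιN I N)

theorem isIso_T₀_map_gN (P : DRing.Cx A) : IsIso ((T₀ I).map (gN I N P)) := by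
  have : ∀ i : ℤ, IsIso (((T₀ I).map (gN I N P)).f i) := by
    intro i
    change IsIso ((P.X i ◁ ιN I N) ▷ qI I)
    rw [MonoidalCategory.whisker_assoc]
    have := isIso_ιN_whiskerRight I N
    infer_instance
  exact HomologicalComplex.Hom.isIso_of_components _

theorem quasiIso_T₀_map_gN (P : DRing.Cx A) : QuasiIso ((T₀ I).map (gN I N P)) := by
  have := isIso_T₀_map_gN I N P
  infer_instance

section Psi

variable (X : DRing.Cx A) (n : ℤ)

/-- `H^n(X ⊗ N^) ≃ (H^n X ⊗ N)^` for finite `H^n X`. -/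
noncomputable def ψN [Module.Finite A (X.homology n)] :
    (tenCx X (Nh I N)).homology n ≃ₗ[A] AdicCompletion I (X.homology n ⊗[A] N) :=
  (hIso (Nh I N) X n).toLinearEquiv ≪≫ₗ cmpEquiv I N (X.homology n)

theorem ψN_apply [Module.Finite A (X.homology n)]
    (y : (X.homology n ⊗ Nm A N : ModuleCat.{u} A)) :
    ψN I N X n ((hIso (Nh I N) X n).inv.hom ((X.homology n ◁ ιN I N).hom y)) =
      AdicCompletion.of I (X.homology n ⊗[A] N) y := by
  have h1 : (hIso (Nh I N) X n).toLinearEquiv ((hIso (Nh I N) X n).inv.hom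
      ((X.homology n ◁ ιN I N).hom y)) = (X.homology n ◁ ιN I N).hom y := by
    change ((hIso (Nh I N) X n).inv ≫ (hIso (Nh I N) X n).hom).hom _ = _
    rw [Iso.inv_hom_id]
    rfl
  unfold ψN
  rw [LinearEquiv.trans_apply, h1]
  exact cmp_lTensor_of I N (X.homology n) y

end Psi

/-- `X ⊗ N^` is derived complete when `X` has finite cohomology modules. -/
theorem isDerivedComplete_tenCx_Nh (X : DRing.Cx A)
    (hfin : ∀ n : ℤ, Module.Finite A (X.homology n)) :
    DRing.IsDerivedComplete I (DRing.toD (tenCx X (Nh I N))) := by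
  have hI : I.FG := (isNoetherianRing_iff_ideal_fg A).1 inferInstance I
  apply isDerivedComplete_of_shiftT
  intro f hf n
  have := hfin n
  have hc : IsAdicComplete I (AdicCompletion I (X.homology n ⊗[A] N)) :=
    AdicCompletion.isAdicComplete hI
  have h1 := shiftT_bijective_of_isAdicComplete (I := I)
    (M := AdicCompletion I (X.homology n ⊗[A] N)) f hf
  let e : (homologyFunctor (ModuleCat.{u} A) n).obj (DRing.toD (tenCx X (Nh I N))) ≃ₗ[A]
      AdicCompletion I (X.homology n ⊗[A] N) :=
    ((homologyFunctorFactors (ModuleCat.{u} A) n).app (tenCx X (Nh I N))).toLinearEquiv ≪≫ₗ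
      ψN I N X n
  exact shiftT_bijective_of_linearEquiv f e.symm h1

end Groth.Agent.Lib.Helper35.DCFlat

namespace Groth.Agent.Lib.Helper35.DCFlat

open Groth.Agent.Lib.Helper35.DC Groth.Agent.Lib.Helper35.DCN Groth.Agent.Lib.Helper35.DCRecog
  Groth.Agent.Lib.Helper35.DCDev Groth.Agent.Lib.Helper35.TA Groth.Agent.Lib.Helper35
  Groth.Agent.Lib.Helper35.DCNoeth Groth.Agent.Lib.Helper35.FlatCompl

variable {A : Type u} [CommRing A] (I : Ideal A) (N : Type u) [AddCommGroup N] [Module A N]
variable [IsNoetherianRing A] [Module.Flat A N]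

/-- For a bounded above complex `P` of projectives with finite cohomology and a flat module `N`,
`H^n((P ⊗ N)^∧) ≃ (H^n(P) ⊗ N)^`, compatibly with the canonical maps. -/
theorem exists_equiv_tenCx [DRing.HasDerivedCompletion I] (P : DRing.Cx A) (b : ℤ)
    (hPb : DRing.VanishesAbove P b) (hPproj : ∀ i : ℤ, Module.Projective A (P.X i))
    (hfinP : ∀ i : ℤ, Module.Finite A (P.homology i)) (n : ℤ) :
    ∃ e : ((homologyFunctor (ModuleCat.{u} A) n).obj
          ((DRing.derivedCompletion I).obj (DRing.toD (tenCx P (Nm A N)))).obj) ≃ₗ[A]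
        AdicCompletion I (P.homology n ⊗[A] N),
      ∀ x : (homologyFunctor (ModuleCat.{u} A) n).obj (DRing.toD (tenCx P (Nm A N))),
        e (((homologyFunctor (ModuleCat.{u} A) n).map
            (DRing.toDerivedCompletion I (DRing.toD (tenCx P (Nm A N))))).hom x) =
          AdicCompletion.of I (P.homology n ⊗[A] N) ((hIso (Nm A N) P n).hom.hom
            (((homologyFunctorFactors (ModuleCat.{u} A) n).hom.app (tenCx P (Nm A N))).hom x)) := by
  have hI : I.FG := (isNoetherianRing_iff_ideal_fg A).1 inferInstance I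
  have hP₁b : DRing.VanishesAbove (tenCx P (Nm A N)) b := fun i hi =>
    CategoryTheory.Functor.map_isZero (tensorRight _) (hPb i hi)
  have hP₂b : DRing.VanishesAbove (tenCx P (Nh I N)) b := fun i hi =>
    CategoryTheory.Functor.map_isZero (tensorRight _) (hPb i hi)
  have hP₁flat : ∀ i : ℤ, Module.Flat A ((tenCx P (Nm A N)).X i) := fun i => by
    have := hPproj i
    change Module.Flat A (TensorProduct A (P.X i) N)
    infer_instance
  have hP₂flat : ∀ i : ℤ, Module.Flat A ((tenCx P (Nh I N)).X i) := fun i => by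
    have := hPproj i
    have : Module.Flat A (AdicCompletion I N) := flat_adicCompletion I N
    change Module.Flat A (TensorProduct A (P.X i) (AdicCompletion I N))
    infer_instance
  have hc := isDerivedComplete_tenCx_Nh I N P hfinP
  obtain ⟨erec, herec⟩ := recognition_flat I hI _ _ b hP₁b hP₂b hP₁flat hP₂flat (gN I N P) hc
    (quasiIso_T₀_map_gN I N P)
  have := hfinP n
  let Hn := homologyFunctor (ModuleCat.{u} A) n
  let e₂ : Hn.obj ((DRing.derivedCompletion I).obj
      (DRing.toD (tenCx P (Nm A N)))).obj ≅ Hn.obj (DRing.toD (tenCx P (Nh I N))) :=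
    Hn.mapIso erec
  let e₃ : Hn.obj (DRing.toD (tenCx P (Nh I N))) ≅ (tenCx P (Nh I N)).homology n :=
    (homologyFunctorFactors (ModuleCat.{u} A) n).app (tenCx P (Nh I N))
  let e : Hn.obj ((DRing.derivedCompletion I).obj (DRing.toD (tenCx P (Nm A N)))).obj ≃ₗ[A]
      AdicCompletion I (P.homology n ⊗[A] N) :=
    (e₂ ≪≫ e₃).toLinearEquiv ≪≫ₗ ψN I N P n
  refine ⟨e, fun x => ?_⟩
  have hdiag : Hn.map (DRing.toDerivedCompletion I (DRing.toD (tenCx P (Nm A N)))) ≫
      (e₂ ≪≫ e₃).hom =
      (homologyFunctorFactors (ModuleCat.{u} A) n).hom.app (tenCx P (Nm A N)) ≫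
        (hIso (Nm A N) P n).hom ≫ (P.homology n ◁ ιN I N) ≫ (hIso (Nh I N) P n).inv := by
    have hfac := (homologyFunctorFactors (ModuleCat.{u} A) n).hom.naturality (gN I N P)
    have h2 : Hn.map (DRing.toDerivedCompletion I (DRing.toD (tenCx P (Nm A N)))) ≫ e₂.hom =
        Hn.map (Q.map (gN I N P)) := by
      change Hn.map _ ≫ Hn.map erec.hom = _
      rw [← Functor.map_comp, herec]
    have h3 : HomologicalComplex.homologyMap (gN I N P) n =
        (hIso (Nm A N) P n).hom ≫ (P.homology n ◁ ιN I N) ≫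
          (hIso (Nh I N) P n).inv := homologyMap_tenCxMap (ιN I N) P n
    change Hn.map _ ≫ e₂.hom ≫ e₃.hom = _
    rw [← Category.assoc, h2]
    have hfac' : Hn.map (Q.map (gN I N P)) ≫
        (homologyFunctorFactors (ModuleCat.{u} A) n).hom.app (tenCx P (Nh I N)) =
        (homologyFunctorFactors (ModuleCat.{u} A) n).hom.app (tenCx P (Nm A N)) ≫
          HomologicalComplex.homologyMap (gN I N P) n := hfac
    change Hn.map (Q.map (gN I N P)) ≫
      (homologyFunctorFactors (ModuleCat.{u} A) n).hom.app (tenCx P (Nh I N)) = _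
    rw [hfac', h3]
    rfl
  have hx := congrArg (fun φ => φ.hom x) hdiag
  simp only [ModuleCat.hom_comp, LinearMap.comp_apply] at hx
  change ψN I N P n ((e₂ ≪≫ e₃).hom.hom
    ((Hn.map (DRing.toDerivedCompletion I (DRing.toD (tenCx P (Nm A N))))).hom x)) = _
  rw [hx, ψN_apply]
  rfl

end Groth.Agent.Lib.Helper35.DCFlat

namespace Groth.Agent.Lib.Helper35.DCFlat

open Groth.Agent.Lib.Helper35.DC Groth.Agent.Lib.Helper35.DCN Groth.Agent.Lib.Helper35.DCRecog
  Groth.Agent.Lib.Helper35.DCDev Groth.Agent.Lib.Helper35.TA Groth.Agent.Lib.Helper35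
  Groth.Agent.Lib.Helper35.DCNoeth Groth.Agent.Lib.Helper35.FlatCompl

variable {A : Type u} [CommRing A] (I : Ideal A)

theorem subsingleton_adicCompletion (M' : Type u) [AddCommGroup M'] [Module A M']
    [Subsingleton M'] : Subsingleton (AdicCompletion I M') := by
  constructor
  intro x y
  apply AdicCompletion.ext
  intro n
  obtain ⟨a, ha⟩ := Submodule.Quotient.mk_surjective _ (x.val n)
  obtain ⟨b, hb⟩ := Submodule.Quotient.mk_surjective _ (y.val n)
  rw [← ha, ← hb, Subsingleton.elim a b]

variable (M N : Type u) [AddCommGroup M] [Module A M] [AddCommGroup N] [Module A N]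
variable [IsNoetherianRing A] [Module.Flat A N] [Module.Finite A M]

/-- Derived completion of `M ⊗ N` for `M` finite and `N` flat over a Noetherian ring. -/
theorem main [DRing.HasDerivedCompletion I] :
    (∀ i : ℤ, i ≠ 0 → Subsingleton
        (Dual.HD A ((DRing.derivedCompletion I).obj (Dual.inD A (M ⊗[A] N))).obj i)) ∧
      ∃ e : Dual.HD A ((DRing.derivedCompletion I).obj (Dual.inD A (M ⊗[A] N))).obj 0 ≃ₗ[A]
          AdicCompletion I (M ⊗[A] N),
        ∀ x : M ⊗[A] N,
          e ((((DerivedCategory.singleFunctorCompHomologyFunctorIso (ModuleCat.{u} A) 0).inv.app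
                (ModuleCat.of A (M ⊗[A] N))) ≫
              (DerivedCategory.homologyFunctor (ModuleCat.{u} A) 0).map
                (DRing.toDerivedCompletion I (Dual.inD A (M ⊗[A] N)))).hom x) =
            AdicCompletion.of I (M ⊗[A] N) x := by
  let Mm : ModuleCat.{u} A := ModuleCat.of A M
  let S : DRing.Cx A := (CochainComplex.singleFunctor (ModuleCat.{u} A) 0).obj Mm
  have hS : S.IsStrictlyLE 0 := inferInstance
  have hLE : (Q.obj S).IsLE 0 := inferInstance
  obtain ⟨P, π, hPb, hPproj, hπ⟩ := exists_projective_resolution_cx S 0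
  have hPiso : ∀ i : ℤ, P.homology i ≅ S.homology i := fun i =>
    asIso (HomologicalComplex.homologyMap π i)
  have hS0 : S.homology 0 ≅ Mm := HomologicalComplex.singleObjHomologySelfIso _ _ _
  have hSne : ∀ i : ℤ, i ≠ 0 → IsZero (S.homology i) := fun i hi =>
    HomologicalComplex.isZero_single_obj_homology (ComplexShape.up ℤ) 0 Mm i hi
  have hfinP : ∀ i : ℤ, Module.Finite A (P.homology i) := by
    intro i
    by_cases hi : i = 0
    · subst hi
      exact Module.Finite.equiv (hPiso 0 ≪≫ hS0).symm.toLinearEquiv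
    · have : Subsingleton (P.homology i) :=
        ModuleCat.subsingleton_of_isZero ((hSne i hi).of_iso (hPiso i))
      infer_instance
  have hq : QuasiIso (((tensorRight (Nm A N)).mapHomologicalComplex (ComplexShape.up ℤ)).map π) :=
    inferInstance
  have hqi : IsIso (Q.map (((tensorRight (Nm A N)).mapHomologicalComplex
      (ComplexShape.up ℤ)).map π)) := by
    rw [isIso_Q_map_iff_quasiIso]; exact hq
  let κ₁ : Q.obj (tenCx P (Nm A N)) ≅ Q.obj (tenCx S (Nm A N)) :=
    asIso (Q.map (((tensorRight (Nm A N)).mapHomologicalComplex (ComplexShape.up ℤ)).map π))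
  let κ₂ : tenCx S (Nm A N) ≅
      (CochainComplex.singleFunctor (ModuleCat.{u} A) 0).obj (ModuleCat.of A (M ⊗[A] N)) :=
    (HomologicalComplex.singleMapHomologicalComplex (tensorRight (Nm A N))
      (ComplexShape.up ℤ) 0).app Mm
  let κ₃ : Dual.inD A (M ⊗[A] N) ≅
      Q.obj ((CochainComplex.singleFunctor (ModuleCat.{u} A) 0).obj (ModuleCat.of A (M ⊗[A] N))) :=
    (singleFunctorIsoCompQ (ModuleCat.{u} A) 0).app _
  let κ : Dual.inD A (M ⊗[A] N) ≅ DRing.toD (tenCx P (Nm A N)) :=
    κ₃ ≪≫ Q.mapIso κ₂.symm ≪≫ κ₁.symm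
  refine ⟨fun i hi => ?_, ?_⟩
  · obtain ⟨e', -⟩ := exists_equiv_tenCx I N P 0 hPb hPproj hfinP i
    let e₁ := (homologyFunctor (ModuleCat.{u} A) i).mapIso
      ((ObjectProperty.ι (DRing.IsDerivedComplete I)).mapIso
        ((DRing.derivedCompletion I).mapIso κ))
    have h1 : Subsingleton (P.homology i) :=
      ModuleCat.subsingleton_of_isZero ((hSne i hi).of_iso (hPiso i))
    have h2 : Subsingleton (P.homology i ⊗[A] N) := inferInstance
    have h3 := subsingleton_adicCompletion I (P.homology i ⊗[A] N)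
    exact (e₁.toLinearEquiv ≪≫ₗ e').toEquiv.subsingleton
  · obtain ⟨e', he'⟩ := exists_equiv_tenCx I N P 0 hPb hPproj hfinP 0
    let H0 := homologyFunctor (ModuleCat.{u} A) 0
    let e₁ : H0.obj ((DRing.derivedCompletion I).obj (Dual.inD A (M ⊗[A] N))).obj ≅
        H0.obj ((DRing.derivedCompletion I).obj (DRing.toD (tenCx P (Nm A N)))).obj :=
      H0.mapIso ((ObjectProperty.ι (DRing.IsDerivedComplete I)).mapIso
        ((DRing.derivedCompletion I).mapIso κ))
    let θ₀ : (ModuleCat.of A (M ⊗[A] N)) ≅ (P.homology 0 ⊗ Nm A N : ModuleCat.{u} A) :=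
      ((singleFunctorCompHomologyFunctorIso (ModuleCat.{u} A) 0).symm.app
        (ModuleCat.of A (M ⊗[A] N))) ≪≫ H0.mapIso κ ≪≫
        (homologyFunctorFactors (ModuleCat.{u} A) 0).app (tenCx P (Nm A N)) ≪≫
        hIso (Nm A N) P 0
    let θ : (M ⊗[A] N) ≃ₗ[A] (P.homology 0 ⊗[A] N) := θ₀.toLinearEquiv
    let e : H0.obj ((DRing.derivedCompletion I).obj (Dual.inD A (M ⊗[A] N))).obj ≃ₗ[A]
        AdicCompletion I (M ⊗[A] N) :=
      e₁.toLinearEquiv ≪≫ₗ e' ≪≫ₗ (AdicCompletion.congr I θ.symm).restrictScalars A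
    refine ⟨e, fun x => ?_⟩
    have hnat : DRing.toDerivedCompletion I (Dual.inD A (M ⊗[A] N)) ≫
        ((DRing.derivedCompletion I).map κ.hom).hom =
        κ.hom ≫ DRing.toDerivedCompletion I (DRing.toD (tenCx P (Nm A N))) :=
      ((DRing.derivedCompletionAdj I).unit.naturality κ.hom).symm
    set x₀ := ((singleFunctorCompHomologyFunctorIso (ModuleCat.{u} A) 0).inv.app
      (ModuleCat.of A (M ⊗[A] N))).hom x with hx₀
    have h1 : e₁.hom.hom ((H0.map (DRing.toDerivedCompletion I (Dual.inD A (M ⊗[A] N)))).hom x₀) =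
        (H0.map (DRing.toDerivedCompletion I (DRing.toD (tenCx P (Nm A N))))).hom
          ((H0.map κ.hom).hom x₀) := by
      have := congrArg (fun φ => (H0.map φ).hom x₀) hnat
      simp only [Functor.map_comp, ModuleCat.hom_comp, LinearMap.comp_apply] at this
      exact this
    change (AdicCompletion.congr I θ.symm) (e' (e₁.hom.hom
      ((H0.map (DRing.toDerivedCompletion I (Dual.inD A (M ⊗[A] N)))).hom x₀))) = _
    rw [h1, he', AdicCompletion.congr_apply, AdicCompletion.map_of]
    congr 1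
    exact θ.symm_apply_apply x

end Groth.Agent.Lib.Helper35.DCFlat
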