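import Groth.Agent.Lib.Helper35.DCSeq
import Mathlib.RingTheory.AdicCompletion.Basic

/-! Surjectivity of `T_f` for generators gives precompleteness (helper35). -/

universe u

namespace Groth.Agent.Lib.Helper35.DC

variable {A : Type*} [CommRing A] (M : Type*) [AddCommGroup M] [Module A M]

theorem isPrecomplete_bot : IsPrecomplete (⊥ : Ideal A) M := by
  constructor
  intro x hx
  refine ⟨x 1, fun n => ?_⟩
  rcases n with _ | n
  · rw [pow_zero, Ideal.one_eq_top, Submodule.top_smul]
    exact SModEq.top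
  · have h1 : 1 ≤ n + 1 := Nat.succ_le_succ (Nat.zero_le n)
    have h2 := hx h1
    rw [pow_one, Submodule.bot_smul, SModEq.bot] at h2
    rw [← h2]

variable {M}

/-- Sums of series with `n`-th term in `I^n M` exist in a precomplete module. -/
theorem exists_sum_of_isPrecomplete (I : Ideal A) [IsPrecomplete I M] (t : ℕ → M)
    (ht : ∀ n, t n ∈ (I ^ n • ⊤ : Submodule A M)) :
    ∃ L : M, ∀ N, (∑ n ∈ Finset.range N, t n) - L ∈ (I ^ N • ⊤ : Submodule A M) := by
  have hmono : ∀ {a b : ℕ}, a ≤ b → (I ^ b • ⊤ : Submodule A M) ≤ I ^ a • ⊤ := fun h =>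
    Submodule.smul_mono_left (Ideal.pow_le_pow_right h)
  have hS : ∀ {k k' : ℕ}, k ≤ k' →
      (∑ n ∈ Finset.range k, t n) ≡ (∑ n ∈ Finset.range k', t n)
        [SMOD (I ^ k • ⊤ : Submodule A M)] := by
    intro k k' hkk'
    induction k', hkk' using Nat.le_induction with
    | base => exact SModEq.refl _
    | succ k' hk' ih =>
      refine ih.trans ?_
      rw [SModEq.sub_mem, Finset.sum_range_succ, sub_add_cancel_left]
      exact Submodule.neg_mem _ (hmono hk' (ht k'))
  obtain ⟨L, hL⟩ := IsPrecomplete.prec ‹IsPrecomplete I M› hS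
  exact ⟨L, fun N => SModEq.sub_mem.mp (hL N)⟩

theorem shiftT_partial_sum (g : A) (m z : ℕ → M) (h : shiftT g M m = z) (k : ℕ) :
    m 0 = (∑ n ∈ Finset.range k, g ^ n • z n) + g ^ k • m k := by
  induction k with
  | zero => simp
  | succ k ih =>
    have hk : z k = m k - g • m (k + 1) := by rw [← h]; rfl
    rw [Finset.sum_range_succ, hk, ih, smul_sub, smul_smul, ← pow_succ]
    abel

theorem isPrecomplete_sup_span_singleton (I' : Ideal A) (g : A) [IsPrecomplete I' M]
    (hg : Function.Surjective (shiftT g M)) : IsPrecomplete (I' ⊔ Ideal.span {g}) M := by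
  constructor
  intro x hx
  have hmono : ∀ {a b : ℕ}, a ≤ b →
      ((I' ⊔ Ideal.span {g}) ^ b • ⊤ : Submodule A M) ≤ (I' ⊔ Ideal.span {g}) ^ a • ⊤ := fun h =>
    Submodule.smul_mono_left (Ideal.pow_le_pow_right h)
  have hd : ∀ n, ∃ y ∈ (I' ^ n • ⊤ : Submodule A M), ∃ z : M,
      x (2 * (n + 1)) - x (2 * n) = y + g ^ n • z := by
    intro n
    have h1 : x (2 * n) ≡ x (2 * (n + 1)) [SMOD ((I' ⊔ Ideal.span {g}) ^ (2 * n) • ⊤ :
        Submodule A M)] := hx (by omega)
    have h2 : x (2 * (n + 1)) - x (2 * n) ∈ ((I' ⊔ Ideal.span {g}) ^ (2 * n) • ⊤ :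
        Submodule A M) := SModEq.sub_mem.mp h1.symm
    have h3 : ((I' ⊔ Ideal.span {g}) ^ (2 * n) • ⊤ : Submodule A M) ≤
        I' ^ n • ⊤ ⊔ (Ideal.span {g ^ n}) • ⊤ := by
      rw [← Submodule.sup_smul, ← Ideal.span_singleton_pow, two_mul]
      exact Submodule.smul_mono_left Ideal.sup_pow_add_le_pow_sup_pow
    obtain ⟨y, hy, w, hw, hyw⟩ := Submodule.mem_sup.mp (h3 h2)
    rw [Submodule.ideal_span_singleton_smul] at hw
    obtain ⟨z, -, hz⟩ := (Submodule.mem_smul_pointwise_iff_exists _ _ _).mp hw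
    exact ⟨y, hy, z, by rw [hz, hyw]⟩
  choose y hy z hyz using hd
  obtain ⟨yL, hyL⟩ := exists_sum_of_isPrecomplete I' y hy
  obtain ⟨m, hm⟩ := hg z
  refine ⟨x 0 + yL + m 0, fun N => ?_⟩
  have htel : x (2 * N) = x 0 + (∑ n ∈ Finset.range N, y n) +
      ∑ n ∈ Finset.range N, g ^ n • z n := by
    induction N with
    | zero => simp
    | succ N ih =>
      rw [Finset.sum_range_succ, Finset.sum_range_succ, ← sub_add_cancel (x (2 * (N + 1))) (x (2 * N)),
        hyz N, ih]
      abel
  have h1 : x N ≡ x (2 * N) [SMOD ((I' ⊔ Ideal.span {g}) ^ N • ⊤ : Submodule A M)] :=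
    hx (by omega)
  refine h1.trans ?_
  rw [SModEq.sub_mem, htel, shiftT_partial_sum g m z hm N]
  have h2 : x 0 + ∑ n ∈ Finset.range N, y n + ∑ n ∈ Finset.range N, g ^ n • z n -
      (x 0 + yL + (∑ n ∈ Finset.range N, g ^ n • z n + g ^ N • m N)) =
      ((∑ n ∈ Finset.range N, y n) - yL) - g ^ N • m N := by abel
  rw [h2]
  refine Submodule.sub_mem _ ?_ ?_
  · exact Submodule.smul_mono_left (Ideal.pow_right_mono le_sup_left N) (hyL N)
  · refine Submodule.smul_mem_smul (Ideal.pow_mem_pow ?_ N) Submodule.mem_top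
    exact Ideal.mem_sup_right (Ideal.mem_span_singleton_self g)

theorem isPrecomplete_span_of_shiftT_surjective [DecidableEq A] (s : Finset A)
    (h : ∀ f ∈ s, Function.Surjective (shiftT f M)) :
    IsPrecomplete (Ideal.span (s : Set A)) M := by
  induction s using Finset.induction_on with
  | empty =>
    rw [Finset.coe_empty, Ideal.span_empty]
    exact isPrecomplete_bot M
  | insert g s hgs ih =>
    have : IsPrecomplete (Ideal.span (s : Set A)) M :=
      ih fun f hf => h f (Finset.mem_insert_of_mem hf)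
    rw [Finset.coe_insert, Ideal.span_insert, sup_comm]
    exact isPrecomplete_sup_span_singleton _ g (h g (Finset.mem_insert_self _ _))

end Groth.Agent.Lib.Helper35.DC
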