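import Groth.Agent.Lib.Helper35.DCSeq
import Groth.Agent.Lib.Helper35.DCPre
import Groth.Agent.Lib.Helper35.DCNilp
import Mathlib.RingTheory.Henselian
import Mathlib.Algebra.Polynomial.Identities

/-! A ring with bijective `T_f` for all `f ∈ I` is henselian along `I` (helper35). -/

universe u

namespace Groth.Agent.Lib.Helper35.DC

open Polynomial

section Quot

variable {A : Type*} [CommRing A] {M N : Type*} [AddCommGroup M] [Module A M] [AddCommGroup N]
  [Module A N]

theorem shiftT_surjective_of_surjective (f : A) (π : M →ₗ[A] N) (hπ : Function.Surjective π)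
    (hM : Function.Surjective (shiftT f M)) : Function.Surjective (shiftT f N) := by
  intro c
  choose c' hc' using fun i => hπ (c i)
  obtain ⟨m, hm⟩ := hM c'
  refine ⟨fun i => π (m i), ?_⟩
  rw [shiftT_comp, hm]
  exact funext hc'

end Quot

variable {A : Type u} [CommRing A]

/-- If `T_f` is bijective on `A` then `1 - f` is a unit. -/
theorem isUnit_one_sub_of_shiftT_bijective (f : A) (h : Function.Bijective (shiftT f A)) :
    IsUnit (1 - f) := by
  obtain ⟨m, hm⟩ := h.2 (fun _ => (1 : A))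
  have h1 : shiftT f A (fun i => m (i + 1)) = shiftT f A m := by
    rw [hm]
    funext i
    have := congrFun hm (i + 1)
    simpa [shiftT_apply] using this
  have h2 := congrFun (h.1 h1) 0
  have h3 := congrFun hm 0
  simp only [shiftT_apply] at h3
  rw [← h2, smul_eq_mul, zero_add] at h3
  refine IsUnit.of_mul_eq_one (m 1) ?_
  calc (1 - f) * m 1 = m 1 - f * m 1 := by ring
    _ = 1 := h3

theorem le_jacobson_of_shiftT_bijective (I : Ideal A)
    (h : ∀ f ∈ I, Function.Bijective (shiftT f A)) : I ≤ Ideal.jacobson ⊥ := by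
  intro x hx
  rw [Ideal.mem_jacobson_bot]
  intro y
  have h1 := isUnit_one_sub_of_shiftT_bijective (-(x * y))
    (h _ (I.neg_mem (I.mul_mem_right y hx)))
  have h2 : 1 - -(x * y) = x * y + 1 := by ring
  rwa [h2] at h1

theorem henselianRing_of_shiftT_bijective (I : Ideal A)
    (h : ∀ f ∈ I, Function.Bijective (shiftT f A)) : HenselianRing A I where
  jac := le_jacobson_of_shiftT_bijective I h
  is_henselian := by
    intro P hP a₀ h₁ h₂
    classical
    have hjac := le_jacobson_of_shiftT_bijective I h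
    have hloc : IsLocalHom (Ideal.Quotient.mk I) := isLocalHom_of_le_jacobson_bot I hjac
    obtain ⟨c, hc⟩ : ∃ c, c = P.eval a₀ := ⟨_, rfl⟩
    rw [← hc] at h₁
    have hTc := h c h₁
    let J : Ideal A := ⨅ n : ℕ, Ideal.span {c ^ n}
    have hJ2 : J ^ 2 = ⊥ := iInf_span_pow_sq_eq_bot c hTc.1
    have hJn : ∀ n : ℕ, J ≤ Ideal.span {c ^ n} := fun n => iInf_le _ n
    have hJc : J ≤ Ideal.span {c} := (hJn 1).trans (by rw [pow_one])
    have hcI : Ideal.span {c} ≤ I := (Ideal.span_singleton_le_iff_mem _).mpr h₁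
    have hJI : J ≤ I := hJc.trans hcI
    have hpre : IsPrecomplete (Ideal.span {Ideal.Quotient.mk J c}) (A ⧸ J) := by
      have hs : Function.Surjective (shiftT (Ideal.Quotient.mk J c) (A ⧸ J)) := by
        have h1 : Function.Surjective (shiftT c (A ⧸ J)) :=
          shiftT_surjective_of_surjective c (Submodule.mkQ J) (Submodule.mkQ_surjective J) hTc.2
        have h3 : shiftT (Ideal.Quotient.mk J c) (A ⧸ J) = shiftT c (A ⧸ J) := by
          funext x i
          simp only [shiftT_apply]
          rw [Algebra.smul_def c, Ideal.Quotient.algebraMap_eq, smul_eq_mul]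
        rw [h3]
        exact h1
      have h0 := isPrecomplete_span_of_shiftT_surjective (M := A ⧸ J)
        ({Ideal.Quotient.mk J c} : Finset (A ⧸ J)) (by simpa using hs)
      simpa using h0
    have hhaus : IsHausdorff (Ideal.span {Ideal.Quotient.mk J c}) (A ⧸ J) := by
      rw [isHausdorff_iff]
      intro x hx
      obtain ⟨a, rfl⟩ := Ideal.Quotient.mk_surjective x
      rw [Ideal.Quotient.eq_zero_iff_mem, Ideal.mem_iInf]
      intro n
      have h1 := hx n
      rw [SModEq.zero, smul_eq_mul, Ideal.mul_top, Ideal.span_singleton_pow, ← map_pow,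
        ← Set.image_singleton, ← Ideal.map_span, Ideal.mem_quotient_iff_mem (hJn n)] at h1
      exact h1
    have hcomplete : IsAdicComplete (Ideal.span {Ideal.Quotient.mk J c}) (A ⧸ J) :=
      { toIsHausdorff := hhaus, toIsPrecomplete := hpre }
    have hhens : HenselianRing (A ⧸ J) (Ideal.span {Ideal.Quotient.mk J c}) := inferInstance
    have hu0 : IsUnit (P.derivative.eval a₀) := hloc.map_nonunit _ h₂
    have hev : ∀ (R : A[X]) (a : A), (R.map (Ideal.Quotient.mk J)).eval (Ideal.Quotient.mk J a) =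
        Ideal.Quotient.mk J (R.eval a) := fun R a => by rw [eval_map, eval₂_at_apply]
    obtain ⟨b, hb, hb0⟩ := hhens.is_henselian (P.map (Ideal.Quotient.mk J))
      (hP.map (Ideal.Quotient.mk J)) (Ideal.Quotient.mk J a₀)
      (by rw [hev, ← hc]; exact Ideal.subset_span rfl)
      (by rw [derivative_map, hev]; exact (hu0.map (Ideal.Quotient.mk J)).map (Ideal.Quotient.mk _))
    obtain ⟨a₁, rfl⟩ := Ideal.Quotient.mk_surjective b
    have hPa₁ : P.eval a₁ ∈ J := by
      rw [← Ideal.Quotient.eq_zero_iff_mem, ← hev]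
      exact hb
    have ha₁ : a₁ - a₀ ∈ I := by
      rw [← map_sub, ← Set.image_singleton, ← Ideal.map_span,
        Ideal.mem_quotient_iff_mem hJc] at hb0
      exact hcI hb0
    have hu1 : IsUnit (P.derivative.eval a₁) := by
      apply hloc.map_nonunit
      obtain ⟨z, hz⟩ := P.derivative.evalSubFactor a₁ a₀
      have h4 : Ideal.Quotient.mk I (P.derivative.eval a₁) =
          Ideal.Quotient.mk I (P.derivative.eval a₀) := by
        rw [Ideal.Quotient.eq, hz]
        exact I.mul_mem_left z ha₁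
      rw [h4]
      exact h₂
    obtain ⟨u, hu⟩ := hu1
    have hhJ : -(P.eval a₁) * ↑u⁻¹ ∈ J := J.mul_mem_right _ (J.neg_mem hPa₁)
    have hh2 : (-(P.eval a₁) * ↑u⁻¹) ^ 2 = 0 := by
      have h5 : (-(P.eval a₁) * ↑u⁻¹) ^ 2 ∈ J ^ 2 := Ideal.pow_mem_pow hhJ 2
      rwa [hJ2, Ideal.mem_bot] at h5
    obtain ⟨k, hk⟩ := P.binomExpansion a₁ (-(P.eval a₁) * ↑u⁻¹)
    refine ⟨a₁ + -(P.eval a₁) * ↑u⁻¹, ?_, ?_⟩
    · rw [IsRoot.def, hk, hh2, mul_zero, add_zero, ← hu]
      have h6 : (u : A) * (-(P.eval a₁) * ↑u⁻¹) = -(P.eval a₁) := by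
        rw [mul_comm, mul_assoc, Units.inv_mul, mul_one]
      rw [h6, add_neg_cancel]
    · have h7 : a₁ + -(P.eval a₁) * ↑u⁻¹ - a₀ = (a₁ - a₀) + -(P.eval a₁) * ↑u⁻¹ := by ring
      rw [h7]
      exact I.add_mem ha₁ (hJI hhJ)

end Groth.Agent.Lib.Helper35.DC
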