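import Groth.Agent.Lib.Helper35.DCModule
import Groth.Prelude.Def_DRing3

/-! Derived completeness of modules in terms of sequences (helper35). -/

universe u

namespace Groth.Agent.Lib.Helper35.DC

open CategoryTheory

attribute [local instance] HasDerivedCategory.standard

variable {A : Type u} [CommRing A]

theorem isDerivedComplete_inD_iff (I : Ideal A) (M : Type u) [AddCommGroup M] [Module A M] :
    DRing.IsDerivedComplete I (Dual.inD A M) ↔ ∀ f ∈ I, Function.Bijective (shiftT f M) := by
  constructor
  · intro h f hf
    exact (subsingleton_hom_away_iff_shiftT_bijective f M).mp (h f hf)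
  · intro h f hf
    exact (subsingleton_hom_away_iff_shiftT_bijective f M).mpr (h f hf)

end Groth.Agent.Lib.Helper35.DC
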