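import Groth.Agent.Lib.Helper35.DCSeq
import Groth.Agent.Lib.Helper35.DCNak
import Groth.Agent.Lib.Helper35.DCCx

/-! The elements `f` with `T_f` bijective on `M` form a radical ideal (helper35). -/

universe u

namespace Groth.Agent.Lib.Helper35.DC

section Linear

variable {A : Type*} [CommRing A] (f : A) (M : Type*) [AddCommGroup M] [Module A M]

/-- `T_f` as a linear map. -/
def shiftTₗ : (ℕ → M) →ₗ[A] (ℕ → M) where
  toFun := shiftT f M
  map_add' m m' := by
    funext i
    simp only [shiftT_apply, Pi.add_apply, smul_add]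
    abel
  map_smul' a m := by
    funext i
    simp only [shiftT_apply, Pi.smul_apply, RingHom.id_apply, smul_sub, smul_comm a f]

theorem shiftTₗ_apply (m : ℕ → M) : shiftTₗ f M m = shiftT f M m := rfl

theorem shiftT_zero_bijective : Function.Bijective (shiftT (0 : A) M) := by
  have : shiftT (0 : A) M = id := by
    funext m i
    simp [shiftT_apply]
  rw [this]
  exact Function.bijective_id

end Linear

variable {A : Type u} [CommRing A]

theorem shiftT_bijective_of_pow_mem_span [DecidableEq A] (s : Finset A) (M : Type u)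
    [AddCommGroup M] [Module A M] (hs : ∀ x ∈ s, Function.Bijective (shiftT x M))
    (h : A) (k : ℕ) (hk : h ^ k ∈ Ideal.span (s : Set A)) :
    Function.Bijective (shiftT h M) := by
  have hpi : ∀ x ∈ s, Function.Bijective (shiftT x (ℕ → M)) := fun x hx =>
    shiftT_bijective_pi x (fun _ => M) (fun _ => hs x hx)
  have hN : Subsingleton (LinearMap.ker (shiftTₗ h M)) := by
    apply subsingleton_of_forall_shiftT_bijective s (LinearMap.ker (shiftTₗ h M))
      (fun x hx => shiftT_bijective_ker x (shiftTₗ h M) (hpi x hx) (hpi x hx).1)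
    rw [eq_top_iff]
    intro n _
    have key : ∀ j : ℕ, ∀ n : LinearMap.ker (shiftTₗ h M),
        ∃ n' : LinearMap.ker (shiftTₗ h M), n = h ^ j • n' := by
      intro j
      induction j with
      | zero => intro n; exact ⟨n, by simp⟩
      | succ j ih =>
        intro n
        obtain ⟨n', rfl⟩ := ih n
        have hn' : shiftT h M n'.1 = 0 := n'.2
        rw [shiftT_eq_zero_iff] at hn'
        have hS : (fun i => n'.1 (i + 1)) ∈ LinearMap.ker (shiftTₗ h M) := by
          change shiftT h M (fun i => n'.1 (i + 1)) = 0
          rw [shiftT_eq_zero_iff]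
          intro i
          exact hn' (i + 1)
        refine ⟨⟨_, hS⟩, ?_⟩
        apply Subtype.ext
        funext i
        simp only [Submodule.coe_smul, Pi.smul_apply]
        rw [hn' i, smul_smul, ← pow_succ]
    obtain ⟨n', rfl⟩ := key k n
    exact Submodule.smul_mem_smul hk Submodule.mem_top
  have hC : Subsingleton ((ℕ → M) ⧸ LinearMap.range (shiftTₗ h M)) := by
    apply subsingleton_of_forall_shiftT_bijective s _
      (fun x hx => shiftT_bijective_quotient_range x (shiftTₗ h M) (hpi x hx).2 (hpi x hx))
    rw [eq_top_iff]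
    intro c _
    obtain ⟨c₀, rfl⟩ := Submodule.mkQ_surjective _ c
    have key : ∀ j : ℕ, ∀ c₀ : ℕ → M, (LinearMap.range (shiftTₗ h M)).mkQ c₀ =
        h ^ j • (LinearMap.range (shiftTₗ h M)).mkQ (fun i => c₀ (i + j)) := by
      intro j
      induction j with
      | zero => intro c₀; simp
      | succ j ih =>
        intro c₀
        rw [ih c₀, pow_succ, mul_smul]
        congr 1
        rw [← map_smul, ← sub_eq_zero, ← map_sub, ← LinearMap.mem_ker, Submodule.ker_mkQ]
        refine ⟨fun i => c₀ (i + j), ?_⟩
        funext i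
        simp only [shiftTₗ_apply, shiftT_apply, Pi.sub_apply, Pi.smul_apply, add_assoc,
          add_comm 1 j]
    rw [key k c₀]
    exact Submodule.smul_mem_smul hk Submodule.mem_top
  constructor
  · rw [shiftT_injective_iff]
    intro m hm
    have : (⟨m, hm⟩ : LinearMap.ker (shiftTₗ h M)) = 0 := Subsingleton.elim _ _
    exact congrArg Subtype.val this
  · have hr : LinearMap.range (shiftTₗ h M) = ⊤ := Submodule.Quotient.subsingleton_iff.mp hC
    intro c
    have : c ∈ LinearMap.range (shiftTₗ h M) := by rw [hr]; trivial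
    obtain ⟨m, hm⟩ := this
    exact ⟨m, hm⟩

end Groth.Agent.Lib.Helper35.DC
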