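import Groth.Agent.Lib.Helper35.DCObj
import Groth.Agent.Lib.Helper35.DCRad
import Mathlib.Algebra.Homology.DerivedCategory.ExactFunctor
import Mathlib.Algebra.Category.ModuleCat.ChangeOfRings
import Groth.Prelude.Def_DDual2

/-! Derived completeness and restriction of scalars (helper35). -/

universe u

namespace Groth.Agent.Lib.Helper35.DC

open CategoryTheory Limits DerivedCategory

attribute [local instance] HasDerivedCategory.standard

section Semilinear

variable {A B : Type*} [CommRing A] [CommRing B]

theorem shiftT_bijective_iff_of_addEquiv (f : A) (g : B) {M N : Type*} [AddCommGroup M] [Module A M]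
    [AddCommGroup N] [Module B N] (e : M ≃+ N) (he : ∀ x, e (f • x) = g • e x) :
    Function.Bijective (shiftT f M) ↔ Function.Bijective (shiftT g N) := by
  have hE : Function.Bijective (fun m : ℕ → M => fun i => e (m i)) :=
    (Equiv.piCongrRight fun _ : ℕ => e.toEquiv).bijective
  have hcomp : shiftT g N ∘ (fun m : ℕ → M => fun i => e (m i)) =
      (fun m : ℕ → M => fun i => e (m i)) ∘ shiftT f M := by
    funext m i
    simp only [Function.comp_apply, shiftT_apply, map_sub, he]
  rw [← Function.Bijective.of_comp_iff _ hE, hcomp, Function.Bijective.of_comp_iff' hE]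

end Semilinear

variable {A B : Type u} [CommRing A] [CommRing B] (φ : A →+* B)

theorem nonempty_homology_restrict_iso (L : DerivedCategory (ModuleCat.{u} B)) (n : ℤ) :
    Nonempty ((homologyFunctor (ModuleCat.{u} A) n).obj
        ((ModuleCat.restrictScalars.{u} φ).mapDerivedCategory.obj L) ≅
      (ModuleCat.restrictScalars.{u} φ).obj ((homologyFunctor (ModuleCat.{u} B) n).obj L)) := by
  let E := Q.objPreimage L
  let e : Q.obj E ≅ L := Q.objObjPreimageIso L
  let F := ModuleCat.restrictScalars.{u} φ
  refine ⟨(homologyFunctor (ModuleCat.{u} A) n).mapIso (F.mapDerivedCategory.mapIso e.symm) ≪≫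
    (homologyFunctor (ModuleCat.{u} A) n).mapIso (F.mapDerivedCategoryFactors.app E) ≪≫
    (homologyFunctorFactors (ModuleCat.{u} A) n).app _ ≪≫
    (E.sc n).mapHomologyIso F ≪≫
    F.mapIso ((homologyFunctorFactors (ModuleCat.{u} B) n).app E).symm ≪≫
    F.mapIso ((homologyFunctor (ModuleCat.{u} B) n).mapIso e)⟩

theorem shiftT_bijective_homology_restrict_iff (f : A) (L : DerivedCategory (ModuleCat.{u} B))
    (n : ℤ) :
    Function.Bijective (shiftT f ((homologyFunctor (ModuleCat.{u} A) n).obj
        ((ModuleCat.restrictScalars.{u} φ).mapDerivedCategory.obj L))) ↔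
      Function.Bijective (shiftT (φ f) ((homologyFunctor (ModuleCat.{u} B) n).obj L)) := by
  obtain ⟨e⟩ := nonempty_homology_restrict_iso φ L n
  refine (shiftT_bijective_iff_of_addEquiv f f e.toLinearEquiv.toAddEquiv (fun x => e.toLinearEquiv.map_smul f x)).trans ?_
  exact shiftT_bijective_iff_of_addEquiv f (φ f)
    (M := (ModuleCat.restrictScalars.{u} φ).obj ((homologyFunctor (ModuleCat.{u} B) n).obj L))
    (N := (homologyFunctor (ModuleCat.{u} B) n).obj L) (AddEquiv.refl _) (fun x => rfl)

end Groth.Agent.Lib.Helper35.DC
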