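import Groth.Agent.Lib.Helper35.CoextAdj
import Groth.Prelude.Def_DRing3
import Groth.Prelude.Def_DDual2
import Mathlib.RingTheory.Localization.BaseChange

/-! Derived completeness and restriction of scalars from a localization (helper35). -/

set_option autoImplicit false
set_option linter.unusedSectionVars false
universe u

open CategoryTheory CategoryTheory.Limits DerivedCategory

attribute [local instance] HasDerivedCategory.standard

namespace Groth.Agent.Lib.Helper35.DCR

open Groth.Agent.Lib.Helper35.CoextAdj

section Restr

variable {A B : Type u} [CommRing A] [CommRing B] [Algebra A B]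

set_option backward.isDefEq.respectTransparency false in
/-- identity `B|_A ≃ B`. -/
noncomputable def rResEquiv :
    ((ModuleCat.restrictScalars.{u} (algebraMap A B)).obj (ModuleCat.of B B)) ≃ₗ[A] B where
  toFun := fun b => b
  invFun := fun b => b
  map_add' := fun _ _ => rfl
  map_smul' := fun a b => by
    change ((algebraMap A B a) * (show B from b) : B) = a • (show B from b)
    rw [Algebra.smul_def]
  left_inv := fun _ => rfl
  right_inv := fun _ => rfl

noncomputable def rResIso :
    (ModuleCat.restrictScalars.{u} (algebraMap A B)).obj (ModuleCat.of B B) ≅ ModuleCat.of A B :=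
  (rResEquiv (A := A) (B := B)).toModuleIso

theorem forall_subsingleton_hom_inD_iff (K : Dual.D A) :
    (∀ n : ℤ, Subsingleton (Dual.inD A B ⟶ K⟦n⟧)) ↔
      ∀ E : Dual.D B, Subsingleton ((DRing.restrictD (algebraMap A B)).obj E ⟶ K) := by
  constructor
  · intro h E
    refine subsingleton_hom_restrict (algebraMap A B) K (fun n => ⟨fun u v => ?_⟩) E
    have := h n
    let e := (singleFunctor (ModuleCat.{u} A) 0).mapIso (rResIso (A := A) (B := B))
    have h1 : e.inv ≫ u = e.inv ≫ v := Subsingleton.elim _ _
    exact (cancel_epi e.inv).1 h1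
  · intro h n
    let E : Dual.D B := (singleFunctor (ModuleCat.{u} B) n).obj (ModuleCat.of B B)
    have hE := h E
    let e1 : (DRing.restrictD (algebraMap A B)).obj E ≅
        (singleFunctor (ModuleCat.{u} A) n).obj
          ((ModuleCat.restrictScalars.{u} (algebraMap A B)).obj (ModuleCat.of B B)) :=
      ((ModuleCat.restrictScalars.{u} (algebraMap A B)).mapDerivedCategorySingleFunctor n).app
        (ModuleCat.of B B)
    let e2 := (singleFunctor (ModuleCat.{u} A) n).mapIso (rResIso (A := A) (B := B))
    have h2 : Subsingleton ((singleFunctor (ModuleCat.{u} A) n).obj (ModuleCat.of A B) ⟶ K) := by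
      refine ⟨fun u v => ?_⟩
      have h1 : e1.hom ≫ e2.hom ≫ u = e1.hom ≫ e2.hom ≫ v := Subsingleton.elim _ _
      exact (cancel_epi e2.hom).1 ((cancel_epi e1.hom).1 h1)
    exact subsingleton_single_hom' (ModuleCat.of A B) (Iso.refl K) n h2

end Restr

section Unit

open TensorProduct

variable {A : Type u} [CommRing A]

theorem isLocalizedModule_id_of_bijective (f : A) (M : Type u) [AddCommGroup M] [Module A M]
    (hM : Function.Bijective (fun x : M => f • x)) :
    IsLocalizedModule (Submonoid.powers f) (LinearMap.id : M →ₗ[A] M) where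
  map_units := by
    rintro ⟨s, n, rfl⟩
    rw [Module.End.isUnit_iff]
    have : ∀ n : ℕ, Function.Bijective (fun x : M => (f ^ n) • x) := by
      intro n
      induction n with
      | zero =>
        have : (fun x : M => (f ^ 0) • x) = id := by
          funext x
          simp
        rw [this]
        exact Function.bijective_id
      | succ n ih =>
        have : (fun x : M => (f ^ (n + 1)) • x) = (fun x : M => f ^ n • x) ∘ (fun x : M => f • x) := by
          funext x
          simp [pow_succ, mul_smul]
        rw [this]
        exact ih.comp hM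
    exact this n
  surj := fun m => ⟨(m, 1), one_smul _ _⟩
  exists_of_eq := fun h => ⟨1, congr_arg _ h⟩

set_option backward.isDefEq.respectTransparency false in
theorem unit_bijective_of_isLocalization {B : Type u} [CommRing B] (φ : A →+* B) (f : A)
    (h1 : ∀ y : Submonoid.powers f, IsUnit (φ y))
    (h2 : ∀ z : B, ∃ x : A × Submonoid.powers f, z * φ x.2 = φ x.1)
    (h3 : ∀ {x y : A}, φ x = φ y → ∃ c : Submonoid.powers f, ↑c * x = ↑c * y)
    (M : ModuleCat.{u} A) (hM : Function.Bijective (fun x : M => f • x)) :
    Function.Bijective ((ModuleCat.extendRestrictScalarsAdj.{u, u, u} φ).unit.app M).hom := by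
  let _ : Algebra A B := φ.toAlgebra
  have hloc : IsLocalization (Submonoid.powers f) B :=
    { map_units := h1
      surj := h2
      exists_of_eq := h3 }
  let g : M →ₗ[A] (B ⊗[A] M) := TensorProduct.mk A B M 1
  have hg : IsLocalizedModule (Submonoid.powers f) g :=
    (isLocalizedModule_iff_isBaseChange (Submonoid.powers f) B g).2
      (TensorProduct.isBaseChange A M B)
  have hid := isLocalizedModule_id_of_bijective f M hM
  let e := IsLocalizedModule.linearEquiv (Submonoid.powers f) (LinearMap.id : M →ₗ[A] M) g
  have he : ∀ x : M, e x = g x := fun x =>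
    IsLocalizedModule.linearEquiv_apply (Submonoid.powers f) (LinearMap.id : M →ₗ[A] M) g x
  have hfun : ∀ x : M, ((ModuleCat.extendRestrictScalarsAdj.{u, u, u} φ).unit.app M).hom x =
      (show ((ModuleCat.extendScalars.{u, u, u} φ ⋙ ModuleCat.restrictScalars.{u} φ).obj M) from
        e x) := by
    intro x
    rw [he]
    rfl
  constructor
  · intro x y hxy
    apply e.injective
    have := (hfun x).symm.trans (hxy.trans (hfun y))
    exact this
  · intro y
    obtain ⟨x, hx⟩ := e.surjective (show B ⊗[A] M from y)
    exact ⟨x, (hfun x).trans hx⟩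

theorem unit_bijective_of_bijective (f : A) (M : ModuleCat.{u} A)
    (hM : Function.Bijective (fun x : M => f • x)) :
    Function.Bijective ((ModuleCat.extendRestrictScalarsAdj.{u, u, u}
      (algebraMap A (Localization.Away f))).unit.app M).hom := by
  have h0 : IsLocalization (Submonoid.powers f) (Localization.Away f) := inferInstance
  exact unit_bijective_of_isLocalization (algebraMap A (Localization.Away f)) f
    h0.map_units h0.surj h0.exists_of_eq M hM

end Unit

section Compl

variable {A : Type u} [CommRing A]

/-- A complex on whose terms `f` acts bijectively is, up to isomorphism, the restriction of a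
complex over `A_f`. -/
theorem exists_restrict_iso_of_bijective (f : A) (K : DRing.Cx A)
    (hK : ∀ i : ℤ, Function.Bijective (fun x : K.X i => f • x)) :
    ∃ E : Dual.D (Localization.Away f),
      Nonempty (DRing.toD K ≅ (DRing.restrictD (algebraMap A (Localization.Away f))).obj E) := by
  let φ := algebraMap A (Localization.Away f)
  let adj := ModuleCat.extendRestrictScalarsAdj.{u, u, u} φ
  let K' := ((ModuleCat.extendScalars.{u, u, u} φ).mapHomologicalComplex (ComplexShape.up ℤ)).obj K
  have hiso : ∀ i, IsIso (adj.unit.app (K.X i)) := fun i =>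
    (ConcreteCategory.isIso_iff_bijective _).2 (unit_bijective_of_bijective f (K.X i) (hK i))
  let e : K ≅ ((ModuleCat.restrictScalars.{u} φ).mapHomologicalComplex (ComplexShape.up ℤ)).obj K' :=
    HomologicalComplex.Hom.isoOfComponents (fun i => @asIso _ _ _ _ (adj.unit.app (K.X i)) (hiso i))
      (fun i j _ => (adj.unit.naturality (K.d i j)).symm)
  exact ⟨Q.obj K', ⟨Q.mapIso e ≪≫
    ((ModuleCat.restrictScalars.{u} φ).mapDerivedCategoryFactors.app K').symm⟩⟩

theorem isZero_derivedCompletion_of_smul_bijective (I : Ideal A) [DRing.HasDerivedCompletion I]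
    (K : DRing.Cx A) (f : A) (hf : f ∈ I)
    (hK : ∀ i : ℤ, Function.Bijective (fun x : K.X i => f • x)) :
    IsZero ((DRing.derivedCompletion I).obj (DRing.toD K)).obj := by
  obtain ⟨E, ⟨e⟩⟩ := exists_restrict_iso_of_bijective f K hK
  let Kc := (DRing.derivedCompletion I).obj (DRing.toD K)
  have hc : DRing.IsDerivedComplete I Kc.obj := Kc.property
  have hsub : Subsingleton (DRing.toD K ⟶ (ObjectProperty.ι (DRing.IsDerivedComplete I)).obj Kc) := by
    have h0 : Subsingleton ((DRing.restrictD (algebraMap A (Localization.Away f))).obj E ⟶ Kc.obj) :=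
      (forall_subsingleton_hom_inD_iff (B := Localization.Away f) Kc.obj).1 (hc f hf) E
    exact ⟨fun u v => (cancel_epi e.inv).1 (h0.elim (e.inv ≫ u) (e.inv ≫ v))⟩
  have hsub' : Subsingleton (Kc ⟶ Kc) :=
    ((DRing.derivedCompletionAdj I).homEquiv (DRing.toD K) Kc).subsingleton
  rw [IsZero.iff_id_eq_zero]
  have h1 : 𝟙 Kc = ObjectProperty.homMk (0 : Kc.obj ⟶ Kc.obj) := Subsingleton.elim _ _
  have h2 := congrArg (fun g => g.hom) h1
  exact h2

end Compl

end Groth.Agent.Lib.Helper35.DCR
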