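import Groth.Agent.Lib.Helper35.DCSeq
import Groth.Agent.Lib.Helper35.DCPre
import Groth.Agent.Lib.Helper35.DCNak

/-! Derived complete power-torsion modules have bounded torsion (helper35). -/

universe u

namespace Groth.Agent.Lib.Helper35.DC

variable {A : Type*} [CommRing A] {M : Type*} [AddCommGroup M] [Module A M]

/-- A Baire category argument for the `f`-adic topology on a precomplete module. -/
theorem exists_forall_of_open_dense (f : A) [IsPrecomplete (Ideal.span {f}) M]
    (P : ℕ → M → Prop)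
    (hopen : ∀ i x, P i x → ∃ k : ℕ, ∀ y ∈ (Ideal.span {f} ^ k • ⊤ : Submodule A M), P i (x + y))
    (hdense : ∀ i x (k : ℕ), ∃ y ∈ (Ideal.span {f} ^ k • ⊤ : Submodule A M), P i (x + y)) :
    ∃ x, ∀ i, P i x := by
  have hmono : ∀ {a b : ℕ}, a ≤ b →
      (Ideal.span {f} ^ b • ⊤ : Submodule A M) ≤ Ideal.span {f} ^ a • ⊤ := fun h =>
    Submodule.smul_mono_left (Ideal.pow_le_pow_right h)
  have step : ∀ (i : ℕ) (p : M × ℕ), ∃ q : M × ℕ,
      q.1 - p.1 ∈ (Ideal.span {f} ^ p.2 • ⊤ : Submodule A M) ∧ p.2 < q.2 ∧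
      ∀ y ∈ (Ideal.span {f} ^ q.2 • ⊤ : Submodule A M), P i (q.1 + y) := by
    rintro i ⟨x, k⟩
    obtain ⟨y, hy, hP⟩ := hdense i x k
    obtain ⟨k₀, hk₀⟩ := hopen i (x + y) hP
    refine ⟨(x + y, max k₀ (k + 1)), ?_, ?_, ?_⟩
    · simpa using hy
    · exact lt_of_lt_of_le (Nat.lt_succ_self k) (le_max_right _ _)
    · intro y' hy'
      exact hk₀ y' (hmono (le_max_left _ _) hy')
  obtain ⟨seq, hseq⟩ : ∃ seq : ℕ → M × ℕ, ∀ i, (seq (i + 1)).1 - (seq i).1 ∈
      (Ideal.span {f} ^ (seq i).2 • ⊤ : Submodule A M) ∧ (seq i).2 < (seq (i + 1)).2 ∧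
      ∀ y ∈ (Ideal.span {f} ^ (seq (i + 1)).2 • ⊤ : Submodule A M),
        P i ((seq (i + 1)).1 + y) := by
    choose nxt hnxt using step
    exact ⟨fun n => Nat.rec (0, 0) (fun i p => nxt i p) n, fun i => hnxt i _⟩
  have hk_mono : ∀ {i j : ℕ}, i ≤ j → (seq i).2 ≤ (seq j).2 := by
    intro i j hij
    induction j, hij using Nat.le_induction with
    | base => exact le_rfl
    | succ j _ ih => exact ih.trans (hseq j).2.1.le
  have hk_ge : ∀ i, i ≤ (seq i).2 := by
    intro i
    induction i with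
    | zero => exact Nat.zero_le _
    | succ i ih => exact Nat.succ_le_of_lt (lt_of_le_of_lt ih (hseq i).2.1)
  have hdiff : ∀ {i j : ℕ}, i ≤ j → (seq j).1 - (seq i).1 ∈
      (Ideal.span {f} ^ (seq i).2 • ⊤ : Submodule A M) := by
    intro i j hij
    induction j, hij using Nat.le_induction with
    | base => rw [sub_self]; exact Submodule.zero_mem _
    | succ j hj ih =>
      have h1 := hmono (hk_mono hj) (hseq j).1
      have h2 : (seq (j + 1)).1 - (seq i).1 =
          ((seq (j + 1)).1 - (seq j).1) + ((seq j).1 - (seq i).1) := by abel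
      rw [h2]
      exact Submodule.add_mem _ h1 ih
  have hcauchy : ∀ {m n : ℕ}, m ≤ n → (seq m).1 ≡ (seq n).1
      [SMOD (Ideal.span {f} ^ m • ⊤ : Submodule A M)] := by
    intro m n hmn
    rw [SModEq.sub_mem]
    have h1 := hmono (hk_ge m) (hdiff hmn)
    rw [← neg_sub]
    exact Submodule.neg_mem _ h1
  obtain ⟨L, hL⟩ := IsPrecomplete.prec ‹IsPrecomplete (Ideal.span {f}) M› hcauchy
  refine ⟨L, fun i => ?_⟩
  have h1 : L - (seq (i + 1)).1 ∈
      (Ideal.span {f} ^ (seq (i + 1)).2 • ⊤ : Submodule A M) := by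
    have key : ∀ K : ℕ, K = (seq (i + 1)).2 → L - (seq (i + 1)).1 ∈
        (Ideal.span {f} ^ K • ⊤ : Submodule A M) := by
      intro K hK
      have hle1 : K ≤ K + i + 1 := by omega
      have hle2 : i + 1 ≤ K + i + 1 := by omega
      have h2 : (seq (K + i + 1)).1 - L ∈ (Ideal.span {f} ^ K • ⊤ : Submodule A M) :=
        hmono hle1 (SModEq.sub_mem.mp (hL (K + i + 1)))
      have h3 : (seq (K + i + 1)).1 - (seq (i + 1)).1 ∈
          (Ideal.span {f} ^ K • ⊤ : Submodule A M) := by
        have h6 := hdiff hle2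
        rw [← hK] at h6
        exact h6
      have h4 : L - (seq (i + 1)).1 =
          ((seq (K + i + 1)).1 - (seq (i + 1)).1) - ((seq (K + i + 1)).1 - L) := by abel
      rw [h4]
      exact Submodule.sub_mem _ h3 h2
    exact key _ rfl
  have h5 := (hseq i).2.2 _ h1
  rwa [add_sub_cancel] at h5

theorem shiftT_injective_submodule (f : A) (D : Submodule A M)
    (h : Function.Injective (shiftT f M)) : Function.Injective (shiftT f D) := by
  rw [shiftT_injective_iff]
  intro d hd
  have h1 : shiftT f M (fun i => (d i : M)) = 0 := by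
    have := shiftT_comp f D.subtype d
    simp only [Submodule.subtype_apply] at this
    rw [this, hd]
    funext i
    simp
  have h2 := (shiftT_injective_iff f).mp h _ h1
  funext i
  exact Subtype.ext (congrFun h2 i)

/-- A module which is `f`-power torsion and on which `T_f` is bijective is killed by a power
of `f`. -/
theorem exists_pow_smul_eq_zero_of_torsion (f : A) (hT : Function.Bijective (shiftT f M))
    (htors : ∀ m : M, ∃ n : ℕ, f ^ n • m = 0) : ∃ n : ℕ, ∀ m : M, f ^ n • m = 0 := by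
  classical
  have hpre : IsPrecomplete (Ideal.span {f}) M := by
    have h0 := isPrecomplete_span_of_shiftT_surjective (M := M) ({f} : Finset A)
      (by simpa using hT.2)
    simpa using h0
  let K : Submodule A M := ⨅ n : ℕ, (Ideal.span {f} ^ n • ⊤ : Submodule A M)
  by_contra hcon
  push Not at hcon
  have h1 : ∃ N k : ℕ, ∀ y ∈ (Ideal.span {f} ^ k • ⊤ : Submodule A M), f ^ N • y ∈ K := by
    by_contra hH
    push Not at hH
    have hopen : ∀ (i : ℕ) (x : M), f ^ i • x ∉ K →
        ∃ k : ℕ, ∀ y ∈ (Ideal.span {f} ^ k • ⊤ : Submodule A M), f ^ i • (x + y) ∉ K := by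
      intro i x hx
      have hx' : ¬ ∀ n : ℕ, f ^ i • x ∈ (Ideal.span {f} ^ n • ⊤ : Submodule A M) :=
        fun h => hx ((Submodule.mem_iInf _).mpr h)
      obtain ⟨n, hn⟩ := not_forall.mp hx'
      refine ⟨n, fun y hy hxy => hn ?_⟩
      have h2 : f ^ i • (x + y) ∈ (Ideal.span {f} ^ n • ⊤ : Submodule A M) :=
        (Submodule.mem_iInf _).mp hxy n
      have h3 : f ^ i • x = f ^ i • (x + y) - f ^ i • y := by rw [smul_add, add_sub_cancel_right]
      rw [h3]
      exact Submodule.sub_mem _ h2 (Submodule.smul_mem _ _ hy)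
    have hdense : ∀ (i : ℕ) (x : M) (k : ℕ),
        ∃ y ∈ (Ideal.span {f} ^ k • ⊤ : Submodule A M), f ^ i • (x + y) ∉ K := by
      intro i x k
      by_cases hx : f ^ i • x ∈ K
      · obtain ⟨y, hy, hyK⟩ := hH i k
        refine ⟨y, hy, fun hxy => hyK ?_⟩
        have h3 : f ^ i • y = f ^ i • (x + y) - f ^ i • x := by rw [smul_add, add_sub_cancel_left]
        rw [h3]
        exact Submodule.sub_mem _ hxy hx
      · exact ⟨0, Submodule.zero_mem _, by rwa [add_zero]⟩
    obtain ⟨L, hLP⟩ := exists_forall_of_open_dense f (fun i x => f ^ i • x ∉ K) hopen hdense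
    obtain ⟨n, hn⟩ := htors L
    exact hLP n (by rw [hn]; exact K.zero_mem)
  obtain ⟨N, k, hNk⟩ := h1
  have h2 : ∀ m : M, f ^ (N + k) • m ∈ K := fun m => by
    rw [pow_add, mul_smul]
    exact hNk _ (Submodule.smul_mem_smul
      (Ideal.pow_mem_pow (Ideal.mem_span_singleton_self f) k) Submodule.mem_top)
  let D : Submodule A M := LinearMap.range (LinearMap.lsmul A M (f ^ (N + k)))
  have hDsub : Subsingleton D := by
    apply subsingleton_of_shiftT_injective_of_smul_surjective f D
      (shiftT_injective_submodule f D hT.1)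
    rintro ⟨d, m, rfl⟩
    have h3 : f ^ (N + k) • m ∈ (Ideal.span {f} ^ (N + k + 1) • ⊤ : Submodule A M) :=
      (Submodule.mem_iInf _).mp (h2 m) _
    rw [Ideal.span_singleton_pow, Submodule.ideal_span_singleton_smul] at h3
    obtain ⟨m', -, hm'⟩ := (Submodule.mem_smul_pointwise_iff_exists _ _ _).mp h3
    refine ⟨⟨f ^ (N + k) • m', ⟨m', rfl⟩⟩, ?_⟩
    apply Subtype.ext
    change f • (f ^ (N + k) • m') = f ^ (N + k) • m
    rw [← hm', smul_smul, ← pow_succ']
  obtain ⟨m, hm⟩ := hcon (N + k)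
  apply hm
  have h4 : (⟨f ^ (N + k) • m, ⟨m, rfl⟩⟩ : D) = 0 := Subsingleton.elim _ _
  exact congrArg Subtype.val h4

theorem exists_pow_smul_top_eq_bot [DecidableEq A] (s : Finset A)
    (h : ∀ f ∈ s, ∃ n : ℕ, ∀ m : M, f ^ n • m = 0) :
    ∃ N : ℕ, (Ideal.span (s : Set A)) ^ N • (⊤ : Submodule A M) = ⊥ := by
  induction s using Finset.induction_on with
  | empty =>
    exact ⟨1, by rw [Finset.coe_empty, Ideal.span_empty, pow_one, Submodule.bot_smul]⟩
  | insert g s hg ih =>
    obtain ⟨N', hN'⟩ := ih (fun f hf => h f (Finset.mem_insert_of_mem hf))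
    obtain ⟨n, hn⟩ := h g (Finset.mem_insert_self _ _)
    refine ⟨N' + n, ?_⟩
    rw [eq_bot_iff, Finset.coe_insert, Ideal.span_insert, sup_comm]
    refine (Submodule.smul_mono_left Ideal.sup_pow_add_le_pow_sup_pow).trans ?_
    rw [Submodule.sup_smul, hN', bot_sup_eq, Ideal.span_singleton_pow,
      Submodule.ideal_span_singleton_smul]
    intro x hx
    obtain ⟨y, -, rfl⟩ := (Submodule.mem_smul_pointwise_iff_exists _ _ _).mp hx
    rw [Submodule.mem_bot]
    exact hn y

end Groth.Agent.Lib.Helper35.DC
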