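import Groth.Agent.Lib.Helper35.DComplEx
import Groth.Agent.Lib.Helper35.Bousfield2

/-! Cohomological bounds for derived completion (helper35). -/

set_option autoImplicit false
set_option linter.unusedSectionVars false
universe w v u

open CategoryTheory CategoryTheory.Limits DerivedCategory Pretriangulated ZeroObject

namespace Groth.Agent.Lib.Helper35.DCE

open Groth.Agent.Lib.Helper35.CoextAdj Groth.Agent.Lib.Helper35.Bousfield
open Groth.Agent.Lib.Helper6.DerivedAdj Groth.Agent.Lib.Helper26.KProjQ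
  Groth.Agent.Lib.Helper26.AdjKProj

section Proj

variable {C : Type u} [Category.{v} C] [Abelian C] [HasDerivedCategory.{w} C]

/-- No maps from a projective object in degree `0` to an object with vanishing `H^0`. -/
theorem subsingleton_hom_single_projective (P : C) [Projective P] (K : DerivedCategory C)
    (hK : IsZero ((homologyFunctor C 0).obj K)) :
    Subsingleton ((singleFunctor C 0).obj P ⟶ K) := by
  obtain ⟨H, ⟨e⟩, hH⟩ := KL.exists_heart_object K
  have hHz : IsZero H := hK.of_iso e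
  have h := (hH (0 : C) P (0 : (0 : C) ⟶ P)).2 ?_
  · refine ⟨fun u v => h.1 ?_⟩
    change (singleFunctor C 0).map (0 : (0 : C) ⟶ P) ≫ u = (singleFunctor C 0).map 0 ≫ v
    rw [Functor.map_zero, zero_comp, zero_comp]
  · constructor
    · intro u v _
      exact hHz.eq_of_tgt u v
    · intro w
      exact ⟨0, hHz.eq_of_tgt _ _⟩

theorem isZero_homology_shift (K : DerivedCategory C) (n m k : ℤ) (h : n + m = k)
    (hK : IsZero ((homologyFunctor C k).obj K)) :
    IsZero ((homologyFunctor C m).obj (K⟦n⟧)) :=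
  hK.of_iso (((homologyFunctor C 0).shiftIso n m k h).app K)

/-- No maps from a projective object in degree `0` to `K⟦n⟧` when `H^n(K) = 0`. -/
theorem subsingleton_hom_single_projective_shift (P : C) [Projective P] (K : DerivedCategory C)
    (n : ℤ) (hK : IsZero ((homologyFunctor C n).obj K)) :
    Subsingleton ((singleFunctor C 0).obj P ⟶ K⟦n⟧) :=
  subsingleton_hom_single_projective P _ (isZero_homology_shift K n 0 n (add_zero n) hK)

/-- Maps out of the third term of a short exact sequence with projective first two terms. -/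
theorem subsingleton_hom_single_X₃ (S : ShortComplex C) (hS : S.ShortExact) [Projective S.X₁]
    [Projective S.X₂] (K : DerivedCategory C) (n m : ℤ) (hm : m + 1 = n)
    (h0 : IsZero ((homologyFunctor C n).obj K)) (h1 : IsZero ((homologyFunctor C m).obj K)) :
    Subsingleton ((singleFunctor C 0).obj S.X₃ ⟶ K⟦n⟧) := by
  have hT := hS.singleTriangle_distinguished
  refine ⟨fun u v => ?_⟩
  suffices hz : ∀ φ : (singleFunctor C 0).obj S.X₃ ⟶ K⟦n⟧, φ = 0 by rw [hz u, hz v]
  intro φ
  have h2 : hS.singleTriangle.mor₂ ≫ φ = 0 :=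
    (subsingleton_hom_single_projective_shift S.X₂ K n h0).elim _ _
  obtain ⟨ψ, hψ⟩ := Triangle.yoneda_exact₃ _ hT φ h2
  have h3 : ψ = 0 := by
    apply (shiftFunctor (DerivedCategory C) (-1 : ℤ)).map_injective
    rw [Functor.map_zero]
    let e₁ := shiftShiftNeg ((singleFunctor C 0).obj S.X₁) (1 : ℤ)
    have h4 : Subsingleton ((singleFunctor C 0).obj S.X₁ ⟶ (K⟦n⟧)⟦(-1 : ℤ)⟧) :=
      subsingleton_hom_single_projective S.X₁ _
        (isZero_homology_shift (K⟦n⟧) (-1) 0 (-1) (by omega)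
          (isZero_homology_shift K n (-1) m (by omega) h1))
    have h5 : e₁.inv ≫ ψ⟦(-1 : ℤ)⟧' = e₁.inv ≫ 0 := h4.elim _ _
    exact (cancel_epi e₁.inv).1 h5
  rw [hψ, h3]
  exact comp_zero

end Proj

attribute [local instance] HasDerivedCategory.standard

section Coext

variable {A B : Type u} [CommRing A] [CommRing B] (φ : A →+* B)

theorem isZero_homology_Q_iff (X : DRing.Cx A) (i : ℤ) :
    IsZero ((homologyFunctor (ModuleCat.{u} A) i).obj (Q.obj X)) ↔ X.ExactAt i := by
  rw [HomologicalComplex.exactAt_iff_isZero_homology]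
  exact ((homologyFunctorFactors (ModuleCat.{u} A) i).app X).isZero_iff

/-- Degreewise version of `acyclic_coext`. -/
theorem exactAt_coext (J : DRing.Cx A) [J.IsKInjective] (n : ℤ)
    (h : Subsingleton ((singleFunctor (ModuleCat.{u} A) n).obj
      ((ModuleCat.restrictScalars.{u} φ).obj (ModuleCat.of B B)) ⟶ Q.obj J)) :
    ((Rc φ).obj J).ExactAt n := by
  apply exactAt_of_forall_homotopy_zero
  intro c
  let adj := ModuleCat.restrictCoextendScalarsAdj.{u, u, u} φ
  let ι := (HomologicalComplex.singleMapHomologicalComplex (ModuleCat.restrictScalars.{u} φ)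
    (ComplexShape.up ℤ) n).app (ModuleCat.of B B)
  let c' := ι.inv ≫ adjunctInv adj c
  have hc' : Q.map c' = 0 := by
    let e := (singleFunctorIsoCompQ (ModuleCat.{u} A) n).app
      ((ModuleCat.restrictScalars.{u} φ).obj (ModuleCat.of B B))
    have h1 : e.hom ≫ Q.map c' = e.hom ≫ 0 := Subsingleton.elim _ _
    exact (cancel_epi e.hom).1 h1
  obtain ⟨H⟩ := nonempty_homotopy_of_Q_map_eq_of_isKInjective c' 0
    (by rw [hc', Functor.map_zero])
  have H2 : Homotopy (adjunctInv adj c) 0 :=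
    (Homotopy.ofEq (by simp [c'])).trans ((H.compLeft ι.hom).trans (Homotopy.ofEq (by simp)))
  have H3 := adjunctHomotopy adj H2
  rw [adjunct_adjunctInv, adjunct_zero] at H3
  exact ⟨H3⟩

theorem isZero_homology_TJ (J : DRing.Cx A) [J.IsKInjective] (n : ℤ)
    (h : Subsingleton ((singleFunctor (ModuleCat.{u} A) n).obj
      ((ModuleCat.restrictScalars.{u} φ).obj (ModuleCat.of B B)) ⟶ Q.obj J)) :
    IsZero ((homologyFunctor (ModuleCat.{u} A) n).obj (Q.obj (TJ φ J))) := by
  rw [isZero_homology_Q_iff]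
  have h1 : (((Rc φ).obj J).sc n).Exact := exactAt_coext φ J n h
  exact h1.map (ModuleCat.restrictScalars.{u} φ)

end Coext

section Loc

variable {A : Type u} [CommRing A]

theorem isZero_homology_TJ_aw (f : A) (J : DRing.Cx A) [J.IsKInjective] (n m : ℤ)
    (hm : m + 1 = n) (h0 : IsZero ((homologyFunctor (ModuleCat.{u} A) n).obj (Q.obj J)))
    (h1 : IsZero ((homologyFunctor (ModuleCat.{u} A) m).obj (Q.obj J))) :
    IsZero ((homologyFunctor (ModuleCat.{u} A) n).obj (Q.obj (TJ (aw f) J))) := by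
  apply isZero_homology_TJ
  apply subsingleton_single_hom _ (Iso.refl (Q.obj J)) n
  have h2 := subsingleton_hom_single_X₃ (Groth.Agent.Lib.Helper35.DC.awayShortComplex f)
    (Groth.Agent.Lib.Helper35.DC.awayShortComplex_shortExact f) (Q.obj J) n m hm h0 h1
  let e := (singleFunctor (ModuleCat.{u} A) 0).mapIso
    (Groth.Agent.Lib.Helper35.DCR.rResIso (A := A) (B := Localization.Away f))
  refine ⟨fun u v => ?_⟩
  have h3 : e.inv ≫ u = e.inv ≫ v := h2.elim _ _
  exact (cancel_epi e.inv).1 h3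

/-- lower bound on cohomology -/
def LB (m : ℤ) (K : Dual.D A) : Prop :=
  ∀ i : ℤ, i < m → IsZero ((homologyFunctor (ModuleCat.{u} A) i).obj K)

/-- upper bound on cohomology -/
def UB (m : ℤ) (K : Dual.D A) : Prop :=
  ∀ i : ℤ, m < i → IsZero ((homologyFunctor (ModuleCat.{u} A) i).obj K)

theorem LB.of_iso {m : ℤ} {K K' : Dual.D A} (e : K ≅ K') (h : LB m K) : LB m K' :=
  fun i hi => (h i hi).of_iso ((homologyFunctor (ModuleCat.{u} A) i).mapIso e.symm)

theorem UB.of_iso {m : ℤ} {K K' : Dual.D A} (e : K ≅ K') (h : UB m K) : UB m K' :=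
  fun i hi => (h i hi).of_iso ((homologyFunctor (ModuleCat.{u} A) i).mapIso e.symm)

theorem isZero_homology_obj₃ (T : Triangle (Dual.D A)) (hT : T ∈ distTriang (Dual.D A))
    (n₀ n₁ : ℤ) (h : n₀ + 1 = n₁)
    (h2 : IsZero ((homologyFunctor (ModuleCat.{u} A) n₀).obj T.obj₂))
    (h1 : IsZero ((homologyFunctor (ModuleCat.{u} A) n₁).obj T.obj₁)) :
    IsZero ((homologyFunctor (ModuleCat.{u} A) n₀).obj T.obj₃) :=
  (HomologySequence.exact₃ T hT n₀ n₁ h).isZero_of_both_zeros (h2.eq_of_src _ _)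
    (h1.eq_of_tgt _ _)

open Groth.Agent.Lib.Helper32 in
/-- The completion step with respect to one element, with cohomological bounds. -/
theorem exists_step_bd (f : A) (s : Set A) (C₁ : Dual.D A) (h₁ : ∀ g ∈ s, Pg g C₁) :
    ∃ (C Z : Dual.D A) (η : C₁ ⟶ C) (p : C ⟶ Z) (δ : Z ⟶ C₁⟦(1 : ℤ)⟧),
      Triangle.mk η p δ ∈ distTriang (Dual.D A) ∧ (∀ g ∈ s, Pg g C) ∧ Pg f C ∧ LOrth (Pg f) Z ∧
        ((∀ m : ℤ, LB m C₁ → LB (m - 1) C) ∧ ∀ m : ℤ, UB m C₁ → UB m C) := by
  obtain ⟨J, j, hJ, hj⟩ := KInjTower.exists_kInjective_resolution (K := Q.objPreimage C₁)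
  have : IsIso (Q.map j) := by
    rw [isIso_Q_map_iff_quasiIso]
    exact hj
  let eK : C₁ ≅ Q.obj J := (Q.objObjPreimageIso C₁).symm ≪≫ asIso (Q.map j)
  obtain ⟨C, η, p, hT, hC⟩ := exists_triangle_Q (aw f) (flat_aw f) J
  have hT' := rot_of_distTriang _ hT
  refine ⟨C, (Q.obj (TJ (aw f) J))⟦(1 : ℤ)⟧, eK.hom ≫ η, p,
    (-(Q.map (εJ (aw f) J))⟦(1 : ℤ)⟧') ≫ eK.inv⟦(1 : ℤ)⟧', ?_, ?_, hC, ?_, ?_, ?_⟩
  · refine isomorphic_distinguished _ hT' _ ?_
    refine Triangle.isoMk _ _ eK (Iso.refl _) (Iso.refl _) ?_ ?_ ?_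
    · exact Category.comp_id _
    · exact (Category.comp_id _).trans (Category.id_comp _).symm
    · change ((-(Q.map (εJ (aw f) J))⟦(1 : ℤ)⟧') ≫ eK.inv⟦(1 : ℤ)⟧') ≫ eK.hom⟦(1 : ℤ)⟧' =
        𝟙 _ ≫ (-(Q.map (εJ (aw f) J))⟦(1 : ℤ)⟧')
      rw [Category.id_comp, Category.assoc, ← Functor.map_comp, Iso.inv_hom_id,
        CategoryTheory.Functor.map_id, Category.comp_id]
  · intro g hg
    have h2 : ROrth (Im (aw g)) (Q.obj J) := (h₁ g hg).of_iso eK
    have h3 := rOrth_TJ (aw f) (flat_aw f) (aw g) (im_aw f g) J h2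
    exact ROrth.obj₃ (Im_shift (aw g)) _ hT h3 h2
  · exact LOrth_of_mem (Im_shift (aw f)) (Im_shift (aw f) _ 1 (Im_Q (aw f) _))
  · intro m hm i hi
    have hm' : LB m (Q.obj J) := hm.of_iso eK
    exact isZero_homology_obj₃ _ hT i (i + 1) rfl (hm' i (by omega))
      (isZero_homology_TJ_aw f J (i + 1) i rfl (hm' (i + 1) (by omega)) (hm' i (by omega)))
  · intro m hm i hi
    have hm' : UB m (Q.obj J) := hm.of_iso eK
    exact isZero_homology_obj₃ _ hT i (i + 1) rfl (hm' i hi)
      (isZero_homology_TJ_aw f J (i + 1) i rfl (hm' (i + 1) (by omega)) (hm' i hi))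

/-- The bounds satisfied by the completion of `K` with respect to `r` elements. -/
def Bd (K : Dual.D A) (r : ℕ) : ObjectProperty (Dual.D A) := fun C =>
  (∀ m : ℤ, LB m K → LB (m - r) C) ∧ ∀ m : ℤ, UB m K → UB m C

theorem hasLocQ_PS (s : Finset A) : ∀ K : Dual.D A, HasLocQ (PS (s : Set A)) (Bd K s.card) K := by
  classical
  induction s using Finset.induction_on with
  | empty =>
    intro K
    refine HasLocQ.id _ _ K (fun g hg => by simp at hg) ⟨fun m hm => ?_, fun m hm => hm⟩
    simpa using hm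
  | insert f s hfs ih =>
    intro K
    refine HasLocQ.comp (PS (s : Set A)) (Pg f) _ (Bd K s.card) _ ?_ ?_ ?_ K (ih K) ?_
    · intro L hL g hg
      exact hL g (by simp [hg])
    · intro L hL
      exact hL f (by simp)
    · intro L h1 h2 g hg
      simp only [Finset.coe_insert, Set.mem_insert_iff] at hg
      rcases hg with rfl | hg
      · exact h2
      · exact h1 g hg
    · intro C₁ hC₁ hQ₁
      obtain ⟨C, Z, η, p, δ, hT, h1, h2, h3, h4, h5⟩ := exists_step_bd f (s : Set A) C₁ hC₁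
      refine ⟨C, Z, η, p, δ, hT, h1, h2, h3, fun m hm => ?_, fun m hm => h5 m (hQ₁.2 m hm)⟩
      have h6 := h4 _ (hQ₁.1 m hm)
      rw [Finset.card_insert_of_notMem hfs]
      have : m - ((s.card + 1 : ℕ) : ℤ) = m - (s.card : ℤ) - 1 := by push_cast; ring
      rw [this]
      exact h6

theorem Bd.of_iso {K : Dual.D A} {r : ℕ} (X Y : Dual.D A) (e : X ≅ Y) (h : Bd K r X) :
    Bd K r Y :=
  ⟨fun m hm => (h.1 m hm).of_iso e, fun m hm => (h.2 m hm).of_iso e⟩

/-- Cohomological bounds for the derived completion with respect to an ideal generated by the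
elements of `s`. -/
theorem bd_derivedCompletion (I : Ideal A) [DRing.HasDerivedCompletion I] (s : Finset A)
    (hs : Ideal.span (s : Set A) = I) (K : Dual.D A) :
    Bd K s.card ((DRing.derivedCompletion I).obj K).obj := by
  have h := hasLocQ_PS s K
  have hP : DRing.IsDerivedComplete I = PS (s : Set A) := by
    funext L
    rw [← hs]
    exact propext (isDerivedComplete_span_iff s L)
  rw [← hP] at h
  exact h.prop_of_universal Bd.of_iso (DRing.toDerivedCompletion I K)
    ((DRing.derivedCompletion I).obj K).property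
    (fun L hL => bijective_precomp_unit (DRing.derivedCompletionAdj I) K L hL)

end Loc

end Groth.Agent.Lib.Helper35.DCE
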