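import Groth.Agent.Lib.Helper35.Bousfield
import Groth.Agent.Lib.Helper35.DCRestr
import Groth.Agent.Lib.Helper35.DCObj
import Groth.Agent.Lib.Helper35.DCRad

/-! Existence of derived completion for finitely generated ideals (helper35). -/

set_option autoImplicit false
set_option linter.unusedSectionVars false
universe u

open CategoryTheory CategoryTheory.Limits DerivedCategory Pretriangulated

attribute [local instance] HasDerivedCategory.standard

namespace Groth.Agent.Lib.Helper35.DCE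

open Groth.Agent.Lib.Helper35.CoextAdj Groth.Agent.Lib.Helper35.Bousfield
open Groth.Agent.Lib.Helper6.DerivedAdj Groth.Agent.Lib.Helper26.KProjQ
  Groth.Agent.Lib.Helper26.AdjKProj

section General

variable {A B : Type u} [CommRing A] [CommRing B] (φ : A →+* B)

/-- restriction of scalars on complexes -/
noncomputable abbrev Lc : DRing.Cx B ⥤ DRing.Cx A :=
  (ModuleCat.restrictScalars.{u} φ).mapHomologicalComplex (ComplexShape.up ℤ)

/-- coextension of scalars on complexes -/
noncomputable abbrev Rc : DRing.Cx A ⥤ DRing.Cx B :=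
  (ModuleCat.coextendScalars.{u, u, u} φ).mapHomologicalComplex (ComplexShape.up ℤ)

/-- extension of scalars on complexes -/
noncomputable abbrev Ec : DRing.Cx A ⥤ DRing.Cx B :=
  (ModuleCat.extendScalars.{u, u, u} φ).mapHomologicalComplex (ComplexShape.up ℤ)

/-- The essential image of the restriction functor `D(B) ⥤ D(A)`. -/
def Im : ObjectProperty (Dual.D A) := fun Y =>
  ∃ E : Dual.D B, Nonempty ((DRing.restrictD φ).obj E ≅ Y)

theorem Im_shift (Y : Dual.D A) (n : ℤ) (h : Im φ Y) : Im φ (Y⟦n⟧) := by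
  obtain ⟨E, ⟨e⟩⟩ := h
  exact ⟨E⟦n⟧, ⟨((DRing.restrictD φ).commShiftIso n).app E ≪≫ (shiftFunctor _ n).mapIso e⟩⟩

theorem Im_Q (X : DRing.Cx B) : Im φ (Q.obj ((Lc φ).obj X)) :=
  ⟨Q.obj X, ⟨(ModuleCat.restrictScalars.{u} φ).mapDerivedCategoryFactors.app X⟩⟩

theorem exists_of_Im (Y : Dual.D A) (h : Im φ Y) :
    ∃ X : DRing.Cx B, Nonempty (Q.obj ((Lc φ).obj X) ≅ Y) := by
  obtain ⟨E, ⟨e⟩⟩ := h
  refine ⟨Q.objPreimage E, ⟨?_⟩⟩
  exact ((ModuleCat.restrictScalars.{u} φ).mapDerivedCategoryFactors.app (Q.objPreimage E)).symm ≪≫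
    (DRing.restrictD φ).mapIso (Q.objObjPreimageIso E) ≪≫ e

section KInj

variable (J : DRing.Cx A) [J.IsKInjective]

/-- `Hom_A(B, J)` restricted to `A`. -/
noncomputable abbrev TJ : DRing.Cx A := (Lc φ).obj ((Rc φ).obj J)

/-- evaluation at `1`. -/
noncomputable abbrev εJ : TJ φ J ⟶ J :=
  (counitC (ModuleCat.restrictCoextendScalarsAdj.{u, u, u} φ) (ComplexShape.up ℤ)).app J

theorem surj (X : DRing.Cx B) (g : Q.obj ((Lc φ).obj X) ⟶ Q.obj J) :
    ∃ h : Q.obj ((Lc φ).obj X) ⟶ Q.obj (TJ φ J), h ≫ Q.map (εJ φ J) = g := by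
  obtain ⟨g', rfl⟩ := Q_map_surjective_of_isKInjective _ J g
  refine ⟨Q.map ((Lc φ).map (adjunct (ModuleCat.restrictCoextendScalarsAdj.{u, u, u} φ) g')), ?_⟩
  rw [← Functor.map_comp]
  congr 1
  exact adjunctInv_adjunct (ModuleCat.restrictCoextendScalarsAdj.{u, u, u} φ) g'

instance isKInjective_Rc : ((Rc φ).obj J).IsKInjective :=
  isKInjective_map (ModuleCat.restrictCoextendScalarsAdj.{u, u, u} φ) J

end KInj

section Flat

variable (hφ : φ.Flat)

instance : (ModuleCat.extendScalars.{u, u, u} φ).Additive :=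
  (ModuleCat.extendRestrictScalarsAdj.{u, u, u} φ).left_adjoint_additive

include hφ in
theorem isKInjective_Lc (Y : DRing.Cx B) [Y.IsKInjective] : ((Lc φ).obj Y).IsKInjective := by
  have : PreservesFiniteLimits (ModuleCat.extendScalars.{u, u, u} φ) :=
    ModuleCat.preservesFiniteLimits_extendScalars_of_flat hφ
  have : (ModuleCat.extendScalars.{u, u, u} φ).PreservesHomology := inferInstance
  exact isKInjective_map (ModuleCat.extendRestrictScalarsAdj.{u, u, u} φ) Y

include hφ in
theorem isKInjective_TJ (J : DRing.Cx A) [J.IsKInjective] : (TJ φ J).IsKInjective :=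
  isKInjective_Lc φ hφ _

variable [(ModuleCat.restrictScalars.{u} φ).Full]

/-- Chain maps between restrictions come from chain maps. -/
theorem exists_Lc_map (X Y : DRing.Cx B) (h : (Lc φ).obj X ⟶ (Lc φ).obj Y) :
    ∃ h' : X ⟶ Y, (Lc φ).map h' = h := by
  refine ⟨{ f := fun i => (ModuleCat.restrictScalars.{u} φ).preimage (h.f i)
            comm' := fun i j _ => ?_ }, ?_⟩
  · apply (ModuleCat.restrictScalars.{u} φ).map_injective
    rw [Functor.map_comp, Functor.map_comp, Functor.map_preimage, Functor.map_preimage]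
    exact h.comm i j
  · ext i : 1
    exact (ModuleCat.restrictScalars.{u} φ).map_preimage (h.f i)

include hφ in
theorem inj (J : DRing.Cx A) [J.IsKInjective] (X : DRing.Cx B)
    (h : Q.obj ((Lc φ).obj X) ⟶ Q.obj (TJ φ J)) (hh : h ≫ Q.map (εJ φ J) = 0) : h = 0 := by
  have := isKInjective_TJ φ hφ J
  obtain ⟨h', rfl⟩ := Q_map_surjective_of_isKInjective _ (TJ φ J) h
  obtain ⟨h'', rfl⟩ := exists_Lc_map φ X ((Rc φ).obj J) h'
  let adj := ModuleCat.restrictCoextendScalarsAdj.{u, u, u} φ
  have h1 : Q.map (adjunctInv adj h'') = Q.map 0 := by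
    rw [Functor.map_zero, ← hh, ← Functor.map_comp]
    rfl
  obtain ⟨H⟩ := nonempty_homotopy_of_Q_map_eq_of_isKInjective _ _ h1
  have H2 := adjunctHomotopy adj H
  rw [adjunct_adjunctInv, adjunct_zero] at H2
  have H3 : Homotopy ((Lc φ).map h'') ((Lc φ).map 0) :=
    (ModuleCat.restrictScalars.{u} φ).mapHomotopy H2
  rw [Q_map_eq_of_homotopy _ _ H3, Functor.map_zero, Functor.map_zero]

include hφ in
theorem surj' (J : DRing.Cx A) [J.IsKInjective] (Y : Dual.D A) (hY : Im φ Y) (g : Y ⟶ Q.obj J) :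
    ∃ h : Y ⟶ Q.obj (TJ φ J), h ≫ Q.map (εJ φ J) = g := by
  obtain ⟨X, ⟨e⟩⟩ := exists_of_Im φ Y hY
  obtain ⟨h, hh⟩ := surj φ J X (e.hom ≫ g)
  exact ⟨e.inv ≫ h, by rw [Category.assoc, hh, Iso.inv_hom_id_assoc]⟩

include hφ in
theorem inj' (J : DRing.Cx A) [J.IsKInjective] (Y : Dual.D A) (hY : Im φ Y)
    (h : Y ⟶ Q.obj (TJ φ J)) (hh : h ≫ Q.map (εJ φ J) = 0) : h = 0 := by
  obtain ⟨X, ⟨e⟩⟩ := exists_of_Im φ Y hY
  have h1 := inj φ hφ J X (e.hom ≫ h) (by rw [Category.assoc, hh, comp_zero])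
  exact (cancel_epi e.hom).1 (h1.trans comp_zero.symm)

include hφ in
/-- The completion triangle of `Q J`. -/
theorem exists_triangle_Q (J : DRing.Cx A) [J.IsKInjective] :
    ∃ (C : Dual.D A) (η : Q.obj J ⟶ C) (p : C ⟶ (Q.obj (TJ φ J))⟦(1 : ℤ)⟧),
      Triangle.mk (Q.map (εJ φ J)) η p ∈ distTriang (Dual.D A) ∧ ROrth (Im φ) C := by
  obtain ⟨C, η, p, hT⟩ := distinguished_cocone_triangle (Q.map (εJ φ J))
  refine ⟨C, η, p, hT, fun Y hY => ?_⟩
  exact subsingleton_hom_obj₃ _ hT Y (Y⟦(-1 : ℤ)⟧) (shiftNegShift Y 1)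
    (fun g => surj' φ hφ J Y hY g)
    (fun h hh => inj' φ hφ J _ (Im_shift φ Y (-1) hY) h hh)

include hφ in
/-- `Hom_A(B, -)` preserves right orthogonality to restrictions along `ψ`. -/
theorem rOrth_TJ {B' : Type u} [CommRing B'] (ψ : A →+* B')
    (hψ : ∀ X' : DRing.Cx B', Im ψ (Q.obj ((Lc φ).obj ((Ec φ).obj ((Lc ψ).obj X')))))
    (J : DRing.Cx A) [J.IsKInjective] (hJ : ROrth (Im ψ) (Q.obj J)) :
    ROrth (Im ψ) (Q.obj (TJ φ J)) := by
  have := isKInjective_TJ φ hφ J
  intro Y hY
  obtain ⟨X', ⟨e⟩⟩ := exists_of_Im ψ Y hY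
  suffices hz : ∀ w : Q.obj ((Lc ψ).obj X') ⟶ Q.obj (TJ φ J), w = 0 by
    refine ⟨fun u v => ?_⟩
    have h1 : e.hom ≫ u = e.hom ≫ v := (hz _).trans (hz _).symm
    exact (cancel_epi e.hom).1 h1
  intro w
  obtain ⟨w', rfl⟩ := Q_map_surjective_of_isKInjective _ (TJ φ J) w
  let adjE := ModuleCat.extendRestrictScalarsAdj.{u, u, u} φ
  let adjR := ModuleCat.restrictCoextendScalarsAdj.{u, u, u} φ
  let w'' := adjunctInv adjE w'
  let w''' := adjunctInv adjR w''
  have h1 : Q.map w''' = Q.map 0 := by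
    rw [Functor.map_zero]
    exact (hJ _ (hψ X')).elim _ _
  obtain ⟨H⟩ := nonempty_homotopy_of_Q_map_eq_of_isKInjective _ _ h1
  have H2 := adjunctHomotopy adjR H
  rw [adjunct_adjunctInv, adjunct_zero] at H2
  have H3 := adjunctHomotopy adjE H2
  rw [adjunct_adjunctInv, adjunct_zero] at H3
  rw [Q_map_eq_of_homotopy _ _ H3, Functor.map_zero]

end Flat

open TensorProduct in
set_option backward.isDefEq.respectTransparency false in
theorem extendScalars_map_smul_apply (N : ModuleCat.{u} A) (a : A)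
    (z : (ModuleCat.extendScalars.{u, u, u} φ).obj N) :
    ((ModuleCat.extendScalars.{u, u, u} φ).map
      (ModuleCat.ofHom (a • (LinearMap.id : N →ₗ[A] N)))).hom z = φ a • z := by
  induction z using TensorProduct.induction_on with
  | zero => simp
  | tmul s n =>
    change s ⊗ₜ[A] (a • n) = (a • s) ⊗ₜ[A] n
    exact (TensorProduct.smul_tmul a s n).symm
  | add x y hx hy => rw [map_add, smul_add, hx, hy]

theorem bijective_smul_restrict_extend (N : ModuleCat.{u} A) (a : A)
    (h : Function.Bijective (fun x : N => a • x)) :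
    Function.Bijective (fun z : (ModuleCat.restrictScalars.{u} φ).obj
      ((ModuleCat.extendScalars.{u, u, u} φ).obj N) => a • z) := by
  let m : N ⟶ N := ModuleCat.ofHom (a • (LinearMap.id : N →ₗ[A] N))
  have hm : IsIso m := (ConcreteCategory.isIso_iff_bijective m).2 h
  have h2 : IsIso ((ModuleCat.extendScalars.{u, u, u} φ).map m) := inferInstance
  have h3 := (ConcreteCategory.isIso_iff_bijective _).1 h2
  have h4 : (fun z : (ModuleCat.restrictScalars.{u} φ).obj
      ((ModuleCat.extendScalars.{u, u, u} φ).obj N) => a • z) =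
      fun z => ((ModuleCat.extendScalars.{u, u, u} φ).map m).hom z := by
    funext z
    exact (extendScalars_map_smul_apply φ N a z).symm
  rw [h4]
  exact h3

end General

section Loc

variable {A : Type u} [CommRing A]

theorem full_restrictScalars_of_isLocalization {B : Type u} [CommRing B]
    [Algebra A B] (S : Submonoid A) [IsLocalization S B] :
    (ModuleCat.restrictScalars.{u} (algebraMap A B)).Full where
  map_surjective {M N} u := by
    let _ : Module A M := Module.compHom M (algebraMap A B)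
    let _ : Module A N := Module.compHom N (algebraMap A B)
    have : IsScalarTower A B M := IsScalarTower.of_algebraMap_smul (fun r x => rfl)
    have : IsScalarTower A B N := IsScalarTower.of_algebraMap_smul (fun r x => rfl)
    let u' : M →ₗ[A] N := u.hom
    refine ⟨ModuleCat.ofHom (u'.extendScalarsOfIsLocalization S B), ?_⟩
    ext x
    rfl

/-- The ring map `A → A_g`. -/
noncomputable abbrev aw (g : A) : A →+* Localization.Away g := algebraMap A (Localization.Away g)

instance full_aw (g : A) : (ModuleCat.restrictScalars.{u} (aw g)).Full :=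
  full_restrictScalars_of_isLocalization (Submonoid.powers g)

theorem flat_aw (g : A) : (aw g).Flat := RingHom.flat_algebraMap_iff.mpr inferInstance

/-- right orthogonality to restrictions from `A_g`. -/
def Pg (g : A) : ObjectProperty (Dual.D A) := ROrth (Im (aw g))

theorem bijective_smul_restrict (g : A) (M : ModuleCat.{u} (Localization.Away g)) :
    Function.Bijective (fun x : (ModuleCat.restrictScalars.{u} (aw g)).obj M => g • x) := by
  obtain ⟨v, hv⟩ := IsLocalization.Away.algebraMap_isUnit (S := Localization.Away g) g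
  rw [Function.bijective_iff_has_inverse]
  refine ⟨fun x => (show M from (v⁻¹ : (Localization.Away g)ˣ) • (show M from x)), ?_, ?_⟩
  · intro x
    change (v⁻¹ : (Localization.Away g)ˣ) • ((aw g g) • (show M from x)) = x
    rw [← hv]
    exact inv_smul_smul v (show M from x)
  · intro x
    change (aw g g) • ((v⁻¹ : (Localization.Away g)ˣ) • (show M from x)) = x
    rw [← hv]
    exact smul_inv_smul v (show M from x)

theorem im_aw (f g : A) (X' : DRing.Cx (Localization.Away g)) :
    Im (aw g) (Q.obj ((Lc (aw f)).obj ((Ec (aw f)).obj ((Lc (aw g)).obj X')))) := by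
  obtain ⟨E, ⟨e⟩⟩ := Groth.Agent.Lib.Helper35.DCR.exists_restrict_iso_of_bijective g
    ((Lc (aw f)).obj ((Ec (aw f)).obj ((Lc (aw g)).obj X')))
    (fun i => bijective_smul_restrict_extend (aw f) _ g (bijective_smul_restrict g (X'.X i)))
  exact ⟨E, ⟨e.symm⟩⟩

open Groth.Agent.Lib.Helper32 in
/-- The completion step with respect to one element `f`, preserving completeness with respect to
the elements of `s`. -/
theorem exists_step (f : A) (s : Set A) (C₁ : Dual.D A) (h₁ : ∀ g ∈ s, Pg g C₁) :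
    ∃ (C Z : Dual.D A) (η : C₁ ⟶ C) (p : C ⟶ Z) (δ : Z ⟶ C₁⟦(1 : ℤ)⟧),
      Triangle.mk η p δ ∈ distTriang (Dual.D A) ∧ (∀ g ∈ s, Pg g C) ∧ Pg f C ∧ LOrth (Pg f) Z := by
  obtain ⟨J, j, hJ, hj⟩ := KInjTower.exists_kInjective_resolution (K := Q.objPreimage C₁)
  have : IsIso (Q.map j) := by
    rw [isIso_Q_map_iff_quasiIso]
    exact hj
  let eK : C₁ ≅ Q.obj J := (Q.objObjPreimageIso C₁).symm ≪≫ asIso (Q.map j)
  obtain ⟨C, η, p, hT, hC⟩ := exists_triangle_Q (aw f) (flat_aw f) J
  have hT' := rot_of_distTriang _ hT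
  refine ⟨C, (Q.obj (TJ (aw f) J))⟦(1 : ℤ)⟧, eK.hom ≫ η, p,
    (-(Q.map (εJ (aw f) J))⟦(1 : ℤ)⟧') ≫ eK.inv⟦(1 : ℤ)⟧', ?_, ?_, hC, ?_⟩
  · refine isomorphic_distinguished _ hT' _ ?_
    refine Triangle.isoMk _ _ eK (Iso.refl _) (Iso.refl _) ?_ ?_ ?_
    · exact Category.comp_id _
    · exact (Category.comp_id _).trans (Category.id_comp _).symm
    · change ((-(Q.map (εJ (aw f) J))⟦(1 : ℤ)⟧') ≫ eK.inv⟦(1 : ℤ)⟧') ≫ eK.hom⟦(1 : ℤ)⟧' =
        𝟙 _ ≫ (-(Q.map (εJ (aw f) J))⟦(1 : ℤ)⟧')
      rw [Category.id_comp, Category.assoc, ← Functor.map_comp, Iso.inv_hom_id,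
        CategoryTheory.Functor.map_id, Category.comp_id]
  · intro g hg
    have h2 : ROrth (Im (aw g)) (Q.obj J) := (h₁ g hg).of_iso eK
    have h3 := rOrth_TJ (aw f) (flat_aw f) (aw g) (im_aw f g) J h2
    exact ROrth.obj₃ (Im_shift (aw g)) _ hT h3 h2
  · exact LOrth_of_mem (Im_shift (aw f)) (Im_shift (aw f) _ 1 (Im_Q (aw f) _))

/-- Completeness with respect to a set of elements. -/
def PS (s : Set A) : ObjectProperty (Dual.D A) := fun K => ∀ g ∈ s, Pg g K

theorem hasLoc_PS (s : Finset A) : ∀ K : Dual.D A, HasLoc (PS (s : Set A)) K := by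
  classical
  induction s using Finset.induction_on with
  | empty =>
    intro K
    exact HasLoc.id _ K (fun g hg => by simp at hg)
  | insert f s _ ih =>
    intro K
    refine HasLoc.comp (PS (s : Set A)) (Pg f) _ ?_ ?_ ?_ K (ih K) ?_
    · intro L hL g hg
      exact hL g (by simp [hg])
    · intro L hL
      exact hL f (by simp)
    · intro L h1 h2 g hg
      simp only [Finset.coe_insert, Set.mem_insert_iff] at hg
      rcases hg with rfl | hg
      · exact h2
      · exact h1 g hg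
    · intro C₁ hC₁
      exact exists_step f (s : Set A) C₁ hC₁

theorem Pg_iff (g : A) (K : Dual.D A) :
    Pg g K ↔ ∀ n : ℤ, Subsingleton (Dual.inD A (Localization.Away g) ⟶ K⟦n⟧) := by
  rw [Groth.Agent.Lib.Helper35.DCR.forall_subsingleton_hom_inD_iff (B := Localization.Away g) K]
  constructor
  · intro h E
    exact h _ ⟨E, ⟨Iso.refl _⟩⟩
  · rintro h Y ⟨E, ⟨e⟩⟩
    have := h E
    exact ⟨fun u v => (cancel_epi e.hom).1 (Subsingleton.elim _ _)⟩

theorem isDerivedComplete_span_iff (s : Finset A) (K : Dual.D A) :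
    DRing.IsDerivedComplete (Ideal.span (s : Set A)) K ↔ PS (s : Set A) K := by
  classical
  constructor
  · intro h g hg
    rw [Pg_iff]
    exact h g (Ideal.subset_span hg)
  · intro h f hf
    rw [Groth.Agent.Lib.Helper35.DC.subsingleton_hom_away_obj_iff f K]
    intro n
    refine Groth.Agent.Lib.Helper35.DC.shiftT_bijective_of_pow_mem_span s _ ?_ f 1 ?_
    · intro x hx
      have h1 := (Pg_iff x K).1 (h x hx)
      exact (Groth.Agent.Lib.Helper35.DC.subsingleton_hom_away_obj_iff x K).1 h1 n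
    · rw [pow_one]
      exact hf

/-- Derived completion exists for finitely generated ideals. -/
theorem hasDerivedCompletion_of_fg (I : Ideal A) (hI : I.FG) : DRing.HasDerivedCompletion I := by
  obtain ⟨s, rfl⟩ := hI
  have h : DRing.IsDerivedComplete (Ideal.span (s : Set A)) = PS (s : Set A) := by
    funext K
    exact propext (isDerivedComplete_span_iff s K)
  change (ObjectProperty.ι (DRing.IsDerivedComplete (Ideal.span (s : Set A)))).IsRightAdjoint
  rw [h]
  exact isRightAdjoint_of_hasLoc _ (hasLoc_PS s)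

end Loc

end Groth.Agent.Lib.Helper35.DCE
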