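import Groth.Prelude.Def_DRing2
import Groth.Agent.Lib.Helper35.FlatBC

/-! Matrix models of complexes of finite projective modules (helper35). -/

set_option autoImplicit false
universe u

open CategoryTheory CategoryTheory.Limits

namespace Groth.Agent.Lib.Helper35.FiltDesc

/-- matrix data for a complex: idempotents `e i` and differentials `D i` on `S^n`. -/
structure MatData (S : Type u) [CommRing S] (n : ℕ) where
  e : ℤ → Matrix (Fin n) (Fin n) S
  D : ℤ → Matrix (Fin n) (Fin n) S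

namespace MatData

variable {S S' : Type u} [CommRing S] [CommRing S'] {n : ℕ}

@[ext] theorem ext' {m m' : MatData S n} (he : ∀ i, m.e i = m'.e i) (hD : ∀ i, m.D i = m'.D i) :
    m = m' := by
  cases m; cases m'
  congr
  · exact funext he
  · exact funext hD

/-- transport along a ring map. -/
def map (φ : S →+* S') (m : MatData S n) : MatData S' n :=
  ⟨fun i => (m.e i).map φ, fun i => (m.D i).map φ⟩

/-- the four families of relations. -/
def defect (m : MatData S n) (r : Fin 4) (i : ℤ) : Matrix (Fin n) (Fin n) S :=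
  match r with
  | 0 => m.e i * m.e i - m.e i
  | 1 => m.D (i + 1) * m.D i
  | 2 => m.e (i + 1) * m.D i - m.D i
  | 3 => m.D i * m.e i - m.D i

/-- the relations hold. -/
def IsGood (m : MatData S n) : Prop := ∀ r i, m.defect r i = 0

/-- supported in `[a, b]`. -/
def SuppIn (m : MatData S n) (a b : ℤ) : Prop := ∀ i, (i < a ∨ b < i) → m.e i = 0 ∧ m.D i = 0

theorem defect_map (φ : S →+* S') (m : MatData S n) (r : Fin 4) (i : ℤ) :
    (m.map φ).defect r i = (m.defect r i).map φ := by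
  fin_cases r <;> simp [defect, map, Matrix.map_mul, Matrix.map_sub]

theorem SuppIn.map {m : MatData S n} {a b : ℤ} (h : m.SuppIn a b) (φ : S →+* S') :
    (m.map φ).SuppIn a b := by
  intro i hi
  obtain ⟨h1, h2⟩ := h i hi
  constructor
  · show (m.e i).map φ = 0
    rw [h1]; simp
  · show (m.D i).map φ = 0
    rw [h2]; simp

theorem defect_eq_zero_of_suppIn {m : MatData S n} {a b : ℤ} (h : m.SuppIn a b) (r : Fin 4)
    (i : ℤ) (hi : i < a - 1 ∨ b < i) : m.defect r i = 0 := by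
  have hD : m.D i = 0 := by
    rcases hi with hi | hi
    · exact (h i (Or.inl (by omega))).2
    · exact (h i (Or.inr hi)).2
  fin_cases r
  · show m.e i * m.e i - m.e i = 0
    have he : m.e i = 0 := by
      rcases hi with hi | hi
      · exact (h i (Or.inl (by omega))).1
      · exact (h i (Or.inr hi)).1
    rw [he]; simp
  · show m.D (i + 1) * m.D i = 0
    rw [hD]; simp
  · show m.e (i + 1) * m.D i - m.D i = 0
    rw [hD]; simp
  · show m.D i * m.e i - m.D i = 0
    rw [hD]; simp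

theorem IsGood.ee {m : MatData S n} (h : m.IsGood) (i : ℤ) : m.e i * m.e i = m.e i :=
  sub_eq_zero.1 (h 0 i)

theorem IsGood.DD {m : MatData S n} (h : m.IsGood) (i : ℤ) : m.D (i + 1) * m.D i = 0 := h 1 i

theorem IsGood.eD {m : MatData S n} (h : m.IsGood) (i : ℤ) : m.e (i + 1) * m.D i = m.D i :=
  sub_eq_zero.1 (h 2 i)

theorem IsGood.De {m : MatData S n} (h : m.IsGood) (i : ℤ) : m.D i * m.e i = m.D i :=
  sub_eq_zero.1 (h 3 i)

theorem map_map {S'' : Type u} [CommRing S''] (φ : S →+* S') (ψ : S' →+* S'') (m : MatData S n) :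
    (m.map φ).map ψ = m.map (ψ.comp φ) := by
  apply ext' <;> intro i <;> ext k l <;> rfl

/-- the complex of free modules with differentials `D`. -/
noncomputable def cx (m : MatData S n) (hg : m.IsGood) : DRing.Cx S :=
  CochainComplex.of (fun _ => ModuleCat.of S (Fin n → S))
    (fun i => ModuleCat.ofHom (Matrix.toLin' (m.D i)))
    (fun i => by
      rw [← ModuleCat.ofHom_comp, ← Matrix.toLin'_mul, hg.DD i]
      simp)

theorem cx_d (m : MatData S n) (hg : m.IsGood) (i : ℤ) :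
    (m.cx hg).d i (i + 1) = ModuleCat.ofHom (Matrix.toLin' (m.D i)) :=
  CochainComplex.of_d (fun _ => ModuleCat.of S (Fin n → S))
    (fun i => ModuleCat.ofHom (Matrix.toLin' (m.D i))) i

/-- the idempotent endomorphism given by `e`. -/
noncomputable def idem (m : MatData S n) (hg : m.IsGood) : m.cx hg ⟶ m.cx hg :=
  CochainComplex.ofHom (fun i => ModuleCat.ofHom (Matrix.toLin' (m.e i)))
    (fun i => by
      rw [cx_d]
      apply ModuleCat.hom_ext
      apply LinearMap.ext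
      intro v
      show Matrix.toLin' (m.D i) (Matrix.toLin' (m.e i) v) =
        Matrix.toLin' (m.e (i + 1)) (Matrix.toLin' (m.D i) v)
      rw [← Matrix.toLin'_mul_apply, ← Matrix.toLin'_mul_apply, hg.De i, hg.eD i])

theorem idem_f (m : MatData S n) (hg : m.IsGood) (i : ℤ) :
    (m.idem hg).f i = ModuleCat.ofHom (Matrix.toLin' (m.e i)) := rfl

theorem idem_idem (m : MatData S n) (hg : m.IsGood) : m.idem hg ≫ m.idem hg = m.idem hg := by
  ext i : 1
  rw [HomologicalComplex.comp_f, idem_f]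
  apply ModuleCat.hom_ext
  apply LinearMap.ext
  intro v
  show Matrix.toLin' (m.e i) (Matrix.toLin' (m.e i) v) = Matrix.toLin' (m.e i) v
  rw [← Matrix.toLin'_mul_apply, hg.ee i]

theorem IsGood.map {m : MatData S n} (hg : m.IsGood) (φ : S →+* S') : (m.map φ).IsGood := by
  intro r i
  rw [defect_map, hg r i]
  simp

section Retract

variable (E : DRing.Cx S) (π : ∀ i : ℤ, (Fin n → S) →ₗ[S] E.X i)
  (σ : ∀ i : ℤ, E.X i →ₗ[S] (Fin n → S))

/-- the matrix data of a termwise retract of `S^n`. -/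
noncomputable def ofRetract : MatData S n :=
  ⟨fun i => LinearMap.toMatrix' (σ i ∘ₗ π i),
    fun i => LinearMap.toMatrix' (σ (i + 1) ∘ₗ (E.d i (i + 1)).hom ∘ₗ π i)⟩

variable (hπσ : ∀ i : ℤ, π i ∘ₗ σ i = LinearMap.id)

include hπσ

theorem ofRetract_isGood : (ofRetract E π σ).IsGood := by
  have h1 : ∀ i (x : E.X i), π i (σ i x) = x := fun i x => LinearMap.congr_fun (hπσ i) x
  have hdd : ∀ i (x : E.X i), (E.d (i + 1) (i + 1 + 1)).hom ((E.d i (i + 1)).hom x) = 0 := by
    intro i x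
    rw [← ModuleCat.comp_apply, E.d_comp_d]
    rfl
  intro r i
  fin_cases r
  · show LinearMap.toMatrix' (σ i ∘ₗ π i) * LinearMap.toMatrix' (σ i ∘ₗ π i) -
      LinearMap.toMatrix' (σ i ∘ₗ π i) = 0
    rw [← LinearMap.toMatrix'_comp, sub_eq_zero]
    congr 1
    apply LinearMap.ext
    intro v
    simp only [LinearMap.comp_apply, h1]
  · show LinearMap.toMatrix' (σ (i + 1 + 1) ∘ₗ (E.d (i + 1) (i + 1 + 1)).hom ∘ₗ π (i + 1)) *
      LinearMap.toMatrix' (σ (i + 1) ∘ₗ (E.d i (i + 1)).hom ∘ₗ π i) = 0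
    rw [← LinearMap.toMatrix'_comp]
    have : (σ (i + 1 + 1) ∘ₗ (E.d (i + 1) (i + 1 + 1)).hom ∘ₗ π (i + 1)) ∘ₗ
        (σ (i + 1) ∘ₗ (E.d i (i + 1)).hom ∘ₗ π i) = 0 := by
      apply LinearMap.ext
      intro v
      simp only [LinearMap.comp_apply, h1, hdd, map_zero, LinearMap.zero_apply]
    rw [this]
    simp
  · show LinearMap.toMatrix' (σ (i + 1) ∘ₗ π (i + 1)) *
      LinearMap.toMatrix' (σ (i + 1) ∘ₗ (E.d i (i + 1)).hom ∘ₗ π i) -
      LinearMap.toMatrix' (σ (i + 1) ∘ₗ (E.d i (i + 1)).hom ∘ₗ π i) = 0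
    rw [← LinearMap.toMatrix'_comp, sub_eq_zero]
    congr 1
    apply LinearMap.ext
    intro v
    simp only [LinearMap.comp_apply, h1]
  · show LinearMap.toMatrix' (σ (i + 1) ∘ₗ (E.d i (i + 1)).hom ∘ₗ π i) *
      LinearMap.toMatrix' (σ i ∘ₗ π i) -
      LinearMap.toMatrix' (σ (i + 1) ∘ₗ (E.d i (i + 1)).hom ∘ₗ π i) = 0
    rw [← LinearMap.toMatrix'_comp, sub_eq_zero]
    congr 1
    apply LinearMap.ext
    intro v
    simp only [LinearMap.comp_apply, h1]

/-- the projection `S^n → E`. -/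
noncomputable def retR : (ofRetract E π σ).cx (ofRetract_isGood E π σ hπσ) ⟶ E :=
  CochainComplex.ofHom (fun i => ModuleCat.ofHom (π i)) (fun i => by
    rw [cx_d]
    apply ModuleCat.hom_ext
    apply LinearMap.ext
    intro v
    show (E.d i (i + 1)).hom (π i v) =
      π (i + 1) (Matrix.toLin' (LinearMap.toMatrix' (σ (i + 1) ∘ₗ (E.d i (i + 1)).hom ∘ₗ π i)) v)
    rw [Matrix.toLin'_toMatrix']
    exact (LinearMap.congr_fun (hπσ (i + 1)) _).symm)

/-- the section `E → S^n`. -/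
noncomputable def retS : E ⟶ (ofRetract E π σ).cx (ofRetract_isGood E π σ hπσ) :=
  CochainComplex.ofHom (fun i => ModuleCat.ofHom (σ i)) (fun i => by
    rw [cx_d]
    apply ModuleCat.hom_ext
    apply LinearMap.ext
    intro x
    show Matrix.toLin' (LinearMap.toMatrix' (σ (i + 1) ∘ₗ (E.d i (i + 1)).hom ∘ₗ π i)) (σ i x) =
      σ (i + 1) ((E.d i (i + 1)).hom x)
    rw [Matrix.toLin'_toMatrix']
    show σ (i + 1) ((E.d i (i + 1)).hom (π i (σ i x))) = _
    rw [show π i (σ i x) = x from LinearMap.congr_fun (hπσ i) x])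

theorem retS_retR : retS E π σ hπσ ≫ retR E π σ hπσ = 𝟙 E := by
  ext i : 1
  apply ModuleCat.hom_ext
  apply LinearMap.ext
  intro x
  exact LinearMap.congr_fun (hπσ i) x

theorem retR_retS : retR E π σ hπσ ≫ retS E π σ hπσ =
    (ofRetract E π σ).idem (ofRetract_isGood E π σ hπσ) := by
  ext i : 1
  apply ModuleCat.hom_ext
  apply LinearMap.ext
  intro v
  show σ i (π i v) = Matrix.toLin' (LinearMap.toMatrix' (σ i ∘ₗ π i)) v
  rw [Matrix.toLin'_toMatrix']
  rfl

omit hπσ in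
theorem ofRetract_suppIn (a b : ℤ) (hE : DRing.VanishesOutside E a b) :
    (ofRetract E π σ).SuppIn a b := by
  intro i hi
  have : Subsingleton (E.X i) := ModuleCat.subsingleton_of_isZero (hE i hi)
  have hπ : π i = 0 := LinearMap.ext fun v => Subsingleton.elim _ _
  constructor
  · show LinearMap.toMatrix' (σ i ∘ₗ π i) = 0
    rw [hπ]; simp
  · show LinearMap.toMatrix' (σ (i + 1) ∘ₗ (E.d i (i + 1)).hom ∘ₗ π i) = 0
    rw [hπ]; simp

end Retract

end MatData

/-- two splittings of conjugate idempotents are isomorphic. -/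
theorem nonempty_iso_of_splittings {C C' : Type*} [Category C] [Category C'] (G : C ⥤ C')
    {L Ej : C} (p : L ⟶ L) (s : Ej ⟶ L) (r : L ⟶ Ej) (hsr : s ≫ r = 𝟙 Ej) (hrs : r ≫ s = p)
    {L' E : C'} (θ : G.obj L ≅ L') (p' : L' ⟶ L') (hθ : G.map p ≫ θ.hom = θ.hom ≫ p')
    (s' : E ⟶ L') (r' : L' ⟶ E) (hsr' : s' ≫ r' = 𝟙 E) (hrs' : r' ≫ s' = p') :
    Nonempty (G.obj Ej ≅ E) := by
  refine ⟨⟨G.map s ≫ θ.hom ≫ r', s' ≫ θ.inv ≫ G.map r, ?_, ?_⟩⟩
  · have h1 : θ.hom ≫ p' ≫ θ.inv = G.map p := by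
      rw [← Category.assoc, ← hθ, Category.assoc, Iso.hom_inv_id, Category.comp_id]
    calc (G.map s ≫ θ.hom ≫ r') ≫ s' ≫ θ.inv ≫ G.map r
        = G.map s ≫ (θ.hom ≫ (r' ≫ s') ≫ θ.inv) ≫ G.map r := by simp only [Category.assoc]
      _ = G.map s ≫ G.map p ≫ G.map r := by rw [hrs', h1]
      _ = G.map ((s ≫ r) ≫ (s ≫ r)) := by
        rw [← hrs]; simp only [Functor.map_comp, Category.assoc]
      _ = 𝟙 _ := by rw [hsr, Category.comp_id, G.map_id]
  · have h2 : θ.inv ≫ G.map p ≫ θ.hom = p' := by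
      rw [hθ, Iso.inv_hom_id_assoc]
    calc (s' ≫ θ.inv ≫ G.map r) ≫ G.map s ≫ θ.hom ≫ r'
        = s' ≫ (θ.inv ≫ G.map (r ≫ s) ≫ θ.hom) ≫ r' := by
          simp only [Functor.map_comp, Category.assoc]
      _ = s' ≫ p' ≫ r' := by rw [hrs, h2]
      _ = (s' ≫ r') ≫ (s' ≫ r') := by rw [← hrs']; simp only [Category.assoc]
      _ = 𝟙 _ := by rw [hsr', Category.comp_id]

end Groth.Agent.Lib.Helper35.FiltDesc
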