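import Mathlib

/-! Finite families of elements and relations in a filtered colimit of commutative rings
(helper35). -/

set_option autoImplicit false
universe u

open CategoryTheory CategoryTheory.Limits

namespace Groth.Agent.Lib.Helper35.FiltDesc

variable {J : Type u} [SmallCategory J] [IsFiltered J] (F : J ⥤ CommRingCat.{u}) (c : Cocone F)

theorem ι_map_apply {j k : J} (f : j ⟶ k) (y : F.obj j) :
    (c.ι.app k).hom ((F.map f).hom y) = (c.ι.app j).hom y := by
  have := c.w f
  rw [← this]
  rfl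

variable {F c} (hc : IsColimit c)

include hc

theorem exists_rep (x : c.pt) : ∃ (j : J) (y : F.obj j), (c.ι.app j).hom y = x :=
  Concrete.isColimit_exists_rep F hc x

theorem exists_map_eq (j : J) (u v : F.obj j) (h : (c.ι.app j).hom u = (c.ι.app j).hom v) :
    ∃ (k : J) (f : j ⟶ k), (F.map f).hom u = (F.map f).hom v := by
  obtain ⟨k, f, g, hfg⟩ := Concrete.isColimit_exists_of_rep_eq F hc u v h
  refine ⟨IsFiltered.coeq f g, f ≫ IsFiltered.coeqHom f g, ?_⟩
  have h1 : (F.map (f ≫ IsFiltered.coeqHom f g)).hom u =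
      (F.map (IsFiltered.coeqHom f g)).hom ((F.map f).hom u) := by
    rw [F.map_comp]; rfl
  have h2 : (F.map (f ≫ IsFiltered.coeqHom f g)).hom v =
      (F.map (IsFiltered.coeqHom f g)).hom ((F.map g).hom v) := by
    rw [IsFiltered.coeq_condition, F.map_comp]; rfl
  rw [h1, h2]
  exact congrArg _ hfg

/-- a finite family of elements of the colimit comes from one stage. -/
theorem exists_rep_family {ι : Type} [Finite ι] (x : ι → c.pt) :
    ∃ (j : J) (y : ι → F.obj j), ∀ t, (c.ι.app j).hom (y t) = x t := by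
  induction ι using Finite.induction_empty_option with
  | of_equiv e ih =>
    obtain ⟨j, y, hy⟩ := ih (x ∘ e)
    exact ⟨j, y ∘ e.symm, fun t => by simpa using hy (e.symm t)⟩
  | h_empty => exact ⟨IsFiltered.nonempty.some, fun t => t.elim, fun t => t.elim⟩
  | h_option ih =>
    obtain ⟨j₁, y₁, hy₁⟩ := ih (fun t => x (some t))
    obtain ⟨j₂, z, hz⟩ := exists_rep hc (x none)
    refine ⟨IsFiltered.max j₁ j₂, fun t => match t with
      | none => (F.map (IsFiltered.rightToMax j₁ j₂)).hom z
      | some t => (F.map (IsFiltered.leftToMax j₁ j₂)).hom (y₁ t), ?_⟩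
    rintro (_ | t)
    · rw [← hz]; exact ι_map_apply F c _ z
    · rw [← hy₁ t]; exact ι_map_apply F c _ (y₁ t)

/-- finitely many equalities in the colimit hold at one later stage. -/
theorem exists_map_eq_family {ι : Type} [Finite ι] (j : J) (u v : ι → F.obj j)
    (h : ∀ t, (c.ι.app j).hom (u t) = (c.ι.app j).hom (v t)) :
    ∃ (k : J) (f : j ⟶ k), ∀ t, (F.map f).hom (u t) = (F.map f).hom (v t) := by
  induction ι using Finite.induction_empty_option with
  | of_equiv e ih =>
    obtain ⟨k, f, hf⟩ := ih (u ∘ e) (v ∘ e) (fun t => h (e t))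
    exact ⟨k, f, fun t => by simpa using hf (e.symm t)⟩
  | h_empty => exact ⟨j, 𝟙 j, fun t => t.elim⟩
  | h_option ih =>
    obtain ⟨k₁, f₁, hf₁⟩ := ih (fun t => u (some t)) (fun t => v (some t)) (fun t => h (some t))
    obtain ⟨k₂, f₂, hf₂⟩ := exists_map_eq hc j (u none) (v none) (h none)
    obtain ⟨k, g₁, g₂, hg⟩ := IsFiltered.span f₁ f₂
    refine ⟨k, f₁ ≫ g₁, ?_⟩
    rintro (_ | t)
    · rw [hg]
      have h1 : ∀ w : F.obj j, (F.map (f₂ ≫ g₂)).hom w = (F.map g₂).hom ((F.map f₂).hom w) := by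
        intro w; rw [F.map_comp]; rfl
      rw [h1, h1, hf₂]
    · have h1 : ∀ w : F.obj j, (F.map (f₁ ≫ g₁)).hom w = (F.map g₁).hom ((F.map f₁).hom w) := by
        intro w; rw [F.map_comp]; rfl
      rw [h1, h1, hf₁ t]

end Groth.Agent.Lib.Helper35.FiltDesc
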