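import Groth.Agent.Lib.Helper35.DescA

/-! Base change of matrix complexes (helper35). -/

set_option autoImplicit false
universe u

open CategoryTheory CategoryTheory.Limits TensorProduct

namespace Groth.Agent.Lib.Helper35.FiltDesc

open Groth.Agent.Lib.Helper35.FlatBC

variable {S S' : Type u} [CommRing S] [CommRing S'] [Algebra S S'] {n : ℕ}

/-- `S' ⊗_S S^n ≃ S'^n`. -/
noncomputable def piEquiv :
    ((ext S S').obj (ModuleCat.of S (Fin n → S))) ≃ₗ[S'] (Fin n → S') :=
  (extLinearEquiv S' (Fin n → S)).trans (TensorProduct.piScalarRight S S' S' (Fin n))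

set_option backward.isDefEq.respectTransparency false in
theorem piEquiv_tmul (b : S') (v : Fin n → S) :
    piEquiv (n := n) (S := S) (S' := S')
      (show (ext S S').obj (ModuleCat.of S (Fin n → S)) from b ⊗ₜ[S] v) = fun j => v j • b := by
  show (TensorProduct.piScalarRight S S' S' (Fin n)) (extLinearEquivA S' (Fin n → S) (b ⊗ₜ v)) = _
  simp only [extLinearEquivA, TensorProduct.congr_tmul, LinearEquiv.refl_apply]
  rw [TensorProduct.piScalarRight_apply]
  exact TensorProduct.piScalarRightHom_tmul S S' S' (Fin n) b v

set_option backward.isDefEq.respectTransparency false in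
theorem piEquiv_map (M : Matrix (Fin n) (Fin n) S)
    (x : (ext S S').obj (ModuleCat.of S (Fin n → S))) :
    piEquiv (((ext S S').map (ModuleCat.ofHom (Matrix.toLin' M))).hom x) =
      Matrix.toLin' (M.map (algebraMap S S')) (piEquiv x) := by
  induction x using TensorProduct.induction_on with
  | zero => simp
  | tmul b v =>
    rw [ModuleCat.ExtendScalars.map_tmul]
    erw [piEquiv_tmul, piEquiv_tmul]
    ext j
    simp only [ModuleCat.hom_ofHom, Matrix.toLin'_apply, Matrix.mulVec, dotProduct, Matrix.map_apply,
      Finset.sum_smul]
    refine Finset.sum_congr rfl (fun l _ => ?_)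
    rw [Algebra.smul_def, Algebra.smul_def, map_mul, mul_assoc]
  | add x y hx hy =>
    rw [map_add, map_add, map_add, map_add, hx, hy]

namespace MatData

variable (m : MatData S n) (hg : m.IsGood)

set_option backward.isDefEq.respectTransparency false in
/-- base change of the matrix complex. -/
noncomputable def extIso :
    ((ext S S').mapHomologicalComplex (ComplexShape.up ℤ)).obj (m.cx hg) ≅
      (m.map (algebraMap S S')).cx (hg.map _) :=
  HomologicalComplex.Hom.isoOfComponents (fun _ => (piEquiv (S := S) (S' := S') (n := n)).toModuleIso)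
    (by
      rintro i j (rfl : i + 1 = j)
      rw [cx_d, Functor.mapHomologicalComplex_obj_d, cx_d]
      apply ModuleCat.hom_ext
      apply LinearMap.ext
      intro x
      exact (piEquiv_map (m.D i) x).symm)

set_option backward.isDefEq.respectTransparency false in
theorem extIso_idem :
    ((ext S S').mapHomologicalComplex (ComplexShape.up ℤ)).map (m.idem hg) ≫ (m.extIso hg).hom =
      (m.extIso hg).hom ≫ (m.map (algebraMap S S')).idem (hg.map _) := by
  ext i : 1
  apply ModuleCat.hom_ext
  apply LinearMap.ext
  intro x
  exact piEquiv_map (m.e i) x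

end MatData

end Groth.Agent.Lib.Helper35.FiltDesc
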