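import Groth.Agent.Lib.Helper35.DescA
import Groth.Agent.Lib.Helper35.DescB

/-! Descent of matrix data through a filtered colimit of rings (helper35). -/

set_option autoImplicit false
universe u

open CategoryTheory CategoryTheory.Limits

namespace Groth.Agent.Lib.Helper35.FiltDesc

variable {J : Type u} [SmallCategory J] [IsFiltered J] {F : J ⥤ CommRingCat.{u}} {c : Cocone F}
  (hc : IsColimit c) {n : ℕ}

include hc

theorem exists_matData (m : MatData c.pt n) (a b : ℤ) (hs : m.SuppIn a b) (hg : m.IsGood) :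
    ∃ (j : J) (m' : MatData (F.obj j) n), m'.SuppIn a b ∧ m'.IsGood ∧
      m'.map (c.ι.app j).hom = m := by
  classical
  -- step 1 : lift the entries
  let ι := Bool × {i : ℤ // i ∈ Finset.Icc a b} × Fin n × Fin n
  let x : ι → c.pt := fun t => if t.1 then m.e t.2.1 t.2.2.1 t.2.2.2 else m.D t.2.1 t.2.2.1 t.2.2.2
  obtain ⟨j₀, y, hy⟩ := exists_rep_family hc x
  let m₀ : MatData (F.obj j₀) n :=
    ⟨fun i => if h : i ∈ Finset.Icc a b then Matrix.of (fun k l => y (true, ⟨i, h⟩, k, l)) else 0,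
      fun i => if h : i ∈ Finset.Icc a b then Matrix.of (fun k l => y (false, ⟨i, h⟩, k, l)) else 0⟩
  have hout : ∀ i : ℤ, i ∉ Finset.Icc a b → (i < a ∨ b < i) := by
    intro i hi
    rw [Finset.mem_Icc] at hi
    omega
  have hs₀ : m₀.SuppIn a b := by
    intro i hi
    have hi' : i ∉ Finset.Icc a b := by
      rw [Finset.mem_Icc]; omega
    exact ⟨dif_neg hi', dif_neg hi'⟩
  have hm₀ : m₀.map (c.ι.app j₀).hom = m := by
    apply MatData.ext'
    · intro i
      by_cases h : i ∈ Finset.Icc a b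
      · ext k l
        show (c.ι.app j₀).hom ((if h : i ∈ Finset.Icc a b then
          Matrix.of (fun k l => y (true, ⟨i, h⟩, k, l)) else 0) k l) = _
        rw [dif_pos h]
        exact hy (true, ⟨i, h⟩, k, l)
      · rw [(hs i (hout i h)).1, (hs₀.map (c.ι.app j₀).hom i (hout i h)).1]
    · intro i
      by_cases h : i ∈ Finset.Icc a b
      · ext k l
        show (c.ι.app j₀).hom ((if h : i ∈ Finset.Icc a b then
          Matrix.of (fun k l => y (false, ⟨i, h⟩, k, l)) else 0) k l) = _
        rw [dif_pos h]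
        exact hy (false, ⟨i, h⟩, k, l)
      · rw [(hs i (hout i h)).2, (hs₀.map (c.ι.app j₀).hom i (hout i h)).2]
  -- step 2 : kill the defects
  let ι' := Fin 4 × {i : ℤ // i ∈ Finset.Icc (a - 1) b} × Fin n × Fin n
  let u : ι' → F.obj j₀ := fun t => m₀.defect t.1 t.2.1 t.2.2.1 t.2.2.2
  have hu : ∀ t, (c.ι.app j₀).hom (u t) = (c.ι.app j₀).hom ((fun _ => 0 : ι' → F.obj j₀) t) := by
    intro t
    have h1 : (c.ι.app j₀).hom (u t) =
        ((m₀.map (c.ι.app j₀).hom).defect t.1 t.2.1) t.2.2.1 t.2.2.2 := by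
      rw [MatData.defect_map]; rfl
    rw [h1, hm₀, hg t.1 t.2.1, map_zero]
    rfl
  obtain ⟨k, f, hf⟩ := exists_map_eq_family hc j₀ u (fun _ => 0) hu
  refine ⟨k, m₀.map (F.map f).hom, hs₀.map _, ?_, ?_⟩
  · intro r i
    by_cases hi : i ∈ Finset.Icc (a - 1) b
    · rw [MatData.defect_map]
      ext p q
      have := hf (r, ⟨i, hi⟩, p, q)
      rw [map_zero] at this
      exact this
    · refine MatData.defect_eq_zero_of_suppIn (hs₀.map _) r i ?_
      rw [Finset.mem_Icc] at hi
      omega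
  · rw [MatData.map_map, ← hm₀]
    congr 1
    have := c.w f
    rw [← this]
    rfl

end Groth.Agent.Lib.Helper35.FiltDesc
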