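import Groth.Agent.Lib.Helper35.DescC
import Groth.Agent.Lib.Helper35.DescD
import Groth.Agent.Lib.Helper35.ConeRep2
import Groth.Agent.Lib.Helper32.LBC

/-! Descent of perfect complexes through a filtered colimit of rings (helper35). -/

set_option autoImplicit false
universe u

open CategoryTheory CategoryTheory.Limits DerivedCategory

attribute [local instance] HasDerivedCategory.standard

namespace Groth.Agent.Lib.Helper35.FiltDesc

open Groth.Agent.Lib.Helper35.FlatBC Groth.Agent.Lib.Helper35.KL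

section Retract

variable {S : Type u} [CommRing S]

/-- uniform presentation of the terms of a bounded complex of finite projective modules as
retracts of `S^n`. -/
theorem exists_retract_data (E : DRing.Cx S) (a b : ℤ) (hv : DRing.VanishesOutside E a b)
    (hE : DRing.TermwiseFiniteProjective E) :
    ∃ (n : ℕ) (π : ∀ i : ℤ, (Fin n → S) →ₗ[S] E.X i) (σ : ∀ i : ℤ, E.X i →ₗ[S] (Fin n → S)),
      ∀ i : ℤ, π i ∘ₗ σ i = LinearMap.id := by
  have h1 : ∀ i : ℤ, ∃ (n : ℕ) (f : (Fin n → S) →ₗ[S] E.X i), Function.Surjective f := fun i =>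
    have := (hE i).1
    Module.Finite.exists_fin' S (E.X i)
  choose nn ff hff using h1
  let N := (Finset.Icc a b).sup nn
  have h2 : ∀ i : ℤ, ∃ g : (Fin N → S) →ₗ[S] E.X i, Function.Surjective g := by
    intro i
    by_cases hi : i ∈ Finset.Icc a b
    · have hle : nn i ≤ N := Finset.le_sup hi
      refine ⟨ff i ∘ₗ LinearMap.funLeft S S (Fin.castLE hle), ?_⟩
      rw [LinearMap.coe_comp]
      exact (hff i).comp
        (LinearMap.funLeft_surjective_of_injective _ _ _ (Fin.castLE_injective hle))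
    · have hz : IsZero (E.X i) := hv i (by rw [Finset.mem_Icc] at hi; omega)
      have : Subsingleton (E.X i) := ModuleCat.subsingleton_of_isZero hz
      exact ⟨0, fun x => ⟨0, Subsingleton.elim _ _⟩⟩
  choose g hg using h2
  have h3 : ∀ i : ℤ, ∃ s : E.X i →ₗ[S] (Fin N → S), g i ∘ₗ s = LinearMap.id := fun i =>
    have := (hE i).2
    Module.projective_lifting_property (g i) LinearMap.id (hg i)
  choose s hs using h3
  exact ⟨N, g, s, hs⟩

end Retract

section Core

variable {S R : Type u} [CommRing S] [CommRing R] [Algebra S R] {n : ℕ}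

set_option backward.isDefEq.respectTransparency false in
/-- the core construction: a retract of the base change of a matrix complex descends. -/
theorem exists_descent_of_matData (m' : MatData S n) (hg' : m'.IsGood) (a b : ℤ)
    (hs' : m'.SuppIn a b) (m : MatData R n) (hm : m'.map (algebraMap S R) = m) (hg : m.IsGood)
    (E : DRing.Cx R) (s : E ⟶ m.cx hg) (r : m.cx hg ⟶ E) (hsr : s ≫ r = 𝟙 E)
    (hrs : r ≫ s = m.idem hg) :
    ∃ Ej : DRing.Cx S, DRing.VanishesOutside Ej a b ∧ DRing.TermwiseFiniteProjective Ej ∧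
      Nonempty (((ext S R).mapHomologicalComplex (ComplexShape.up ℤ)).obj Ej ≅ E) := by
  subst hm
  obtain ⟨Ej, sj, rj, hsrj, hrsj⟩ :=
    IsIdempotentComplete.idempotents_split (m'.cx hg') (m'.idem hg') (m'.idem_idem hg')
  have hsr_f : ∀ i : ℤ, sj.f i ≫ rj.f i = 𝟙 (Ej.X i) := fun i => by
    rw [← HomologicalComplex.comp_f, hsrj]; rfl
  have hrs_f : ∀ i : ℤ, rj.f i ≫ sj.f i = ModuleCat.ofHom (Matrix.toLin' (m'.e i)) := fun i => by
    rw [← HomologicalComplex.comp_f, hrsj]; rfl
  refine ⟨Ej, ?_, ?_, ?_⟩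
  · intro i hi
    rw [IsZero.iff_id_eq_zero]
    have h0 : rj.f i ≫ sj.f i = 0 := by
      rw [hrs_f, (hs' i hi).1]
      apply ModuleCat.hom_ext
      simp
    calc 𝟙 (Ej.X i) = (sj.f i ≫ rj.f i) ≫ (sj.f i ≫ rj.f i) := by rw [hsr_f]; simp
      _ = sj.f i ≫ (rj.f i ≫ sj.f i) ≫ rj.f i := by simp only [Category.assoc]
      _ = 0 := by rw [h0]; simp
  · intro i
    have hcomp : (rj.f i).hom ∘ₗ (sj.f i).hom = LinearMap.id := by
      have := congrArg ModuleCat.Hom.hom (hsr_f i)
      exact this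
    constructor
    · refine Module.Finite.of_surjective (M := (Fin n → S)) (rj.f i).hom (fun x => ?_)
      exact ⟨(sj.f i).hom x, LinearMap.congr_fun hcomp x⟩
    · exact Module.Projective.of_split (M := (Fin n → S)) (sj.f i).hom (rj.f i).hom hcomp
  · exact nonempty_iso_of_splittings ((ext S R).mapHomologicalComplex (ComplexShape.up ℤ))
      (m'.idem hg') sj rj hsrj hrsj (m'.extIso hg') _ (m'.extIso_idem hg') s r hsr hrs

end Core

section Main

variable {J : Type u} [SmallCategory J] [IsFiltered J]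

set_option backward.isDefEq.respectTransparency false in
theorem exists_perfect_descends (F : J ⥤ CommRingCat.{u}) (c : Cocone F) (hc : IsColimit c)
    [∀ j : J, DRing.HasLBaseChange (c.ι.app j).hom] (K : Dual.D c.pt)
    (hK : DRing.IsPerfect c.pt K) :
    ∃ (j : J) (Kj : Dual.D (F.obj j)), DRing.IsPerfect (F.obj j) Kj ∧
      Nonempty ((DRing.LBaseChange (c.ι.app j).hom).obj Kj ≅ K) := by
  obtain ⟨E, a, b, hv, hE, ⟨e⟩⟩ := hK
  obtain ⟨n, π, σ, hπσ⟩ := exists_retract_data E a b hv hE
  have hg := MatData.ofRetract_isGood E π σ hπσ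
  have hs := MatData.ofRetract_suppIn E π σ a b hv
  obtain ⟨j, m', hs', hg', hm'⟩ := exists_matData hc (MatData.ofRetract E π σ) a b hs hg
  letI : Algebra (F.obj j) c.pt := (c.ι.app j).hom.toAlgebra
  obtain ⟨Ej, hEjv, hEjp, ⟨θ⟩⟩ := exists_descent_of_matData m' hg' a b hs'
    (MatData.ofRetract E π σ) hm' hg E (MatData.retS E π σ hπσ) (MatData.retR E π σ hπσ)
    (MatData.retS_retR E π σ hπσ) (MatData.retR_retS E π σ hπσ)
  have hKP : Ej.IsKProjective := isKProjective_of_vanishesAbove Ej b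
    (fun i hi => hEjv i (Or.inr hi)) (fun i => (hEjp i).2)
  refine ⟨j, DRing.toD Ej, ⟨Ej, a, b, hEjv, hEjp, ⟨Iso.refl _⟩⟩, ?_⟩
  exact ⟨Groth.Agent.Lib.Helper32.LBC.lbcIso (c.ι.app j).hom Ej ≪≫ Q.mapIso θ ≪≫ e⟩

end Main

end Groth.Agent.Lib.Helper35.FiltDesc
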