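import Groth.Agent.Lib.Helper35.RHomKInj
import Groth.Agent.Lib.Helper32.LBC

/-!
# The dual complex of a complex of modules (helper35)
-/

set_option autoImplicit false
universe u

open CategoryTheory Limits DerivedCategory CochainComplex HomComplex

namespace Groth.Agent.Lib.Helper35.DualCx

attribute [local instance] HasDerivedCategory.standard

variable {A : Type u} [CommRing A]

/-- the unit complex `A[0]` -/
noncomputable abbrev unitCx (A : Type u) [CommRing A] : DRing.Cx A :=
  (CochainComplex.singleFunctor (ModuleCat.{u} A) 0).obj (ModuleCat.of A A)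

/-- The dual complex, with the sign conventions of `Hom•(P, A[0])`. -/
noncomputable def dualCx (P : DRing.Cx A) : DRing.Cx A where
  X n := ModuleCat.of A (Module.Dual A (P.X (-n)))
  d n m := ModuleCat.ofHom (((m.negOnePow : ℤˣ) : ℤ) • (P.d (-m) (-n)).hom.dualMap)
  shape n m h := by
    have : P.d (-m) (-n) = 0 := P.shape _ _ (by
      simp only [ComplexShape.up_Rel] at h ⊢
      omega)
    rw [this]
    ext
    simp
  d_comp_d' n m k _ _ := by
    ext g x
    simp only [ModuleCat.hom_comp, ModuleCat.hom_ofHom, LinearMap.coe_comp, Function.comp_apply,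
      LinearMap.smul_apply, LinearMap.dualMap_apply, map_zsmul, ModuleCat.hom_zero,
      LinearMap.zero_apply]
    have : (P.d (-m) (-n)).hom ((P.d (-k) (-m)).hom x) = 0 := by
      have := P.d_comp_d (-k) (-m) (-n)
      exact congr($(this).hom x)
    rw [this, map_zero, smul_zero, smul_zero]

/-- cochains to the unit complex are linear forms -/
noncomputable def toDual (P : DRing.Cx A) (n : ℤ) :
    Cochain P (unitCx A) n ≃ₗ[A] Module.Dual A (P.X (-n)) where
  toFun z := (Cochain.toSingleEquiv (show (-n) + n = 0 by omega) z).hom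
  map_add' z z' := by
    rw [map_add]
    rfl
  map_smul' a z := by
    simp only [Cochain.toSingleEquiv, AddEquiv.coe_mk, Equiv.coe_fn_mk, Cochain.smul_v,
      Linear.smul_comp, RingHom.id_apply]
    rfl
  invFun g := Cochain.toSingleMk (ModuleCat.ofHom g) (show (-n) + n = 0 by omega)
  left_inv z := by
    have := (Cochain.toSingleEquiv (K := P) (X := ModuleCat.of A A)
      (show (-n) + n = 0 by omega)).left_inv z
    exact this
  right_inv g := by
    simp

lemma toDual_toSingleMk (P : DRing.Cx A) (n : ℤ) (f : P.X (-n) ⟶ ModuleCat.of A A) :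
    toDual P n (Cochain.toSingleMk f (show (-n) + n = 0 by omega)) = f.hom := by
  simp [toDual]

lemma toDual_δ (P : DRing.Cx A) (n m : ℤ) (hnm : n + 1 = m) (z : Cochain P (unitCx A) n) :
    toDual P m (δ n m z) =
      ((m.negOnePow : ℤˣ) : ℤ) • (P.d (-m) (-n)).hom.dualMap (toDual P n z) := by
  obtain ⟨f, rfl⟩ := Cochain.toSingleMk_surjective z (-n) (by omega)
  rw [Cochain.δ_toSingleMk f (show (-n) + n = 0 by omega) m (-m) (by omega), Units.smul_def,
    map_zsmul, toDual_toSingleMk, toDual_toSingleMk]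
  rfl

/-- `Hom•(P, A[0]) ≅ dualCx P`. -/
noncomputable def homCxUnitIso (P : DRing.Cx A) : DRing.homCx P (unitCx A) ≅ dualCx P :=
  HomologicalComplex.Hom.isoOfComponents (fun n => (toDual P n).toModuleIso) (by
    intro n m hnm
    simp only [ComplexShape.up_Rel] at hnm
    refine ModuleCat.hom_ext (LinearMap.ext (fun (z : Cochain P (unitCx A) n) => ?_))
    exact (toDual_δ P n m hnm z).symm)

lemma vanishesOutside_dualCx (P : DRing.Cx A) (a b : ℤ) (h : DRing.VanishesOutside P a b) :
    DRing.VanishesOutside (dualCx P) (-b) (-a) := by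
  intro i hi
  have h1 : IsZero (P.X (-i)) := h (-i) (by omega)
  rw [ModuleCat.isZero_iff_subsingleton] at h1 ⊢
  change Subsingleton (Module.Dual A (P.X (-i)))
  infer_instance

lemma termwiseFiniteProjective_dualCx (P : DRing.Cx A) (h : DRing.TermwiseFiniteProjective P) :
    DRing.TermwiseFiniteProjective (dualCx P) := by
  intro i
  obtain ⟨h1, h2⟩ := h (-i)
  exact ⟨inferInstanceAs (Module.Finite A (Module.Dual A (P.X (-i)))),
    inferInstanceAs (Module.Projective A (Module.Dual A (P.X (-i))))⟩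

/-- components of the biduality isomorphism -/
noncomputable def evIsoX (P : DRing.Cx A) (hP : DRing.TermwiseFiniteProjective P) (n : ℤ) :
    P.X n ≅ (dualCx (dualCx P)).X n :=
  have := (hP (-(-n))).1
  have := (hP (-(-n))).2
  (n.negOnePow : ℤˣ) • (P.XIsoOfEq (neg_neg n).symm ≪≫
    (Module.evalEquiv A (P.X (-(-n)))).toModuleIso)

lemma evIsoX_hom_apply (P : DRing.Cx A) (hP : DRing.TermwiseFiniteProjective P) (n : ℤ)
    (x : P.X n) (g : Module.Dual A (P.X (-(-n)))) :
    (show Module.Dual A (Module.Dual A (P.X (-(-n)))) from (evIsoX P hP n).hom.hom x) g =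
      ((n.negOnePow : ℤˣ) : ℤ) • g ((P.XIsoOfEq (neg_neg n).symm).hom.hom x) := by
  have := (hP (-(-n))).1
  have := (hP (-(-n))).2
  simp only [evIsoX, CategoryTheory.Preadditive.smul_iso_hom, Iso.trans_hom, Units.smul_def]
  rfl

/-- biduality for complexes of finite projective modules -/
noncomputable def evIso (P : DRing.Cx A) (hP : DRing.TermwiseFiniteProjective P) :
    P ≅ dualCx (dualCx P) :=
  HomologicalComplex.Hom.isoOfComponents (fun n => evIsoX P hP n) (by
    intro n m hnm
    simp only [ComplexShape.up_Rel] at hnm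
    refine ModuleCat.hom_ext (LinearMap.ext (fun (x : P.X n) => ?_))
    refine LinearMap.ext (fun (g : Module.Dual A (P.X (-(-m)))) => ?_)
    have hd : (P.XIsoOfEq (neg_neg n).symm).hom ≫ P.d (-(-n)) (-(-m)) =
        P.d n m ≫ (P.XIsoOfEq (neg_neg m).symm).hom := by
      rw [HomologicalComplex.XIsoOfEq_hom_comp_d, HomologicalComplex.d_comp_XIsoOfEq_hom]
    have hd' : (P.d (-(-n)) (-(-m))).hom ((P.XIsoOfEq (neg_neg n).symm).hom.hom x) =
        (P.XIsoOfEq (neg_neg m).symm).hom.hom ((P.d n m).hom x) := congr($(hd).hom x)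
    change ((m.negOnePow : ℤˣ) : ℤ) • (show Module.Dual A (Module.Dual A (P.X (-(-n)))) from
          (evIsoX P hP n).hom.hom x)
          ((((-n).negOnePow : ℤˣ) : ℤ) • g ∘ₗ (P.d (-(-n)) (-(-m))).hom) =
        (show Module.Dual A (Module.Dual A (P.X (-(-m)))) from
          (evIsoX P hP m).hom.hom ((P.d n m).hom x)) g
    rw [evIsoX_hom_apply, evIsoX_hom_apply, LinearMap.smul_apply, LinearMap.comp_apply,
      hd']
    subst hnm
    simp only [Int.negOnePow_neg, Int.negOnePow_succ, Units.val_neg, smul_smul, neg_smul,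
      neg_mul]
    have h1 : ((n.negOnePow : ℤˣ) : ℤ) * ((n.negOnePow : ℤˣ) : ℤ) = 1 := by
      rw [← Units.val_mul, Int.units_mul_self]
      rfl
    rw [h1, mul_one])

/-- S6963. -/
theorem dual_and_double_dual (A : Type u) [CommRing A] (K : Dual.D A) (hK : DRing.IsPerfect A K)
    (E : DRing.Cx A) (eK : DRing.toD E ≅ K) [DRing.HasRHomCx E] :
    DRing.IsPerfect A ((DRing.RHomCx E).obj (Dual.inD A A)) ∧
      ∀ (E' : DRing.Cx A) (eK' : DRing.toD E' ≅ (DRing.RHomCx E).obj (Dual.inD A A))
        [DRing.HasRHomCx E'], Nonempty ((DRing.RHomCx E').obj (Dual.inD A A) ≅ K) := by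
  obtain ⟨P, a, b, hab, hfp, ⟨eP⟩⟩ := hK
  have hKP : P.IsKProjective :=
    Groth.Agent.Lib.Helper32.LBC.isKProjective_of_vanishesAbove P b
      (fun i hi => hab i (Or.inr hi)) (fun i => (hfp i).2)
  obtain ⟨e1⟩ := Groth.Agent.Lib.Helper35.RHomKInj.nonempty_rhom_iso E P (eP ≪≫ eK.symm)
    (unitCx A)
  have e2 : (DRing.RHomCx E).obj (Dual.inD A A) ≅ DRing.toD (dualCx P) :=
    e1 ≪≫ Q.mapIso (homCxUnitIso P)
  refine ⟨⟨dualCx P, -b, -a, vanishesOutside_dualCx P a b hab,
    termwiseFiniteProjective_dualCx P hfp, ⟨e2.symm⟩⟩, ?_⟩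
  intro E' eK' _
  have hKD : (dualCx P).IsKProjective :=
    Groth.Agent.Lib.Helper32.LBC.isKProjective_of_vanishesAbove (dualCx P) (-a)
      (fun i hi => vanishesOutside_dualCx P a b hab i (Or.inr hi))
      (fun i => (termwiseFiniteProjective_dualCx P hfp i).2)
  obtain ⟨e3⟩ := Groth.Agent.Lib.Helper35.RHomKInj.nonempty_rhom_iso E' (dualCx P)
    (e2.symm ≪≫ eK'.symm) (unitCx A)
  exact ⟨e3 ≪≫ Q.mapIso (homCxUnitIso (dualCx P)) ≪≫ (Q.mapIso (evIso P hfp)).symm ≪≫ eP⟩

end Groth.Agent.Lib.Helper35.DualCx
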