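import Mathlib
import Groth.Prelude.Def_DRing2
import Groth.Agent.Lib.Helper35.IndRep
import Groth.Agent.Lib.Helper35.IALib

/-! Finiteness of `Hom_{D(A)}(K, L[i])` over a Noetherian ring (helper35). -/

set_option autoImplicit false
universe u

open CategoryTheory Limits Pretriangulated DerivedCategory ZeroObject

namespace Groth.Agent.Lib.Helper35.KL

attribute [local instance] HasDerivedCategory.standard

variable {A : Type u} [CommRing A]

/-- The `A`-module `Hom(X, Y)` is Noetherian. -/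
abbrev NH (X Y : Dual.D A) : Prop := IsNoetherian A (X ⟶ Y)

section NH

variable {X X' Y Y' : Dual.D A}

lemma NH.of_iso_left (e : X ≅ X') (h : NH X Y) : NH X' Y := by
  have : IsNoetherian A (X ⟶ Y) := h
  refine isNoetherian_of_surjective (Linear.leftComp A Y e.inv) ?_
  rw [LinearMap.range_eq_top]
  intro g
  exact ⟨e.hom ≫ g, by simp [Linear.leftComp]⟩

lemma NH.of_iso_right (e : Y ≅ Y') (h : NH X Y) : NH X Y' := by
  have : IsNoetherian A (X ⟶ Y) := h
  refine isNoetherian_of_surjective (Linear.rightComp A X e.hom) ?_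
  rw [LinearMap.range_eq_top]
  intro g
  exact ⟨g ≫ e.inv, by simp [Linear.rightComp]⟩

lemma NH.of_subsingleton [Subsingleton (X ⟶ Y)] : NH X Y := by
  have : Finite (X ⟶ Y) := inferInstance
  exact isNoetherian_of_finite A (X ⟶ Y)

lemma NH.of_isZero_left (hX : IsZero X) : NH X Y := by
  have : Subsingleton (X ⟶ Y) := ⟨fun f g => hX.eq_of_src f g⟩
  exact NH.of_subsingleton

lemma NH.of_isZero_right (hY : IsZero Y) : NH X Y := by
  have : Subsingleton (X ⟶ Y) := ⟨fun f g => hY.eq_of_tgt f g⟩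
  exact NH.of_subsingleton

lemma NH.mid_left (T : Triangle (Dual.D A)) (hT : T ∈ distTriang _) (W : Dual.D A)
    (h₁ : NH T.obj₁ W) (h₃ : NH T.obj₃ W) : NH T.obj₂ W := by
  have : IsNoetherian A (T.obj₁ ⟶ W) := h₁
  have : IsNoetherian A (T.obj₃ ⟶ W) := h₃
  refine isNoetherian_of_range_eq_ker (Linear.leftComp A W T.mor₂) (Linear.leftComp A W T.mor₁) ?_
  ext g
  constructor
  · rintro ⟨g', rfl⟩
    change T.mor₁ ≫ T.mor₂ ≫ g' = 0
    rw [← Category.assoc, comp_distTriang_mor_zero₁₂ T hT, zero_comp]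
  · intro hg
    have hg' : T.mor₁ ≫ g = 0 := hg
    obtain ⟨g', rfl⟩ := Triangle.yoneda_exact₂ T hT g hg'
    exact ⟨g', rfl⟩

lemma NH.mid_right (T : Triangle (Dual.D A)) (hT : T ∈ distTriang _) (W : Dual.D A)
    (h₁ : NH W T.obj₁) (h₃ : NH W T.obj₃) : NH W T.obj₂ := by
  have : IsNoetherian A (W ⟶ T.obj₁) := h₁
  have : IsNoetherian A (W ⟶ T.obj₃) := h₃
  refine isNoetherian_of_range_eq_ker (Linear.rightComp A W T.mor₁) (Linear.rightComp A W T.mor₂) ?_
  ext g
  constructor
  · rintro ⟨g', rfl⟩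
    change (g' ≫ T.mor₁) ≫ T.mor₂ = 0
    rw [Category.assoc, comp_distTriang_mor_zero₁₂ T hT, comp_zero]
  · intro hg
    have hg' : g ≫ T.mor₂ = 0 := hg
    obtain ⟨g', rfl⟩ := Triangle.coyoneda_exact₂ T hT g hg'
    exact ⟨g', rfl⟩

lemma NH.shift (n : ℤ) (h : NH X Y) : NH (X⟦n⟧) (Y⟦n⟧) := by
  have : IsNoetherian A (X ⟶ Y) := h
  refine isNoetherian_of_surjective
    ((CategoryTheory.shiftFunctor (Dual.D A) n).mapLinearMap A (X := X) (Y := Y)) ?_
  rw [LinearMap.range_eq_top]
  exact (CategoryTheory.shiftFunctor (Dual.D A) n).map_surjective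

lemma NH.of_surjective_left {X₁ : Dual.D A} (f : X ⟶ X₁)
    (hf : ∀ g : X ⟶ Y, ∃ g' : X₁ ⟶ Y, f ≫ g' = g) (h : NH X₁ Y) : NH X Y := by
  have : IsNoetherian A (X₁ ⟶ Y) := h
  refine isNoetherian_of_surjective (Linear.leftComp A Y f) ?_
  rw [LinearMap.range_eq_top]
  intro g
  obtain ⟨g', hg'⟩ := hf g
  exact ⟨g', hg'⟩

lemma NH.of_injective_left {X₂ : Dual.D A} (f : X₂ ⟶ X)
    (hf : ∀ g : X ⟶ Y, f ≫ g = 0 → g = 0) (h : NH X₂ Y) : NH X Y := by
  have : IsNoetherian A (X₂ ⟶ Y) := h
  refine isNoetherian_of_injective (Linear.leftComp A Y f) ?_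
  rw [injective_iff_map_eq_zero]
  intro g hg
  exact hf g hg

end NH

/-- All the `A`-modules `Hom(X, Y[i])` are Noetherian. -/
def NHs (X Y : Dual.D A) : Prop := ∀ i : ℤ, NH X (Y⟦i⟧)

section NHs

variable {X X' Y Y' : Dual.D A}

lemma NHs.of_iso_left (e : X ≅ X') (h : NHs X Y) : NHs X' Y := fun i => (h i).of_iso_left e

lemma NHs.of_iso_right (e : Y ≅ Y') (h : NHs X Y) : NHs X Y' := fun i =>
  (h i).of_iso_right ((CategoryTheory.shiftFunctor (Dual.D A) i).mapIso e)

lemma NHs.of_isZero_left (hX : IsZero X) : NHs X Y := fun _ => NH.of_isZero_left hX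

lemma NHs.of_isZero_right (hY : IsZero Y) : NHs X Y := fun i =>
  NH.of_isZero_right ((CategoryTheory.shiftFunctor (Dual.D A) i).map_isZero hY)

lemma NHs.mid_left (T : Triangle (Dual.D A)) (hT : T ∈ distTriang _) (W : Dual.D A)
    (h₁ : NHs T.obj₁ W) (h₃ : NHs T.obj₃ W) : NHs T.obj₂ W := fun i =>
  NH.mid_left T hT _ (h₁ i) (h₃ i)

lemma NHs.mid_right (T : Triangle (Dual.D A)) (hT : T ∈ distTriang _) (W : Dual.D A)
    (h₁ : NHs W T.obj₁) (h₃ : NHs W T.obj₃) : NHs W T.obj₂ := fun i =>
  NH.mid_right _ (Triangle.shift_distinguished T hT i) W (h₁ i) (h₃ i)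

lemma NHs.shift_right (n : ℤ) (h : NHs X Y) : NHs X (Y⟦n⟧) := fun i =>
  (h (n + i)).of_iso_right ((shiftFunctorAdd' (Dual.D A) n i (n + i) rfl).app Y)

lemma NHs.shift_left (n : ℤ) (h : NHs X Y) : NHs (X⟦n⟧) Y := fun i =>
  ((h (i - n)).shift n).of_iso_right
    ((shiftFunctorAdd' (Dual.D A) (i - n) n i (by omega)).app Y).symm

end NHs

section Single

variable [IsNoetherianRing A]

/-- `Hom(M[0], N[0])` is Noetherian for finite modules. -/
lemma NH_single_zero (M N : ModuleCat.{u} A) [Module.Finite A M] [Module.Finite A N] :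
    NH ((DerivedCategory.singleFunctor (ModuleCat.{u} A) 0).obj M)
      ((DerivedCategory.singleFunctor (ModuleCat.{u} A) 0).obj N) := by
  have h1 : IsNoetherian A (M →ₗ[A] N) := isNoetherian_linearMap A N M
  have h2 : IsNoetherian A (M ⟶ N) :=
    isNoetherian_of_linearEquiv (ModuleCat.homLinearEquiv (S := A) (M := M) (N := N)).symm
  refine isNoetherian_of_surjective
    ((DerivedCategory.singleFunctor (ModuleCat.{u} A) 0).mapLinearMap A (X := M) (Y := N)) ?_
  rw [LinearMap.range_eq_top]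
  exact (DerivedCategory.singleFunctor (ModuleCat.{u} A) 0).map_surjective

lemma NH_single_nat (N : ModuleCat.{u} A) [Module.Finite A N] (n : ℕ) :
    ∀ (M : ModuleCat.{u} A) [Module.Finite A M],
      NH ((DerivedCategory.singleFunctor (ModuleCat.{u} A) 0).obj M)
        (((DerivedCategory.singleFunctor (ModuleCat.{u} A) 0).obj N)⟦(n : ℤ)⟧) := by
  induction n with
  | zero =>
    intro M _
    exact (NH_single_zero M N).of_iso_right
      ((shiftFunctorZero (Dual.D A) ℤ).app _).symm
  | succ n ih =>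
    intro M _
    let S0 := DerivedCategory.singleFunctor (ModuleCat.{u} A) 0
    obtain ⟨k, f, hf⟩ := Module.Finite.exists_fin' A M
    let K' : ModuleCat.{u} A := ModuleCat.of A (LinearMap.ker f)
    let F : ModuleCat.{u} A := ModuleCat.of A (Fin k → A)
    have hK' : Module.Finite A K' := by
      have : IsNoetherian A (Fin k → A) := inferInstance
      exact (inferInstance : Module.Finite A (LinearMap.ker f))
    let S : ShortComplex (ModuleCat.{u} A) :=
      ShortComplex.mk (ModuleCat.ofHom (LinearMap.ker f).subtype) (ModuleCat.ofHom f)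
        (by ext x; exact x.2)
    have hS : S.ShortExact := by
      refine ModuleCat.shortComplex_shortExact S ?_ (LinearMap.ker f).injective_subtype hf
      intro x
      constructor
      · intro hx
        exact ⟨⟨x, hx⟩, rfl⟩
      · rintro ⟨y, rfl⟩
        exact y.2
    have hT := rot_of_distTriang _ hS.singleTriangle_distinguished
    let W : Dual.D A := (S0.obj N)⟦((n + 1 : ℕ) : ℤ)⟧
    have hW : W.IsLE (-((n + 1 : ℕ) : ℤ)) :=
      TStructure.t.isLE_shift (S0.obj N) 0 ((n + 1 : ℕ) : ℤ) (-((n + 1 : ℕ) : ℤ)) (by omega)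
    have h1 : NH (S0.obj F) W := by
      have hproj : Projective F := by
        have : Module.Projective A (Fin k → A) := inferInstance
        exact (IsProjective.iff_projective (R := A) (P := (Fin k → A))).mp this
      have : Subsingleton (S0.obj F ⟶ W) := ⟨fun φ ψ => by
        rw [hom_single_projective_eq_zero W (-((n + 1 : ℕ) : ℤ)) 0 (by push_cast; omega) φ,
          hom_single_projective_eq_zero W (-((n + 1 : ℕ) : ℤ)) 0 (by push_cast; omega) ψ]⟩
      exact NH.of_subsingleton
    have h3 : NH ((S0.obj K')⟦(1 : ℤ)⟧) W :=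
      ((ih K').shift 1).of_iso_right
        ((shiftFunctorAdd' (Dual.D A) (n : ℤ) 1 ((n + 1 : ℕ) : ℤ) (by push_cast; rfl)).app
          (S0.obj N)).symm
    exact NH.mid_left _ hT W h1 h3

/-- `Hom(M[0], N[i])` is Noetherian for finite modules, all `i`. -/
lemma NHs_single (M N : ModuleCat.{u} A) [Module.Finite A M] [Module.Finite A N] :
    NHs ((DerivedCategory.singleFunctor (ModuleCat.{u} A) 0).obj M)
      ((DerivedCategory.singleFunctor (ModuleCat.{u} A) 0).obj N) := by
  intro i
  by_cases hi : 0 ≤ i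
  · obtain ⟨n, rfl⟩ := Int.eq_ofNat_of_zero_le hi
    exact NH_single_nat N n M
  · let S0 := DerivedCategory.singleFunctor (ModuleCat.{u} A) 0
    have hN : ((S0.obj N)⟦i⟧).IsGE (-i) :=
      TStructure.t.isGE_shift (S0.obj N) 0 i (-i) (by omega)
    have : Subsingleton (S0.obj M ⟶ (S0.obj N)⟦i⟧) := ⟨fun φ ψ => by
      rw [TStructure.t.zero φ 0 (-i) (by omega), TStructure.t.zero ψ 0 (-i) (by omega)]⟩
    exact NH.of_subsingleton

end Single

section Main

/-- Dévissage in the second variable. -/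
theorem devissage_NHs_right :
    Devissage (R := A) (fun L => ∀ (M : ModuleCat.{u} A) [Module.Finite A M],
      NHs ((DerivedCategory.singleFunctor (ModuleCat.{u} A) 0).obj M) L) where
  iso e h M _ := (h M).of_iso_right e
  shift _ n h M _ := (h M).shift_right n
  mid T hT h₁ h₃ M _ := NHs.mid_right T hT _ (h₁ M) (h₃ M)
  zero _ hL _ _ := NHs.of_isZero_right hL

/-- Dévissage in the first variable. -/
theorem devissage_NHs_left (L : Dual.D A) : Devissage (R := A) (fun K => NHs K L) where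
  iso e h := h.of_iso_left e
  shift _ n h := h.shift_left n
  mid T hT h₁ h₃ := NHs.mid_left T hT L h₁ h₃
  zero _ hK := NHs.of_isZero_left hK

variable [IsNoetherianRing A]

/-- Bounded with finite cohomology in both variables. -/
theorem NHs_of_bounded (K L : Dual.D A)
    (hKb : ∃ a b : ℤ, ∀ i : ℤ, (i < a ∨ b < i) →
      Subsingleton ((homologyFunctor (ModuleCat.{u} A) i).obj K))
    (hLb : ∃ a b : ℤ, ∀ i : ℤ, (i < a ∨ b < i) →
      Subsingleton ((homologyFunctor (ModuleCat.{u} A) i).obj L))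
    (hK : ∀ i : ℤ, Module.Finite A ((homologyFunctor (ModuleCat.{u} A) i).obj K))
    (hL : ∀ i : ℤ, Module.Finite A ((homologyFunctor (ModuleCat.{u} A) i).obj L)) :
    NHs K L := by
  have h2 : ∀ (M : ModuleCat.{u} A) [Module.Finite A M],
      NHs ((DerivedCategory.singleFunctor (ModuleCat.{u} A) 0).obj M) L :=
    devissage_NHs_right.of_bounded_homology L hLb (fun i M _ => by
      have := hL i
      exact NHs_single M _)
  exact (devissage_NHs_left L).of_bounded_homology K hKb (fun i => by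
    have := hK i
    exact h2 _)

/-- **Finiteness of `Hom(K, L[i])`** for `K` with finite cohomology modules and `L` of finite
injective dimension with finite cohomology modules. -/
theorem finite_hom_shift (K L : Dual.D A)
    (hK : ∀ i : ℤ, Module.Finite A ((homologyFunctor (ModuleCat.{u} A) i).obj K))
    (hL : ∀ i : ℤ, Module.Finite A ((homologyFunctor (ModuleCat.{u} A) i).obj L))
    (hLi : DRing.HasFiniteInjDim A L) (i : ℤ) : Module.Finite A (K ⟶ L⟦i⟧) := by
  obtain ⟨a, b, hab⟩ := hLi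
  have hIA : IA a b L := (IA_iff a b L).mpr hab
  have hLGE : L.IsGE a := hIA.isGE
  have hLLE : L.IsLE b := hIA.isLE
  have hLb : ∃ a b : ℤ, ∀ i : ℤ, (i < a ∨ b < i) →
      Subsingleton ((homologyFunctor (ModuleCat.{u} A) i).obj L) := by
    refine ⟨a, b, fun j hj => ?_⟩
    rcases hj with hj | hj
    · exact ModuleCat.subsingleton_of_isZero (DerivedCategory.isZero_of_isGE L a j hj)
    · exact ModuleCat.subsingleton_of_isZero (DerivedCategory.isZero_of_isLE L b j hj)
  -- the target
  have hY : IA (a - i) (b - i) (L⟦i⟧) := hIA.shift i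
  have hYGE : (L⟦i⟧).IsGE (a - i) := hY.isGE
  -- truncation below
  let n := a - i
  let m := b - i
  let K₁ : Dual.D A := (TStructure.t.truncGE n).obj K
  let π : K ⟶ K₁ := (TStructure.t.truncGEπ n).app K
  have hT1 := TStructure.t.triangleLTGE_distinguished n K
  have hsurj : ∀ g : K ⟶ L⟦i⟧, ∃ g' : K₁ ⟶ L⟦i⟧, π ≫ g' = g := by
    intro g
    have hle : TStructure.t.IsLE ((TStructure.t.truncLT n).obj K) (n - 1) :=
      TStructure.t.isLE_truncLT_obj K n (n - 1)
    have h0 : (TStructure.t.truncLTι n).app K ≫ g = 0 :=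
      TStructure.t.zero _ (n - 1) n (by omega)
    obtain ⟨g', hg'⟩ := Triangle.yoneda_exact₂ _ hT1 g h0
    exact ⟨g', hg'.symm⟩
  -- truncation above
  let K₂ : Dual.D A := (TStructure.t.truncLT (m + 1)).obj K₁
  let ι₂ : K₂ ⟶ K₁ := (TStructure.t.truncLTι (m + 1)).app K₁
  have hT2 := TStructure.t.triangleLTGE_distinguished (m + 1) K₁
  have hinj : ∀ g : K₁ ⟶ L⟦i⟧, ι₂ ≫ g = 0 → g = 0 := by
    intro g hg
    obtain ⟨g', hg'⟩ := Triangle.yoneda_exact₂ _ hT2 g hg
    have hge : DerivedCategory.IsGE ((TStructure.t.truncGE (m + 1)).obj K₁) (b - i + 1) :=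
      (inferInstance : TStructure.t.IsGE ((TStructure.t.truncGE (m + 1)).obj K₁) (m + 1))
    have h0 : g' = 0 := hom_eq_zero_of_injAmp (a - i) (b - i) (L⟦i⟧) hY _ g'
    rw [hg', h0, comp_zero]
    rfl
  -- `K₂` is bounded with finite cohomology
  have hK₁GE : TStructure.t.IsGE K₁ n := inferInstance
  have hK₂GE : TStructure.t.IsGE K₂ n := inferInstance
  have hK₂LE : TStructure.t.IsLE K₂ m := TStructure.t.isLE_truncLT_obj K₁ (m + 1) m
  have hK₂GE' : K₂.IsGE n := hK₂GE
  have hK₂LE' : K₂.IsLE m := hK₂LE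
  have hK₁GE' : K₁.IsGE n := hK₁GE
  have hK₂b : ∃ a b : ℤ, ∀ i : ℤ, (i < a ∨ b < i) →
      Subsingleton ((homologyFunctor (ModuleCat.{u} A) i).obj K₂) := by
    refine ⟨n, m, fun j hj => ?_⟩
    rcases hj with hj | hj
    · exact ModuleCat.subsingleton_of_isZero (DerivedCategory.isZero_of_isGE K₂ n j hj)
    · exact ModuleCat.subsingleton_of_isZero (DerivedCategory.isZero_of_isLE K₂ m j hj)
  have hK₁fin : ∀ j : ℤ, Module.Finite A ((homologyFunctor (ModuleCat.{u} A) j).obj K₁) := by
    intro j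
    by_cases hj : n ≤ j
    · have := isIso_homology_map_truncGEπ' K n j hj
      have := hK j
      exact Module.Finite.equiv
        (asIso ((homologyFunctor (ModuleCat.{u} A) j).map π)).toLinearEquiv
    · have : Subsingleton ((homologyFunctor (ModuleCat.{u} A) j).obj K₁) :=
        ModuleCat.subsingleton_of_isZero (DerivedCategory.isZero_of_isGE K₁ n j (by omega))
      infer_instance
  have hK₂fin : ∀ j : ℤ, Module.Finite A ((homologyFunctor (ModuleCat.{u} A) j).obj K₂) := by
    intro j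
    by_cases hj : j < m + 1
    · have := isIso_homology_map_truncLTι' K₁ (m + 1) j hj
      have := hK₁fin j
      exact Module.Finite.equiv
        (asIso ((homologyFunctor (ModuleCat.{u} A) j).map ι₂)).toLinearEquiv.symm
    · have : Subsingleton ((homologyFunctor (ModuleCat.{u} A) j).obj K₂) :=
        ModuleCat.subsingleton_of_isZero (DerivedCategory.isZero_of_isLE K₂ m j (by omega))
      infer_instance
  have h2 : NH K₂ (L⟦i⟧) := NHs_of_bounded K₂ L hK₂b hLb hK₂fin hL i
  have h1 : NH K₁ (L⟦i⟧) := NH.of_injective_left ι₂ hinj h2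
  have h0 : NH K (L⟦i⟧) := NH.of_surjective_left π hsurj h1
  have : IsNoetherian A (K ⟶ L⟦i⟧) := h0
  infer_instance

end Main

end Groth.Agent.Lib.Helper35.KL
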