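import Groth.Agent.Lib.Helper35.FTD
import Groth.Agent.Lib.Helper6.PCMor3

/-! Perfect ring maps as a local ring hom property (helper35). -/

set_option autoImplicit false
set_option linter.unusedSectionVars false
universe u
open CategoryTheory CategoryTheory.Limits TensorProduct

namespace Groth.Agent.Lib.Helper35.FTD

open Groth.Agent.Lib.Helper6.PCHom Groth.Agent.Lib.Helper6.PCMor

/-- the ring hom property: finite tor dimension. -/
def ftdQ {R S : Type u} [CommRing R] [CommRing S] (f : R →+* S) : Prop :=
  @DRing.HasFiniteTorDim R _ S _ f.toAlgebra.toModule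

lemma ftdQ_algebraMap {A B : Type u} [CommRing A] [CommRing B] [Algebra A B] :
    ftdQ (algebraMap A B) ↔ DRing.HasFiniteTorDim A B := by
  have : (algebraMap A B).toAlgebra = ‹Algebra A B› := Algebra.algebra_ext _ _ (fun _ => rfl)
  unfold ftdQ
  rw [this]

lemma ftdQ_stableUnderComposition : RingHom.StableUnderComposition @ftdQ := by
  intro R S T _ _ _ f g hf hg
  let _ : Algebra R S := f.toAlgebra
  let _ : Algebra S T := g.toAlgebra
  let _ : Algebra R T := (g.comp f).toAlgebra
  have : IsScalarTower R S T := IsScalarTower.of_algebraMap_eq (fun _ => rfl)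
  exact comp (A := R) (B := S) T hf hg

lemma ftdQ_of_flat {R S : Type u} [CommRing R] [CommRing S] (f : R →+* S) (hf : f.Flat) :
    ftdQ f := by
  let _ : Algebra R S := f.toAlgebra
  have : Module.Flat R S := hf
  exact of_flat (A := R) S

lemma ftdQ_holdsForLocalizationAway : RingHom.HoldsForLocalizationAway @ftdQ := by
  intro R S _ _ _ r _
  have : Module.Flat R S := IsLocalization.flat S (Submonoid.powers r)
  exact ftdQ_algebraMap.2 (of_flat S)

lemma ftdQ_localizationAwayPreserves : RingHom.LocalizationAwayPreserves @ftdQ := by
  intro R S _ _ f r R' S' _ _ _ _ _ _ hf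
  let _ : Algebra R S := f.toAlgebra
  let g : R' →+* S' := IsLocalization.Away.map R' S' f r
  let _ : Algebra R' S' := g.toAlgebra
  let _ : Algebra R S' := ((algebraMap S S').comp f).toAlgebra
  have t1 : IsScalarTower R S S' := IsScalarTower.of_algebraMap_eq (fun _ => rfl)
  have t2 : IsScalarTower R R' S' := IsScalarTower.of_algebraMap_eq (fun x => by
    show (algebraMap S S') (f x) = g (algebraMap R R' x)
    exact (IsLocalization.map_eq _ x).symm)
  have hloc : IsLocalization (Algebra.algebraMapSubmonoid S (Submonoid.powers r)) S' := by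
    have : Algebra.algebraMapSubmonoid S (Submonoid.powers r) = Submonoid.powers (f r) := by
      simp [Algebra.algebraMapSubmonoid, Submonoid.map_powers]
      rfl
    rw [this]
    infer_instance
  have hpo : Algebra.IsPushout R S R' S' :=
    Algebra.isPushout_of_isLocalization (Submonoid.powers r) R' S S'
  have hflat : Module.Flat R R' := IsLocalization.flat R' (Submonoid.powers r)
  exact baseChange (R := R) (S := S) (R' := R') (S' := S') hf

lemma ftdQ_ofLocalizationFiniteSpanTarget : RingHom.OfLocalizationFiniteSpanTarget @ftdQ := by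
  intro R S _ _ f s hs H
  let _ : Algebra R S := f.toAlgebra
  let e := s.equivFin
  let g : Fin s.card → S := fun i => ((e.symm i : s) : S)
  have hg : Set.range g = (s : Set S) := by
    ext x
    constructor
    · rintro ⟨i, rfl⟩
      exact (e.symm i).2
    · intro hx
      exact ⟨e ⟨x, hx⟩, by simp [g]⟩
  refine of_span_target (A := R) (B := S) g (by rw [hg]; exact hs) (fun i => ?_)
  have hi := H (e.symm i)
  have heq : ((algebraMap S (Localization.Away ((e.symm i : s) : S))).comp f).toAlgebra =
      (inferInstance : Algebra R (Localization.Away (g i))) :=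
    Algebra.algebra_ext _ _ (fun x => by
      rw [IsScalarTower.algebraMap_apply R S (Localization.Away (g i))]
      rfl)
  unfold ftdQ at hi
  rw [heq] at hi
  exact hi

lemma ftdQ_ofLocalizationSpanTarget : RingHom.OfLocalizationSpanTarget @ftdQ :=
  (RingHom.ofLocalizationSpanTarget_iff_finite _).2 ftdQ_ofLocalizationFiniteSpanTarget

lemma ftdQ_stableUnderCompositionWithLocalizationAway :
    RingHom.StableUnderCompositionWithLocalizationAway @ftdQ :=
  ftdQ_stableUnderComposition.stableUnderCompositionWithLocalizationAway
    ftdQ_holdsForLocalizationAway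

theorem ftdQ_isLocal : RingHom.PropertyIsLocal @ftdQ :=
  ⟨ftdQ_localizationAwayPreserves, ftdQ_ofLocalizationSpanTarget,
    ftdQ_ofLocalizationSpanTarget.ofLocalizationSpan
      ftdQ_stableUnderCompositionWithLocalizationAway.left,
    ftdQ_stableUnderCompositionWithLocalizationAway.right⟩

/-- the ring hom property: perfect ring map. -/
def perfQ {R S : Type u} [CommRing R] [CommRing S] (f : R →+* S) : Prop :=
  pcQ f ∧ ftdQ f

lemma perfQ_iff {R S : Type u} [CommRing R] [CommRing S] (f : R →+* S) :
    perfQ f ↔ @MoreMor.IsPerfectHom R S _ _ f.toAlgebra := Iff.rfl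

theorem perfQ_isLocal : RingHom.PropertyIsLocal @perfQ :=
  pcQ_isLocal.and ftdQ_isLocal

lemma perfQ_stableUnderComposition : RingHom.StableUnderComposition @perfQ :=
  pcQ_stableUnderComposition.and ftdQ_stableUnderComposition

lemma perfQ_holdsForLocalizationAway : RingHom.HoldsForLocalizationAway @perfQ := by
  intro R S _ _ _ r _
  exact ⟨pcQ_holdsForLocalizationAway S r, ftdQ_holdsForLocalizationAway S r⟩

lemma perfQ_stableUnderCompositionWithLocalizationAway :
    RingHom.StableUnderCompositionWithLocalizationAway @perfQ :=
  perfQ_stableUnderComposition.stableUnderCompositionWithLocalizationAway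
    perfQ_holdsForLocalizationAway

end Groth.Agent.Lib.Helper35.FTD
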