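import Groth.Agent.Lib.Helper35.FTD2

/-! Perfect morphisms of schemes via `HasRingHomProperty` (helper35, after helper6's `PCMor`). -/

set_option autoImplicit false
universe u

open CategoryTheory Limits AlgebraicGeometry MorphismProperty

namespace Groth.Agent.Lib.Helper35.FTD

open Groth.Agent.Lib.Helper6.PCHom Groth.Agent.Lib.Helper6.PCMor

/-- the morphism property "perfect". -/
def perfMor : MorphismProperty Scheme.{u} := affineLocally @perfQ

instance : HasRingHomProperty perfMor.{u} @perfQ where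
  isLocal_ringHomProperty := perfQ_isLocal
  eq_affineLocally' := rfl

theorem isPerfectMor_iff {X Y : Scheme.{u}} (f : X ⟶ Y) :
    MoreMor.IsPerfectMor f ↔ perfMor f := by
  rw [perfMor, affineLocally_iff_forall_isAffineOpen]
  constructor
  · intro h U hU V hV e
    exact h V U hV hU e
  · intro h U V hU hV e
    exact h hV hU e

section schemes

variable {X Y Z : Scheme.{u}}

/-- S7171. -/
theorem perfMor_iff_exists (f : X ⟶ Y) :
    MoreMor.IsPerfectMor f ↔ ∀ x : X, ∃ (U : X.Opens) (V : Y.Opens) (hUV : U ≤ f ⁻¹ᵁ V),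
      IsAffineOpen U ∧ IsAffineOpen V ∧ x ∈ U ∧
      (letI := (f.appLE V U hUV).hom.toAlgebra
       MoreMor.IsPerfectHom Γ(Y, V) Γ(X, U)) := by
  rw [isPerfectMor_iff,
    HasRingHomProperty.iff_exists_appLE (P := perfMor)
      perfQ_stableUnderCompositionWithLocalizationAway.left]
  constructor
  · intro h x
    obtain ⟨U, V, hx, e, hQ⟩ := h x
    exact ⟨V.1, U.1, e, V.2, U.2, hx, hQ⟩
  · intro h x
    obtain ⟨U, V, e, hU, hV, hx, hQ⟩ := h x
    exact ⟨⟨V, hV⟩, ⟨U, hU⟩, hx, e, hQ⟩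

/-- S1508. -/
theorem perfMor_comp (f : X ⟶ Y) (g : Y ⟶ Z) (hf : MoreMor.IsPerfectMor f)
    (hg : MoreMor.IsPerfectMor g) : MoreMor.IsPerfectMor (f ≫ g) := by
  rw [isPerfectMor_iff] at hf hg ⊢
  have := HasRingHomProperty.stableUnderComposition (P := perfMor) perfQ_stableUnderComposition
  exact perfMor.comp_mem f g hf hg

end schemes

/-- ring hom version of flat base change -/
lemma ftdQ_baseChange {R B R' B' : CommRingCat.{u}} {a : R ⟶ B} {b : R ⟶ R'} {c : B ⟶ B'}
    {d : R' ⟶ B'} (H : IsPushout a b c d) (hb : b.hom.Flat) (ha : ftdQ a.hom) : ftdQ d.hom := by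
  let _ : Algebra R B := a.hom.toAlgebra
  let _ : Algebra R R' := b.hom.toAlgebra
  let _ : Algebra B B' := c.hom.toAlgebra
  let _ : Algebra R' B' := d.hom.toAlgebra
  let _ : Algebra R B' := (c.hom.comp a.hom).toAlgebra
  have t1 : IsScalarTower R B B' := IsScalarTower.of_algebraMap_eq (fun _ => rfl)
  have t2 : IsScalarTower R R' B' := IsScalarTower.of_algebraMap_eq (fun r => by
    have := congr($(H.w).hom r)
    exact this)
  have hflat : Module.Flat R R' := hb
  have hpo : Algebra.IsPushout R B R' B' :=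
    CommRingCat.isPushout_iff_isPushout.1 H
  exact baseChange (R := R) (S := B) (R' := R') (S' := B') ha

lemma perfQ_baseChange {R B R' B' : CommRingCat.{u}} {a : R ⟶ B} {b : R ⟶ R'} {c : B ⟶ B'}
    {d : R' ⟶ B'} (H : IsPushout a b c d) (hb : b.hom.Flat) (ha : perfQ a.hom) : perfQ d.hom :=
  ⟨pcQ_baseChange H hb ha.1, ftdQ_baseChange H hb ha.2⟩

theorem perfMor_flat_baseChange {X S X' S' : Scheme.{u}} (f : X ⟶ S) (f' : X' ⟶ S') (g' : X' ⟶ X)
    (g : S' ⟶ S) [Flat g] (hc : IsPullback g' f' f g) (hf : perfMor f) : perfMor f' := by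
  rw [HasRingHomProperty.iff_exists_appLE (P := perfMor)
    perfQ_stableUnderCompositionWithLocalizationAway.left]
  intro x'
  -- affine neighbourhoods
  obtain ⟨V, hV, hxV, -⟩ := TopologicalSpace.Opens.isBasis_iff_nbhd.mp S.isBasis_affineOpens
    (TopologicalSpace.Opens.mem_top (g (f' x')))
  obtain ⟨V', hV', hxV', hV'V⟩ := TopologicalSpace.Opens.isBasis_iff_nbhd.mp
    S'.isBasis_affineOpens (show f' x' ∈ g ⁻¹ᵁ V from hxV)
  have hxU0 : g' x' ∈ f ⁻¹ᵁ V := by
    show f (g' x') ∈ V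
    have : f (g' x') = g (f' x') := by
      rw [← Scheme.Hom.comp_apply, ← Scheme.Hom.comp_apply, hc.w]
    rw [this]
    exact hxV
  obtain ⟨U, hU, hxU, hUV⟩ := TopologicalSpace.Opens.isBasis_iff_nbhd.mp
    X.isBasis_affineOpens hxU0
  have hiso := isIso_pushoutSection_of_isAffineOpen hc hV'V hUV
    (UY := g' ⁻¹ᵁ U ⊓ f' ⁻¹ᵁ V') rfl hV hV' hU
  have hpo := (isIso_pushoutSection_iff hc hV'V hUV (UY := g' ⁻¹ᵁ U ⊓ f' ⁻¹ᵁ V') rfl).1 hiso
  have hU' : IsAffineOpen (g' ⁻¹ᵁ U ⊓ f' ⁻¹ᵁ V') := by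
    have : IsAffine (V : Scheme) := hV
    have : IsAffine (V' : Scheme) := hV'
    have : IsAffine (U : Scheme) := hU
    exact .of_isIso (Scheme.Hom.isPullback_resLE hc hV'V hUV
      (UY := g' ⁻¹ᵁ U ⊓ f' ⁻¹ᵁ V') rfl).isoPullback.hom
  refine ⟨⟨V', hV'⟩, ⟨g' ⁻¹ᵁ U ⊓ f' ⁻¹ᵁ V', hU'⟩, ⟨hxU, hxV'⟩, inf_le_right, ?_⟩
  have hflat : (g.appLE V V' hV'V).hom.Flat :=
    HasRingHomProperty.appLE (P := @Flat) g inferInstance ⟨V, hV⟩ ⟨V', hV'⟩ hV'V
  have hpc : perfQ (f.appLE V U hUV).hom :=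
    HasRingHomProperty.appLE (P := perfMor) f hf ⟨V, hV⟩ ⟨U, hU⟩ hUV
  exact perfQ_baseChange hpo hflat hpc

/-- S1513. -/
theorem perfMor_flat_baseChange' {X S X' S' : Scheme.{u}} (f : X ⟶ S) (f' : X' ⟶ S')
    (g' : X' ⟶ X) (g : S' ⟶ S) [Flat g] (hc : IsPullback g' f' f g)
    (hf : MoreMor.IsPerfectMor f) : MoreMor.IsPerfectMor f' := by
  rw [isPerfectMor_iff] at hf ⊢
  exact perfMor_flat_baseChange f f' g' g hc hf

lemma ftdQ_codescendsAlong : RingHom.CodescendsAlong @ftdQ RingHom.FaithfullyFlat := by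
  intro R S R' S' _ _ _ _ _ _ _ _ _ _ _ _ hff h
  rw [ftdQ_algebraMap] at h ⊢
  have : Module.FaithfullyFlat R R' := RingHom.faithfullyFlat_algebraMap_iff.1 hff
  exact descent (R := R) (S := S) (R' := R') (S' := S') h

lemma perfQ_codescendsAlong : RingHom.CodescendsAlong @perfQ RingHom.FaithfullyFlat :=
  pcQ_codescendsAlong.and ftdQ_codescendsAlong

set_option backward.isDefEq.respectTransparency.types false in
instance perfMor_descendsAlong :
    perfMor.{u}.DescendsAlong (@Surjective ⊓ @Flat ⊓ @QuasiCompact) := by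
  apply IsZariskiLocalAtTarget.descendsAlong
  intro R X Y f g hf h
  wlog hX : ∃ T, X = Spec T generalizing X
  · have _ : CompactSpace X := by simpa [← quasiCompact_iff_compactSpace f] using hf.2
    obtain ⟨Y', p, hsurj, hP', hY'⟩ := X.exists_hom_isAffine_of_isZariskiLocalAtSource @IsLocalIso
    have hflat : Flat (Y'.isoSpec.inv ≫ p) := by
      have : Flat p := IsLocalIso.le_of_isZariskiLocalAtSource @Flat _ _ _ hP'
      infer_instance
    refine this (f := (Y'.isoSpec.inv ≫ p) ≫ f) ?_ ?_ ⟨_, rfl⟩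
    · have h1 : Surjective f := hf.1.1
      have h2 : Flat f := hf.1.2
      have h3 : QuasiCompact f := hf.2
      exact ⟨⟨inferInstance, inferInstance⟩, inferInstance⟩
    · rw [← pullbackRightPullbackFstIso_inv_fst f g _, perfMor.cancel_left_of_respectsIso]
      exact perfMor_flat_baseChange (pullback.fst f g)
        (pullback.fst (Y'.isoSpec.inv ≫ p) (pullback.fst f g))
        (pullback.snd (Y'.isoSpec.inv ≫ p) (pullback.fst f g)) (Y'.isoSpec.inv ≫ p)
        (IsPullback.of_hasPullback _ _).flip h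
  obtain ⟨T, rfl⟩ := hX
  obtain ⟨φ, rfl⟩ := Spec.map_surjective f
  wlog hY : ∃ S, Y = Spec S generalizing Y
  · rw [IsZariskiLocalAtSource.iff_of_openCover (P := perfMor) Y.affineCover]
    intro i
    have heq : pullback.fst (Spec.map φ) (Y.affineCover.f i ≫ g) =
        pullback.map _ _ _ _ (𝟙 _) (Y.affineCover.f i) (𝟙 _) (by simp) (by simp) ≫
          pullback.fst (Spec.map φ) g := (pullback.lift_fst _ _ _).symm
    exact this _ (heq ▸ AlgebraicGeometry.IsZariskiLocalAtSource.comp h _) ⟨_, rfl⟩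
  obtain ⟨S, rfl⟩ := hY
  refine of_pullback_fst_Spec_of_codescendsAlong (P := perfMor)
    (P' := @Surjective ⊓ @Flat ⊓ @QuasiCompact) perfQ_codescendsAlong ?_ ?_ hf h
  · intro R S f hf
    rw [RingHom.FaithfullyFlat.iff_flat_and_comap_surjective]
    have h1 : Surjective (Spec.map f) := hf.1.1
    have h2 : Flat (Spec.map f) := hf.1.2
    refine ⟨?_, (Spec.map f).surjective⟩
    rwa [HasRingHomProperty.Spec_iff (P := @Flat)] at h2
  · intro R S f
    exact HasRingHomProperty.Spec_iff (P := perfMor)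

/-- S1511. -/
theorem perfMor_descent {X S X' S' : Scheme.{u}} (f : X ⟶ S) (f' : X' ⟶ S') (g' : X' ⟶ X)
    (g : S' ⟶ S) [Flat g] [Surjective g] [QuasiCompact g] (hc : IsPullback g' f' f g)
    (hf' : MoreMor.IsPerfectMor f') : MoreMor.IsPerfectMor f := by
  rw [isPerfectMor_iff] at hf' ⊢
  exact MorphismProperty.of_isPullback_of_descendsAlong (P := perfMor)
    (Q := @Surjective ⊓ @Flat ⊓ @QuasiCompact) hc.flip
    ⟨⟨inferInstance, inferInstance⟩, inferInstance⟩ hf'

end Groth.Agent.Lib.Helper35.FTD
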