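import Groth.Agent.Lib.Helper93.HeightQuot2
import Groth.Prelude.Def_DualLC
import Groth.Prelude.Def_W4bk5brsh7111920

/-! The cutoff invariant `s_{A,I}(M)` is the `I`-minimum `I`-adjusted depth (helper35). -/

set_option autoImplicit false
universe u

namespace Groth.Agent.Lib.Helper35.FaltFin

open Groth.Agent.Lib.Helper93.HeightQuot

variable (A : Type u) [CommRing A]

theorem cutoff_eq_minAdjDepth (I : Ideal A) (M : Type u) [AddCommGroup M] [Module A M] :
    Dual2.cutoff A I M = LocCoh.minAdjDepth I I M := by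
  apply le_antisymm
  · refine le_iInf₂ fun p hIp => ?_
    unfold LocCoh.adjDepth
    rw [Ideal.height_eq_inf_minimalPrimes, ENat.add_iInf]
    refine le_iInf fun P => ?_
    rw [ENat.add_iInf]
    refine le_iInf fun hP => ?_
    haveI : P.IsPrime := hP.1.1
    have hq : (P.comap (Ideal.Quotient.mk p.asIdeal)).IsPrime := Ideal.comap_isPrime _ P
    let q : PrimeSpectrum A := ⟨P.comap (Ideal.Quotient.mk p.asIdeal), hq⟩
    have hpq : p ≤ q := by
      change p.asIdeal ≤ P.comap (Ideal.Quotient.mk p.asIdeal)
      intro x hx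
      rw [Ideal.mem_comap, Ideal.Quotient.eq_zero_iff_mem.mpr hx]
      exact P.zero_mem
    have hIq : I ≤ q.asIdeal := by
      change I ≤ P.comap (Ideal.Quotient.mk p.asIdeal)
      rw [← Ideal.map_le_iff_le_comap]
      exact (Ideal.map_mono le_sup_left).trans hP.1.2
    have hPq : q.asIdeal.map (Ideal.Quotient.mk p.asIdeal) = P :=
      Ideal.map_comap_of_surjective _ Ideal.Quotient.mk_surjective P
    have h1 := height_map_eq_height_Ici p q hpq
    rw [hPq] at h1
    rw [h1]
    unfold Dual2.cutoff
    exact (iInf_le _ p).trans ((iInf_le _ q).trans ((iInf_le _ hpq).trans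
      ((iInf_le _ hIp).trans (iInf_le _ hIq))))
  · refine le_iInf fun p => le_iInf fun q => le_iInf fun hpq => le_iInf fun hIp =>
      le_iInf fun hIq => ?_
    refine (iInf₂_le p hIp).trans ?_
    unfold LocCoh.adjDepth
    rw [← height_map_eq_height_Ici p q hpq]
    exact add_le_add le_rfl (Ideal.height_mono (Ideal.map_mono (sup_le hIq hpq)))

end Groth.Agent.Lib.Helper35.FaltFin
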