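import Groth.Agent.Lib.Helper35.FaltFinA
import Groth.Agent.Lib.Helper60.LocalCohLocGlobal
import Groth.Agent.Lib.Helper60.LocalCohFinite
import Groth.Agent.Lib.Helper60.FinDimRel
import Groth.Agent.S11653
import Groth.Agent.S11660

/-! Finiteness of local cohomology below the cutoff, for quotients of regular rings (helper35). -/

set_option autoImplicit false
universe u

namespace Groth.Agent.Lib.Helper35.FaltFin

open Groth.Agent.Lib.Helper60

section

variable (R : Type u) [CommRing R] [IsNoetherianRing R]

/-- below the finiteness dimension `I` lies in the radical of the annihilator. -/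
theorem le_radical_annihilator_of_lt_finDimRel (a b : Ideal R) (M : Type u) [AddCommGroup M]
    [Module R M] (j : ℕ) (hj : (j : ℕ∞) < LocCoh.finDimRel a b M) :
    b ≤ (Module.annihilator R (LocCoh.H a j M)).radical := by
  by_contra hcon
  have h1 : LocCoh.finDimRel a b M ≤ (j : ℕ∞) := iInf₂_le j hcon
  exact absurd (lt_of_lt_of_le hj h1) (lt_irrefl _)

/-- if `I ≤ √Ann H^j_I(M)` for all `j ≤ i` then these are finite. -/
theorem lc_finite_of_le_radical_annihilator (I : Ideal R) (M : Type u) [AddCommGroup M]
    [Module R M] [Module.Finite R M] (i : ℕ)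
    (h : ∀ j ≤ i, I ≤ (Module.annihilator R (LocCoh.H I j M)).radical) :
    ∀ j ≤ i, Module.Finite R (LocCoh.H I j M) := by
  have hfg : I.FG := (isNoetherianRing_iff_ideal_fg R).mp inferInstance I
  have h1 : ∀ j : ℕ, j ≤ i → ∃ k : ℕ, ∀ r ∈ I ^ k, ∀ y : LocCoh.H I j M, r • y = 0 :=
    fun j hj => (le_radical_annihilator_iff I hfg _).mp (h j hj)
  choose! k hk using h1
  have hK : ∀ j ≤ i, ∀ a ∈ I ^ ((Finset.range (i + 1)).sup k),
      ∀ x : (localCohomology I j).obj (ModuleCat.of R M), a • x = 0 := fun j hj a ha x =>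
    hk j hj a (Ideal.pow_le_pow_right
      (Finset.le_sup (f := k) (Finset.mem_range.mpr (show j < i + 1 by omega))) ha) x
  exact lc_finite_of_pow_smul_eq_zero I i M _ hK

/-- a finite local cohomology module is killed by a power of the ideal. -/
theorem le_radical_annihilator_of_finite (I : Ideal R) (M : Type u) [AddCommGroup M]
    [Module R M] (j : ℕ) [Module.Finite R (LocCoh.H I j M)] :
    I ≤ (Module.annihilator R (LocCoh.H I j M)).radical := by
  have hfg : I.FG := (isNoetherianRing_iff_ideal_fg R).mp inferInstance I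
  rw [le_radical_annihilator_iff I hfg]
  exact exists_pow_smul_eq_zero_of_finite I _ (lc_isPowerTorsion I j (ModuleCat.of R M))

/-- **Finiteness below the cutoff** for a homomorphic image of a regular ring. -/
theorem lc_finite_of_lt_cutoff_of_regular (S : Type u) [CommRing S] [IsRegularRing S]
    (π : S →+* R) (hπ : Function.Surjective π) (I : Ideal R) (M : Type u) [AddCommGroup M]
    [Module R M] [Module.Finite R M] (i : ℕ) (hi : (i : ℕ∞) < Dual2.cutoff R I M) :
    ∀ j ≤ i, Module.Finite R (LocCoh.H I j M) := by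
  apply lc_finite_of_le_radical_annihilator
  intro j hj
  apply le_radical_annihilator_of_lt_finDimRel
  have h1 := Groth.Agent.S11660.result S R π hπ I I M
  rw [← cutoff_eq_minAdjDepth] at h1
  have h2 : (j : ℕ∞) ≤ (i : ℕ∞) := by exact_mod_cast hj
  exact lt_of_le_of_lt h2 (lt_of_lt_of_le hi h1)

/-- **Non-finiteness at the cutoff**, given finiteness below it. -/
theorem lc_not_finite_of_cutoff_eq (I : Ideal R) (M : Type u) [AddCommGroup M]
    [Module R M] [Module.Finite R M] (s : ℕ) (hs : Dual2.cutoff R I M = s)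
    (hfin : ∀ i : ℕ, i < s → Module.Finite R (LocCoh.H I i M)) :
    ¬ Module.Finite R (LocCoh.H I s M) := by
  intro hfs
  have h1 := Groth.Agent.S11653.result R I I M
  rw [← cutoff_eq_minAdjDepth, hs] at h1
  have h2 : ((s + 1 : ℕ) : ℕ∞) ≤ LocCoh.finDimRel I I M := by
    refine le_iInf₂ fun i hi => ?_
    by_contra hlt
    have hlt' : i < s + 1 := by
      have : (i : ℕ∞) < ((s + 1 : ℕ) : ℕ∞) := not_le.mp hlt
      exact_mod_cast this
    have hfi : Module.Finite R (LocCoh.H I i M) := by
      rcases Nat.lt_or_ge i s with h | h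
      · exact hfin i h
      · obtain rfl : i = s := by omega
        exact hfs
    exact hi (le_radical_annihilator_of_finite R I M i)
  have h3 : ((s + 1 : ℕ) : ℕ∞) ≤ (s : ℕ∞) := h2.trans h1
  have h4 : s + 1 ≤ s := by exact_mod_cast h3
  omega

end

end Groth.Agent.Lib.Helper35.FaltFin
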