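import Groth.Agent.Lib.Helper35.FaltFinB
import Groth.Agent.S1725
import Groth.Agent.Lib.Helper60.FlatBC2
import Groth.Agent.Lib.Helper29.CMLocusOpen
import Groth.Agent.Lib.Helper29.DepthSelf

/-! Finiteness of local cohomology below the cutoff: the local case, by completion (helper35). -/

set_option autoImplicit false
universe u

namespace Groth.Agent.Lib.Helper35.FaltFin

open Groth.Agent.Lib.Helper60 Groth.Agent.Lib.Helper29 IsLocalRing TensorProduct

/-- A Cohen–Macaulay ring satisfies `(S_n)` for every `n`. -/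
theorem hasSk_of_isCohenMacaulayRing (n : ℕ) (F : Type u) [CommRing F]
    (hF : LocCoh.IsCohenMacaulayRing F) : LocCoh.HasSk n F F := by
  intro p hp
  rw [supportDim_localizedModule_self, depth_localizedModule_self]
  have h := (hF.isCohenMacaulayLocalRing_localization p).supportDim_eq_depth
  rw [Module.supportDim_self_eq_ringKrullDim, IsLocalization.AtPrime.ringKrullDim_eq_height p] at h
  rw [← h]
  exact min_le_right _ _

/-- transport of finiteness of local cohomology along a linear equivalence. -/
theorem lc_finite_of_linearEquiv {R : Type u} [CommRing R] (I : Ideal R) (j : ℕ) {N N' : Type u}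
    [AddCommGroup N] [Module R N] [AddCommGroup N'] [Module R N'] (e : N ≃ₗ[R] N')
    (h : Module.Finite R (LocCoh.H I j N)) : Module.Finite R (LocCoh.H I j N') :=
  Module.Finite.equiv ((localCohomology I j).mapIso e.toModuleIso).toLinearEquiv

section

variable (A : Type u) [CommRing A] [IsLocalRing A] [IsNoetherianRing A]

/-- **Finiteness below the cutoff**: the local case. -/
theorem lc_finite_of_lt_cutoff_local (hA : CAlg.IsUniversallyCatenary A)
    (hF : EGA4.HasCMFormalFibres A) (I : Ideal A) (M : Type u) [AddCommGroup M] [Module A M]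
    [Module.Finite A M] (i : ℕ) (hi : (i : ℕ∞) < Dual2.cutoff A I M) :
    ∀ j ≤ i, Module.Finite A (LocCoh.H I j M) := by
  haveI := isLocalRing_cpl A
  haveI := isNoetherianRing_cpl A
  haveI hff : Module.FaithfullyFlat A (EGA4.Cpl A) := faithfullyFlat_cpl A
  haveI : Module.Flat A (EGA4.Cpl A) := hff.toFlat
  haveI := isAdicComplete_cpl A
  have hS : EGA4.HasSnFormalFibres i A := fun p _ => hasSk_of_isCohenMacaulayRing i _ (hF p)
  have h1 := (Groth.Agent.S1725.result A hA I M i).2 hS
  have h2 : (i : ℕ∞) < Dual2.cutoff (EGA4.Cpl A) (I.map (algebraMap A (EGA4.Cpl A)))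
      (AdicCompletion (maximalIdeal A) M) := by
    refine lt_of_lt_of_le (lt_min ?_ hi) h1
    exact_mod_cast Nat.lt_succ_self i
  let e : EGA4.Cpl A ⊗[A] M ≃ₗ[EGA4.Cpl A] AdicCompletion (maximalIdeal A) M :=
    AdicCompletion.ofTensorProductEquivOfFiniteNoetherian (maximalIdeal A) M
  haveI : Module.Finite (EGA4.Cpl A) (AdicCompletion (maximalIdeal A) M) := Module.Finite.equiv e
  obtain ⟨S, hS1, hS2, π, hπ⟩ := exists_regular_surjective_of_complete (EGA4.Cpl A)
  have h3 := lc_finite_of_lt_cutoff_of_regular (EGA4.Cpl A) S π hπ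
    (I.map (algebraMap A (EGA4.Cpl A))) (AdicCompletion (maximalIdeal A) M) i h2
  intro j hj
  have h4 : Module.Finite (EGA4.Cpl A)
      (LocCoh.H (I.map (algebraMap A (EGA4.Cpl A))) j (EGA4.Cpl A ⊗[A] M)) :=
    lc_finite_of_linearEquiv _ j e.symm (h3 j hj)
  obtain ⟨e2⟩ := nonempty_lc_flatBaseChange (R := A) (R' := EGA4.Cpl A) I j M
  haveI : Module.Finite (EGA4.Cpl A) (EGA4.Cpl A ⊗[A] LocCoh.H I j M) :=
    Module.Finite.equiv e2.symm
  exact Module.Finite.of_finite_tensorProduct_of_faithfullyFlat (EGA4.Cpl A)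

end

end Groth.Agent.Lib.Helper35.FaltFin
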