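import Groth.Agent.Lib.Helper35.FaltFinC
import Groth.Agent.Lib.Helper79.AdjDepthLoc
import Groth.Agent.Lib.Helper98.UnivCatenary

/-! Finiteness of local cohomology below the cutoff: the global case (helper35). -/

set_option autoImplicit false
universe u

namespace Groth.Agent.Lib.Helper35.FaltFin

open Groth.Agent.Lib.Helper60 Groth.Agent.Lib.Helper29 IsLocalRing TensorProduct

section

variable (A : Type u) [CommRing A] [IsNoetherianRing A]

/-- localizations of universally catenary rings are universally catenary. -/
theorem isUniversallyCatenary_localization_atPrime (hA : CAlg.IsUniversallyCatenary A)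
    (P : Ideal A) [P.IsPrime] : CAlg.IsUniversallyCatenary (Localization.AtPrime P) := by
  obtain ⟨hN, hcat⟩ := hA
  refine ⟨IsLocalization.isNoetherianRing P.primeCompl _ hN, ?_⟩
  intro S _ _ hft
  letI : Algebra A S := ((algebraMap (Localization.AtPrime P) S).comp
    (algebraMap A (Localization.AtPrime P))).toAlgebra
  haveI : IsScalarTower A (Localization.AtPrime P) S :=
    IsScalarTower.of_algebraMap_eq' rfl
  exact Groth.Agent.Lib.Helper98.isCatenary_of_finiteType_over_localization P.primeCompl
    (Localization.AtPrime P) hcat S hft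

/-- **Finiteness below the cutoff** (Faltings): universally catenary Noetherian rings whose local
rings have Cohen–Macaulay formal fibres. -/
theorem lc_finite_of_lt_cutoff (hA : CAlg.IsUniversallyCatenary A)
    (hF : ∀ q : PrimeSpectrum A, EGA4.HasCMFormalFibres (Localization.AtPrime q.asIdeal))
    (I : Ideal A) (M : Type u) [AddCommGroup M] [Module A M] [Module.Finite A M] (i : ℕ)
    (hi : (i : ℕ∞) < Dual2.cutoff A I M) : ∀ j ≤ i, Module.Finite A (LocCoh.H I j M) := by
  apply lc_finite_of_locFinite I i M
  intro j hj P hP
  haveI : IsNoetherianRing (Localization.AtPrime P) :=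
    IsLocalization.isNoetherianRing P.primeCompl _ inferInstance
  have hAP := isUniversallyCatenary_localization_atPrime A hA P
  have hcut : (i : ℕ∞) < Dual2.cutoff (Localization.AtPrime P)
      (I.map (algebraMap A (Localization.AtPrime P))) (LocalizedModule P.primeCompl M) := by
    rw [cutoff_eq_minAdjDepth] at hi ⊢
    exact lt_of_lt_of_le hi (Groth.Agent.Lib.Helper79.AdjDepthLoc.minAdjDepth_le P.primeCompl M I I)
  have h1 := lc_finite_of_lt_cutoff_local (Localization.AtPrime P) hAP (hF ⟨P, hP⟩)
    (I.map (algebraMap A (Localization.AtPrime P))) (LocalizedModule P.primeCompl M) i hcut j hj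
  let e1 : Localization.AtPrime P ⊗[A] M ≃ₗ[Localization.AtPrime P] LocalizedModule P.primeCompl M :=
    (IsLocalizedModule.isBaseChange P.primeCompl (Localization.AtPrime P)
      (LocalizedModule.mkLinearMap P.primeCompl M)).equiv
  have h2 : Module.Finite (Localization.AtPrime P)
      (LocCoh.H (I.map (algebraMap A (Localization.AtPrime P))) j (Localization.AtPrime P ⊗[A] M)) :=
    lc_finite_of_linearEquiv _ j e1.symm h1
  obtain ⟨e2⟩ := nonempty_lc_flatBaseChange (R := A) (R' := Localization.AtPrime P) I j M
  let e3 : Localization.AtPrime P ⊗[A] LocCoh.H I j M ≃ₗ[Localization.AtPrime P]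
      LocalizedModule P.primeCompl (LocCoh.H I j M) :=
    (IsLocalizedModule.isBaseChange P.primeCompl (Localization.AtPrime P)
      (LocalizedModule.mkLinearMap P.primeCompl (LocCoh.H I j M))).equiv
  exact Module.Finite.equiv (e2.symm.trans e3)

end

end Groth.Agent.Lib.Helper35.FaltFin
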