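import Groth.Agent.Lib.Helper35.TAFlat
import Groth.Agent.Lib.Helper35.TARes
import Mathlib.Algebra.Category.ModuleCat.ChangeOfRings
import Mathlib.Algebra.Category.ModuleCat.Monoidal.Basic

/-! Bounded above acyclic complexes of flat modules stay acyclic after tensoring (helper35). -/

set_option autoImplicit false
set_option linter.unusedSectionVars false
universe u
open CategoryTheory CategoryTheory.Limits MonoidalCategory TensorProduct

namespace Groth.Agent.Lib.Helper35.TA

variable {R : Type u} [CommRing R]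

/-- linear-algebra level: the tensored differentials stay exact -/
theorem exact_lTensor_d (C : CochainComplex (ModuleCat.{u} R) ℤ) (b : ℤ)
    (hb : ∀ i : ℤ, b < i → IsZero (C.X i)) (hflat : ∀ i : ℤ, Module.Flat R (C.X i))
    (hex : ∀ i : ℤ, C.ExactAt i) (N : Type u) [AddCommGroup N] [Module R N] (i : ℤ) :
    Function.Exact ((C.d i (i + 1)).hom.lTensor N) ((C.d (i + 1) (i + 1 + 1)).hom.lTensor N) := by
  -- notation
  let j := i + 1
  let k := i + 1 + 1
  let K : Submodule R (C.X k) := LinearMap.ker (C.d k (k + 1)).hom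
  have hKflat : Module.Flat R K :=
    flat_ker_d C b hb k (fun i _ => hflat i) (fun i _ => hex i) k le_rfl
  -- exactness at j and k as function exactness
  have hEj := hex j
  rw [HomologicalComplex.exactAt_iff' C i j k (by simp [j]) (by simp [j, k]),
    ShortComplex.ShortExact.moduleCat_exact_iff_function_exact] at hEj
  have hEk := hex k
  rw [HomologicalComplex.exactAt_iff' C j k (k + 1) (by simp [j, k]) (by simp),
    ShortComplex.ShortExact.moduleCat_exact_iff_function_exact] at hEk
  change Function.Exact (C.d i j).hom (C.d j k).hom at hEj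
  change Function.Exact (C.d j k).hom (C.d k (k + 1)).hom at hEk
  -- d' : C^j → K, surjective
  have hdd : ∀ x : C.X j, (C.d j k).hom x ∈ K := by
    intro x
    rw [LinearMap.mem_ker, ← ModuleCat.comp_apply, C.d_comp_d]
    rfl
  let d' : C.X j →ₗ[R] K := (C.d j k).hom.codRestrict K hdd
  have hd'surj : Function.Surjective d' := by
    rintro ⟨y, hy⟩
    obtain ⟨x, hx⟩ := (hEk y).1 hy
    exact ⟨x, Subtype.ext hx⟩
  have hfact : (C.d j k).hom = K.subtype ∘ₗ d' := by
    ext x; rfl
  have hE' : Function.Exact (C.d i j).hom d' := by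
    intro y
    rw [← hEj y]
    constructor
    · intro h
      have := congrArg Subtype.val h
      exact this
    · intro h
      exact Subtype.ext h
  -- right exactness
  have h1 : Function.Exact ((C.d i j).hom.lTensor N) (d'.lTensor N) :=
    lTensor_exact N hE' hd'surj
  -- the inclusion K → C^k has flat cokernel: K' = ker d^{k+1}
  let K' : Submodule R (C.X (k + 1)) := LinearMap.ker (C.d (k + 1) (k + 1 + 1)).hom
  have hK'flat : Module.Flat R K' :=
    flat_ker_d C b hb (k + 1) (fun i _ => hflat i) (fun i _ => hex i) (k + 1) le_rfl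
  have hEk1 := hex (k + 1)
  rw [HomologicalComplex.exactAt_iff' C k (k + 1) (k + 1 + 1) (by simp) (by simp),
    ShortComplex.ShortExact.moduleCat_exact_iff_function_exact] at hEk1
  change Function.Exact (C.d k (k + 1)).hom (C.d (k + 1) (k + 1 + 1)).hom at hEk1
  have hdd' : ∀ x : C.X k, (C.d k (k + 1)).hom x ∈ K' := by
    intro x
    rw [LinearMap.mem_ker, ← ModuleCat.comp_apply, C.d_comp_d]
    rfl
  let d'' : C.X k →ₗ[R] K' := (C.d k (k + 1)).hom.codRestrict K' hdd'
  have hd''surj : Function.Surjective d'' := by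
    rintro ⟨y, hy⟩
    obtain ⟨x, hx⟩ := (hEk1 y).1 hy
    exact ⟨x, Subtype.ext hx⟩
  have hE'' : Function.Exact K.subtype d'' := by
    intro y
    constructor
    · intro h
      have h' : (C.d k (k + 1)).hom y = 0 := congrArg Subtype.val h
      exact ⟨⟨y, h'⟩, rfl⟩
    · rintro ⟨⟨x, hx⟩, rfl⟩
      exact Subtype.ext hx
  have h2 : Function.Injective (K.subtype.lTensor N) :=
    LinearMap.lTensor_injective_of_exact_of_flat d'' hd''surj K.subtype K.injective_subtype hE'' N
  have h3 : (C.d j k).hom.lTensor N = (K.subtype.lTensor N) ∘ₗ (d'.lTensor N) := by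
    rw [hfact, LinearMap.lTensor_comp]
  change Function.Exact ((C.d i j).hom.lTensor N) ((C.d j k).hom.lTensor N)
  rw [h3]
  exact h1.comp_injective _ h2 (map_zero _)

theorem exact_rTensor_d (C : CochainComplex (ModuleCat.{u} R) ℤ) (b : ℤ)
    (hb : ∀ i : ℤ, b < i → IsZero (C.X i)) (hflat : ∀ i : ℤ, Module.Flat R (C.X i))
    (hex : ∀ i : ℤ, C.ExactAt i) (N : Type u) [AddCommGroup N] [Module R N] (i : ℤ) :
    Function.Exact ((C.d i (i + 1)).hom.rTensor N) ((C.d (i + 1) (i + 1 + 1)).hom.rTensor N) := by
  rw [LinearMap.rTensor_exact_iff_lTensor_exact]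
  exact exact_lTensor_d C b hb hflat hex N i

/-- `- ⊗ M` preserves acyclicity of bounded above flat complexes. -/
theorem exactAt_tensorRight (C : CochainComplex (ModuleCat.{u} R) ℤ) (b : ℤ)
    (hb : ∀ i : ℤ, b < i → IsZero (C.X i)) (hflat : ∀ i : ℤ, Module.Flat R (C.X i))
    (hex : ∀ i : ℤ, C.ExactAt i) (M : ModuleCat.{u} R) (j : ℤ) :
    (((tensorRight M).mapHomologicalComplex (ComplexShape.up ℤ)).obj C).ExactAt j := by
  obtain ⟨i, rfl⟩ : ∃ i, j = i + 1 := ⟨j - 1, by omega⟩
  rw [HomologicalComplex.exactAt_iff' _ i (i + 1) (i + 1 + 1) (by simp) (by simp),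
    ShortComplex.ShortExact.moduleCat_exact_iff_function_exact]
  exact exact_rTensor_d C b hb hflat hex M i

set_option backward.isDefEq.respectTransparency false in
/-- extension of scalars preserves acyclicity of bounded above flat complexes. -/
theorem exactAt_extendScalars {S : Type u} [CommRing S] (φ : R →+* S)
    (C : CochainComplex (ModuleCat.{u} R) ℤ) (b : ℤ)
    (hb : ∀ i : ℤ, b < i → IsZero (C.X i)) (hflat : ∀ i : ℤ, Module.Flat R (C.X i))
    (hex : ∀ i : ℤ, C.ExactAt i) (j : ℤ) :
    (((ModuleCat.extendScalars.{u, u, u} φ).mapHomologicalComplex (ComplexShape.up ℤ)).obj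
      C).ExactAt j := by
  obtain ⟨i, rfl⟩ : ∃ i, j = i + 1 := ⟨j - 1, by omega⟩
  rw [HomologicalComplex.exactAt_iff' _ i (i + 1) (i + 1 + 1) (by simp) (by simp),
    ShortComplex.ShortExact.moduleCat_exact_iff_function_exact]
  exact exact_lTensor_d C b hb hflat hex ((ModuleCat.restrictScalars φ).obj (ModuleCat.of S S)) i

end Groth.Agent.Lib.Helper35.TA
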