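import Groth.Agent.Lib.Helper35.FlatLBC
import Groth.Agent.Lib.Helper35.TARes
import Mathlib.RingTheory.LocalRing.Module

/-! Tor amplitude via vanishing of `H^i(K ⊗^L M)` (helper35). -/

set_option autoImplicit false
set_option linter.unusedSectionVars false
universe u
open CategoryTheory CategoryTheory.Limits MonoidalCategory DerivedCategory CochainComplex
  TensorProduct
attribute [local instance] HasDerivedCategory.standard

namespace Groth.Agent.Lib.Helper35.TA

variable {R : Type u} [CommRing R]

/-- A quotient `F ⧸ B` of a flat module by a pure submodule is flat. -/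
theorem flat_quotient_of_pure {F : Type u} [AddCommGroup F] [Module R F] [Module.Flat R F]
    (B : Submodule R F)
    (h : ∀ I : Ideal R, Function.Injective (B.subtype.rTensor (R ⧸ I))) :
    Module.Flat R (F ⧸ B) := by
  rw [Module.Flat.iff_lTensor_injective']
  intro I
  exact lTensor_injective_of_exact_of_exact_of_rTensor_injective
    (f₁ := B.subtype) (f₂ := B.mkQ) (g₁ := I.subtype) (g₂ := Submodule.mkQ I)
    (LinearMap.exact_subtype_mkQ B) (Submodule.mkQ_surjective B)
    (LinearMap.exact_subtype_mkQ I) (Submodule.mkQ_surjective I)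
    (h I) (Module.Flat.iff_lTensor_injective'.mp inferInstance I)

/-- If `d1, d2` is exact and stays exact after tensoring with every cyclic module, and the target
of `d2` is flat, then the cokernel of `d2` is flat. -/
theorem flat_coker_of_universally_exact {X Y F : Type u} [AddCommGroup X] [Module R X]
    [AddCommGroup Y] [Module R Y] [AddCommGroup F] [Module R F] [Module.Flat R F]
    (d1 : X →ₗ[R] Y) (d2 : Y →ₗ[R] F) (hex : Function.Exact d1 d2)
    (h : ∀ I : Ideal R, Function.Exact (d1.rTensor (R ⧸ I)) (d2.rTensor (R ⧸ I))) :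
    Module.Flat R (F ⧸ LinearMap.range d2) := by
  apply flat_quotient_of_pure
  intro I
  let B := LinearMap.range d2
  let d2' : Y →ₗ[R] B := d2.rangeRestrict
  have hfact : d2 = B.subtype ∘ₗ d2' := rfl
  have hsurj : Function.Surjective d2' := d2.surjective_rangeRestrict
  have hex' : Function.Exact d1 d2' := by
    intro y
    rw [← hex y]
    constructor
    · intro h; exact congrArg Subtype.val h
    · intro h; exact Subtype.ext h
  have h1 : Function.Exact (d1.rTensor (R ⧸ I)) (d2'.rTensor (R ⧸ I)) :=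
    rTensor_exact (R ⧸ I) hex' hsurj
  have hs : Function.Surjective (d2'.rTensor (R ⧸ I)) := LinearMap.rTensor_surjective _ hsurj
  rw [injective_iff_map_eq_zero]
  intro y hy
  obtain ⟨x, rfl⟩ := hs y
  have hx : d2.rTensor (R ⧸ I) x = 0 := by
    rw [hfact, LinearMap.rTensor_comp]
    exact hy
  obtain ⟨w, rfl⟩ := (h I x).1 hx
  exact (h1 _).2 ⟨w, rfl⟩

variable (M : ModuleCat.{u} R) [DRing.HasLTensor R M]

open Groth.Agent.Lib.Helper32.LBC in
/-- `K ⊗^L M` computed on a K-projective representative. -/
noncomputable def ltIsoOfRep (K : Dual.D R) (P : DRing.Cx R) [P.IsKProjective]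
    (e : DRing.toD P ≅ K) :
    (DRing.LTensor R M).obj K ≅
      DRing.toD (((tensorRight M).mapHomologicalComplex (ComplexShape.up ℤ)).obj P) :=
  (DRing.LTensor R M).mapIso e.symm ≪≫ ltIso R M P

theorem isZero_homology_toD_iff (X : DRing.Cx R) (i : ℤ) :
    IsZero ((homologyFunctor (ModuleCat.{u} R) i).obj (DRing.toD X)) ↔ X.ExactAt i := by
  rw [HomologicalComplex.exactAt_iff_isZero_homology]
  exact ((homologyFunctorFactors (ModuleCat.{u} R) i).app X).isZero_iff


omit [DRing.HasLTensor R M] in
theorem exactAt_of_isZero_X (X : DRing.Cx R) (i : ℤ) (h : IsZero (X.X i)) : X.ExactAt i :=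
  ShortComplex.exact_of_isZero_X₂ _ h

/-- `P ⊗ R ≅ P`. -/
noncomputable def tensorRightUnitCxIso (P : DRing.Cx R) :
    ((tensorRight (𝟙_ (ModuleCat.{u} R))).mapHomologicalComplex (ComplexShape.up ℤ)).obj P ≅ P :=
  (NatIso.mapHomologicalComplex (rightUnitorNatIso (ModuleCat.{u} R)) (ComplexShape.up ℤ)).app P ≪≫
    (Functor.mapHomologicalComplexIdIso (ModuleCat.{u} R) (ComplexShape.up ℤ)).app P


section Main

variable [∀ M : ModuleCat.{u} R, DRing.HasLTensor R M]

omit [DRing.HasLTensor R M] in
theorem LTensor_vanishing_of_TAmp (K : Dual.D R) (a b : ℤ) (h : TAmp a b K)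
    (M : ModuleCat.{u} R) (i : ℤ) (hi : i < a ∨ b < i) :
    IsZero ((homologyFunctor (ModuleCat.{u} R) i).obj ((DRing.LTensor R M).obj K)) := by
  obtain ⟨E, hv, hfl, ⟨e⟩⟩ := h
  obtain ⟨e'⟩ := nonempty_lt_iso_of_flat M E b (fun i hi => hv i (Or.inr hi)) hfl
  have e2 : (DRing.LTensor R M).obj K ≅
      DRing.toD (((tensorRight M).mapHomologicalComplex (ComplexShape.up ℤ)).obj E) :=
    (DRing.LTensor R M).mapIso e.symm ≪≫ e'
  refine IsZero.of_iso ?_ ((homologyFunctor (ModuleCat.{u} R) i).mapIso e2)
  rw [isZero_homology_toD_iff]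
  apply exactAt_of_isZero_X
  exact CategoryTheory.Functor.map_isZero (tensorRight M) (hv i hi)

omit [DRing.HasLTensor R M] in
open Groth.Agent.Lib.Helper32.LBC in
theorem TAmp_of_LTensor_vanishing (K : Dual.D R) (a b : ℤ)
    (h : ∀ (M : ModuleCat.{u} R) (i : ℤ), (i < a ∨ b < i) →
      IsZero ((homologyFunctor (ModuleCat.{u} R) i).obj ((DRing.LTensor R M).obj K))) :
    TAmp a b K := by
  -- Step 1 : `K` is bounded
  have hK : ∀ i : ℤ, (i < a ∨ b < i) → IsZero ((homologyFunctor (ModuleCat.{u} R) i).obj K) := by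
    intro i hi
    obtain ⟨P, hP, ⟨e⟩⟩ := exists_kproj_iso K
    have e1 := ltIsoOfRep (𝟙_ (ModuleCat.{u} R)) K P e
    have e2 : (DRing.LTensor R (𝟙_ (ModuleCat.{u} R))).obj K ≅ K :=
      e1 ≪≫ Q.mapIso (tensorRightUnitCxIso P) ≪≫ e
    exact (h _ i hi).of_iso ((homologyFunctor (ModuleCat.{u} R) i).mapIso e2.symm)
  have hLE : K.IsLE b := by
    rw [DerivedCategory.isLE_iff]
    exact fun i hi => hK i (Or.inr hi)
  have hGE : K.IsGE a := by
    rw [DerivedCategory.isGE_iff]
    exact fun i hi => hK i (Or.inl hi)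
  -- Step 2 : projective representative
  obtain ⟨P, hPb, hPproj, ⟨e⟩⟩ := exists_projective_rep K b
  have hKP : P.IsKProjective := isKProjective_of_vanishesAbove P b hPb hPproj
  have hPflat : ∀ i : ℤ, Module.Flat R (P.X i) := fun i => by
    have := hPproj i
    infer_instance
  have hPLE : P.IsLE b := by
    have : P.IsStrictlyLE b := by
      rw [CochainComplex.isStrictlyLE_iff]
      exact fun i hi => hPb i hi
    infer_instance
  have hPGE : P.IsGE a := by
    rw [← isGE_Q_obj_iff]
    exact TStructure.t.isGE_of_iso e.symm a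
  -- Step 3 : exactness after tensoring
  have hten : ∀ (M : ModuleCat.{u} R),
      (((tensorRight M).mapHomologicalComplex (ComplexShape.up ℤ)).obj P).ExactAt (a - 1) := by
    intro M
    rw [← isZero_homology_toD_iff]
    exact (h M (a - 1) (Or.inl (by omega))).of_iso
      ((homologyFunctor (ModuleCat.{u} R) (a - 1)).mapIso (ltIsoOfRep M K P e).symm)
  have hex0 : P.ExactAt (a - 1) := P.exactAt_of_isGE a (a - 1) (by omega)
  rw [HomologicalComplex.exactAt_iff' P (a - 1 - 1) (a - 1) a (by simp) (by simp),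
    ShortComplex.ShortExact.moduleCat_exact_iff_function_exact] at hex0
  have hflatZ : Module.Flat R (P.X a ⧸ LinearMap.range (P.d (a - 1) a).hom) := by
    refine flat_coker_of_universally_exact (P.d (a - 1 - 1) (a - 1)).hom (P.d (a - 1) a).hom hex0 ?_
    intro I
    have := hten (ModuleCat.of R (R ⧸ I))
    rw [HomologicalComplex.exactAt_iff' _ (a - 1 - 1) (a - 1) a (by simp) (by simp),
      ShortComplex.ShortExact.moduleCat_exact_iff_function_exact] at this
    exact this
  have hop : Module.Flat R (P.opcycles a) :=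
    Module.Flat.of_linearEquiv (opcyclesLinearEquiv P (a - 1) a (by omega)).symm
  exact (TAmp_of_flat_opcycles P b hPb hPflat a b).of_iso e

end Main

end Groth.Agent.Lib.Helper35.TA
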