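import Groth.Agent.Lib.Helper35.TADev
import Groth.Agent.Lib.Helper35.FlatLBC
import Groth.Agent.Lib.Helper35.FlatAcyc
import Groth.Agent.Lib.Helper35.TorDim
import Groth.Agent.Lib.Helper35.TorAmpLT
import Groth.Agent.Lib.Helper35.ConeRep
import Groth.Agent.Lib.Helper13.ProjDim

/-! Tor amplitude over rings of finite global dimension and exactness of tensored complexes
(helper35). -/

set_option autoImplicit false
universe u

open CategoryTheory CategoryTheory.Limits DerivedCategory TensorProduct MonoidalCategory

attribute [local instance] HasDerivedCategory.standard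

namespace Groth.Agent.Lib.Helper35.FibreTor

open Groth.Agent.Lib.Helper35.TA Groth.Agent.Lib.Helper35.KL

variable {S : Type u} [CommRing S]

/-- `N ⊗ -` preserves acyclicity of bounded above flat complexes. -/
theorem exactAt_tensorLeft (C : CochainComplex (ModuleCat.{u} S) ℤ) (b : ℤ)
    (hb : ∀ i : ℤ, b < i → IsZero (C.X i)) (hflat : ∀ i : ℤ, Module.Flat S (C.X i))
    (hex : ∀ i : ℤ, C.ExactAt i) (N : ModuleCat.{u} S) (j : ℤ) :
    (((tensorLeft N).mapHomologicalComplex (ComplexShape.up ℤ)).obj C).ExactAt j := by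
  obtain ⟨i, rfl⟩ : ∃ i, j = i + 1 := ⟨j - 1, by omega⟩
  rw [HomologicalComplex.exactAt_iff' _ i (i + 1) (i + 1 + 1) (by simp) (by simp),
    ShortComplex.ShortExact.moduleCat_exact_iff_function_exact]
  exact exact_lTensor_d C b hb hflat hex N i

/-- A bounded above termwise flat complex with tor amplitude in `[a, b]` stays exact outside
`[a, b]` after tensoring with any module. -/
theorem exact_lTensor_of_TAmp (P : DRing.Cx S) (b' : ℤ) (hPb : DRing.VanishesAbove P b')
    (hPflat : ∀ i : ℤ, Module.Flat S (P.X i)) (a b : ℤ) (h : TAmp a b (DRing.toD P))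
    (N : Type u) [AddCommGroup N] [Module S N] (i : ℤ) (hi : i < a ∨ b < i) :
    Function.Exact ((P.d (i - 1) i).hom.lTensor N) ((P.d i (i + 1)).hom.lTensor N) := by
  obtain ⟨E, hEv, hEflat, ⟨e⟩⟩ := h
  have hs : P.IsStrictlyLE b' := by
    rw [CochainComplex.isStrictlyLE_iff]
    exact fun i hi => hPb i hi
  have hLE : (Q.obj P).IsLE b' := inferInstance
  obtain ⟨P', π, hv, hproj, hπ⟩ := exists_projective_resolution_cx P b'
  have hKP : P'.IsKProjective := isKProjective_of_vanishesAbove P' b' hv hproj
  have hflat' : ∀ i : ℤ, Module.Flat S (P'.X i) := fun i => by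
    have := hproj i
    infer_instance
  have hiso : IsIso (Q.map π) := by
    rw [isIso_Q_map_iff_quasiIso]
    exact hπ
  obtain ⟨φ, hφ⟩ := exists_Q_map_eq_of_isKProjective P' E (Q.map π ≫ e.inv)
  have hq : QuasiIso φ := by
    rw [← isIso_Q_map_iff_quasiIso, hφ]
    infer_instance
  let T := tensorLeft (ModuleCat.of S N)
  have hT : ∀ (C : CochainComplex (ModuleCat.{u} S) ℤ) (b : ℤ), (∀ i : ℤ, b < i → IsZero (C.X i)) →
      (∀ i : ℤ, Module.Flat S (C.X i)) → (∀ i : ℤ, C.ExactAt i) →
      ∀ j : ℤ, ((T.mapHomologicalComplex (ComplexShape.up ℤ)).obj C).ExactAt j :=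
    fun C b hb hfl hex j => exactAt_tensorLeft C b hb hfl hex _ j
  have hq1 : QuasiIso ((T.mapHomologicalComplex (ComplexShape.up ℤ)).map π) :=
    quasiIso_map_of_flat T hT π b' hv hPb hflat' hPflat
  have hq2 : QuasiIso ((T.mapHomologicalComplex (ComplexShape.up ℤ)).map φ) :=
    quasiIso_map_of_flat T hT φ (max b b') (fun i hi => hv i (by omega))
      (fun i hi => hEv i (Or.inr (by omega))) hflat' hEflat
  have hE : ((T.mapHomologicalComplex (ComplexShape.up ℤ)).obj E).ExactAt i :=
    HomologicalComplex.ExactAt.of_isZero (T.map_isZero (hEv i hi))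
  have hP' : ((T.mapHomologicalComplex (ComplexShape.up ℤ)).obj P').ExactAt i := by
    rw [HomologicalComplex.exactAt_iff_isZero_homology] at hE ⊢
    exact hE.of_iso (asIso (HomologicalComplex.homologyMap
      ((T.mapHomologicalComplex (ComplexShape.up ℤ)).map φ) i))
  have hP : ((T.mapHomologicalComplex (ComplexShape.up ℤ)).obj P).ExactAt i := by
    rw [HomologicalComplex.exactAt_iff_isZero_homology] at hP' ⊢
    exact hP'.of_iso (asIso (HomologicalComplex.homologyMap
      ((T.mapHomologicalComplex (ComplexShape.up ℤ)).map π) i)).symm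
  rw [HomologicalComplex.exactAt_iff' _ (i - 1) i (i + 1) (by simp) (by simp),
    ShortComplex.ShortExact.moduleCat_exact_iff_function_exact] at hP
  exact hP

/-- projective dimension `≤ d` implies tor dimension `≤ d`. -/
theorem TD_of_pdLT (d : ℕ) : ∀ M : ModuleCat.{u} S, HasProjectiveDimensionLT M (d + 1) → TD d M := by
  induction d with
  | zero =>
    intro M h
    have : Projective M := projective_iff_hasProjectiveDimensionLT_one.2 h
    have : Module.Projective S M := (IsProjective.iff_projective (R := S) (P := M)).2 this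
    have : Module.Flat S M := inferInstance
    exact TD_zero_of_flat M
  | succ d ih =>
    intro M h
    have hS := freeCoverSC_shortExact M
    refine (TD_succ_iff (freeCoverSC M) hS d).2 ?_
    apply ih
    exact (Groth.Agent.Lib.Helper13.hasProjectiveDimensionLT_succ_succ_iff_ker S d M (M →₀ S)
      (freeπ M) (Finsupp.linearCombination_id_surjective S M)).1 h

/-- If every module has tor dimension `≤ d`, then an object with cohomology in `[a, b]` has tor
amplitude in `[a - d, b]`. -/
theorem TAmp_of_forall_TD (d : ℕ) (hTD : ∀ M : ModuleCat.{u} S, TD d M) (K : Dual.D S) (a b : ℤ)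
    (hK : ∀ i : ℤ, (i < a ∨ b < i) → IsZero ((homologyFunctor (ModuleCat.{u} S) i).obj K)) :
    TAmp (a - d) b K := by
  refine TAmp.of_bounded_homology (a - d) b K
    ⟨a, b, fun i hi => ModuleCat.subsingleton_of_isZero (hK i hi)⟩ (fun i => ?_)
  by_cases hi : i < a ∨ b < i
  · exact TAmp.of_isZero (Functor.map_isZero _ (hK i hi))
  · have h1 := (TD_iff_TAmp d _).1 (hTD ((homologyFunctor (ModuleCat.{u} S) i).obj K))
    exact h1.mono (by omega) (by omega)

end Groth.Agent.Lib.Helper35.FibreTor
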