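import Groth.Agent.Lib.Helper35.FlatLBC
import Groth.Agent.Lib.Helper35.TARes
import Groth.Agent.Lib.Helper35.FlatBC
import Mathlib.RingTheory.LocalRing.Module
import Groth.Agent.Lib.Helper35.TorAmpLT
import Groth.Agent.Lib.Helper35.TACore

/-! Perfectness over a local ring from vanishing of low cohomology of the fibre (helper35). -/

set_option autoImplicit false
set_option linter.unusedSectionVars false
universe u
open CategoryTheory CategoryTheory.Limits MonoidalCategory DerivedCategory CochainComplex
  TensorProduct
attribute [local instance] HasDerivedCategory.standard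

namespace Groth.Agent.Lib.Helper35.TA

section Lin

variable {R : Type u} [CommRing R] [IsLocalRing R]
  {X Y N : Type u} [AddCommGroup X] [Module R X] [AddCommGroup Y] [Module R Y]
  [AddCommGroup N] [Module R N] [Module.Finite R Y] [Module.Finite R N] [Module.Free R N]

open IsLocalRing in
/-- Over a local ring: if `X → Y → N` (with `Y` finite, `N` finite free) becomes exact after
tensoring with the residue field, it is exact and the cokernel of `Y → N` is flat. -/
theorem local_exact_and_flat (f : X →ₗ[R] Y) (g : Y →ₗ[R] N) (hgf : g ∘ₗ f = 0)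
    (h : Function.Exact (f.lTensor (ResidueField R)) (g.lTensor (ResidueField R))) :
    Function.Exact f g ∧ Module.Flat R (N ⧸ LinearMap.range g) := by
  have hle : LinearMap.range f ≤ LinearMap.ker g := by
    rintro _ ⟨x, rfl⟩
    exact LinearMap.congr_fun hgf x
  let M := Y ⧸ LinearMap.range f
  let l : M →ₗ[R] N := (LinearMap.range f).liftQ g hle
  have hl : l ∘ₗ (LinearMap.range f).mkQ = g := Submodule.liftQ_mkQ _ _ _
  have h1 : Function.Exact (f.lTensor (ResidueField R))
      ((LinearMap.range f).mkQ.lTensor (ResidueField R)) :=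
    lTensor_exact _ (LinearMap.exact_map_mkQ_range f) (Submodule.mkQ_surjective _)
  have hs : Function.Surjective ((LinearMap.range f).mkQ.lTensor (ResidueField R)) :=
    LinearMap.lTensor_surjective _ (Submodule.mkQ_surjective _)
  have hinj : Function.Injective (l.lTensor (ResidueField R)) := by
    rw [injective_iff_map_eq_zero]
    intro y hy
    obtain ⟨y', rfl⟩ := hs y
    have h2 : g.lTensor (ResidueField R) y' = 0 := by
      rw [← hl, LinearMap.lTensor_comp]
      exact hy
    obtain ⟨w, rfl⟩ := (h y').1 h2
    exact (h1 _).2 ⟨w, rfl⟩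
  have hfree : Module.Free R (N ⧸ LinearMap.range l) :=
    Module.free_of_lTensor_residueField_injective l (LinearMap.range l).mkQ
      (Submodule.mkQ_surjective _) l.exact_map_mkQ_range hinj
  have hrange : LinearMap.range l = LinearMap.range g := Submodule.range_liftQ _ _ _
  obtain ⟨l', hl'⟩ := (split_injective_iff_lTensor_residueField_injective l).2 hinj
  have hlinj : Function.Injective l :=
    Function.HasLeftInverse.injective ⟨l', LinearMap.congr_fun hl'⟩
  refine ⟨?_, ?_⟩
  · intro y
    constructor
    · intro hy
      have : l ((LinearMap.range f).mkQ y) = 0 := by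
        rw [← LinearMap.comp_apply, hl]; exact hy
      have h0 : (LinearMap.range f).mkQ y = 0 := hlinj (by rw [this, map_zero])
      exact (Submodule.Quotient.mk_eq_zero _).1 h0
    · rintro ⟨x, rfl⟩
      exact LinearMap.congr_fun hgf x
  · rw [← hrange]
    infer_instance

end Lin


section Cx

variable (R : Type u) [CommRing R] [IsLocalRing R]

/-- The residue field as an `R`-module through restriction of scalars along `residue`. -/
abbrev kRes : Type u :=
  ((ModuleCat.restrictScalars (IsLocalRing.residue R)).obj
    (ModuleCat.of (IsLocalRing.ResidueField R) (IsLocalRing.ResidueField R)))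

set_option backward.isDefEq.respectTransparency false in
/-- identity `kRes ≃ k`, `R`-linear -/
noncomputable def kResEquiv : kRes R ≃ₗ[R] IsLocalRing.ResidueField R where
  toFun := fun b => b
  invFun := fun b => b
  map_add' := fun _ _ => rfl
  map_smul' := fun a b => by
    change ((IsLocalRing.residue R a) * (show IsLocalRing.ResidueField R from b) :
      IsLocalRing.ResidueField R) = a • (show IsLocalRing.ResidueField R from b)
    rw [Algebra.smul_def]
    rfl
  left_inv := fun _ => rfl
  right_inv := fun _ => rfl

variable {R}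

theorem exact_lTensor_congr {k₁ k₂ : Type u} [AddCommGroup k₁] [Module R k₁] [AddCommGroup k₂]
    [Module R k₂] (e : k₁ ≃ₗ[R] k₂) {X Y Z : Type u} [AddCommGroup X] [Module R X]
    [AddCommGroup Y] [Module R Y] [AddCommGroup Z] [Module R Z] (f : X →ₗ[R] Y) (g : Y →ₗ[R] Z)
    (h : Function.Exact (f.lTensor k₁) (g.lTensor k₁)) :
    Function.Exact (f.lTensor k₂) (g.lTensor k₂) := by
  refine (Function.Exact.iff_of_ladder_linearEquiv
    (e₁ := TensorProduct.congr e (LinearEquiv.refl R X))
    (e₂ := TensorProduct.congr e (LinearEquiv.refl R Y))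
    (e₃ := TensorProduct.congr e (LinearEquiv.refl R Z))
    (f₁₂ := f.lTensor k₁) (f₂₃ := g.lTensor k₁)
    (g₁₂ := f.lTensor k₂) (g₂₃ := g.lTensor k₂) ?_ ?_).2 h
  · ext x y; simp
  · ext x y; simp

open Groth.Agent.Lib.Helper32.LBC in
set_option backward.isDefEq.respectTransparency false in
theorem isPerfect_of_local_fibre [DRing.HasLBaseChange (IsLocalRing.residue R)] (K : Dual.D R)
    (hK : DRing.IsPseudoCoherent' R K) (a : ℤ)
    (h : ∀ i : ℤ, i < a → IsZero ((homologyFunctor (ModuleCat.{u} (IsLocalRing.ResidueField R)) i).obj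
      ((DRing.LBaseChange (IsLocalRing.residue R)).obj K))) :
    DRing.IsPerfect R K := by
  obtain ⟨F, b', hFb, hF, ⟨e⟩⟩ := hK
  have hFproj : ∀ i : ℤ, Module.Projective R (F.X i) := fun i => by
    have := (hF i).2
    infer_instance
  have hFflat : ∀ i : ℤ, Module.Flat R (F.X i) := fun i => by
    have := hFproj i
    infer_instance
  have hKP : F.IsKProjective := isKProjective_of_vanishesAbove F b' hFb hFproj
  have e1 := lbcIso (IsLocalRing.residue R) F
  have hex : ∀ i : ℤ, i < a →
      Function.Exact ((F.d (i - 1) i).hom.lTensor (IsLocalRing.ResidueField R))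
        ((F.d i (i + 1)).hom.lTensor (IsLocalRing.ResidueField R)) := by
    intro i hi
    have h1 := (h i hi).of_iso ((homologyFunctor (ModuleCat.{u} (IsLocalRing.ResidueField R)) i).mapIso
      ((DRing.LBaseChange (IsLocalRing.residue R)).mapIso e.symm ≪≫ e1).symm)
    rw [isZero_homology_toD_iff,
      HomologicalComplex.exactAt_iff' _ (i - 1) i (i + 1) (by simp) (by simp),
      ShortComplex.ShortExact.moduleCat_exact_iff_function_exact] at h1
    have h2 : Function.Exact ((F.d (i - 1) i).hom.lTensor (kRes R))
        ((F.d i (i + 1)).hom.lTensor (kRes R)) := h1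
    exact exact_lTensor_congr (kResEquiv R) _ _ h2
  have hloc : ∀ i : ℤ, i < a → Function.Exact (F.d (i - 1) i).hom (F.d i (i + 1)).hom ∧
      Module.Flat R (F.X (i + 1) ⧸ LinearMap.range (F.d i (i + 1)).hom) := by
    intro i hi
    have := (hF i).1
    have := (hF (i + 1)).1
    have := (hF (i + 1)).2
    refine local_exact_and_flat _ _ ?_ (hex i hi)
    ext x
    rw [LinearMap.comp_apply, ← ModuleCat.comp_apply, F.d_comp_d]
    rfl
  have hGE : F.IsGE a := by
    rw [CochainComplex.isGE_iff]
    intro i hi
    rw [HomologicalComplex.exactAt_iff' _ (i - 1) i (i + 1) (by simp) (by simp),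
      ShortComplex.ShortExact.moduleCat_exact_iff_function_exact]
    exact (hloc i hi).1
  have hLE : F.IsLE b' := by
    have : F.IsStrictlyLE b' := by
      rw [CochainComplex.isStrictlyLE_iff]
      exact fun i hi => hFb i hi
    infer_instance
  have hop : Module.Flat R (F.opcycles a) := by
    have h2 := (hloc (a - 1) (by omega)).2
    have ha : a - 1 + 1 = a := by omega
    rw [ha] at h2
    exact Module.Flat.of_linearEquiv (opcyclesLinearEquiv F (a - 1) a (by omega)).symm
  have hTA : TAmp a b' (DRing.toD F) := TAmp_of_flat_opcycles F b' hFb hFflat a b'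
  exact isPerfect_of_isPseudoCoherent'_of_TAmp K ⟨F, b', hFb, hF, ⟨e⟩⟩ a b' (hTA.of_iso e)

end Cx

end Groth.Agent.Lib.Helper35.TA
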