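import Groth.Agent.Lib.Helper35.ConeRep2
import Groth.Agent.Lib.Helper35.TwoTerm

/-! An object of `D(R)` with bounded cohomology all of whose cohomology modules are perfect is
perfect (helper35). -/

universe u

namespace Groth.Agent.Lib.Helper35.KL

open CategoryTheory Limits CochainComplex DerivedCategory Pretriangulated ZeroObject

attribute [local instance] HasDerivedCategory.standard

variable {R : Type u} [CommRing R]

theorem isPerfect_of_isZero {K : Dual.D R} (hK : IsZero K) : DRing.IsPerfect R K := by
  refine ⟨0, 0, 0, ?_, ?_, ⟨(Q.map_isZero (isZero_zero _)).iso hK⟩⟩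
  · intro i _
    exact (HomologicalComplex.eval _ _ i).map_isZero (isZero_zero _)
  · intro i
    have hz : IsZero ((0 : DRing.Cx R).X i) :=
      (HomologicalComplex.eval _ _ i).map_isZero (isZero_zero _)
    have : Subsingleton ((0 : DRing.Cx R).X i) := ModuleCat.subsingleton_of_isZero hz
    exact ⟨inferInstance, inferInstance⟩

theorem isPerfect_single_of_isPerfectModule (H : ModuleCat.{u} R)
    (h : DRing.IsPerfectModule R H) (b : ℤ) :
    DRing.IsPerfect R ((DerivedCategory.singleFunctor (ModuleCat.{u} R) b).obj H) := by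
  have h1 : DRing.IsPerfect R ((DerivedCategory.singleFunctor (ModuleCat.{u} R) 0).obj H) := h
  exact isPerfect_of_iso
    (((DerivedCategory.singleFunctors (ModuleCat.{u} R)).shiftIso (-b) b 0 (by omega)).app H)
    (isPerfect_shift h1 (-b))

theorem isPerfectModule_of_iso {H H' : ModuleCat.{u} R} (e : H ≅ H')
    (h : DRing.IsPerfectModule R H) : DRing.IsPerfectModule R H' := by
  have h1 : DRing.IsPerfect R ((DerivedCategory.singleFunctor (ModuleCat.{u} R) 0).obj H) := h
  exact isPerfect_of_iso ((DerivedCategory.singleFunctor (ModuleCat.{u} R) 0).mapIso e) h1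

theorem isPerfectModule_of_isZero {H : ModuleCat.{u} R} (hH : IsZero H) :
    DRing.IsPerfectModule R H :=
  isPerfect_of_isZero ((DerivedCategory.singleFunctor (ModuleCat.{u} R) 0).map_isZero hH)

theorem isPerfect_of_bounded_perfect_homology_aux (n : ℕ) :
    ∀ (K : Dual.D R) (a b : ℤ), b - a + 1 ≤ n → K.IsGE a → K.IsLE b →
      (∀ i : ℤ, DRing.IsPerfectModule R ((homologyFunctor (ModuleCat.{u} R) i).obj K)) →
      DRing.IsPerfect R K := by
  induction n with
  | zero =>
    intro K a b hab hG hL _
    exact isPerfect_of_isZero (TStructure.t.isZero K b a (by omega))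
  | succ n ih =>
    intro K a b hab hG hL hK
    have hT := TStructure.t.triangleLTGE_distinguished b K
    -- the top piece
    have hZG : TStructure.t.IsGE ((TStructure.t.truncGE b).obj K) b := inferInstance
    have hZL : TStructure.t.IsLE ((TStructure.t.truncGE b).obj K) b := inferInstance
    obtain ⟨H, ⟨e0⟩⟩ := exists_iso_singleFunctor_obj_of_isGE_of_isLE
      ((TStructure.t.truncGE b).obj K) b
    have hiso0 := isIso_homology_map_truncGEπ' K b b le_rfl
    let i0 : (homologyFunctor (ModuleCat.{u} R) b).obj K ≅ H :=
      asIso ((homologyFunctor (ModuleCat.{u} R) b).map ((TStructure.t.truncGEπ b).app K)) ≪≫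
        (homologyFunctor (ModuleCat.{u} R) b).mapIso e0 ≪≫
        (DerivedCategory.singleFunctorCompHomologyFunctorIso (ModuleCat.{u} R) b).app H
    have h3 : DRing.IsPerfect R ((TStructure.t.truncGE b).obj K) :=
      isPerfect_of_iso e0.symm
        (isPerfect_single_of_isPerfectModule H (isPerfectModule_of_iso i0 (hK b)) b)
    -- the bottom piece
    have hXL : TStructure.t.IsLE ((TStructure.t.truncLT b).obj K) (b - 1) :=
      TStructure.t.isLE_truncLT_obj K b (b - 1)
    have hXG : TStructure.t.IsGE ((TStructure.t.truncLT b).obj K) a := inferInstance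
    have h1 : DRing.IsPerfect R ((TStructure.t.truncLT b).obj K) := by
      refine ih _ a (b - 1) (by omega) hXG hXL (fun i => ?_)
      by_cases hi : i < b
      · have := isIso_homology_map_truncLTι' K b i hi
        exact isPerfectModule_of_iso
          (asIso ((homologyFunctor (ModuleCat.{u} R) i).map ((TStructure.t.truncLTι b).app K))).symm
          (hK i)
      · exact isPerfectModule_of_isZero
          (isZero_of_isLE ((TStructure.t.truncLT b).obj K) (b - 1) i (by omega))
    exact (isPerfect_two_out_of_three _ hT).2.1 h1 h3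

theorem isPerfect_of_bounded_perfect_homology (K : Dual.D R)
    (hb : ∃ a b : ℤ, ∀ i : ℤ, (i < a ∨ b < i) →
      Subsingleton ((homologyFunctor (ModuleCat.{u} R) i).obj K))
    (hK : ∀ i : ℤ, DRing.IsPerfectModule R ((homologyFunctor (ModuleCat.{u} R) i).obj K)) :
    DRing.IsPerfect R K := by
  obtain ⟨a, b, hab⟩ := hb
  obtain ⟨hG, hL⟩ := isGE_and_isLE_of_subsingleton K a b hab
  exact isPerfect_of_bounded_perfect_homology_aux (b - a + 1).toNat K a b (by omega) hG hL hK

end Groth.Agent.Lib.Helper35.KL
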