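import Groth.Agent.Lib.Helper35.IndRep
import Groth.Agent.Lib.Helper35.PerfectHom
import Mathlib.Algebra.Category.ModuleCat.Injective

/-! Dévissage for perfect objects and objects of finite injective dimension (helper35). -/

universe u

namespace Groth.Agent.Lib.Helper35.KL

open CategoryTheory Limits CochainComplex DerivedCategory Pretriangulated HomologicalComplex
  ZeroObject

attribute [local instance] HasDerivedCategory.standard

variable {R : Type u} [CommRing R]

theorem devissage_isPerfect : Devissage (DRing.IsPerfect R) where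
  iso e h := isPerfect_of_iso e h
  shift _ n h := isPerfect_shift h n
  mid T hT h₁ h₃ := (isPerfect_two_out_of_three T hT).2.1 h₁ h₃
  zero _ h := isPerfect_of_isZero h

/-! ### Finite injective dimension -/

theorem injective_of_moduleInjective (X : ModuleCat.{u} R) (h : Module.Injective R X) :
    Injective X :=
  Module.injective_object_of_injective_module R X

theorem moduleInjective_of_injective (X : ModuleCat.{u} R) [Injective X] :
    Module.Injective R X :=
  Module.injective_module_of_injective_object R X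

theorem isKInjective_of_vanishesBelow (E : DRing.Cx R) (a : ℤ)
    (ha : ∀ i : ℤ, i < a → IsZero (E.X i))
    (hE : ∀ i : ℤ, Module.Injective R (E.X i)) : E.IsKInjective := by
  have h1 : E.IsStrictlyGE a := by
    rw [isStrictlyGE_iff]
    exact ha
  have h2 : ∀ n : ℤ, Injective (E.X n) := fun n => injective_of_moduleInjective _ (hE n)
  exact isKInjective_of_injective E a

theorem hasFiniteInjDim_of_iso {K K' : Dual.D R} (e : K ≅ K') (h : DRing.HasFiniteInjDim R K) :
    DRing.HasFiniteInjDim R K' := by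
  obtain ⟨a, b, E, hb, hE, ⟨e'⟩⟩ := h
  exact ⟨a, b, E, hb, hE, ⟨e' ≪≫ e⟩⟩

theorem hasFiniteInjDim_shift {K : Dual.D R} (h : DRing.HasFiniteInjDim R K) (n : ℤ) :
    DRing.HasFiniteInjDim R (K⟦n⟧) := by
  obtain ⟨a, b, E, hb, hE, ⟨e⟩⟩ := h
  refine ⟨a - n, b - n, E⟦n⟧, ?_, ?_, ⟨(Q.commShiftIso n).app E ≪≫
    (CategoryTheory.shiftFunctor (DerivedCategory (ModuleCat.{u} R)) n).mapIso e⟩⟩
  · intro i hi
    exact hb (i + n) (by omega)
  · intro i
    exact hE (i + n)

theorem hasFiniteInjDim_of_isZero {K : Dual.D R} (hK : IsZero K) : DRing.HasFiniteInjDim R K := by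
  refine ⟨0, 0, 0, ?_, ?_, ⟨(Q.map_isZero (isZero_zero _)).iso hK⟩⟩
  · intro i _
    exact (HomologicalComplex.eval _ _ i).map_isZero (isZero_zero _)
  · intro i
    have hz : IsZero ((0 : DRing.Cx R).X i) :=
      (HomologicalComplex.eval _ _ i).map_isZero (isZero_zero _)
    have := hz.injective
    exact moduleInjective_of_injective _

theorem hasFiniteInjDim_obj₃ (T : Triangle (Dual.D R)) (hT : T ∈ distTriang _)
    (h₁ : DRing.HasFiniteInjDim R T.obj₁) (h₂ : DRing.HasFiniteInjDim R T.obj₂) :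
    DRing.HasFiniteInjDim R T.obj₃ := by
  obtain ⟨a₁, b₁, E₁, hb₁, hE₁, ⟨e₁⟩⟩ := h₁
  obtain ⟨a₂, b₂, E₂, hb₂, hE₂, ⟨e₂⟩⟩ := h₂
  have hKI : E₂.IsKInjective := isKInjective_of_vanishesBelow E₂ a₂
    (fun i hi => hb₂ i (Or.inl hi)) hE₂
  obtain ⟨f, ⟨e⟩⟩ := nonempty_iso_mappingCone_of_isKInjective T hT e₁ e₂
  refine ⟨min (a₁ - 1) a₂, max (b₁ - 1) b₂, mappingCone f, ?_, ?_, ⟨e⟩⟩
  · intro i hi
    rw [mappingCone.isZero_X_iff]
    exact ⟨hb₁ (i + 1) (by omega), hb₂ i (by omega)⟩
  · intro i
    have h1 : Injective (E₁.X (i + 1)) := injective_of_moduleInjective _ (hE₁ (i + 1))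
    have h2 : Injective (E₂.X i) := injective_of_moduleInjective _ (hE₂ i)
    have h3 : Injective ((mappingCone f).X i) :=
      Injective.of_iso (HomologicalComplex.homotopyCofiber.XIsoBiprod f i (i + 1) rfl).symm
        inferInstance
    exact moduleInjective_of_injective _

theorem devissage_hasFiniteInjDim : Devissage (DRing.HasFiniteInjDim R) where
  iso e h := hasFiniteInjDim_of_iso e h
  shift _ n h := hasFiniteInjDim_shift h n
  mid T hT h₁ h₃ :=
    hasFiniteInjDim_obj₃ T.invRotate (inv_rot_of_distTriang _ hT) (hasFiniteInjDim_shift h₃ (-1)) h₁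
  zero _ h := hasFiniteInjDim_of_isZero h

end Groth.Agent.Lib.Helper35.KL
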