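import Mathlib
import Groth.Prelude.Def_DRing2
import Groth.Agent.Lib.Helper35.TARes

/-! Tor amplitude of direct summands (helper35). -/

set_option autoImplicit false
universe u

open CategoryTheory Limits Pretriangulated DerivedCategory ZeroObject CochainComplex
  HomologicalComplex

namespace Groth.Agent.Lib.Helper35.TA

attribute [local instance] HasDerivedCategory.standard

variable {R : Type u} [CommRing R]

lemma isLE_of_retract {K X : Dual.D R} (i : K ⟶ X) (r : X ⟶ K) (h : i ≫ r = 𝟙 K) (t : ℤ)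
    [X.IsLE t] : K.IsLE t := by
  rw [DerivedCategory.isLE_iff]
  intro j hj
  have hz : IsZero ((homologyFunctor (ModuleCat.{u} R) j).obj X) :=
    DerivedCategory.isZero_of_isLE X t j hj
  rw [IsZero.iff_id_eq_zero, ← CategoryTheory.Functor.map_id, ← h, Functor.map_comp,
    hz.eq_of_tgt ((homologyFunctor (ModuleCat.{u} R) j).map i) 0, zero_comp]

lemma isGE_of_retract {K X : Dual.D R} (i : K ⟶ X) (r : X ⟶ K) (h : i ≫ r = 𝟙 K) (t : ℤ)
    [X.IsGE t] : K.IsGE t := by
  rw [DerivedCategory.isGE_iff]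
  intro j hj
  have hz : IsZero ((homologyFunctor (ModuleCat.{u} R) j).obj X) :=
    DerivedCategory.isZero_of_isGE X t j hj
  rw [IsZero.iff_id_eq_zero, ← CategoryTheory.Functor.map_id, ← h, Functor.map_comp,
    hz.eq_of_tgt ((homologyFunctor (ModuleCat.{u} R) j).map i) 0, zero_comp]

/-- Tor amplitude passes to the first summand of a biproduct. -/
theorem TAmp.of_biprod_left (a b : ℤ) (K L : Dual.D R) (h : TAmp a b (K ⊞ L)) : TAmp a b K := by
  have hXLE : (K ⊞ L).IsLE b := h.isLE
  have hXGE : (K ⊞ L).IsGE a := h.isGE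
  have hKLE : K.IsLE b := isLE_of_retract (biprod.inl : K ⟶ K ⊞ L) biprod.fst (by simp) b
  have hLLE : L.IsLE b := isLE_of_retract (biprod.inr : L ⟶ K ⊞ L) biprod.snd (by simp) b
  have hKGE : K.IsGE a := isGE_of_retract (biprod.inl : K ⟶ K ⊞ L) biprod.fst (by simp) a
  obtain ⟨PK, hKv, hKproj, ⟨eK⟩⟩ := exists_projective_rep K b
  obtain ⟨PL, hLv, hLproj, ⟨eL⟩⟩ := exists_projective_rep L b
  let P : DRing.Cx R := PK ⊞ PL
  have hQ : PreservesBinaryBiproducts (Q : DRing.Cx R ⥤ Dual.D R) :=
    preservesBinaryBiproducts_of_preservesBiproducts Q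
  have hev : ∀ i : ℤ, PreservesBinaryBiproducts
      (HomologicalComplex.eval (ModuleCat.{u} R) (ComplexShape.up ℤ) i) := fun i =>
    preservesBinaryBiproducts_of_preservesBiproducts _
  let e : DRing.toD P ≅ K ⊞ L := (Q.mapBiprod PK PL) ≪≫ biprod.mapIso eK eL
  let eX : ∀ i : ℤ, P.X i ≃ₗ[R] (PK.X i × PL.X i) := fun i =>
    (((HomologicalComplex.eval (ModuleCat.{u} R) (ComplexShape.up ℤ) i).mapBiprod PK PL) ≪≫
      ModuleCat.biprodIsoProd _ _).toLinearEquiv
  have hKflat : ∀ i : ℤ, Module.Flat R (PK.X i) := fun i => by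
    have := hKproj i
    infer_instance
  have hLflat : ∀ i : ℤ, Module.Flat R (PL.X i) := fun i => by
    have := hLproj i
    infer_instance
  have hPflat : ∀ i : ℤ, Module.Flat R (P.X i) := fun i => by
    have := hKflat i
    have := hLflat i
    have : Module.Flat R (PK.X i × PL.X i) := flat_prod
    exact Module.Flat.of_linearEquiv (eX i)
  have hPv : DRing.VanishesAbove P b := by
    intro i hi
    have h1 : Subsingleton (PK.X i) := ModuleCat.subsingleton_of_isZero (hKv i hi)
    have h2 : Subsingleton (PL.X i) := ModuleCat.subsingleton_of_isZero (hLv i hi)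
    have : Subsingleton (P.X i) := (eX i).toEquiv.subsingleton
    exact ModuleCat.isZero_of_subsingleton _
  obtain ⟨hPG, hPop⟩ := flat_opcycles_of_TAmp' P b hPv hPflat a b (h.of_iso e.symm)
  have hKop : Module.Flat R (PK.opcycles a) := by
    refine Module.Flat.of_retract
      (HomologicalComplex.opcyclesMap (biprod.inl : PK ⟶ P) a).hom
      (HomologicalComplex.opcyclesMap (biprod.fst : P ⟶ PK) a).hom ?_
    rw [← ModuleCat.hom_comp, ← HomologicalComplex.opcyclesMap_comp, biprod.inl_fst,
      HomologicalComplex.opcyclesMap_id]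
    rfl
  have hPKGE : PK.IsGE a := by
    rw [← DerivedCategory.isGE_Q_obj_iff]
    exact TStructure.t.isGE_of_iso eK.symm a
  have hPKLE : PK.IsLE b := by
    rw [← DerivedCategory.isLE_Q_obj_iff]
    exact TStructure.t.isLE_of_iso eK.symm b
  exact (TAmp_of_flat_opcycles PK b hKv hKflat a b).of_iso eK

theorem TAmp.of_biprod_right (a b : ℤ) (K L : Dual.D R) (h : TAmp a b (K ⊞ L)) : TAmp a b L :=
  TAmp.of_biprod_left a b L K (h.of_iso (biprod.braiding K L))

end Groth.Agent.Lib.Helper35.TA
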