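import Mathlib
import Groth.Prelude.Def_DRing2
import Groth.Prelude.Def_DDual2
import Groth.Agent.Lib.Helper35.IndRep2
import Groth.Agent.Lib.Helper35.TABiprod
import Groth.Agent.Lib.Helper35.PCRes
import Groth.Agent.Lib.Helper6.MPC5

/-! Restriction of scalars of perfect objects along a ring map making the target a perfect
module (helper35). -/

set_option autoImplicit false
universe u

open CategoryTheory Limits Pretriangulated DerivedCategory ZeroObject CochainComplex
  HomologicalComplex

namespace Groth.Agent.Lib.Helper35.KL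

attribute [local instance] HasDerivedCategory.standard

section Perfect

variable {R : Type u} [CommRing R]

/-- Direct summands of perfect objects are perfect. -/
theorem isPerfect_of_biprod_left (K L : Dual.D R) (h : DRing.IsPerfect R (K ⊞ L)) :
    DRing.IsPerfect R K := by
  have hpc := isPseudoCoherent'_of_isPerfect h
  obtain ⟨hpcK, -⟩ := Groth.Agent.Lib.Helper6.MPC.isPC'_of_biprod K L hpc
  obtain ⟨E, a, b, hv, hE, ⟨e⟩⟩ := h
  have hTA : Groth.Agent.Lib.Helper35.TA.TAmp a b (K ⊞ L) := by
    refine ⟨E, hv, fun i => ?_, ⟨e⟩⟩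
    have := (hE i).2
    infer_instance
  exact Groth.Agent.Lib.Helper35.TA.isPerfect_of_isPseudoCoherent'_of_TAmp K hpcK a b
    (Groth.Agent.Lib.Helper35.TA.TAmp.of_biprod_left a b K L hTA)

/-- A module is perfect. -/
def PerfMod (M : ModuleCat.{u} R) : Prop :=
  DRing.IsPerfect R ((DerivedCategory.singleFunctor (ModuleCat.{u} R) 0).obj M)

lemma perfMod_of_iso {M N : ModuleCat.{u} R} (e : M ≅ N) (h : PerfMod M) : PerfMod N :=
  isPerfect_of_iso ((DerivedCategory.singleFunctor (ModuleCat.{u} R) 0).mapIso e) h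

lemma perfMod_of_isZero {M : ModuleCat.{u} R} (h : IsZero M) : PerfMod M :=
  isPerfect_of_isZero ((DerivedCategory.singleFunctor (ModuleCat.{u} R) 0).map_isZero h)

lemma perfMod_of_shortExact {S : ShortComplex (ModuleCat.{u} R)} (hS : S.ShortExact)
    (h₁ : PerfMod S.X₁) (h₃ : PerfMod S.X₃) : PerfMod S.X₂ :=
  (isPerfect_two_out_of_three _ hS.singleTriangle_distinguished).2.1 h₁ h₃

lemma perfMod_of_shortExact₁ {S : ShortComplex (ModuleCat.{u} R)} (hS : S.ShortExact)
    (h₂ : PerfMod S.X₂) (h₃ : PerfMod S.X₃) : PerfMod S.X₁ :=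
  (isPerfect_two_out_of_three _ hS.singleTriangle_distinguished).2.2 h₂ h₃

lemma shortExact_prod (M N : ModuleCat.{u} R) :
    (ShortComplex.mk (ModuleCat.ofHom (LinearMap.inl R M N))
      (ModuleCat.ofHom (LinearMap.snd R M N)) (by ext x; simp)).ShortExact := by
  refine ModuleCat.shortComplex_shortExact _ ?_ LinearMap.inl_injective LinearMap.snd_surjective
  intro x
  constructor
  · intro hx
    have hx' : (x : M × N).2 = 0 := hx
    refine ⟨(x : M × N).1, ?_⟩
    show ((x : M × N).1, (0 : N)) = x
    exact Prod.ext rfl hx'.symm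
  · rintro ⟨y, rfl⟩
    rfl

lemma perfMod_prod (M N : ModuleCat.{u} R) (hM : PerfMod M) (hN : PerfMod N) :
    PerfMod (ModuleCat.of R (M × N)) :=
  perfMod_of_shortExact (shortExact_prod M N) hM hN

lemma perfMod_of_prod_left (M N : ModuleCat.{u} R) (h : PerfMod (ModuleCat.of R (M × N))) :
    PerfMod M := by
  let S0 := DerivedCategory.singleFunctor (ModuleCat.{u} R) 0
  have hS0 : PreservesBinaryBiproducts S0 := preservesBinaryBiproducts_of_preservesBiproducts S0
  have h1 : DRing.IsPerfect R (S0.obj (M ⊞ N)) :=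
    isPerfect_of_iso (S0.mapIso (ModuleCat.biprodIsoProd M N).symm) h
  have h2 : DRing.IsPerfect R (S0.obj M ⊞ S0.obj N) := isPerfect_of_iso (S0.mapBiprod M N) h1
  exact isPerfect_of_biprod_left _ _ h2

lemma perfMod_pi (M : ModuleCat.{u} R) (hM : PerfMod M) (n : ℕ) :
    PerfMod (ModuleCat.of R (Fin n → M)) := by
  induction n with
  | zero => exact perfMod_of_isZero (ModuleCat.isZero_of_subsingleton _)
  | succ n ih =>
    exact perfMod_of_iso (Fin.consLinearEquiv R (fun _ : Fin (n + 1) => (M : Type u))).toModuleIso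
      (perfMod_prod M _ hM ih)

lemma perfMod_of_retract {M N : ModuleCat.{u} R} (i : M ⟶ N) (r : N ⟶ M) (h : i ≫ r = 𝟙 M)
    (hN : PerfMod N) : PerfMod M := by
  have hri : ∀ m, r.hom (i.hom m) = m := fun m => by
    have := congr(($h).hom m)
    simpa using this
  let K := LinearMap.ker r.hom
  let p : N →ₗ[R] K := (LinearMap.id - i.hom ∘ₗ r.hom).codRestrict K (fun x => by
    simp [K, hri])
  let e : N ≃ₗ[R] (M × K) := LinearEquiv.ofLinearMap (LinearMap.prod r.hom p)
    (LinearMap.coprod i.hom K.subtype)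
    (by
      apply LinearMap.ext
      rintro ⟨m, ⟨k, hk⟩⟩
      have hk' : r.hom k = 0 := hk
      apply Prod.ext
      · simp [hri, hk']
      · apply Subtype.ext
        simp [p, hri, hk'])
    (by
      apply LinearMap.ext
      intro x
      simp [p])
  exact perfMod_of_prod_left M (ModuleCat.of R K) (perfMod_of_iso e.toModuleIso hN)

end Perfect

section Restrict

variable {A B : Type u} [CommRing A] [CommRing B] (φ : A →+* B)

theorem devissage_isPerfect_restrict :
    Devissage (R := B) (fun K => DRing.IsPerfect A ((DRing.restrictD φ).obj K)) where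
  iso e h := isPerfect_of_iso ((DRing.restrictD φ).mapIso e) h
  shift K n h :=
    isPerfect_of_iso (((DRing.restrictD φ).commShiftIso n).app K).symm (isPerfect_shift h n)
  mid T hT h₁ h₃ :=
    (isPerfect_two_out_of_three _ ((DRing.restrictD φ).map_distinguished T hT)).2.1 h₁ h₃
  zero _ hK := isPerfect_of_isZero ((DRing.restrictD φ).map_isZero hK)

/-- Restriction of scalars of a perfect object is perfect when the ring is a perfect module. -/
theorem isPerfect_restrictD
    (hB : PerfMod ((ModuleCat.restrictScalars.{u} φ).obj (ModuleCat.of B B)))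
    (K : Dual.D B) (hK : DRing.IsPerfect B K) :
    DRing.IsPerfect A ((DRing.restrictD φ).obj K) := by
  obtain ⟨E, a, b, hv, hE, ⟨e⟩⟩ := hK
  refine (devissage_isPerfect_restrict φ).iso e
    ((devissage_isPerfect_restrict φ).of_bounded_termwise E a b hv (fun i => ?_))
  refine isPerfect_of_iso
    (((ModuleCat.restrictScalars.{u} φ).mapDerivedCategorySingleFunctor 0).app (E.X i)).symm ?_
  change PerfMod ((ModuleCat.restrictScalars.{u} φ).obj (E.X i))
  have h1 := (hE i).1
  have h2 := (hE i).2
  obtain ⟨n, f, g, -, -, hfg⟩ := Module.Finite.exists_comp_eq_id_of_projective B (E.X i)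
  let F := ModuleCat.restrictScalars.{u} φ
  have hret : F.map (ModuleCat.ofHom g) ≫ F.map (ModuleCat.ofHom f) = 𝟙 (F.obj (E.X i)) := by
    rw [← F.map_comp, ← ModuleCat.ofHom_comp, hfg]
    exact F.map_id _
  refine perfMod_of_retract (F.map (ModuleCat.ofHom g)) (F.map (ModuleCat.ofHom f)) hret ?_
  -- `F.obj (B^n)` is `(F.obj B)^n`
  have h3 := perfMod_pi _ hB n
  let e' : (Fin n → (F.obj (ModuleCat.of B B))) ≃ₗ[A] F.obj (ModuleCat.of B (Fin n → B)) :=
    { toFun := fun x => x
      invFun := fun x => x
      left_inv := fun _ => rfl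
      right_inv := fun _ => rfl
      map_add' := fun _ _ => rfl
      map_smul' := fun _ _ => rfl }
  exact perfMod_of_iso e'.toModuleIso h3

end Restrict

end Groth.Agent.Lib.Helper35.KL
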