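import Mathlib

/-! Spreading out a splitting from the residue field of a prime (helper35). -/

set_option autoImplicit false
universe u

open TensorProduct

namespace Groth.Agent.Lib.Helper35.SplitAway

section CA

variable {R : Type u} [CommRing R] (p : Ideal R) [p.IsPrime]
  {X Y Z : Type u} [AddCommGroup X] [Module R X] [AddCommGroup Y] [Module R Y]
  [AddCommGroup Z] [Module R Z] [Module.Finite R Y] [Module.Finite R Z] [Module.Free R Z]
  (d₁ : X →ₗ[R] Y) (d₂ : Y →ₗ[R] Z)

/-- the induced map from the cokernel. -/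
noncomputable abbrev lmap (h : d₂ ∘ₗ d₁ = 0) : (Y ⧸ LinearMap.range d₁) →ₗ[R] Z :=
  (LinearMap.range d₁).liftQ d₂ (by
    rintro _ ⟨x, rfl⟩
    exact LinearMap.congr_fun h x)

lemma lmap_mkQ (h : d₂ ∘ₗ d₁ = 0) : lmap d₁ d₂ h ∘ₗ (LinearMap.range d₁).mkQ = d₂ :=
  Submodule.liftQ_mkQ _ _ _

/-- injectivity of `k ⊗ l` from exactness of `k ⊗ d₁`, `k ⊗ d₂`. -/
lemma lmap_lTensor_injective (h : d₂ ∘ₗ d₁ = 0) (k : Type u) [AddCommGroup k] [Module R k]
    (hex : Function.Exact (d₁.lTensor k) (d₂.lTensor k)) :
    Function.Injective ((lmap d₁ d₂ h).lTensor k) := by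
  have h1 : Function.Exact (d₁.lTensor k) ((LinearMap.range d₁).mkQ.lTensor k) :=
    lTensor_exact _ (LinearMap.exact_map_mkQ_range d₁) (Submodule.mkQ_surjective _)
  have hs : Function.Surjective ((LinearMap.range d₁).mkQ.lTensor k) :=
    LinearMap.lTensor_surjective _ (Submodule.mkQ_surjective _)
  rw [injective_iff_map_eq_zero]
  intro y hy
  obtain ⟨y', rfl⟩ := hs y
  have h2 : d₂.lTensor k y' = 0 := by
    rw [← lmap_mkQ d₁ d₂ h, LinearMap.lTensor_comp]
    exact hy
  obtain ⟨w, rfl⟩ := (hex y').1 h2
  exact (h1 _).2 ⟨w, rfl⟩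

section Local

variable {R : Type u} [CommRing R] (p : Ideal R) [p.IsPrime]
  {M N : Type u} [AddCommGroup M] [Module R M] [AddCommGroup N] [Module R N]

/-- residue-field injectivity passes to the localization at `p`. -/
lemma lTensor_baseChange_injective (l : M →ₗ[R] N)
    (hl : Function.Injective (l.lTensor p.ResidueField)) :
    Function.Injective ((l.baseChange (Localization.AtPrime p)).lTensor
      (IsLocalRing.ResidueField (Localization.AtPrime p))) := by
  let Rp := Localization.AtPrime p
  let κ := IsLocalRing.ResidueField Rp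
  let eM := TensorProduct.AlgebraTensorModule.cancelBaseChange R Rp Rp κ M
  let eN := TensorProduct.AlgebraTensorModule.cancelBaseChange R Rp Rp κ N
  have key : ∀ x, eN ((l.baseChange Rp).lTensor κ x) = (l.lTensor κ) (eM x) := by
    intro x
    induction x using TensorProduct.induction_on with
    | zero => simp
    | tmul k y =>
      induction y using TensorProduct.induction_on with
      | zero => simp
      | tmul a m =>
        simp [eM, eN, TensorProduct.AlgebraTensorModule.cancelBaseChange_tmul]
      | add y y' hy hy' =>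
        rw [TensorProduct.tmul_add, map_add, map_add, map_add, map_add, hy, hy']
    | add x x' hx hx' =>
      rw [map_add, map_add, map_add, map_add, hx, hx']
  intro x x' hxx
  have h1 : (l.lTensor κ) (eM x) = (l.lTensor κ) (eM x') := by
    rw [← key, ← key, hxx]
  exact eM.injective (hl h1)

end Local

include p in
/-- **Spreading out**: if `X → Y → Z` (with `Y` finite, `Z` finite free) becomes exact in the
middle after tensoring with `κ(p)`, then on a basic open neighbourhood `D(f)` of `p` there is
`t : Z_f → Y_f` with `t d₂ ≡ id` modulo the image of `d₁`. -/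
theorem exists_away_split (h : d₂ ∘ₗ d₁ = 0)
    (hex : Function.Exact (d₁.lTensor p.ResidueField) (d₂.lTensor p.ResidueField)) :
    ∃ f : R, f ∉ p ∧ ∃ t : (Localization.Away f ⊗[R] Z) →ₗ[Localization.Away f]
        (Localization.Away f ⊗[R] Y),
      ∀ y, t (d₂.baseChange (Localization.Away f) y) - y ∈
        LinearMap.range (d₁.baseChange (Localization.Away f)) := by
  let C := Y ⧸ LinearMap.range d₁
  let π : Y →ₗ[R] C := (LinearMap.range d₁).mkQ
  let l : C →ₗ[R] Z := lmap d₁ d₂ h
  have hlπ : l ∘ₗ π = d₂ := lmap_mkQ d₁ d₂ h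
  let Rp := Localization.AtPrime p
  have hinj := lTensor_baseChange_injective p l (lmap_lTensor_injective d₁ d₂ h _ hex)
  obtain ⟨rp, hrp⟩ :=
    (IsLocalRing.split_injective_iff_lTensor_residueField_injective (l.baseChange Rp)).2 hinj
  let φC : C →ₗ[R] Rp ⊗[R] C := TensorProduct.mk R Rp C 1
  let φZ : Z →ₗ[R] Rp ⊗[R] Z := TensorProduct.mk R Rp Z 1
  have hfpZ : Module.FinitePresentation R Z := Module.finitePresentation_of_projective R Z
  obtain ⟨r₀, s, hr₀⟩ := Module.FinitePresentation.exists_lift_of_isLocalizedModule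
    p.primeCompl φC (rp.restrictScalars R ∘ₗ φZ)
  have hcomp : φC ∘ₗ (r₀ ∘ₗ l) = φC ∘ₗ ((s : R) • LinearMap.id) := by
    refine LinearMap.ext fun c => ?_
    have h1 := LinearMap.congr_fun hr₀ (l c)
    have h2 : φZ (l c) = (l.baseChange Rp) (φC c) := by simp [φZ, φC]
    have h3 := LinearMap.congr_fun hrp (φC c)
    simp only [LinearMap.comp_apply, LinearMap.smul_apply, LinearMap.coe_restrictScalars,
      LinearMap.id_apply] at h1 h3 ⊢
    rw [h1, h2, h3, map_smul]
    rfl
  obtain ⟨s', hs'⟩ := Module.Finite.exists_smul_of_comp_eq_of_isLocalizedModule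
    p.primeCompl φC _ _ hcomp
  refine ⟨(s : R) * (s' : R), ?_, ?_⟩
  · exact (p.primeCompl.mul_mem s.2 s'.2)
  let S := Localization.Away ((s : R) * (s' : R))
  have hu0 : IsUnit (algebraMap R S ((s : R) * (s' : R))) :=
    IsLocalization.Away.algebraMap_isUnit _
  have hu : IsUnit (algebraMap R S s) := by
    rw [map_mul] at hu0
    exact isUnit_of_mul_isUnit_left hu0
  have hu' : IsUnit (algebraMap R S s') := by
    rw [map_mul] at hu0
    exact isUnit_of_mul_isUnit_right hu0
  have hr : ∀ c, (r₀.baseChange S) ((l.baseChange S) c) = (algebraMap R S s) • c := by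
    intro c
    have h4 : ((s' : R) • (r₀ ∘ₗ l)).baseChange S = ((s' : R) • ((s : R) • LinearMap.id)).baseChange S :=
      congrArg (LinearMap.baseChange S) hs'
    have h5 := LinearMap.congr_fun h4 c
    rw [LinearMap.baseChange_smul, LinearMap.baseChange_smul, LinearMap.baseChange_smul,
      LinearMap.baseChange_comp, LinearMap.baseChange_id] at h5
    simp only [LinearMap.smul_apply, LinearMap.comp_apply, LinearMap.id_apply] at h5
    rw [← algebraMap_smul S (s' : R), ← algebraMap_smul S (s' : R) ((s : R) • c)] at h5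
    have h6 := hu'.smul_left_cancel.1 h5
    rw [h6, algebraMap_smul]
  have hπs : Function.Surjective (π.baseChange S) := by
    rw [LinearMap.baseChange_eq_ltensor]
    exact LinearMap.lTensor_surjective _ (Submodule.mkQ_surjective _)
  obtain ⟨t', ht'⟩ := Module.projective_lifting_property (π.baseChange S) (r₀.baseChange S) hπs
  refine ⟨(↑(hu.unit⁻¹) : S) • t', ?_⟩
  intro y
  have hexact : Function.Exact (d₁.lTensor S) (π.lTensor S) :=
    lTensor_exact S (LinearMap.exact_map_mkQ_range d₁) (Submodule.mkQ_surjective _)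
  have hmem : (π.baseChange S) (((↑(hu.unit⁻¹) : S) • t') (d₂.baseChange S y) - y) = 0 := by
    have h7 : (π.baseChange S) (t' (d₂.baseChange S y)) = (r₀.baseChange S) (d₂.baseChange S y) :=
      LinearMap.congr_fun ht' _
    have h8 : d₂.baseChange S y = (l.baseChange S) ((π.baseChange S) y) := by
      rw [← LinearMap.comp_apply, ← LinearMap.baseChange_comp, hlπ]
    rw [map_sub, LinearMap.smul_apply, map_smul]
    rw [h7, h8, hr, smul_smul, IsUnit.val_inv_mul, one_smul, sub_self]
  obtain ⟨x, hx⟩ := (hexact _).1 hmem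
  exact ⟨x, hx⟩

end CA

end Groth.Agent.Lib.Helper35.SplitAway
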