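import Groth.Agent.S7004
import Groth.Agent.Lib.Helper35.SplitAway
import Groth.Agent.Lib.Helper35.FlatBC
import Groth.Agent.Lib.Helper35.LocalPerf
import Groth.Agent.Lib.Helper35.RestrPerf
import Groth.Agent.Lib.Helper6.ExtCocycle
import Groth.Agent.Lib.Helper6.MPC5

/-! Splitting a pseudo-coherent complex near a prime where a fibre cohomology group vanishes
(helper35). -/

set_option autoImplicit false
universe u

open CategoryTheory CategoryTheory.Limits DerivedCategory TensorProduct

attribute [local instance] HasDerivedCategory.standard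

namespace Groth.Agent.Lib.Helper35.SplitAway

open Groth.Agent.Lib.Helper35.FlatBC Groth.Agent.Lib.Helper35.TA Groth.Agent.Lib.Helper35.KL
  Groth.Agent.Lib.Helper32.LBC

section Nat

variable {A B : Type u} [CommRing A] [CommRing B] [Algebra A B]

set_option backward.isDefEq.respectTransparency false in
lemma extLinearEquiv_map {M N : ModuleCat.{u} A} (f : M ⟶ N) (x : (ext A B).obj M) :
    extLinearEquiv B N (((ext A B).map f).hom x) =
      (f.hom.baseChange B) (extLinearEquiv B M x) := by
  induction x using TensorProduct.induction_on with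
  | zero => simp
  | tmul b m =>
    show extLinearEquivA B N (((ext A B).map f).hom (b ⊗ₜ m)) =
      (f.hom.baseChange B) (extLinearEquivA B M (b ⊗ₜ m))
    rw [ModuleCat.ExtendScalars.map_tmul]
    simp only [extLinearEquivA, TensorProduct.congr_tmul, LinearEquiv.refl_apply,
      LinearMap.baseChange_tmul]
  | add x y hx hy =>
    rw [map_add, map_add, map_add, map_add, hx, hy]

end Nat

section Fibre

variable {R : Type u} [CommRing R]

theorem exact_lTensor_congr' {k₁ k₂ : Type u} [AddCommGroup k₁] [Module R k₁] [AddCommGroup k₂]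
    [Module R k₂] (e : k₁ ≃ₗ[R] k₂) {X Y Z : Type u} [AddCommGroup X] [Module R X]
    [AddCommGroup Y] [Module R Y] [AddCommGroup Z] [Module R Z] (f : X →ₗ[R] Y) (g : Y →ₗ[R] Z)
    (h : Function.Exact (f.lTensor k₁) (g.lTensor k₁)) :
    Function.Exact (f.lTensor k₂) (g.lTensor k₂) := by
  refine (Function.Exact.iff_of_ladder_linearEquiv
    (e₁ := TensorProduct.congr e (LinearEquiv.refl R X))
    (e₂ := TensorProduct.congr e (LinearEquiv.refl R Y))
    (e₃ := TensorProduct.congr e (LinearEquiv.refl R Z))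
    (f₁₂ := f.lTensor k₁) (f₂₃ := g.lTensor k₁)
    (g₁₂ := f.lTensor k₂) (g₂₃ := g.lTensor k₂) ?_ ?_).2 h
  · ext x y; simp
  · ext x y; simp

set_option backward.isDefEq.respectTransparency false in
theorem exact_lTensor_of_fibre (p : Ideal R) [p.IsPrime]
    [DRing.HasLBaseChange (algebraMap R p.ResidueField)] (i : ℤ) (F : DRing.Cx R)
    [F.IsKProjective] (K : Dual.D R) (e : DRing.toD F ≅ K)
    (hi : Subsingleton (Dual.HD p.ResidueField
      ((DRing.LBaseChange (algebraMap R p.ResidueField)).obj K) i)) :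
    Function.Exact ((F.d (i - 1) i).hom.lTensor p.ResidueField)
      ((F.d i (i + 1)).hom.lTensor p.ResidueField) := by
  have e1 := lbcIso (algebraMap R p.ResidueField) F
  have hz : IsZero ((homologyFunctor (ModuleCat.{u} p.ResidueField) i).obj
      ((DRing.LBaseChange (algebraMap R p.ResidueField)).obj K)) :=
    ModuleCat.isZero_of_subsingleton _
  have h1 := hz.of_iso ((homologyFunctor (ModuleCat.{u} p.ResidueField) i).mapIso
    ((DRing.LBaseChange (algebraMap R p.ResidueField)).mapIso e.symm ≪≫ e1).symm)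
  rw [isZero_homology_toD_iff,
    HomologicalComplex.exactAt_iff' _ (i - 1) i (i + 1) (by simp) (by simp),
    ShortComplex.ShortExact.moduleCat_exact_iff_function_exact] at h1
  have h2 : Function.Exact ((F.d (i - 1) i).hom.lTensor (B' R p.ResidueField))
      ((F.d i (i + 1)).hom.lTensor (B' R p.ResidueField)) := h1
  exact exact_lTensor_congr' (e₁ R p.ResidueField) _ _ h2

end Fibre

section Main

open Groth.Agent.Lib.Helper6.ExtCocycle

variable {R : Type u} [CommRing R]

set_option backward.isDefEq.respectTransparency false in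
/-- vanishing of `Hom(P_S, N[-i])` from a splitting at degree `i`. -/
theorem subsingleton_hom_of_split {S : Type u} [CommRing S] [Algebra R S] [Module.Flat R S]
    (P : DRing.Cx R) (i b : ℤ)
    (hPb : DRing.VanishesAbove P b) (hPf : DRing.TermwiseFiniteFree P)
    (t : (S ⊗[R] P.X (i + 1)) →ₗ[S] (S ⊗[R] P.X i))
    (ht : ∀ y, t ((P.d i (i + 1)).hom.baseChange S y) - y ∈
      LinearMap.range ((P.d (i - 1) i).hom.baseChange S))
    (N : ModuleCat.{u} S) :
    Subsingleton (DRing.toD ((extCx R S).obj P) ⟶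
      ((DerivedCategory.singleFunctor (ModuleCat.{u} S) 0).obj N)⟦-i⟧) := by
  let X := (extCx R S).obj P
  have hXproj : ∀ j : ℤ, Module.Projective S (X.X j) := fun j => by
    have := (hPf j).2
    exact projective_ext_obj S (P.X j)
  have hXb : DRing.VanishesAbove X b := vanishesAbove_extCx S P b hPb
  have hKP : X.IsKProjective := KL.isKProjective_of_vanishesAbove X b hXb hXproj
  suffices h0 : ∀ φ : DRing.toD X ⟶
      ((DerivedCategory.singleFunctor (ModuleCat.{u} S) 0).obj N)⟦-i⟧, φ = 0 from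
    ⟨fun φ ψ => (h0 φ).trans (h0 ψ).symm⟩
  intro φ
  have h1 : i + -i = 0 := by omega
  have h2 : (i - 1) + 1 = i := by omega
  obtain ⟨z, hz, rfl⟩ := extOf_surjective (F := X) h1 h2 φ
  rw [extOf_eq_zero_iff h1 h2 (rfl : i + 1 = i + 1)]
  let eX := extLinearEquiv (A := R) S (P.X (i - 1))
  let eY := extLinearEquiv (A := R) S (P.X i)
  let eZ := extLinearEquiv (A := R) S (P.X (i + 1))
  let g' : (X.X (i + 1)) →ₗ[S] N := z.hom ∘ₗ eY.symm.toLinearMap ∘ₗ t ∘ₗ eZ.toLinearMap
  refine ⟨ModuleCat.ofHom g', ?_⟩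
  ext w
  show z.hom (eY.symm (t (eZ (((ext R S).map (P.d i (i + 1))).hom w)))) = z.hom w
  rw [extLinearEquiv_map]
  obtain ⟨x, hx⟩ := ht (eY w)
  have h3 : t (((P.d i (i + 1)).hom.baseChange S) (eY w)) =
      eY w + ((P.d (i - 1) i).hom.baseChange S) x := by
    rw [hx]; abel
  have h4 : ((P.d (i - 1) i).hom.baseChange S) x =
      eY (((ext R S).map (P.d (i - 1) i)).hom (eX.symm x)) := by
    rw [extLinearEquiv_map, LinearEquiv.apply_symm_apply]
  rw [h3, map_add, LinearEquiv.symm_apply_apply, h4, LinearEquiv.symm_apply_apply, map_add]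
  have h5 : z.hom (((ext R S).map (P.d (i - 1) i)).hom (eX.symm x)) = 0 := by
    have := congrArg (fun q => q.hom (eX.symm x)) hz
    exact this
  rw [h5, add_zero]

set_option backward.isDefEq.respectTransparency false in
theorem exists_away_split_truncations (p : Ideal R) [p.IsPrime]
    [DRing.HasLBaseChange (algebraMap R p.ResidueField)] (i : ℤ) (K : DRing.Cx R)
    (hK : DRing.IsPseudoCoherent' R (DRing.toD K))
    (hi : Subsingleton (Dual.HD p.ResidueField
      ((DRing.LBaseChange (algebraMap R p.ResidueField)).obj (DRing.toD K)) i)) :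
    ∃ f : R, f ∉ p ∧
      let Kf := DRing.toD (((ModuleCat.extendScalars (algebraMap R (Localization.Away f))).mapHomologicalComplex
        (ComplexShape.up ℤ)).obj K)
      let t := (DerivedCategory.TStructure.t : Triangulated.TStructure (Dual.D (Localization.Away f)))
      let Kge := (t.truncGE (i + 1)).obj Kf
      let Klt := (t.truncLT i).obj Kf
      DRing.IsPerfect (Localization.Away f) Kge ∧
        (∃ b : ℤ, DRing.HasTorAmplitudeIn (Localization.Away f) (i + 1) b Kge) ∧
        ∀ [HasBinaryBiproduct Kge Klt], ∃ e : Kf ≅ Kge ⊞ Klt,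
          e.hom ≫ biprod.fst = (t.truncGEπ (i + 1)).app Kf ∧ (t.truncLTι i).app Kf ≫ e.hom = biprod.inr := by
  obtain ⟨P, b, hPb, hPf, ⟨e⟩⟩ := hK
  have hPproj : ∀ j : ℤ, Module.Projective R (P.X j) := fun j => by
    have := (hPf j).2
    infer_instance
  have hKP : P.IsKProjective := KL.isKProjective_of_vanishesAbove P b hPb hPproj
  have hex := exact_lTensor_of_fibre p i P (DRing.toD K) e hi
  have hdd : (P.d i (i + 1)).hom ∘ₗ (P.d (i - 1) i).hom = 0 := by
    ext x
    rw [LinearMap.comp_apply, ← ModuleCat.comp_apply, P.d_comp_d]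
    rfl
  have := (hPf i).1
  have := (hPf (i + 1)).1
  have := (hPf (i + 1)).2
  obtain ⟨f, hf, t, ht⟩ := exists_away_split p (P.d (i - 1) i).hom (P.d i (i + 1)).hom hdd hex
  refine ⟨f, hf, ?_⟩
  intro Kf tt Kge Klt
  let S := Localization.Away f
  have eKf : Kf ≅ DRing.toD ((extCx R S).obj P) :=
    (GQIso S K).symm ≪≫ (G R S).mapIso e.symm ≪≫ GQIso S P
  have hpcX : DRing.IsPseudoCoherent' S (DRing.toD ((extCx R S).obj P)) :=
    ⟨_, b, vanishesAbove_extCx S P b hPb, termwiseFiniteFree_extCx S P hPf, ⟨Iso.refl _⟩⟩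
  have hpcKf : DRing.IsPseudoCoherent' S Kf := Groth.Agent.Lib.Helper35.FlatBC.isPseudoCoherent'_of_iso S eKf.symm hpcX
  have hKb : ∃ b : ℤ, ∀ j : ℤ, b < j → Subsingleton (Dual.HD S Kf j) := by
    refine ⟨b, fun j hj => ?_⟩
    have hz : IsZero ((homologyFunctor (ModuleCat.{u} S) j).obj (DRing.toD ((extCx R S).obj P))) := by
      rw [isZero_homology_toD_iff]
      exact HomologicalComplex.ExactAt.of_isZero (vanishesAbove_extCx S P b hPb j hj)
    exact ModuleCat.subsingleton_of_isZero
      (hz.of_iso ((homologyFunctor (ModuleCat.{u} S) j).mapIso eKf))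
  have hvan : ∀ (M : Type u) [AddCommGroup M] [Module S M],
      Subsingleton (Kf ⟶ (shiftFunctor (Dual.D S) (-i)).obj (Dual.inD S M)) := by
    intro M _ _
    have h0 := subsingleton_hom_of_split (S := S) P i b hPb hPf t ht (ModuleCat.of S M)
    exact ⟨fun φ ψ => by
      have := h0.elim (eKf.inv ≫ φ) (eKf.inv ≫ ψ)
      exact (cancel_epi eKf.inv).1 this⟩
  obtain ⟨⟨e0, he1, he2⟩, P', b', hv', hproj', ⟨eP'⟩⟩ := Groth.Agent.S7004.result S i Kf hKb hvan
  have hTA : DRing.HasTorAmplitudeIn S (i + 1) b' Kge := by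
    refine ⟨P', hv', fun j => ?_, ⟨eP'⟩⟩
    have := hproj' j
    infer_instance
  have hpcsum : DRing.IsPseudoCoherent' S (Klt ⊞ Kge) := Groth.Agent.Lib.Helper35.FlatBC.isPseudoCoherent'_of_iso S e0 hpcKf
  obtain ⟨-, hpcKge⟩ := Groth.Agent.Lib.Helper6.MPC.isPC'_of_biprod Klt Kge hpcsum
  refine ⟨isPerfect_of_isPseudoCoherent'_of_TAmp Kge hpcKge (i + 1) b' hTA, ⟨b', hTA⟩, ?_⟩
  intro inst
  refine ⟨e0 ≪≫ biprod.braiding Klt Kge, ?_, ?_⟩
  · rw [Iso.trans_hom, Category.assoc, biprod.braiding_hom, biprod.lift_fst]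
    exact he2
  · rw [Iso.trans_hom, ← Category.assoc, he1, biprod.braiding_hom]
    apply biprod.hom_ext
    · simp only [Category.assoc, biprod.lift_fst]
      exact (biprod.inl_snd).trans (biprod.inr_fst).symm
    · simp only [Category.assoc, biprod.lift_snd]
      exact (biprod.inl_fst).trans (biprod.inr_snd).symm

end Main


end Groth.Agent.Lib.Helper35.SplitAway
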