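import Groth.Agent.Lib.Helper35.FibreTor
import Groth.Agent.Lib.Helper35.FlatBC
import Groth.Agent.Lib.Helper35.GlobalPerf
import Groth.Agent.Lib.Helper35.SplitAway2
import Groth.Agent.Lib.Helper6.PushoutBC

set_option autoImplicit false
universe u

open CategoryTheory CategoryTheory.Limits DerivedCategory TensorProduct MonoidalCategory

attribute [local instance] HasDerivedCategory.standard

namespace Groth.Agent.Lib.Helper35.FibreTor

open Groth.Agent.Lib.Helper35.TA Groth.Agent.Lib.Helper35.KL Groth.Agent.Lib.Helper35.FlatBC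

section TwoRing

variable (A B k C : Type u) [CommRing A] [CommRing B] [Algebra A B] [CommRing k] [Algebra A k]
  [CommRing C] [Algebra B C] [Algebra k C] [Algebra A C] [IsScalarTower A B C]
  [IsScalarTower A k C] [Algebra.IsPushout A k B C]

set_option backward.isDefEq.respectTransparency false in
theorem exactAt_ext_of_exactAt_ext_restrict (F : DRing.Cx B) (i : ℤ)
    (h : (((ModuleCat.extendScalars.{u, u, u} (algebraMap A k)).mapHomologicalComplex
      (ComplexShape.up ℤ)).obj (((ModuleCat.restrictScalars.{u}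
        (algebraMap A B)).mapHomologicalComplex (ComplexShape.up ℤ)).obj F)).ExactAt i) :
    ((extCx B C).obj F).ExactAt i := by
  have h1 := h.of_iso (Groth.Agent.Lib.Helper6.PushoutBC.bcCxIso A k C F)
  rw [HomologicalComplex.exactAt_iff' _ (i - 1) i (i + 1) (by simp) (by simp),
    ShortComplex.ShortExact.moduleCat_exact_iff_function_exact] at h1 ⊢
  exact h1

set_option backward.isDefEq.respectTransparency false in
theorem exact_lTensor_of_fibre (d : ℕ) (hTD : ∀ M : ModuleCat.{u} C, TD d M)
    (F : DRing.Cx B) (b' : ℤ) (hFb : DRing.VanishesAbove F b')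
    (hFflat : ∀ i : ℤ, Module.Flat B (F.X i)) (a b : ℤ)
    (hex : ∀ i : ℤ, (i < a ∨ b < i) →
      (((ModuleCat.extendScalars.{u, u, u} (algebraMap A k)).mapHomologicalComplex
        (ComplexShape.up ℤ)).obj (((ModuleCat.restrictScalars.{u}
          (algebraMap A B)).mapHomologicalComplex (ComplexShape.up ℤ)).obj F)).ExactAt i)
    (N : Type u) [AddCommGroup N] [Module C N] [Module B N] [IsScalarTower B C N] (i : ℤ)
    (hi : i < a - d ∨ b < i) :
    Function.Exact ((F.d (i - 1) i).hom.lTensor N) ((F.d i (i + 1)).hom.lTensor N) := by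
  let Fb : DRing.Cx C := (extCx B C).obj F
  have hFbb : DRing.VanishesAbove Fb b' := fun i hi => (ext B C).map_isZero (hFb i hi)
  have hFbflat : ∀ i : ℤ, Module.Flat C (Fb.X i) := fun i =>
    have := hFflat i
    flat_ext_obj C (F.X i)
  have hFbex : ∀ i : ℤ, (i < a ∨ b < i) →
      IsZero ((homologyFunctor (ModuleCat.{u} C) i).obj (DRing.toD Fb)) := by
    intro i hi
    rw [isZero_homology_toD_iff]
    exact exactAt_ext_of_exactAt_ext_restrict A B k C F i (hex i hi)
  have hTA : TAmp (a - d) b (DRing.toD Fb) := TAmp_of_forall_TD d hTD _ a b hFbex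
  have h1 := exact_lTensor_of_TAmp Fb b' hFbb hFbflat (a - d) b hTA N i hi
  rw [← exact_lTensor_baseChange_iff (A := B) (B := C) (F := N)]
  let eX := extLinearEquiv (A := B) C (F.X (i - 1))
  let eY := extLinearEquiv (A := B) C (F.X i)
  let eZ := extLinearEquiv (A := B) C (F.X (i + 1))
  refine (Function.Exact.iff_of_ladder_linearEquiv
    (e₁ := LinearEquiv.lTensor N eX) (e₂ := LinearEquiv.lTensor N eY)
    (e₃ := LinearEquiv.lTensor N eZ)
    (f₁₂ := (Fb.d (i - 1) i).hom.lTensor N) (f₂₃ := (Fb.d i (i + 1)).hom.lTensor N)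
    (g₁₂ := ((F.d (i - 1) i).hom.baseChange C).lTensor N)
    (g₂₃ := ((F.d i (i + 1)).hom.baseChange C).lTensor N) ?_ ?_).2 h1
  · ext n x
    simp only [TensorProduct.AlgebraTensorModule.curry_apply, LinearMap.restrictScalars_comp,
      TensorProduct.curry_apply, LinearMap.coe_comp, LinearMap.coe_restrictScalars,
      Function.comp_apply, LinearMap.lTensor_tmul, LinearEquiv.coe_coe, LinearEquiv.lTensor_tmul]
    congr 1
    exact (Groth.Agent.Lib.Helper35.SplitAway.extLinearEquiv_map (F.d (i - 1) i) x).symm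
  · ext n x
    simp only [TensorProduct.AlgebraTensorModule.curry_apply, LinearMap.restrictScalars_comp,
      TensorProduct.curry_apply, LinearMap.coe_comp, LinearMap.coe_restrictScalars,
      Function.comp_apply, LinearMap.lTensor_tmul, LinearEquiv.coe_coe, LinearEquiv.lTensor_tmul]
    congr 1
    exact (Groth.Agent.Lib.Helper35.SplitAway.extLinearEquiv_map (F.d i (i + 1)) x).symm

end TwoRing

end Groth.Agent.Lib.Helper35.FibreTor
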