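import Groth.Agent.Lib.Helper35.FibreTor
import Groth.Agent.Lib.Helper35.GlobalPerf

set_option autoImplicit false
universe u

open CategoryTheory CategoryTheory.Limits DerivedCategory TensorProduct MonoidalCategory

attribute [local instance] HasDerivedCategory.standard

namespace Groth.Agent.Lib.Helper35.FibreTor

open Groth.Agent.Lib.Helper35.TA Groth.Agent.Lib.Helper35.KL

section Crit

variable {R : Type u} [CommRing R]

set_option backward.isDefEq.respectTransparency false in
/-- chain level criterion: exactness of all closed fibres outside `[a, b]`. -/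
theorem isPerfect_and_TAmp_of_exact_residueField (F : DRing.Cx R) (b' : ℤ)
    (hFb : DRing.VanishesAbove F b') (hF : DRing.TermwiseFiniteFree F) (a b : ℤ)
    (hex : ∀ (m : Ideal R) [m.IsMaximal], ∀ i : ℤ, (i < a ∨ b < i) →
      Function.Exact ((F.d (i - 1) i).hom.lTensor m.ResidueField)
        ((F.d i (i + 1)).hom.lTensor m.ResidueField)) :
    DRing.IsPerfect R (DRing.toD F) ∧ TAmp a b (DRing.toD F) := by
  have hFproj : ∀ i : ℤ, Module.Projective R (F.X i) := fun i => by
    have := (hF i).2
    infer_instance
  have hFflat : ∀ i : ℤ, Module.Flat R (F.X i) := fun i => by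
    have := hFproj i
    infer_instance
  have hloc : ∀ i : ℤ, (i < a ∨ b < i) → Function.Exact (F.d (i - 1) i).hom (F.d i (i + 1)).hom ∧
      Module.Flat R (F.X (i + 1) ⧸ LinearMap.range (F.d i (i + 1)).hom) := by
    intro i hi
    have := (hF i).1
    have := (hF (i + 1)).1
    have := (hF (i + 1)).2
    refine global_exact_and_flat _ _ ?_ (fun m hm =>
      exact_lTensor_congr' (quotResidueEquiv m).symm _ _ (hex m i hi))
    ext x
    rw [LinearMap.comp_apply, ← ModuleCat.comp_apply, F.d_comp_d]
    rfl
  have hGE : F.IsGE a := by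
    rw [CochainComplex.isGE_iff]
    intro i hi
    rw [HomologicalComplex.exactAt_iff' _ (i - 1) i (i + 1) (by simp) (by simp),
      ShortComplex.ShortExact.moduleCat_exact_iff_function_exact]
    exact (hloc i (Or.inl hi)).1
  have hLE : F.IsLE b := by
    rw [CochainComplex.isLE_iff]
    intro i hi
    rw [HomologicalComplex.exactAt_iff' _ (i - 1) i (i + 1) (by simp) (by simp),
      ShortComplex.ShortExact.moduleCat_exact_iff_function_exact]
    exact (hloc i (Or.inr hi)).1
  have hop : Module.Flat R (F.opcycles a) := by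
    have h2 := (hloc (a - 1) (Or.inl (by omega))).2
    have ha : a - 1 + 1 = a := by omega
    rw [ha] at h2
    exact Module.Flat.of_linearEquiv (opcyclesLinearEquiv F (a - 1) a (by omega)).symm
  have hTA : TAmp a b (DRing.toD F) := TAmp_of_flat_opcycles F b' hFb hFflat a b
  exact ⟨isPerfect_of_isPseudoCoherent'_of_TAmp _ ⟨F, b', hFb, hF, ⟨Iso.refl _⟩⟩ a b hTA, hTA⟩

end Crit

end Groth.Agent.Lib.Helper35.FibreTor
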