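import Groth.Agent.Lib.Helper35.FibreTor
import Groth.Agent.Lib.Helper35.GlobalPerf
import Groth.Agent.Lib.Helper35.SplitAway2
import Groth.Agent.Lib.Helper6.PushoutBC
import Groth.Agent.Lib.Helper35.FibreTorB
import Groth.Agent.Lib.Helper35.FibreTorC

set_option autoImplicit false
universe u

open CategoryTheory CategoryTheory.Limits DerivedCategory TensorProduct MonoidalCategory

attribute [local instance] HasDerivedCategory.standard

namespace Groth.Agent.Lib.Helper35.FibreTor

open Groth.Agent.Lib.Helper35.TA Groth.Agent.Lib.Helper35.KL Groth.Agent.Lib.Helper35.FlatBC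

section GlDim

attribute [local instance] Algebra.TensorProduct.rightAlgebra

variable {A B : Type u} [CommRing A] [CommRing B] [Algebra A B]

/-- the restriction of a complex of `B`-modules -/
noncomputable abbrev resCx : DRing.Cx B ⥤ DRing.Cx A :=
  (ModuleCat.restrictScalars.{u} (algebraMap A B)).mapHomologicalComplex (ComplexShape.up ℤ)

variable (A) in
theorem flat_resCx_X [Module.Flat A B] (F : DRing.Cx B) (i : ℤ) [Module.Flat B (F.X i)] :
    Module.Flat A (((resCx (A := A)).obj F).X i) := by
  let _ : Module A (F.X i) := Module.compHom _ (algebraMap A B)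
  have : IsScalarTower A B (F.X i) := IsScalarTower.of_algebraMap_smul (fun _ _ => rfl)
  exact Module.Flat.trans A B (F.X i)

set_option backward.isDefEq.respectTransparency false in
/-- from exactness of `k ⊗_A d` to exactness of the complex `k ⊗_A X`. -/
theorem exactAt_ext_of_exact_lTensor (k : Type u) [CommRing k] [Algebra A k] (X : DRing.Cx A) (i : ℤ)
    (h : Function.Exact ((X.d (i - 1) i).hom.lTensor k) ((X.d i (i + 1)).hom.lTensor k)) :
    (((ModuleCat.extendScalars.{u, u, u} (algebraMap A k)).mapHomologicalComplex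
      (ComplexShape.up ℤ)).obj X).ExactAt i := by
  rw [HomologicalComplex.exactAt_iff' _ (i - 1) i (i + 1) (by simp) (by simp),
    ShortComplex.ShortExact.moduleCat_exact_iff_function_exact]
  have h2 : Function.Exact ((X.d (i - 1) i).hom.lTensor (B' A k))
      ((X.d i (i + 1)).hom.lTensor (B' A k)) :=
    exact_lTensor_congr' (e₁ A k).symm _ _ h
  exact h2

/-- the ring map `κ(p) ⊗_A B → κ(m)` for `m` over `p`. -/
noncomputable def fibreToResidue (m : Ideal B) [m.IsPrime] (p : Ideal A) [p.IsPrime]
    (hpm : p = m.comap (algebraMap A B)) :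
    (p.ResidueField ⊗[A] B) →ₐ[A] m.ResidueField :=
  Algebra.TensorProduct.lift
    (Ideal.ResidueField.mapₐ p m (Algebra.ofId A B) hpm)
    (IsScalarTower.toAlgHom A B m.ResidueField) (fun _ _ => Commute.all _ _)

theorem fibreToResidue_one_tmul (m : Ideal B) [m.IsPrime] (p : Ideal A) [p.IsPrime]
    (hpm : p = m.comap (algebraMap A B)) (b : B) :
    fibreToResidue m p hpm (1 ⊗ₜ b) = algebraMap B m.ResidueField b := by
  simp [fibreToResidue]

set_option backward.isDefEq.respectTransparency false in
/-- key fibre computation at a maximal ideal `m` of `B`. -/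
theorem exact_lTensor_residueField_of_TAmp_restrict [Module.Flat A B] (d : ℕ)
    (hgl : ∀ (p : PrimeSpectrum A) (M : Type u) [AddCommGroup M]
      [Module (TensorProduct A p.asIdeal.ResidueField B) M],
      HasProjectiveDimensionLT (ModuleCat.of (TensorProduct A p.asIdeal.ResidueField B) M) (d + 1))
    (F : DRing.Cx B) (b' : ℤ) (hFb : DRing.VanishesAbove F b')
    (hFflat : ∀ i : ℤ, Module.Flat B (F.X i)) (a b : ℤ)
    (hTA : TAmp a b (DRing.toD ((resCx (A := A)).obj F)))
    (m : Ideal B) [m.IsMaximal] (i : ℤ) (hi : i < a - d ∨ b < i) :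
    Function.Exact ((F.d (i - 1) i).hom.lTensor m.ResidueField)
      ((F.d i (i + 1)).hom.lTensor m.ResidueField) := by
  let p : Ideal A := m.comap (algebraMap A B)
  have hp : p.IsPrime := Ideal.comap_isPrime _ _
  let pp : PrimeSpectrum A := ⟨p, hp⟩
  let k := p.ResidueField
  let C := TensorProduct A k B
  let ψ : C →ₐ[A] m.ResidueField := fibreToResidue m p rfl
  let _ : Module C m.ResidueField := Module.compHom _ ψ.toRingHom
  have htower : IsScalarTower B C m.ResidueField := by
    refine ⟨fun b c n => ?_⟩
    change ψ (b • c) * n = b • (ψ c * n)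
    rw [Algebra.smul_def, map_mul, Algebra.smul_def, mul_assoc]
    congr 1
    exact fibreToResidue_one_tmul m p rfl b
  have hTD : ∀ M : ModuleCat.{u} C, TD d M := fun M => TD_of_pdLT d M (hgl pp M)
  let X := (resCx (A := A)).obj F
  have hXb : DRing.VanishesAbove X b' := fun i hi =>
    (ModuleCat.restrictScalars.{u} (algebraMap A B)).map_isZero (hFb i hi)
  have hXflat : ∀ i : ℤ, Module.Flat A (X.X i) := fun i =>
    have := hFflat i
    flat_resCx_X A F i
  have hex : ∀ i : ℤ, (i < a ∨ b < i) →
      (((ModuleCat.extendScalars.{u, u, u} (algebraMap A k)).mapHomologicalComplex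
        (ComplexShape.up ℤ)).obj X).ExactAt i := fun i hi =>
    exactAt_ext_of_exact_lTensor k X i (exact_lTensor_of_TAmp X b' hXb hXflat a b hTA k i hi)
  exact exact_lTensor_of_fibre A B k C d hTD F b' hFb hFflat a b hex m.ResidueField i hi

set_option backward.isDefEq.respectTransparency false in
theorem isPerfect_of_flat_fibres_glDim [Module.Flat A B] (d : ℕ)
    (hgl : ∀ (p : PrimeSpectrum A) (M : Type u) [AddCommGroup M]
      [Module (TensorProduct A p.asIdeal.ResidueField B) M],
      HasProjectiveDimensionLT (ModuleCat.of (TensorProduct A p.asIdeal.ResidueField B) M) (d + 1))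
    (a b : ℤ) (K : Dual.D B) (hK : DRing.IsPseudoCoherent' B K)
    (hKa : DRing.HasTorAmplitudeIn A a b ((DRing.restrictD (algebraMap A B)).obj K)) :
    DRing.IsPerfect B K ∧ DRing.HasTorAmplitudeIn B (a - d) b K := by
  obtain ⟨F, b', hFb, hF, ⟨e⟩⟩ := hK
  have hFflat : ∀ i : ℤ, Module.Flat B (F.X i) := fun i => by
    have := (hF i).2
    infer_instance
  have hTA : TAmp a b (DRing.toD ((resCx (A := A)).obj F)) :=
    TAmp.of_iso hKa ((DRing.restrictD (algebraMap A B)).mapIso e.symm ≪≫
      (ModuleCat.restrictScalars.{u} (algebraMap A B)).mapDerivedCategoryFactors.app F)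
  obtain ⟨h1, h2⟩ := isPerfect_and_TAmp_of_exact_residueField F b' hFb hF (a - d) b
    (fun m _ i hi => exact_lTensor_residueField_of_TAmp_restrict d hgl F b' hFb hFflat a b hTA m i hi)
  exact ⟨Groth.Agent.Lib.Helper35.FlatBC.isPerfect_of_iso B e h1, h2.of_iso e⟩

end GlDim

end Groth.Agent.Lib.Helper35.FibreTor
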