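import Groth.Agent.Lib.Helper35.FibreTorD
import Groth.Agent.Lib.Helper35.FlatLBC
import Groth.Agent.S0563

set_option autoImplicit false
universe u

open CategoryTheory CategoryTheory.Limits DerivedCategory TensorProduct MonoidalCategory

attribute [local instance] HasDerivedCategory.standard

namespace Groth.Agent.Lib.Helper35.FibreTor

open Groth.Agent.Lib.Helper35.TA Groth.Agent.Lib.Helper35.KL Groth.Agent.Lib.Helper35.FlatBC

section General

attribute [local instance] Algebra.TensorProduct.rightAlgebra

variable {A B : Type u} [CommRing A] [CommRing B] [Algebra A B]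

set_option backward.isDefEq.respectTransparency false in
/-- general fibre computation at a prime `m` of `B` whose residue field receives `k`. -/
theorem exact_lTensor_residueField_of_exactAt_fibre (k : Type u) [CommRing k] [Algebra A k] (d : ℕ)
    (hTD : ∀ M : ModuleCat.{u} (k ⊗[A] B), TD d M)
    (F : DRing.Cx B) (b' : ℤ) (hFb : DRing.VanishesAbove F b')
    (hFflat : ∀ i : ℤ, Module.Flat B (F.X i)) (a b : ℤ)
    (hex : ∀ i : ℤ, (i < a ∨ b < i) →
      (((ModuleCat.extendScalars.{u, u, u} (algebraMap A k)).mapHomologicalComplex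
        (ComplexShape.up ℤ)).obj ((resCx (A := A)).obj F)).ExactAt i)
    (m : Ideal B) [m.IsPrime] (φ : k →ₐ[A] m.ResidueField) (i : ℤ) (hi : i < a - d ∨ b < i) :
    Function.Exact ((F.d (i - 1) i).hom.lTensor m.ResidueField)
      ((F.d i (i + 1)).hom.lTensor m.ResidueField) := by
  let C := TensorProduct A k B
  let ψ : C →ₐ[A] m.ResidueField :=
    Algebra.TensorProduct.lift φ (IsScalarTower.toAlgHom A B m.ResidueField)
      (fun _ _ => Commute.all _ _)
  let _ : Module C m.ResidueField := Module.compHom _ ψ.toRingHom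
  have htower : IsScalarTower B C m.ResidueField := by
    refine ⟨fun b c n => ?_⟩
    change ψ (b • c) * n = b • (ψ c * n)
    rw [Algebra.smul_def, map_mul, Algebra.smul_def, mul_assoc]
    congr 1
    change ψ ((1 : k) ⊗ₜ[A] b) = _
    dsimp only [ψ]
    rw [Algebra.TensorProduct.lift_tmul, map_one, one_mul]
    rfl
  exact exact_lTensor_of_fibre A B k C d hTD F b' hFb hFflat a b hex m.ResidueField i hi

end General

section Local

attribute [local instance] Algebra.TensorProduct.rightAlgebra

variable {A B : Type u} [CommRing A] [CommRing B] [IsLocalRing A] [IsLocalRing B] [Algebra A B]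
  [IsLocalHom (algebraMap A B)]

/-- the map `κ_A → κ(m)` for a maximal ideal of the local ring `B`. -/
noncomputable def residueToResidue (m : Ideal B) [m.IsMaximal] :
    IsLocalRing.ResidueField A →ₐ[A] m.ResidueField :=
  Ideal.Quotient.liftₐ (IsLocalRing.maximalIdeal A) (Algebra.ofId A m.ResidueField) (by
    intro x hx
    rw [Algebra.ofId_apply, IsScalarTower.algebraMap_apply A B m.ResidueField,
      Ideal.algebraMap_residueField_eq_zero, IsLocalRing.eq_maximalIdeal ‹m.IsMaximal›,
      ← Ideal.mem_comap, IsLocalRing.maximalIdeal_comap]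
    exact hx)

set_option backward.isDefEq.respectTransparency false in
theorem isPerfect_of_flat_local_regular_fibre [Module.Flat A B] (d : ℕ)
    [IsRegularLocalRing (B ⧸ (IsLocalRing.maximalIdeal A).map (algebraMap A B))]
    (hd : ringKrullDim (B ⧸ (IsLocalRing.maximalIdeal A).map (algebraMap A B)) = d)
    [DRing.HasLBaseChange (IsLocalRing.residue A)] (a b : ℤ) (K : Dual.D B)
    (hK : DRing.IsPseudoCoherent' B K)
    (h : ∀ i : ℤ, (i < a ∨ b < i) → Subsingleton (Dual.HD (IsLocalRing.ResidueField A)
      ((DRing.LBaseChange (IsLocalRing.residue A)).obj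
        ((DRing.restrictD (algebraMap A B)).obj K)) i)) :
    DRing.IsPerfect B K ∧ DRing.HasTorAmplitudeIn B (a - d) b K := by
  obtain ⟨F, b', hFb, hF, ⟨e⟩⟩ := hK
  have hFflat : ∀ i : ℤ, Module.Flat B (F.X i) := fun i => by
    have := (hF i).2
    infer_instance
  let X := (resCx (A := A)).obj F
  have hXb : DRing.VanishesAbove X b' := fun i hi =>
    (ModuleCat.restrictScalars.{u} (algebraMap A B)).map_isZero (hFb i hi)
  have hXflat : ∀ i : ℤ, Module.Flat A (X.X i) := fun i =>
    have := hFflat i
    flat_resCx_X A F i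
  let k := IsLocalRing.ResidueField A
  let C := TensorProduct A k B
  let eC : (B ⧸ (IsLocalRing.maximalIdeal A).map (algebraMap A B)) ≃+* C :=
    (Algebra.TensorProduct.quotIdealMapEquivQuotTensor B (IsLocalRing.maximalIdeal A)).toRingEquiv
  have hregC : IsRegularLocalRing C := IsRegularLocalRing.of_ringEquiv eC
  have hdC : ringKrullDim C = d := (ringKrullDim_eq_of_ringEquiv eC).symm.trans hd
  have hTD : ∀ M : ModuleCat.{u} C, TD d M := fun M =>
    TD_of_pdLT d M (Groth.Agent.S0563.result C d hdC M)
  obtain ⟨e1⟩ := nonempty_lbc_iso_of_flat (IsLocalRing.residue A) X b' hXb hXflat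
  have hex : ∀ i : ℤ, (i < a ∨ b < i) →
      (((ModuleCat.extendScalars.{u, u, u} (algebraMap A k)).mapHomologicalComplex
        (ComplexShape.up ℤ)).obj X).ExactAt i := by
    intro i hi
    have hz : IsZero ((homologyFunctor (ModuleCat.{u} k) i).obj
        ((DRing.LBaseChange (IsLocalRing.residue A)).obj
          ((DRing.restrictD (algebraMap A B)).obj K))) :=
      @ModuleCat.isZero_of_subsingleton _ _ _ (h i hi)
    have e2 : (DRing.LBaseChange (IsLocalRing.residue A)).obj
        ((DRing.restrictD (algebraMap A B)).obj K) ≅ _ :=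
      (DRing.LBaseChange (IsLocalRing.residue A)).mapIso
        ((DRing.restrictD (algebraMap A B)).mapIso e.symm ≪≫
          (ModuleCat.restrictScalars.{u} (algebraMap A B)).mapDerivedCategoryFactors.app F) ≪≫ e1
    have h1 := hz.of_iso ((homologyFunctor (ModuleCat.{u} k) i).mapIso e2.symm)
    rw [isZero_homology_toD_iff] at h1
    exact h1
  obtain ⟨h1, h2⟩ := isPerfect_and_TAmp_of_exact_residueField F b' hFb hF (a - d) b
    (fun m _ i hi => exact_lTensor_residueField_of_exactAt_fibre k d hTD F b' hFb hFflat a b hex m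
      (residueToResidue m) i hi)
  exact ⟨Groth.Agent.Lib.Helper35.FlatBC.isPerfect_of_iso B e h1, h2.of_iso e⟩

end Local

end Groth.Agent.Lib.Helper35.FibreTor
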