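import Groth.Agent.Lib.Helper35.LBCComp
import Mathlib.RingTheory.FiniteLength
import Mathlib.RingTheory.SimpleModule.Basic

/-! Fibre vanishing implies vanishing with finite-length coefficients (helper35). -/

set_option autoImplicit false
set_option linter.unusedSectionVars false
universe u
open CategoryTheory CategoryTheory.Limits MonoidalCategory DerivedCategory CochainComplex
  TensorProduct
attribute [local instance] HasDerivedCategory.standard

namespace Groth.Agent.Lib.Helper35.TA

open Groth.Agent.Lib.Helper32.LBC Groth.Agent.Lib.Helper26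

section FinLen

variable {R : Type u} [CommRing R] [IsLocalRing R]
  {X Y Z : Type u} [AddCommGroup X] [Module R X] [AddCommGroup Y] [Module R Y]
  [AddCommGroup Z] [Module R Z]

theorem exact_lTensor_of_isFiniteLength [Module.Flat R Z] (f : X →ₗ[R] Y) (g : Y →ₗ[R] Z)
    (hgf : g ∘ₗ f = 0)
    (hκ : Function.Exact (f.lTensor (IsLocalRing.ResidueField R))
      (g.lTensor (IsLocalRing.ResidueField R)))
    (N : Type u) [AddCommGroup N] [Module R N] (hN : IsFiniteLength R N) :
    Function.Exact (f.lTensor N) (g.lTensor N) := by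
  induction hN with
  | of_subsingleton =>
    intro y
    exact ⟨fun _ => ⟨0, Subsingleton.elim _ _⟩, fun _ => Subsingleton.elim _ _⟩
  | @of_simple_quotient M _ _ N' hs _ ih =>
    obtain ⟨m, hm, ⟨e⟩⟩ := isSimpleModule_iff_quot_maximal.1 hs
    have hm' : m = IsLocalRing.maximalIdeal R := IsLocalRing.eq_maximalIdeal hm
    subst hm'
    have e' : (M ⧸ N') ≃ₗ[R] IsLocalRing.ResidueField R := e
    exact exact_lTensor_of_shortExact f g hgf N'.subtype N'.mkQ (Submodule.subtype_injective _)
      (Submodule.mkQ_surjective _) (LinearMap.exact_subtype_mkQ N') ih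
      (exact_lTensor_congr' e'.symm _ _ hκ)

variable (R)

set_option backward.isDefEq.respectTransparency false in
theorem isZero_homology_LTensor_of_isFiniteLength
    [DRing.HasLBaseChange (IsLocalRing.residue R)] [∀ M : ModuleCat.{u} R, DRing.HasLTensor R M]
    (P : Dual.D R) (i : ℤ)
    (h : IsZero ((homologyFunctor (ModuleCat.{u} (IsLocalRing.ResidueField R)) i).obj
      ((DRing.LBaseChange (IsLocalRing.residue R)).obj P)))
    (N : Type u) [AddCommGroup N] [Module R N] (hN : IsFiniteLength R N) :
    IsZero ((homologyFunctor (ModuleCat.{u} R) i).obj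
      ((DRing.LTensor R (ModuleCat.of R N)).obj P)) := by
  obtain ⟨X, ⟨eX⟩⟩ : ∃ X : DRing.Cx R, Nonempty (DerivedCategory.Q.obj X ≅ P) :=
    ⟨_, ⟨DerivedCategory.Q.objObjPreimageIso P⟩⟩
  obtain ⟨F, f, hF, hf, hproj⟩ := KPT.exists_kProjective_resolution_moduleCat_termwise R X
  have e : DRing.toD F ≅ P := asIso (DerivedCategory.Q.map f) ≪≫ eX
  have e1 := (DRing.LTensor R (ModuleCat.of R N)).mapIso e.symm ≪≫ ltIso R (ModuleCat.of R N) F
  refine IsZero.of_iso ?_ ((homologyFunctor (ModuleCat.{u} R) i).mapIso e1)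
  rw [isZero_homology_toD_iff]
  obtain ⟨j, rfl⟩ : ∃ j, i = j + 1 := ⟨i - 1, by omega⟩
  rw [exactAt_tenCx_iff]
  have hfl : Module.Flat R (F.X (j + 1 + 1)) := by
    have := hproj (j + 1 + 1)
    infer_instance
  have e2 := lbcIso (IsLocalRing.residue R) F
  have h1 := h.of_iso ((homologyFunctor (ModuleCat.{u} (IsLocalRing.ResidueField R)) (j + 1)).mapIso
    ((DRing.LBaseChange (IsLocalRing.residue R)).mapIso e.symm ≪≫ e2).symm)
  rw [isZero_homology_toD_iff,
    HomologicalComplex.exactAt_iff' _ j (j + 1) (j + 1 + 1) (by simp) (by simp),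
    ShortComplex.ShortExact.moduleCat_exact_iff_function_exact] at h1
  have h2 : Function.Exact ((F.d j (j + 1)).hom.lTensor (kRes R))
      ((F.d (j + 1) (j + 1 + 1)).hom.lTensor (kRes R)) := h1
  refine exact_lTensor_of_isFiniteLength _ _ ?_ (exact_lTensor_congr' (kResEquiv R) _ _ h2) N hN
  ext x
  rw [LinearMap.comp_apply, ← ModuleCat.comp_apply, F.d_comp_d]
  rfl

end FinLen

end Groth.Agent.Lib.Helper35.TA
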