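import Groth.Agent.Lib.Helper35.RegPerf
import Groth.Agent.Lib.Helper35.PerfAmp
import Groth.Agent.Lib.Helper35.TorDim
import Groth.Agent.Lib.Helper73.ProjRes
import Groth.Agent.Lib.Helper6.MPC3

set_option autoImplicit false
set_option linter.unusedSectionVars false
universe u

namespace Groth.Agent.Lib.Helper35.FinRes

open CategoryTheory Limits DerivedCategory Pretriangulated ZeroObject
open Groth.Agent.Lib.Helper35.KL Groth.Agent.Lib.Helper35.TA

attribute [local instance] HasDerivedCategory.standard

variable {R : Type u} [CommRing R]

/-- A module with a finite resolution by finite projective modules is perfect. -/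
theorem isPerfect_of_projectiveResolution (M : ModuleCat.{u} R) (P : ProjectiveResolution M)
    (d : ℕ) (hz : ∀ i : ℕ, d < i → IsZero (P.complex.X i))
    (hf : ∀ i : ℕ, Module.Finite R (P.complex.X i)) :
    DRing.IsPerfect R ((DerivedCategory.singleFunctor (ModuleCat.{u} R) 0).obj M) := by
  refine ⟨P.cochainComplex, -(d : ℤ), 0, ?_, ?_, ?_⟩
  · rintro i (hi | hi)
    · obtain ⟨k, rfl⟩ := Int.exists_eq_neg_ofNat (show i ≤ 0 by omega)
      exact (hz k (by omega)).of_iso (P.cochainComplexXIso (-k) k)
    · exact CochainComplex.isZero_of_isStrictlyLE _ 0 _ hi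
  · intro i
    by_cases hn : i ≤ 0
    · obtain ⟨k, rfl⟩ := Int.exists_eq_neg_ofNat hn
      have e := (P.cochainComplexXIso (-k) k).toLinearEquiv
      have h1 := hf k
      have h2 : Module.Projective R (P.complex.X k) :=
        (IsProjective.iff_projective (R := R) (P := P.complex.X k)).mpr (P.projective k)
      exact ⟨Module.Finite.equiv e.symm, Module.Projective.of_equiv e.symm⟩
    · have hz : IsZero (P.cochainComplex.X i) :=
        CochainComplex.isZero_of_isStrictlyLE _ 0 _ (by omega)
      have : Subsingleton (P.cochainComplex.X i) := ModuleCat.subsingleton_of_isZero hz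
      exact ⟨inferInstance, inferInstance⟩
  · have : IsIso (Q.map P.π') := by
      rw [DerivedCategory.isIso_Q_map_iff_quasiIso]
      infer_instance
    exact ⟨asIso (Q.map P.π') ≪≫
      ((DerivedCategory.singleFunctorIsoCompQ (ModuleCat.{u} R) 0).app M).symm⟩

theorem isPC_of_isPerfect {K : Dual.D R} (hK : DRing.IsPerfect R K) (m : ℤ) :
    DRing.IsPseudoCoherent R m K :=
  Groth.Agent.Lib.Helper6.MPC.isPC_of_isPC' (isPseudoCoherent'_of_isPerfect hK) m

/-- A perfect module is finite. -/
theorem finite_of_isPerfect (M : ModuleCat.{u} R)
    (hM : DRing.IsPerfect R ((DerivedCategory.singleFunctor (ModuleCat.{u} R) 0).obj M)) :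
    Module.Finite R M :=
  Groth.Agent.Lib.Helper6.MPC.finite_of_isPC_zero_single M (isPC_of_isPerfect hM 0)

/-- A perfect flat module is finite projective. -/
theorem projective_of_isPerfect_of_flat (M : ModuleCat.{u} R)
    (hM : DRing.IsPerfect R ((DerivedCategory.singleFunctor (ModuleCat.{u} R) 0).obj M))
    [Module.Flat R M] : Module.Projective R M := by
  have := Groth.Agent.Lib.Helper6.MPC.fp_of_isPC_neg_one_single M (isPC_of_isPerfect hM (-1))
  exact Module.Flat.projective_of_finitePresentation

/-- The finite free cover sequence `0 → ker → coverObj M → M → 0`. -/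
noncomputable def coverSC' (M : ModuleCat.{u} R) : ShortComplex (ModuleCat.{u} R) :=
  ShortComplex.mk (ModuleCat.ofHom (LinearMap.ker (coverMap M).hom).subtype :
    ModuleCat.of R (LinearMap.ker (coverMap M).hom) ⟶ coverObj M) (coverMap M) (by
      ext x
      exact x.2)

theorem coverSC'_shortExact (M : ModuleCat.{u} R) : (coverSC' M).ShortExact := by
  apply ModuleCat.shortComplex_shortExact
  · intro (x : coverObj M)
    change (coverMap M).hom x = 0 ↔
      x ∈ Set.range (LinearMap.ker (coverMap M).hom).subtype
    constructor
    · intro hx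
      exact ⟨⟨x, hx⟩, rfl⟩
    · rintro ⟨y, rfl⟩
      exact y.2
  · exact (LinearMap.ker (coverMap M).hom).injective_subtype
  · exact coverMap_surjective _

/-- A perfect module of tor dimension `≤ d` has a resolution of length `≤ d` by finite projective
modules. -/
theorem exists_resolution_of_isPerfect (d : ℕ) : ∀ M : ModuleCat.{u} R,
    DRing.IsPerfect R ((DerivedCategory.singleFunctor (ModuleCat.{u} R) 0).obj M) →
    TAmp (-(d : ℤ)) 0 ((DerivedCategory.singleFunctor (ModuleCat.{u} R) 0).obj M) →
    ∃ P : ProjectiveResolution M, (∀ i : ℕ, d < i → IsZero (P.complex.X i)) ∧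
      ∀ i : ℕ, Module.Finite R (P.complex.X i) := by
  induction d with
  | zero =>
    intro M hM hT
    simp only [CharP.cast_eq_zero, neg_zero] at hT
    have hfl := flat_of_TAmp_zero M hT
    have hfin := finite_of_isPerfect M hM
    have hproj := projective_of_isPerfect_of_flat M hM
    have : Projective M := (IsProjective.iff_projective (R := R) (P := M)).mp hproj
    refine ⟨ProjectiveResolution.self M, fun i hi => ?_, fun i => ?_⟩
    · apply HomologicalComplex.isZero_single_obj_X
      omega
    · by_cases hi : i = 0
      · subst hi
        exact Module.Finite.equiv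
          (HomologicalComplex.singleObjXSelf (ComplexShape.down ℕ) 0 M).toLinearEquiv.symm
      · have hz : IsZero ((ProjectiveResolution.self M).complex.X i) := by
          apply HomologicalComplex.isZero_single_obj_X
          exact hi
        have := ModuleCat.subsingleton_of_isZero hz
        infer_instance
  | succ d ih =>
    intro M hM hT
    have hfin := finite_of_isPerfect M hM
    have hS := coverSC'_shortExact M
    have hF : Module.Finite R (coverObj M) := finite_coverObj M
    have hFfree : Module.Free R (coverObj M) := inferInstance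
    have hflat : Module.Flat R (coverSC' M).X₂ := inferInstanceAs (Module.Flat R (coverObj M))
    have hT' := (TAmp_single_succ_iff (coverSC' M) hS d).1 hT
    have hD := hS.singleTriangle_distinguished
    have h2 : DRing.IsPerfect R ((DerivedCategory.singleFunctor (ModuleCat.{u} R) 0).obj
        (coverObj M)) := isPerfect_single_of_finite_projective _
    have h1 : DRing.IsPerfect R ((DerivedCategory.singleFunctor (ModuleCat.{u} R) 0).obj
        (coverSC' M).X₁) := (isPerfect_two_out_of_three _ hD).2.2 h2 hM
    obtain ⟨Q, hQz, hQf⟩ := ih (coverSC' M).X₁ h1 hT'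
    have hFp : Module.Projective R (coverObj M) := Module.Projective.of_free
    have : Projective (coverSC' M).X₂ :=
      (IsProjective.iff_projective (R := R) (P := coverObj M)).mp hFp
    refine ⟨Groth.Agent.Lib.Helper73.spliceSE (coverSC' M) Q hS, fun i hi => ?_, fun i => ?_⟩
    · obtain ⟨j, rfl⟩ : ∃ j, i = j + 1 := ⟨i - 1, by omega⟩
      exact hQz j (by omega)
    · cases i with
      | zero => exact hF
      | succ j => exact hQf j

end Groth.Agent.Lib.Helper35.FinRes
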