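import Groth.Agent.Lib.Helper35.FinLen
import Groth.Agent.Lib.Helper35.TorDim
import Mathlib.Algebra.Module.LocalizedModule.Basic

/-! Gluing flatness of an object of `D(R)` along `R → R_f` and `R → R/f` (helper35). -/

set_option autoImplicit false
set_option linter.unusedSectionVars false
universe u
open CategoryTheory CategoryTheory.Limits MonoidalCategory DerivedCategory CochainComplex
  TensorProduct
attribute [local instance] HasDerivedCategory.standard

namespace Groth.Agent.Lib.Helper35.TA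

open Groth.Agent.Lib.Helper32.LBC Groth.Agent.Lib.Helper26

section Lin

variable {R : Type u} [CommRing R]
  {W X Y Z : Type u} [AddCommGroup W] [Module R W] [AddCommGroup X] [Module R X]
  [AddCommGroup Y] [Module R Y] [AddCommGroup Z] [Module R Z]

theorem lTensor_rTensor_comm (k : X →ₗ[R] Y) {N₁ N₂ : Type u} [AddCommGroup N₁] [Module R N₁]
    [AddCommGroup N₂] [Module R N₂] (j : N₁ →ₗ[R] N₂) (x : N₁ ⊗[R] X) :
    k.lTensor N₂ (j.rTensor X x) = j.rTensor Y (k.lTensor N₁ x) := by
  rw [← LinearMap.comp_apply, ← LinearMap.comp_apply, LinearMap.lTensor_comp_rTensor,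
    LinearMap.rTensor_comp_lTensor]

theorem lTensor_comp_zero (f : X →ₗ[R] Y) (g : Y →ₗ[R] Z) (hgf : g ∘ₗ f = 0)
    (N : Type u) [AddCommGroup N] [Module R N] (x : N ⊗[R] X) :
    g.lTensor N (f.lTensor N x) = 0 := by
  rw [← LinearMap.comp_apply, ← LinearMap.lTensor_comp, hgf, LinearMap.lTensor_zero,
    LinearMap.zero_apply]

/-- Exactness with coefficients in a directed union. -/
theorem exact_lTensor_of_iUnion [Module.Flat R Z] (f : X →ₗ[R] Y) (g : Y →ₗ[R] Z)
    (hgf : g ∘ₗ f = 0)
    {N : Type u} [AddCommGroup N] [Module R N] (T : ℕ → Submodule R N) (hmono : Monotone T)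
    (hT : ∀ x : N, ∃ n, x ∈ T n)
    (h : ∀ n, Function.Exact (f.lTensor (T n)) (g.lTensor (T n))) :
    Function.Exact (f.lTensor N) (g.lTensor N) := by
  have hcov : ∀ y : N ⊗[R] Y, ∃ n, y ∈ LinearMap.range ((T n).subtype.rTensor Y) := by
    intro y
    induction y using TensorProduct.induction_on with
    | zero => exact ⟨0, zero_mem _⟩
    | tmul x p =>
      obtain ⟨n, hn⟩ := hT x
      exact ⟨n, ⟨(⟨x, hn⟩ : T n) ⊗ₜ p, rfl⟩⟩
    | add y₁ y₂ h₁ h₂ =>
      obtain ⟨n₁, z₁, rfl⟩ := h₁
      obtain ⟨n₂, z₂, rfl⟩ := h₂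
      refine ⟨max n₁ n₂, ?_⟩
      have e1 : (T n₁).subtype = (T (max n₁ n₂)).subtype ∘ₗ
          Submodule.inclusion (hmono (le_max_left _ _)) := rfl
      have e2 : (T n₂).subtype = (T (max n₁ n₂)).subtype ∘ₗ
          Submodule.inclusion (hmono (le_max_right _ _)) := rfl
      rw [e1, e2, LinearMap.rTensor_comp, LinearMap.rTensor_comp, LinearMap.comp_apply,
        LinearMap.comp_apply, ← map_add]
      exact ⟨_, rfl⟩
  intro y
  constructor
  · intro hy
    obtain ⟨n, y', rfl⟩ := hcov y
    have h5 : (T n).subtype.rTensor Z (g.lTensor (T n) y') = 0 := by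
      rw [← lTensor_rTensor_comm, hy]
    have h6 : g.lTensor (T n) y' = 0 :=
      Module.Flat.rTensor_preserves_injective_linearMap (T n).subtype
        (Submodule.subtype_injective _) (by rw [h5, map_zero])
    obtain ⟨x', rfl⟩ := (h n _).1 h6
    exact ⟨(T n).subtype.rTensor X x', lTensor_rTensor_comm _ _ _⟩
  · rintro ⟨x, rfl⟩
    exact lTensor_comp_zero f g hgf N x

/-- Exactness for the sub from exactness for the middle and (one step to the left) for the
quotient. -/
theorem exact_lTensor_sub_of_shortExact [Module.Flat R Y] (e : W →ₗ[R] X) (f : X →ₗ[R] Y)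
    (g : Y →ₗ[R] Z) (hfe : f ∘ₗ e = 0) (hgf : g ∘ₗ f = 0)
    {M₁ M₂ M₃ : Type u} [AddCommGroup M₁] [Module R M₁] [AddCommGroup M₂] [Module R M₂]
    [AddCommGroup M₃] [Module R M₃] (ι : M₁ →ₗ[R] M₂) (π : M₂ →ₗ[R] M₃)
    (hι : Function.Injective ι) (hπ : Function.Surjective π) (hex : Function.Exact ι π)
    (h₂ : Function.Exact (f.lTensor M₂) (g.lTensor M₂))
    (h₃ : Function.Exact (e.lTensor M₃) (f.lTensor M₃)) :
    Function.Exact (f.lTensor M₁) (g.lTensor M₁) := by
  intro y
  constructor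
  · intro hy
    have h1 : g.lTensor M₂ (ι.rTensor Y y) = 0 := by
      rw [lTensor_rTensor_comm, hy, map_zero]
    obtain ⟨x, hx⟩ := (h₂ _).1 h1
    have h2 : f.lTensor M₃ (π.rTensor X x) = 0 := by
      rw [lTensor_rTensor_comm, hx, ← LinearMap.comp_apply, ← LinearMap.rTensor_comp,
        hex.linearMap_comp_eq_zero, LinearMap.rTensor_zero, LinearMap.zero_apply]
    obtain ⟨z', hz'⟩ := (h₃ _).1 h2
    obtain ⟨z, rfl⟩ := LinearMap.rTensor_surjective W hπ z'
    have h4 : π.rTensor X (x - e.lTensor M₂ z) = 0 := by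
      rw [map_sub, ← lTensor_rTensor_comm, hz', sub_self]
    obtain ⟨x', hx'⟩ := (rTensor_exact X hex hπ _).1 h4
    refine ⟨x', ?_⟩
    apply Module.Flat.rTensor_preserves_injective_linearMap ι hι
    rw [← lTensor_rTensor_comm, hx', map_sub, hx, lTensor_comp_zero e f hfe, sub_zero]
  · rintro ⟨x, rfl⟩
    exact lTensor_comp_zero f g hgf M₁ x

/-- The `f`-power torsion submodule. -/
def fTors (f : R) (N : Type u) [AddCommGroup N] [Module R N] : Submodule R N where
  carrier := {x | ∃ n : ℕ, f ^ n • x = 0}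
  add_mem' := by
    rintro x y ⟨n, hn⟩ ⟨m, hm⟩
    refine ⟨n + m, ?_⟩
    have h1 : f ^ (n + m) • x = 0 := by rw [pow_add, mul_comm, mul_smul, hn, smul_zero]
    have h2 : f ^ (n + m) • y = 0 := by rw [pow_add, mul_smul, hm, smul_zero]
    rw [smul_add, h1, h2, add_zero]
  zero_mem' := ⟨0, smul_zero _⟩
  smul_mem' := by
    rintro c x ⟨n, hn⟩
    exact ⟨n, by rw [smul_comm, hn, smul_zero]⟩

end Lin

section Cx

variable {A B : Type u} [CommRing A] [CommRing B]

set_option backward.isDefEq.respectTransparency false in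
/-- Exactness of `P ⊗_A N` at one spot for a `B`-module `N`, from the same for
`(P ⊗_A B) ⊗_B N`. -/
theorem exact_lTensor_of_tower (φ : A →+* B) (P : DRing.Cx A) (i : ℤ)
    (h : ∀ N : ModuleCat.{u} B, (((tensorRight N).mapHomologicalComplex (ComplexShape.up ℤ)).obj
      (((ModuleCat.extendScalars.{u, u, u} φ).mapHomologicalComplex (ComplexShape.up ℤ)).obj
        P)).ExactAt (i + 1))
    (N : Type u) [AddCommGroup N] [Module A N] [Module B N]
    (hN : ∀ (a : A) (x : N), φ a • x = a • x) :
    Function.Exact ((P.d i (i + 1)).hom.lTensor N) ((P.d (i + 1) (i + 1 + 1)).hom.lTensor N) := by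
  let _ : Algebra A B := φ.toAlgebra
  have : IsScalarTower A B N := IsScalarTower.of_algebraMap_smul (fun a x => hN a x)
  have h1 := h (ModuleCat.of B N)
  rw [exactAt_tenCx_iff] at h1
  have h2 : Function.Exact (((P.d i (i + 1)).hom.baseChange B).lTensor N)
      (((P.d (i + 1) (i + 1 + 1)).hom.baseChange B).lTensor N) := h1
  exact (exact_lTensor_baseChange_iff _ _).1 h2

/-- Tensoring the base change of a K-projective representative is exact outside the tor
amplitude. -/
theorem exactAt_tenCx_extCx_of_TAmp (φ : A →+* B) [DRing.HasLBaseChange φ] (P : DRing.Cx A)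
    [P.IsKProjective] (K : Dual.D A) (e : DRing.toD P ≅ K) (a b : ℤ)
    (h : TAmp a b ((DRing.LBaseChange φ).obj K)) (N : ModuleCat.{u} B) (i : ℤ)
    (hi : i < a ∨ b < i) :
    (((tensorRight N).mapHomologicalComplex (ComplexShape.up ℤ)).obj
      (((ModuleCat.extendScalars.{u, u, u} φ).mapHomologicalComplex (ComplexShape.up ℤ)).obj
        P)).ExactAt i := by
  have hPB : ((extCx φ).obj P).IsKProjective :=
    AdjKProj.isKProjective_map (ModuleCat.extendRestrictScalarsAdj.{u, u, u} φ) P
  have : ∀ M : ModuleCat.{u} B, DRing.HasLTensor B M := hasLTensor B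
  rw [← isZero_homology_toD_iff]
  have e2 := (ltIso B N ((extCx φ).obj P)).symm ≪≫
    (DRing.LTensor B N).mapIso ((lbcIso φ P).symm ≪≫ (DRing.LBaseChange φ).mapIso e)
  exact (LTensor_vanishing_of_TAmp _ a b h N i hi).of_iso
    ((homologyFunctor (ModuleCat.{u} B) i).mapIso e2)

end Cx

section Main

variable {R : Type u} [CommRing R]

theorem TAmp_zero_of_away_of_quotient (f : R) (M : Dual.D R)
    [DRing.HasLBaseChange (algebraMap R (Localization.Away f))]
    [DRing.HasLBaseChange (Ideal.Quotient.mk (Ideal.span ({f} : Set R)))]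
    [M.IsLE 0]
    (h2 : TAmp 0 0 ((DRing.LBaseChange (algebraMap R (Localization.Away f))).obj M))
    (h3 : TAmp 0 0 ((DRing.LBaseChange (Ideal.Quotient.mk (Ideal.span ({f} : Set R)))).obj M)) :
    TAmp 0 0 M := by
  have : ∀ N : ModuleCat.{u} R, DRing.HasLTensor R N := hasLTensor R
  obtain ⟨P, hPb, hPproj, ⟨e⟩⟩ := exists_projective_rep M 0
  have hKP : P.IsKProjective := isKProjective_of_vanishesAbove P 0 hPb hPproj
  have hPflat : ∀ i : ℤ, Module.Flat R (P.X i) := fun i => by
    have := hPproj i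
    infer_instance
  have hdd : ∀ i j k : ℤ, (P.d j k).hom ∘ₗ (P.d i j).hom = 0 := by
    intro i j k
    ext x
    rw [LinearMap.comp_apply, ← ModuleCat.comp_apply, P.d_comp_d]
    rfl
  -- modules over the localization
  have hA : ∀ (i j k : ℤ), i + 1 = j → j + 1 = k → j < 0 → ∀ (N : Type u) [AddCommGroup N]
      [Module R N] [Module (Localization.Away f) N] [IsScalarTower R (Localization.Away f) N],
      Function.Exact ((P.d i j).hom.lTensor N) ((P.d j k).hom.lTensor N) := by
    intro i j k hij hjk hj N _ _ _ _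
    subst hij hjk
    refine exact_lTensor_of_tower (algebraMap R (Localization.Away f)) P i ?_ N
      (fun a x => algebraMap_smul _ a x)
    intro N'
    exact exactAt_tenCx_extCx_of_TAmp _ P M e 0 0 h2 N' (i + 1) (Or.inl hj)
  -- modules killed by f
  have hQ : ∀ (i j k : ℤ), i + 1 = j → j + 1 = k → j < 0 → ∀ (N : Type u) [AddCommGroup N]
      [Module R N], (∀ a ∈ Ideal.span ({f} : Set R), ∀ x : N, a • x = 0) →
      Function.Exact ((P.d i j).hom.lTensor N) ((P.d j k).hom.lTensor N) := by
    intro i j k hij hjk hj N _ _ hN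
    subst hij hjk
    refine exact_lTensor_of_killed (Ideal.Quotient.mk (Ideal.span ({f} : Set R)))
      Ideal.Quotient.mk_surjective P i ?_ N (by rwa [Ideal.mk_ker])
    intro N'
    exact exactAt_tenCx_extCx_of_TAmp _ P M e 0 0 h3 N' (i + 1) (Or.inl hj)
  -- modules killed by a power of f
  have hPow : ∀ (i j k : ℤ), i + 1 = j → j + 1 = k → j < 0 → ∀ (n : ℕ) (N : Type u)
      [AddCommGroup N] [Module R N], (∀ x : N, f ^ n • x = 0) →
      Function.Exact ((P.d i j).hom.lTensor N) ((P.d j k).hom.lTensor N) := by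
    intro i j k hij hjk hj n N _ _ hN
    have := hPflat k
    refine exact_lTensor_of_pow (Ideal.span ({f} : Set R)) _ _ (hdd i j k)
      (fun N' _ _ hN' => hQ i j k hij hjk hj N' hN') n N ?_
    intro a ha x
    rw [Ideal.span_singleton_pow, Ideal.mem_span_singleton'] at ha
    obtain ⟨r, rfl⟩ := ha
    rw [mul_smul, hN, smul_zero]
  -- f-power torsion modules
  have hTors : ∀ (i j k : ℤ), i + 1 = j → j + 1 = k → j < 0 → ∀ (N : Type u) [AddCommGroup N]
      [Module R N], (∀ x : N, ∃ n : ℕ, f ^ n • x = 0) →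
      Function.Exact ((P.d i j).hom.lTensor N) ((P.d j k).hom.lTensor N) := by
    intro i j k hij hjk hj N _ _ hN
    have := hPflat k
    refine exact_lTensor_of_iUnion _ _ (hdd i j k)
      (fun n => Submodule.torsionBy R N (f ^ n)) ?_ ?_ ?_
    · intro n m hnm x hx
      rw [Submodule.mem_torsionBy_iff] at hx ⊢
      obtain ⟨d, rfl⟩ := Nat.exists_eq_add_of_le hnm
      rw [pow_add, mul_comm, mul_smul, hx, smul_zero]
    · intro x
      obtain ⟨n, hn⟩ := hN x
      exact ⟨n, (Submodule.mem_torsionBy_iff _ _).2 hn⟩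
    · intro n
      refine hPow i j k hij hjk hj n _ ?_
      rintro ⟨x, hx⟩
      apply Subtype.ext
      exact (Submodule.mem_torsionBy_iff _ _).1 hx
  -- f-torsion-free modules
  have hTF : ∀ (i j k : ℤ), i + 1 = j → j + 1 = k → j < 0 → ∀ (N : Type u) [AddCommGroup N]
      [Module R N], (∀ x : N, f • x = 0 → x = 0) →
      Function.Exact ((P.d i j).hom.lTensor N) ((P.d j k).hom.lTensor N) := by
    intro i j k hij hjk hj N _ _ hN
    have hNpow : ∀ (n : ℕ) (x : N), f ^ n • x = 0 → x = 0 := by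
      intro n
      induction n with
      | zero =>
        intro x hx
        rwa [pow_zero, one_smul] at hx
      | succ n ih =>
        intro x hx
        rw [pow_succ, mul_smul] at hx
        exact hN x (ih _ hx)
    let S := Submonoid.powers f
    let ι := LocalizedModule.mkLinearMap S N
    have hι : Function.Injective ι := by
      rw [← LinearMap.ker_eq_bot, LinearMap.ker_eq_bot']
      intro x hx
      obtain ⟨⟨c, n, rfl⟩, hc⟩ := (IsLocalizedModule.eq_zero_iff S ι).1 hx
      exact hNpow n x hc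
    have := hPflat j
    refine exact_lTensor_sub_of_shortExact (P.d (i - 1) i).hom _ _ (hdd (i - 1) i j) (hdd i j k)
      ι (LinearMap.range ι).mkQ hι (Submodule.mkQ_surjective _)
      (LinearMap.exact_map_mkQ_range ι) ?_ ?_
    · exact hA i j k hij hjk hj (LocalizedModule S N)
    · refine hTors (i - 1) i j (by omega) hij (by omega) _ ?_
      intro y
      obtain ⟨y, rfl⟩ := Submodule.mkQ_surjective _ y
      obtain ⟨⟨m, ⟨c, n, rfl⟩⟩, hy⟩ := IsLocalizedModule.surj S ι y
      refine ⟨n, ?_⟩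
      rw [← map_smul, Submodule.mkQ_apply, Submodule.Quotient.mk_eq_zero]
      exact ⟨m, hy.symm⟩
  have hAll : ∀ (i j k : ℤ), i + 1 = j → j + 1 = k → j < 0 → ∀ (N : Type u) [AddCommGroup N]
      [Module R N], Function.Exact ((P.d i j).hom.lTensor N) ((P.d j k).hom.lTensor N) := by
    intro i j k hij hjk hj N _ _
    have := hPflat k
    let T := fTors f N
    refine exact_lTensor_of_shortExact _ _ (hdd i j k) T.subtype T.mkQ
      (Submodule.subtype_injective _) (Submodule.mkQ_surjective _)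
      (LinearMap.exact_subtype_mkQ T) ?_ ?_
    · refine hTors i j k hij hjk hj _ ?_
      rintro ⟨x, n, hn⟩
      exact ⟨n, Subtype.ext hn⟩
    · refine hTF i j k hij hjk hj _ ?_
      intro y hy
      obtain ⟨x, rfl⟩ := Submodule.mkQ_surjective _ y
      rw [← map_smul, Submodule.mkQ_apply, Submodule.Quotient.mk_eq_zero] at hy
      obtain ⟨n, hn⟩ := hy
      rw [Submodule.mkQ_apply, Submodule.Quotient.mk_eq_zero]
      exact ⟨n + 1, by rw [pow_succ, mul_smul, hn]⟩
  apply TAmp_of_LTensor_vanishing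
  intro N i hi
  have e1 := (DRing.LTensor R N).mapIso e.symm ≪≫ ltIso R N P
  refine IsZero.of_iso ?_ ((homologyFunctor (ModuleCat.{u} R) i).mapIso e1)
  rw [isZero_homology_toD_iff]
  rcases hi with hi | hi
  · obtain ⟨j, rfl⟩ : ∃ j, i = j + 1 := ⟨i - 1, by omega⟩
    rw [exactAt_tenCx_iff]
    exact hAll j (j + 1) (j + 1 + 1) rfl rfl hi N
  · apply exactAt_of_isZero_X
    exact CategoryTheory.Functor.map_isZero (tensorRight N) (hPb i hi)

theorem exists_flat_inD_iso_of_TAmp_zero (M : Dual.D R) (h : TAmp 0 0 M) :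
    ∃ (N : Type u) (_ : AddCommGroup N) (_ : Module R N), Module.Flat R N ∧
      Nonempty (M ≅ Dual.inD R N) := by
  obtain ⟨E, hv, hfl, ⟨e⟩⟩ := h
  have h1 : E.IsStrictlyGE 0 := by
    rw [CochainComplex.isStrictlyGE_iff]
    exact fun i hi => hv i (Or.inl hi)
  have h2 : E.IsStrictlyLE 0 := by
    rw [CochainComplex.isStrictlyLE_iff]
    exact fun i hi => hv i (Or.inr hi)
  obtain ⟨M', ⟨e'⟩⟩ := E.exists_iso_single 0
  let eX : E.X 0 ≅ M' := (HomologicalComplex.eval _ _ 0).mapIso e' ≪≫
    HomologicalComplex.singleObjXSelf (ComplexShape.up ℤ) 0 M'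
  have hM' : Module.Flat R M' := by
    have := hfl 0
    exact Module.Flat.of_linearEquiv eX.toLinearEquiv.symm
  exact ⟨M', inferInstance, inferInstance, hM', ⟨e.symm ≪≫ Q.mapIso e' ≪≫
    ((DerivedCategory.singleFunctorIsoCompQ (ModuleCat.{u} R) 0).app M').symm⟩⟩

end Main

end Groth.Agent.Lib.Helper35.TA
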