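import Groth.Agent.Lib.Helper35.DComplEx
import Groth.Agent.Lib.Helper35.Bousfield2
import Groth.Agent.Lib.Helper35.CechCompl
import Groth.Agent.Lib.Helper32.GammaNoethD
import Groth.Agent.Lib.Helper32.GammaAdj

/-! Greenlees–May duality over a Noetherian ring, part 1 (helper35). -/

set_option autoImplicit false
set_option linter.unusedSectionVars false
universe u

open CategoryTheory CategoryTheory.Limits DerivedCategory Pretriangulated

attribute [local instance] HasDerivedCategory.standard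

namespace Groth.Agent.Lib.Helper35.Bousfield

open ZeroObject

variable {D : Type*} [Category D] [Preadditive D] [HasZeroObject D] [HasShift D ℤ]
  [∀ n : ℤ, (shiftFunctor D n).Additive] [Pretriangulated D]

/-- `K` admits a localization triangle whose cone satisfies the extra property `N`. -/
def HasLocN (P N : ObjectProperty D) (K : D) : Prop :=
  ∃ (C Z : D) (η : K ⟶ C) (p : C ⟶ Z) (δ : Z ⟶ K⟦(1 : ℤ)⟧),
    Triangle.mk η p δ ∈ distTriang D ∧ P C ∧ LOrth P Z ∧ N Z

theorem HasLocN.comp [IsTriangulated D] (P₁ P₂ P N : ObjectProperty D)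
    (hP₁ : ∀ L, P L → P₁ L) (hP₂ : ∀ L, P L → P₂ L) (hP : ∀ L, P₁ L → P₂ L → P L)
    (hN : ∀ T ∈ distTriang D, N T.obj₁ → N T.obj₃ → N T.obj₂) (K : D)
    (h₁ : HasLocN P₁ N K)
    (h₂ : ∀ C₁ : D, P₁ C₁ → ∃ (C Z : D) (η : C₁ ⟶ C) (p : C ⟶ Z) (δ : Z ⟶ C₁⟦(1 : ℤ)⟧),
      Triangle.mk η p δ ∈ distTriang D ∧ P₁ C ∧ P₂ C ∧ LOrth P₂ Z ∧ N Z) :
    HasLocN P N K := by
  obtain ⟨C₁, Z₁, η₁, p₁, δ₁, hT₁, hC₁, hZ₁, hN₁⟩ := h₁
  obtain ⟨C₂, Z₂, η₂, p₂, δ₂, hT₂, hC₂, hC₂', hZ₂, hN₂⟩ := h₂ C₁ hC₁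
  obtain ⟨Z, p, δ, hT⟩ := distinguished_cocone_triangle (η₁ ≫ η₂)
  have o := Triangulated.someOctahedron rfl hT₁ hT₂ hT
  refine ⟨C₂, Z, η₁ ≫ η₂, p, δ, hT, hP _ hC₂ hC₂', ?_, ?_⟩
  · exact LOrth.obj₂ _ o.mem (hZ₁.mono hP₁) (hZ₂.mono hP₂)
  · exact hN _ o.mem hN₁ hN₂

theorem HasLocN.id (P N : ObjectProperty D) (K : D) (hK : P K) (hN : ∀ Z : D, IsZero Z → N Z) :
    HasLocN P N K :=
  ⟨K, 0, 𝟙 K, 0, 0, contractible_distinguished K, hK, LOrth.of_isZero P (isZero_zero D),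
    hN _ (isZero_zero D)⟩

end Groth.Agent.Lib.Helper35.Bousfield

namespace Groth.Agent.Lib.Helper35.GM

open Groth.Agent.Lib.Helper35.DCE Groth.Agent.Lib.Helper35.Bousfield
open Groth.Agent.Lib.Helper32 Groth.Agent.Lib.Helper32.GammaNoeth
  Groth.Agent.Lib.Helper32.GammaNoethD Groth.Agent.Lib.Helper32.KInjDerived

variable {A : Type u} [CommRing A]

/-- The completion step with respect to one element `f`, with the cone in the image of `D(A_f)`. -/
theorem exists_step' (f : A) (s : Set A) (C₁ : Dual.D A) (h₁ : ∀ g ∈ s, Pg g C₁) :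
    ∃ (C Z : Dual.D A) (η : C₁ ⟶ C) (p : C ⟶ Z) (δ : Z ⟶ C₁⟦(1 : ℤ)⟧),
      Triangle.mk η p δ ∈ distTriang (Dual.D A) ∧ (∀ g ∈ s, Pg g C) ∧ Pg f C ∧ LOrth (Pg f) Z ∧
        Im (aw f) Z := by
  obtain ⟨J, j, hJ, hj⟩ := KInjTower.exists_kInjective_resolution (K := Q.objPreimage C₁)
  have : IsIso (Q.map j) := by
    rw [isIso_Q_map_iff_quasiIso]
    exact hj
  let eK : C₁ ≅ Q.obj J := (Q.objObjPreimageIso C₁).symm ≪≫ asIso (Q.map j)
  obtain ⟨C, η, p, hT, hC⟩ := exists_triangle_Q (aw f) (flat_aw f) J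
  have hT' := rot_of_distTriang _ hT
  refine ⟨C, (Q.obj (TJ (aw f) J))⟦(1 : ℤ)⟧, eK.hom ≫ η, p,
    (-(Q.map (εJ (aw f) J))⟦(1 : ℤ)⟧') ≫ eK.inv⟦(1 : ℤ)⟧', ?_, ?_, hC, ?_, ?_⟩
  · refine isomorphic_distinguished _ hT' _ ?_
    refine Triangle.isoMk _ _ eK (Iso.refl _) (Iso.refl _) ?_ ?_ ?_
    · exact Category.comp_id _
    · exact (Category.comp_id _).trans (Category.id_comp _).symm
    · change ((-(Q.map (εJ (aw f) J))⟦(1 : ℤ)⟧') ≫ eK.inv⟦(1 : ℤ)⟧') ≫ eK.hom⟦(1 : ℤ)⟧' =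
        𝟙 _ ≫ (-(Q.map (εJ (aw f) J))⟦(1 : ℤ)⟧')
      rw [Category.id_comp, Category.assoc, ← Functor.map_comp, Iso.inv_hom_id,
        CategoryTheory.Functor.map_id, Category.comp_id]
  · intro g hg
    have h2 : ROrth (Im (aw g)) (Q.obj J) := (h₁ g hg).of_iso eK
    have h3 := rOrth_TJ (aw f) (flat_aw f) (aw g) (im_aw f g) J h2
    exact ROrth.obj₃ (Im_shift (aw g)) _ hT h3 h2
  · exact LOrth_of_mem (Im_shift (aw f)) (Im_shift (aw f) _ 1 (Im_Q (aw f) _))
  · exact Im_shift (aw f) _ 1 (Im_Q (aw f) _)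

/-- Localization triangles for `PS s` whose cone satisfies any property `N` which holds on the
images of the `D(A_f)`, `f ∈ s`, and is closed under extensions. -/
theorem hasLocN_PS (N : ObjectProperty (Dual.D A))
    (hN0 : ∀ Z : Dual.D A, IsZero Z → N Z)
    (hN : ∀ T ∈ distTriang (Dual.D A), N T.obj₁ → N T.obj₃ → N T.obj₂) (s : Finset A)
    (hs : ∀ f ∈ s, ∀ Z : Dual.D A, Im (aw f) Z → N Z) :
    ∀ K : Dual.D A, HasLocN (PS (s : Set A)) N K := by
  classical
  induction s using Finset.induction_on with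
  | empty =>
    intro K
    exact HasLocN.id _ _ K (fun g hg => by simp at hg) hN0
  | insert f s _ ih =>
    intro K
    refine HasLocN.comp (PS (s : Set A)) (Pg f) _ N ?_ ?_ ?_ hN K
      (ih (fun g hg => hs g (by simp [hg])) K) ?_
    · intro L hL g hg
      exact hL g (by simp [hg])
    · intro L hL
      exact hL f (by simp)
    · intro L h1 h2 g hg
      simp only [Finset.coe_insert, Set.mem_insert_iff] at hg
      rcases hg with rfl | hg
      · exact h2
      · exact h1 g hg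
    · intro C₁ hC₁
      obtain ⟨C, Z, η, p, δ, hT, h1, h2, h3, h4⟩ := exists_step' f (s : Set A) C₁ hC₁
      exact ⟨C, Z, η, p, δ, hT, h1, h2, h3, hs f (by simp) Z h4⟩

section Noeth

variable [IsNoetherianRing A] (I : Ideal A)

omit [IsNoetherianRing A] in
lemma injective_restrict (f : A) (M : ModuleCat.{u} (Localization.Away f)) [Injective M] :
    Injective ((ModuleCat.restrictScalars.{u} (aw f)).obj M) := by
  haveI : PreservesFiniteLimits (ModuleCat.extendScalars.{u, u, u} (aw f)) :=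
    ModuleCat.preservesFiniteLimits_extendScalars_of_flat (flat_aw f)
  haveI : (ModuleCat.extendScalars.{u, u, u} (aw f)).PreservesMonomorphisms := inferInstance
  exact Injective.injective_of_adjoint (ModuleCat.extendRestrictScalarsAdj.{u, u, u} (aw f)) M

omit [IsNoetherianRing A] in
lemma torsionSub_restrict_eq_bot (f : A) (hf : f ∈ I) (M : ModuleCat.{u} (Localization.Away f))
    (x : (ModuleCat.restrictScalars.{u} (aw f)).obj M)
    (hx : x ∈ DRing.torsionSub I ((ModuleCat.restrictScalars.{u} (aw f)).obj M)) : x = 0 := by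
  obtain ⟨n, hn⟩ := hx
  have h1 : f ^ n • x = 0 := hn _ (Ideal.pow_mem_pow hf n)
  have hb := bijective_smul_restrict f M
  have h2 : ∀ k : ℕ, f ^ k • x = 0 → x = 0 := by
    intro k
    induction k with
    | zero => intro h; simpa using h
    | succ k ih =>
      intro h
      apply ih
      apply hb.1
      change f • (f ^ k • x) = f • 0
      rw [smul_zero, ← mul_smul, ← pow_succ']
      exact h
  exact h2 n h1

omit [IsNoetherianRing A] in
lemma isZero_Gam_Lc (f : A) (hf : f ∈ I) (X : DRing.Cx (Localization.Away f)) :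
    IsZero (Gam I ((Lc (aw f)).obj X)) := by
  rw [IsZero.iff_id_eq_zero]
  ext q x
  apply Subtype.ext
  exact torsionSub_restrict_eq_bot I f hf (X.X q) _ (x : DRing.torsionSub I _).2

variable [DRing.HasRgammaI I]

/-- `RΓ_I` kills the image of `D(A_f)` for `f ∈ I`. -/
theorem isZero_Rgamma_of_Im (f : A) (hf : f ∈ I) (Y : Dual.D A) (hY : Im (aw f) Y) :
    IsZero ((DRing.RgammaI I).obj Y) := by
  obtain ⟨X, ⟨e⟩⟩ := exists_of_Im (aw f) Y hY
  obtain ⟨X', s, -, hs, -, hinj⟩ := KInjRes.exists_kInjective_resolution X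
  haveI := hs
  haveI : QuasiIso ((Lc (aw f)).map s) := inferInstance
  haveI : IsIso (Q.map ((Lc (aw f)).map s)) := by
    rw [isIso_Q_map_iff_quasiIso]; infer_instance
  have hinj' : ∀ q, Injective (((Lc (aw f)).obj X').X q) := fun q => by
    haveI := hinj q
    exact injective_restrict f (X'.X q)
  haveI : IsIso (βΓ I ((Lc (aw f)).obj X')) :=
    isIso_β_of_injective I (DRing.RgammaI I) (αΓ I) _ hinj'
  have hz : IsZero (Q.obj (Gam I ((Lc (aw f)).obj X'))) :=
    Functor.map_isZero Q (isZero_Gam_Lc I f hf X')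
  exact hz.of_iso ((DRing.RgammaI I).mapIso (e.symm ≪≫ asIso (Q.map ((Lc (aw f)).map s))) ≪≫
    (asIso (βΓ I ((Lc (aw f)).obj X'))).symm)

/-- the class of objects killed by `RΓ_I` is closed under extensions -/
theorem isZero_Rgamma_obj₂ (T : Triangle (Dual.D A)) (hT : T ∈ distTriang (Dual.D A))
    (h₁ : IsZero ((DRing.RgammaI I).obj T.obj₁)) (h₃ : IsZero ((DRing.RgammaI I).obj T.obj₃)) :
    IsZero ((DRing.RgammaI I).obj T.obj₂) := by
  obtain ⟨h, hh⟩ := TriRF.exists_distinguished (DRing.gammaI I) (DRing.RgammaI I) (αΓ I)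
    hasKInjRes T hT
  haveI : IsIso ((DRing.RgammaI I).map T.mor₂) :=
    (Triangle.isZero₁_iff_isIso₂ _ hh).1 h₁
  exact h₃.of_iso (asIso ((DRing.RgammaI I).map T.mor₂))

open ZeroObject in
theorem isZero_Rgamma_of_isZero (Z : Dual.D A) (hZ : IsZero Z) :
    IsZero ((DRing.RgammaI I).obj Z) := by
  refine isZero_Rgamma_of_Im I 0 I.zero_mem Z ⟨0, ⟨?_⟩⟩
  exact (Functor.map_isZero _ (isZero_zero _)).iso hZ

/-- Localization triangles for derived completeness with cone killed by `RΓ_I`. -/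
theorem hasLocN_Rgamma (s : Finset A) (hs : Ideal.span (s : Set A) = I) (K : Dual.D A) :
    HasLocN (PS (s : Set A)) (fun Z => IsZero ((DRing.RgammaI I).obj Z)) K := by
  refine hasLocN_PS _ (isZero_Rgamma_of_isZero I) (isZero_Rgamma_obj₂ I) s ?_ K
  intro f hf Z hZ
  exact isZero_Rgamma_of_Im I f (hs ▸ Ideal.subset_span hf) Z hZ

variable [DRing.HasDerivedCompletion I]

/-- Greenlees–May, first half: `RΓ_I (K^∧) ≅ RΓ_I K`. -/
theorem nonempty_iso_Rgamma_completion (K : Dual.D A) :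
    Nonempty ((DRing.RgammaI I).obj ((DRing.derivedCompletion I).obj K).obj ≅
      (DRing.RgammaI I).obj K) := by
  obtain ⟨s, hs⟩ := (isNoetherianRing_iff_ideal_fg A).1 inferInstance I
  obtain ⟨C, Z, η, p, δ, hT, hC, hZ, hN⟩ := hasLocN_Rgamma I s hs K
  have hP : ∀ L : Dual.D A, DRing.IsDerivedComplete I L ↔ PS (s : Set A) L := by
    intro L
    rw [← hs]
    exact isDerivedComplete_span_iff s L
  obtain ⟨e, -⟩ := Groth.Agent.Lib.Helper35.CechCompl.exists_iso_of_reflections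
    (DRing.IsDerivedComplete I) η ((DRing.derivedCompletionAdj I).unit.app K)
    ((hP C).2 hC) ((DRing.derivedCompletion I).obj K).property
    (fun L hL => bijective_precomp η p δ hT hZ L ((hP L).1 hL))
    (fun L hL => bijective_precomp_unit (DRing.derivedCompletionAdj I) K L hL)
  obtain ⟨h, hh⟩ := TriRF.exists_distinguished (DRing.gammaI I) (DRing.RgammaI I) (αΓ I)
    hasKInjRes _ hT
  haveI : IsIso ((DRing.RgammaI I).map η) := (Triangle.isZero₃_iff_isIso₁ _ hh).1 hN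
  exact ⟨(DRing.RgammaI I).mapIso e.symm ≪≫ (asIso ((DRing.RgammaI I).map η)).symm⟩

end Noeth

end Groth.Agent.Lib.Helper35.GM
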