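import Groth.Agent.Lib.Helper35.GMBase

/-! Greenlees–May duality over a Noetherian ring, part 2 (helper35). -/

set_option autoImplicit false
set_option linter.unusedSectionVars false
universe u

open CategoryTheory CategoryTheory.Limits DerivedCategory Pretriangulated

attribute [local instance] HasDerivedCategory.standard

namespace Groth.Agent.Lib.Helper35.GM

open Groth.Agent.Lib.Helper35.DCE Groth.Agent.Lib.Helper35.Bousfield
open Groth.Agent.Lib.Helper32 Groth.Agent.Lib.Helper32.GammaNoeth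
  Groth.Agent.Lib.Helper32.GammaNoethD Groth.Agent.Lib.Helper32.KInjDerived

variable {A : Type u} [CommRing A]

theorem locCxUnit_f_apply (f : A) (J : DRing.Cx A) (q : ℤ) (x : J.X q) :
    ((DerCA.locCxUnit (Submonoid.powers f) J).f q) x =
      LocalizedModule.mkLinearMap (Submonoid.powers f) (J.X q) x := rfl

theorem mkLinearMap_eq_zero_iff (f : A) (M : Type u) [AddCommGroup M] [Module A M] (z : M) :
    LocalizedModule.mkLinearMap (Submonoid.powers f) M z = 0 ↔ ∃ n : ℕ, f ^ n • z = 0 := by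
  rw [IsLocalizedModule.eq_zero_iff (Submonoid.powers f)]
  constructor
  · rintro ⟨⟨c, n, rfl⟩, hc⟩
    exact ⟨n, hc⟩
  · rintro ⟨n, hn⟩
    exact ⟨⟨f ^ n, n, rfl⟩, hn⟩

theorem mkLinearMap_surjective_of_baer [IsNoetherianRing A] (f : A) (M : Type u) [AddCommGroup M]
    [Module A M] (hM : Module.Baer A M) :
    Function.Surjective (LocalizedModule.mkLinearMap (Submonoid.powers f) M) := by
  intro w
  induction w using LocalizedModule.induction_on with
  | h m s =>
    obtain ⟨n, hn⟩ := s.2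
    obtain ⟨y, N, hN⟩ := exists_smul_sub hM (f ^ n) m
    refine ⟨y, ?_⟩
    rw [LocalizedModule.mkLinearMap_apply, LocalizedModule.mk_eq]
    refine ⟨⟨(f ^ n) ^ N, n * N, pow_mul f n N⟩, ?_⟩
    have hs : s = ⟨f ^ n, n, rfl⟩ := Subtype.ext hn.symm
    subst hs
    change (f ^ n) ^ N • (f ^ n) • y = (f ^ n) ^ N • (1 : A) • m
    rw [one_smul, ← sub_eq_zero, ← smul_sub]
    exact hN

/-- the short complex `0 → Γ_f J → J → J_f → 0` -/
noncomputable def sesΓ (f : A) (J : DRing.Cx A) : ShortComplex (DRing.Cx A) :=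
  ShortComplex.mk (ιΓ (Ideal.span {f}) J) (DerCA.locCxUnit (Submonoid.powers f) J) (by
    ext q x
    have hx := ιΓ_f_mem (Ideal.span {f}) J q x
    rw [mem_torsionSub_span_singleton] at hx
    exact (mkLinearMap_eq_zero_iff f (J.X q) _).2 hx)

theorem sesΓ_shortExact [IsNoetherianRing A] (f : A) (J : DRing.Cx A)
    (hJ : ∀ q, Module.Baer A (J.X q)) : (sesΓ f J).ShortExact := by
  apply HomologicalComplex.shortExact_of_degreewise_shortExact
  intro q
  have hmono : Function.Injective ((ιΓ (Ideal.span {f}) J).f q) := ιΓ_f_injective _ J q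
  have hepi : Function.Surjective ((DerCA.locCxUnit (Submonoid.powers f) J).f q) :=
    mkLinearMap_surjective_of_baer f (J.X q) (hJ q)
  have hex : ∀ z : J.X q, ((DerCA.locCxUnit (Submonoid.powers f) J).f q) z = 0 →
      ∃ x, ((ιΓ (Ideal.span {f}) J).f q) x = z := by
    intro z hz
    have hz' := (mkLinearMap_eq_zero_iff f (J.X q) z).1 hz
    exact exists_of_mem _ J q z ((mem_torsionSub_span_singleton f z).2 hz')
  exact
    { exact := by
        rw [ShortComplex.moduleCat_exact_iff]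
        intro z hz
        exact hex z hz
      mono_f := (ModuleCat.mono_iff_injective _).2 hmono
      epi_g := (ModuleCat.epi_iff_surjective _).2 hepi }

theorem im_locCx (f : A) (X : DRing.Cx A) :
    Im (aw f) (Q.obj ((DerCA.locCx (Submonoid.powers f)).obj X)) := by
  obtain ⟨E, ⟨e⟩⟩ := Groth.Agent.Lib.Helper35.DCR.exists_restrict_iso_of_bijective f
    ((DerCA.locCx (Submonoid.powers f)).obj X)
    (fun i => Groth.Agent.Lib.Helper35.HomCone.bijective_smul_localizedModule f (X.X i))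
  exact ⟨E, ⟨e.symm⟩⟩

/-- The cone of `Γ_𝔞 J ⟶ J` is left orthogonal to `P`, for every complex `J` of injectives. -/
def ConeL (𝔞 : Ideal A) (P : ObjectProperty (Dual.D A)) : Prop :=
  ∀ J : DRing.Cx A, (∀ q, Module.Baer A (J.X q)) →
    ∃ (W : Dual.D A) (p : Q.obj J ⟶ W) (δ : W ⟶ (Q.obj (Gam 𝔞 J))⟦(1 : ℤ)⟧),
      Triangle.mk (Q.map (ιΓ 𝔞 J)) p δ ∈ distTriang (Dual.D A) ∧ LOrth P W

theorem isIso_ιΓ_bot (J : DRing.Cx A) : IsIso (ιΓ (⊥ : Ideal A) J) := by
  haveI : ∀ q, IsIso ((ιΓ (⊥ : Ideal A) J).f q) := fun q => by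
    rw [ConcreteCategory.isIso_iff_bijective]
    refine ⟨ιΓ_f_injective _ J q, fun y => exists_of_mem _ J q y ⟨1, fun a ha => ?_⟩⟩
    rw [pow_one, Ideal.mem_bot] at ha
    rw [ha, zero_smul]
  exact HomologicalComplex.Hom.isIso_of_components _

theorem coneL_bot (P : ObjectProperty (Dual.D A)) : ConeL (⊥ : Ideal A) P := by
  intro J _
  haveI := isIso_ιΓ_bot J
  obtain ⟨W, p, δ, hT⟩ := distinguished_cocone_triangle (Q.map (ιΓ (⊥ : Ideal A) J))
  have hW : IsZero W := (Triangle.isZero₃_iff_isIso₁ _ hT).2 (by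
    change IsIso (Q.map (ιΓ (⊥ : Ideal A) J))
    infer_instance)
  exact ⟨W, p, δ, hT, LOrth.of_isZero P hW⟩

theorem coneL_sup [IsNoetherianRing A] (𝔞 : Ideal A) (f : A) (P₁ P : ObjectProperty (Dual.D A))
    (hP₁ : ∀ L, P L → P₁ L) (hPf : ∀ L, P L → Pg f L) (h : ConeL 𝔞 P₁) :
    ConeL (𝔞 ⊔ Ideal.span {f}) P := by
  intro J hJ
  have hJ' : ∀ q, Module.Baer A ((Gam 𝔞 J).X q) := fun q => baer_torsionSub 𝔞 (hJ q)
  obtain ⟨W₂, p₂, δ₂, hT₂, hW₂⟩ := h J hJ
  have hS := sesΓ_shortExact f (Gam 𝔞 J) hJ'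
  have hT₁ : Triangle.mk (Q.map (ιΓ (Ideal.span {f}) (Gam 𝔞 J)))
      (Q.map (DerCA.locCxUnit (Submonoid.powers f) (Gam 𝔞 J)))
      (DerivedCategory.triangleOfSESδ hS) ∈ distTriang (Dual.D A) :=
    DerivedCategory.triangleOfSES_distinguished hS
  have hW₁ : LOrth (Pg f) (Q.obj ((DerCA.locCx (Submonoid.powers f)).obj (Gam 𝔞 J))) :=
    LOrth_of_mem (Im_shift (aw f)) (im_locCx f _)
  obtain ⟨W, p, δ, hT⟩ := distinguished_cocone_triangle
    (Q.map (ιΓ (Ideal.span {f}) (Gam 𝔞 J)) ≫ Q.map (ιΓ 𝔞 J))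
  have o := Triangulated.someOctahedron rfl hT₁ hT₂ hT
  have hW : LOrth P W := LOrth.obj₂ _ o.mem (hW₁.mono hPf) (hW₂.mono hP₁)
  let e₁ := Q.mapIso (compIso 𝔞 (Ideal.span {f}) J)
  refine ⟨W, p, δ ≫ e₁.hom⟦(1 : ℤ)⟧', ?_, hW⟩
  refine isomorphic_distinguished _ hT _ ?_
  refine Triangle.isoMk _ _ e₁.symm (Iso.refl _) (Iso.refl _) ?_ ?_ ?_
  · change Q.map (ιΓ (𝔞 ⊔ Ideal.span {f}) J) ≫ 𝟙 _ =
      Q.map (compIso 𝔞 (Ideal.span {f}) J).inv ≫
        Q.map (ιΓ (Ideal.span {f}) (Gam 𝔞 J)) ≫ Q.map (ιΓ 𝔞 J)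
    rw [Category.comp_id, ← Functor.map_comp, ← Functor.map_comp, ← compIso_hom_ιΓ,
      Iso.inv_hom_id_assoc]
  · exact (Category.comp_id _).trans (Category.id_comp _).symm
  · change (δ ≫ e₁.hom⟦(1 : ℤ)⟧') ≫ e₁.inv⟦(1 : ℤ)⟧' = 𝟙 _ ≫ δ
    rw [Category.id_comp, Category.assoc, ← Functor.map_comp, Iso.hom_inv_id,
      CategoryTheory.Functor.map_id, Category.comp_id]

theorem coneL_span [IsNoetherianRing A] (s : Finset A) :
    ConeL (Ideal.span (s : Set A)) (PS (s : Set A)) := by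
  classical
  induction s using Finset.induction_on with
  | empty =>
    rw [Finset.coe_empty, Ideal.span_empty]
    exact coneL_bot _
  | insert f s _ ih =>
    have h1 : Ideal.span ((insert f s : Finset A) : Set A) =
        Ideal.span (s : Set A) ⊔ Ideal.span {f} := by
      rw [Finset.coe_insert, Ideal.span_insert, sup_comm]
    rw [h1]
    refine coneL_sup _ f (PS (s : Set A)) _ ?_ ?_ ih
    · intro L hL g hg
      exact hL g (by simp [hg])
    · intro L hL
      exact hL f (by simp)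

section Main

variable [IsNoetherianRing A] (I : Ideal A) [DRing.HasRgammaI I]

/-- The cone of `RΓ_I K ⟶ K` is left orthogonal to the derived complete objects. -/
theorem lOrth_cone_ε (K : Dual.D A) (W : Dual.D A) (p : K ⟶ W)
    (δ : W ⟶ ((DRing.RgammaI I).obj K)⟦(1 : ℤ)⟧)
    (hT : Triangle.mk ((DRing.RgammaIε I).app K) p δ ∈ distTriang (Dual.D A)) :
    LOrth (DRing.IsDerivedComplete I) W := by
  obtain ⟨s, hs⟩ := (isNoetherianRing_iff_ideal_fg A).1 inferInstance I
  have hP : ∀ L : Dual.D A, DRing.IsDerivedComplete I L → PS (s : Set A) L := by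
    intro L hL
    rw [← hs] at hL
    exact (isDerivedComplete_span_iff s L).1 hL
  obtain ⟨J, hJ, hinj, ⟨e⟩⟩ := exists_rep K
  haveI := hJ
  haveI : IsIso (βΓ I J) := TriRF.isIso_β _ _ _ hasKInjRes J
  obtain ⟨W', p', δ', hT', hW'⟩ := (hs ▸ coneL_span s : ConeL I (PS (s : Set A))) J
    (fun q => baer_of_injective (J.X q))
  let e₁ : Q.obj (Gam I J) ≅ (DRing.RgammaI I).obj K :=
    asIso (βΓ I J) ≪≫ (DRing.RgammaI I).mapIso e
  have hnat := (DRing.RgammaIε I).naturality e.hom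
  dsimp only [Functor.id_map, Functor.id_obj] at hnat
  have hcomm : Q.map (ιΓ I J) ≫ e.hom = e₁.hom ≫ (DRing.RgammaIε I).app K := by
    change _ = (βΓ I J ≫ (DRing.RgammaI I).map e.hom) ≫ _
    rw [Category.assoc, hnat, ← Category.assoc, βΓ_ε]
  let ε := isoTriangleOfIso₁₂ _ _ hT' hT e₁ e hcomm
  exact (hW'.mono hP).of_iso (Triangle.π₃.mapIso ε)

variable [DRing.HasDerivedCompletion I]

/-- Greenlees–May, second half: `(RΓ_I K)^∧ ≅ K^∧`. -/
theorem nonempty_iso_completion_Rgamma (K : Dual.D A) :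
    Nonempty ((DRing.derivedCompletion I).obj ((DRing.RgammaI I).obj K) ≅
      (DRing.derivedCompletion I).obj K) := by
  obtain ⟨W, p, δ, hT⟩ := distinguished_cocone_triangle ((DRing.RgammaIε I).app K)
  have hW := lOrth_cone_ε I K W p δ hT
  let adj := DRing.derivedCompletionAdj I
  obtain ⟨e, -⟩ := Groth.Agent.Lib.Helper35.CechCompl.exists_iso_of_reflections
    (DRing.IsDerivedComplete I) (adj.unit.app ((DRing.RgammaI I).obj K))
    ((DRing.RgammaIε I).app K ≫ adj.unit.app K)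
    ((DRing.derivedCompletion I).obj ((DRing.RgammaI I).obj K)).property
    ((DRing.derivedCompletion I).obj K).property
    (fun L hL => bijective_precomp_unit adj _ L hL)
    (fun L hL => by
      have h1 := bijective_precomp _ p δ hT hW L hL
      have h2 := bijective_precomp_unit adj K L hL
      have h3 := h1.comp h2
      convert h3 using 1
      funext φ
      exact Category.assoc _ _ _)
  exact ⟨(ObjectProperty.fullyFaithfulι _).preimageIso e⟩

end Main

end Groth.Agent.Lib.Helper35.GM
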