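import Groth.Agent.Lib.Helper35.TwoTerm

set_option autoImplicit false
universe u

namespace Groth.Agent.Lib.Helper35.KL

open CategoryTheory Limits DerivedCategory Pretriangulated ZeroObject

attribute [local instance] HasDerivedCategory.standard

section GapSplit

set_option backward.defeqAttrib.useBackward true in
/-- Splitting of a distinguished triangle with zero connecting map, for an arbitrary choice of
biproduct. -/
theorem exists_iso_biprod_of_distTriang {C : Type*} [Category C] [HasZeroObject C] [HasShift C ℤ]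
    [Preadditive C] [∀ n : ℤ, (shiftFunctor C n).Additive] [Pretriangulated C]
    (T : Triangle C) (hT : T ∈ distTriang C)
    (zero : T.mor₃ = 0) [HasBinaryBiproduct T.obj₁ T.obj₃] :
    ∃ (e : T.obj₂ ≅ T.obj₁ ⊞ T.obj₃), T.mor₁ ≫ e.hom = biprod.inl ∧
      T.mor₂ = e.hom ≫ biprod.snd := by
  have := T.epi₂ hT zero
  have := isSplitEpi_of_epi T.mor₂
  obtain ⟨fst, hfst⟩ := T.coyoneda_exact₂ hT (𝟙 T.obj₂ - T.mor₂ ≫ section_ T.mor₂) (by simp)
  let d := binaryBiproductData _ hT zero (section_ T.mor₂) (by simp) fst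
    (by simp only [← hfst, sub_add_cancel])
  refine ⟨biprod.uniqueUpToIso _ _ d.isBilimit, ⟨?_, by simp [d]⟩⟩
  ext
  · simpa [d] using d.bicone.inl_fst
  · simpa [d] using d.bicone.inl_snd

variable {R : Type u} [CommRing R]

theorem isIso_natTransTruncGEOfLE_app (K : DerivedCategory (ModuleCat.{u} R)) (a b : ℤ) (h : a ≤ b)
    (hK : ∀ i : ℤ, a ≤ i → i < b → IsZero ((homologyFunctor (ModuleCat.{u} R) i).obj K)) :
    IsIso ((TStructure.t.natTransTruncGEOfLE a b h).app K) := by
  rw [DerivedCategory.isIso_iff]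
  intro n
  by_cases hn : b ≤ n
  · have h1 := isIso_homology_map_truncGEπ' K a n (by omega)
    have h2 := isIso_homology_map_truncGEπ' K b n hn
    have e : (homologyFunctor (ModuleCat.{u} R) n).map ((TStructure.t.truncGEπ a).app K) ≫
        (homologyFunctor (ModuleCat.{u} R) n).map ((TStructure.t.natTransTruncGEOfLE a b h).app K) =
        (homologyFunctor (ModuleCat.{u} R) n).map ((TStructure.t.truncGEπ b).app K) := by
      rw [← Functor.map_comp, TStructure.t.π_natTransTruncGEOfLE_app]
    exact IsIso.of_isIso_fac_left e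
  · have hzt : IsZero ((homologyFunctor (ModuleCat.{u} R) n).obj ((TStructure.t.truncGE b).obj K)) :=
      isZero_of_isGE _ b n (by omega)
    have hzs : IsZero ((homologyFunctor (ModuleCat.{u} R) n).obj ((TStructure.t.truncGE a).obj K)) := by
      by_cases hna : a ≤ n
      · have h1 := isIso_homology_map_truncGEπ' K a n hna
        exact (hK n hna (by omega)).of_iso
          (asIso ((homologyFunctor (ModuleCat.{u} R) n).map ((TStructure.t.truncGEπ a).app K))).symm
      · exact isZero_of_isGE _ a n (by omega)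
    exact ⟨⟨0, hzs.eq_of_src _ _, hzt.eq_of_src _ _⟩⟩

theorem exists_split_of_gap (K : DerivedCategory (ModuleCat.{u} R)) (a b : ℤ) (h : a ≤ b)
    (hK : ∀ i : ℤ, a ≤ i → i < b → IsZero ((homologyFunctor (ModuleCat.{u} R) i).obj K))
    (hzero : ∀ ψ : (TStructure.t.truncGE b).obj K ⟶ ((TStructure.t.truncLT a).obj K)⟦(1 : ℤ)⟧, ψ = 0)
    [HasBinaryBiproduct ((TStructure.t.truncLT a).obj K) ((TStructure.t.truncGE b).obj K)] :
    ∃ e : K ≅ (TStructure.t.truncLT a).obj K ⊞ (TStructure.t.truncGE b).obj K,
      (TStructure.t.truncLTι a).app K ≫ e.hom = biprod.inl ∧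
        e.hom ≫ biprod.snd = (TStructure.t.truncGEπ b).app K := by
  have hφ := isIso_natTransTruncGEOfLE_app K a b h hK
  let T' : Triangle (DerivedCategory (ModuleCat.{u} R)) :=
    Triangle.mk ((TStructure.t.truncLTι a).app K) ((TStructure.t.truncGEπ b).app K)
      (inv ((TStructure.t.natTransTruncGEOfLE a b h).app K) ≫ (TStructure.t.truncGEδLT a).app K)
  let φi : (TStructure.t.truncGE a).obj K ≅ (TStructure.t.truncGE b).obj K :=
    @asIso _ _ _ _ ((TStructure.t.natTransTruncGEOfLE a b h).app K) hφ
  have hT' : T' ∈ distTriang _ := by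
    refine isomorphic_distinguished _ (TStructure.t.triangleLTGE_distinguished a K) _ (Iso.symm ?_)
    refine Triangle.isoMk _ _ (Iso.refl _) (Iso.refl _) φi ?_ ?_ ?_
    · exact (Category.comp_id _).trans (Category.id_comp _).symm
    · exact (TStructure.t.π_natTransTruncGEOfLE_app a b h K).trans (Category.id_comp _).symm
    · refine Eq.trans ?_ (IsIso.hom_inv_id_assoc _ _).symm
      refine Eq.trans ?_ (Category.comp_id _)
      congr 1
      exact CategoryTheory.Functor.map_id _ _
  obtain ⟨e, he1, he2⟩ := exists_iso_biprod_of_distTriang T' hT' (hzero _)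
  exact ⟨e, he1, he2.symm⟩

end GapSplit

end Groth.Agent.Lib.Helper35.KL
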