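/-
Helper library (helper35): generic quasi-separatedness, ring-level core.
For a finite type algebra `B` over a ring `A` with prime nilradical and any ideal `I` of `B`,
after inverting a non-nilpotent element of `A` the open complement of `V(I)` becomes quasi-compact.
-/
import Mathlib
import Groth.Agent.Lib.Helper91.GenericFreeness

set_option autoImplicit false
universe u
open TensorProduct

namespace Groth.Agent.Lib.Helper35.GenQS

section Domain

variable {A : Type u} [CommRing A] [IsDomain A] {B : Type u} [CommRing B] [Algebra A B]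
  [Algebra.FiniteType A B]

/-- An element of a module over a domain which dies in the base change to the fraction field is
torsion. -/
theorem exists_smul_eq_zero_of_tmul_eq_zero {M : Type u} [AddCommGroup M] [Module A M] (m : M)
    (h : (1 : FractionRing A) ⊗ₜ[A] m = 0) : ∃ d : A, d ≠ 0 ∧ d • m = 0 := by
  haveI : IsLocalizedModule (nonZeroDivisors A) (TensorProduct.mk A (FractionRing A) M 1) :=
    (isLocalizedModule_iff_isBaseChange (nonZeroDivisors A) (FractionRing A) _).mpr
      (TensorProduct.isBaseChange A M (FractionRing A))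
  have h' : TensorProduct.mk A (FractionRing A) M 1 m = 0 := h
  obtain ⟨d, hd⟩ := (IsLocalizedModule.eq_zero_iff (nonZeroDivisors A)
    (TensorProduct.mk A (FractionRing A) M 1)).mp h'
  exact ⟨d.1, nonZeroDivisors.ne_zero d.2, hd⟩

theorem exists_finset_forall_pow_mul_mem_span (I : Ideal B) :
    ∃ a : A, a ≠ 0 ∧ ∃ s : Finset B, (↑s ⊆ (I : Set B)) ∧
      ∀ b ∈ I, ∃ k : ℕ, algebraMap A B a ^ k * b ∈ Ideal.span (s : Set B) := by
  classical
  let K := FractionRing A
  let BK := K ⊗[A] B
  haveI : Algebra.FiniteType K BK := inferInstance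
  haveI : IsNoetherianRing BK := Algebra.FiniteType.isNoetherianRing K BK
  let ι : B →+* BK := (Algebra.TensorProduct.includeRight : B →ₐ[A] K ⊗[A] B).toRingHom
  have hfg : (I.map ι).FG := IsNoetherian.noetherian _
  have hmap : I.map ι = Ideal.span (ι '' (I : Set B)) := rfl
  rw [hmap] at hfg
  obtain ⟨s', hs', hspan⟩ := (Submodule.fg_span_iff_fg_span_finset_subset _).mp hfg
  obtain ⟨s, hsI, hss'⟩ := Finset.subset_set_image_iff.mp hs'
  let J : Ideal B := Ideal.span (s : Set B)
  let C := B ⧸ J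
  obtain ⟨a, ha0, ⟨ιS, e, hli, hsp⟩, -, -, -⟩ :=
    Groth.Agent.Lib.Helper91.generic_freeness_data (R := A) (S := C) (M := C)
  refine ⟨a, ha0, s, hsI, fun b hb => ?_⟩
  -- `1 ⊗ [b] = 0` in `K ⊗ C`
  let Φ : K ⊗[A] B →ₐ[K] K ⊗[A] C :=
    Algebra.TensorProduct.map (AlgHom.id K K) (Ideal.Quotient.mkₐ A J)
  have hker : I.map ι ≤ RingHom.ker Φ.toRingHom := by
    rw [hmap]
    show Ideal.span (ι '' (I : Set B)) ≤ _
    have h1 : Ideal.span (ι '' (I : Set B)) = Ideal.span (s' : Set BK) := hspan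
    rw [h1, Ideal.span_le]
    intro x hx
    rw [← hss', Finset.coe_image] at hx
    obtain ⟨y, hy, rfl⟩ := hx
    show Φ (ι y) = 0
    have : Φ (ι y) = (1 : K) ⊗ₜ[A] (Ideal.Quotient.mk J y) := by
      show Φ ((1 : K) ⊗ₜ[A] y) = _
      rw [Algebra.TensorProduct.map_tmul]; rfl
    rw [this]
    have h0 : Ideal.Quotient.mk J y = 0 :=
      Ideal.Quotient.eq_zero_iff_mem.mpr (Ideal.subset_span hy)
    rw [h0, TensorProduct.tmul_zero]
  have hb0 : (1 : K) ⊗ₜ[A] (Ideal.Quotient.mk J b) = (0 : K ⊗[A] C) := by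
    have h1 : ι b ∈ I.map ι := Ideal.mem_map_of_mem ι hb
    have h2 : Φ (ι b) = 0 := hker h1
    have : Φ (ι b) = (1 : K) ⊗ₜ[A] (Ideal.Quotient.mk J b) := by
      show Φ ((1 : K) ⊗ₜ[A] b) = _
      rw [Algebra.TensorProduct.map_tmul]; rfl
    rw [← this]; exact h2
  obtain ⟨d, hd0, hd⟩ := exists_smul_eq_zero_of_tmul_eq_zero (A := A)
    (Ideal.Quotient.mk J b : C) hb0
  obtain ⟨k, hk⟩ := hsp (Ideal.Quotient.mk J b)
  obtain ⟨c, hc⟩ := Finsupp.mem_span_range_iff_exists_finsupp.mp hk
  have hc' : Finsupp.linearCombination A e c = a ^ k • (Ideal.Quotient.mk J b : C) := by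
    rw [Finsupp.linearCombination_apply]; exact hc
  have h3 : Finsupp.linearCombination A e (d • c) = 0 := by
    rw [map_smul, hc', smul_comm, hd, smul_zero]
  have h4 : d • c = 0 := linearIndependent_iff.mp hli _ h3
  have h5 : c = 0 := (smul_eq_zero.mp h4).resolve_left hd0
  rw [h5, map_zero] at hc'
  refine ⟨k, ?_⟩
  rw [← Ideal.Quotient.eq_zero_iff_mem, map_mul, map_pow]
  have h6 : a ^ k • (Ideal.Quotient.mk J b : C) =
      (Ideal.Quotient.mk J (algebraMap A B a)) ^ k * Ideal.Quotient.mk J b := by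
    rw [Algebra.smul_def, map_pow]; rfl
  rw [← h6, ← hc']

end Domain

section General

variable {A : Type u} [CommRing A] {B : Type u} [CommRing B] [Algebra A B]
  [Algebra.FiniteType A B]

theorem exists_finset_forall_pow_mul_mem_radical (hp : (nilradical A).IsPrime) (I : Ideal B) :
    ∃ a : A, a ∉ nilradical A ∧ ∃ s : Finset B, (↑s ⊆ (I : Set B)) ∧
      ∀ b ∈ I, ∃ k : ℕ, algebraMap A B a ^ k * b ∈ (Ideal.span (s : Set B)).radical := by
  classical
  let N : Ideal B := (nilradical A).map (algebraMap A B)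
  have hN : N ≤ nilradical B := by
    rw [Ideal.map_le_iff_le_comap]
    intro x hx
    exact mem_nilradical.mpr ((mem_nilradical.mp hx).map (algebraMap A B))
  let A' := A ⧸ nilradical A
  haveI : IsDomain A' := Ideal.Quotient.isDomain _
  let B' := B ⧸ N
  letI : Algebra A' B' := Ideal.Quotient.algebraQuotientOfLEComap Ideal.le_comap_map
  haveI : IsScalarTower A A' B' := IsScalarTower.of_algebraMap_eq (fun x => rfl)
  haveI : Algebra.FiniteType A B' :=
    Algebra.FiniteType.of_surjective (Ideal.Quotient.mkₐ A N) Ideal.Quotient.mk_surjective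
  haveI : Algebra.FiniteType A' B' := Algebra.FiniteType.of_restrictScalars_finiteType A A' B'
  obtain ⟨a', ha', s', hs', H⟩ :=
    exists_finset_forall_pow_mul_mem_span (A := A') (B := B') (I.map (Ideal.Quotient.mk N))
  obtain ⟨a, rfl⟩ := Ideal.Quotient.mk_surjective a'
  have hs'' : (↑s' : Set B') ⊆ (Ideal.Quotient.mk N) '' (I : Set B) := by
    intro x hx
    have := hs' hx
    rw [SetLike.mem_coe, Ideal.mem_map_iff_of_surjective _ Ideal.Quotient.mk_surjective] at this
    obtain ⟨y, hy, rfl⟩ := this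
    exact ⟨y, hy, rfl⟩
  obtain ⟨s, hsI, hss'⟩ := Finset.subset_set_image_iff.mp hs''
  refine ⟨a, fun h => ha' (Ideal.Quotient.eq_zero_iff_mem.mpr h), s, hsI, fun b hb => ?_⟩
  obtain ⟨k, hk⟩ := H (Ideal.Quotient.mk N b) (Ideal.mem_map_of_mem _ hb)
  refine ⟨k, ?_⟩
  have h1 : Ideal.span (s' : Set B') = (Ideal.span (s : Set B)).map (Ideal.Quotient.mk N) := by
    rw [Ideal.map_span, ← hss', Finset.coe_image]
  have h2 : algebraMap A' B' (Ideal.Quotient.mk (nilradical A) a) ^ k * Ideal.Quotient.mk N b =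
      Ideal.Quotient.mk N (algebraMap A B a ^ k * b) := by
    rw [map_mul, map_pow]; rfl
  rw [h1, h2, Ideal.mem_map_iff_of_surjective _ Ideal.Quotient.mk_surjective] at hk
  obtain ⟨y, hy, hyb⟩ := hk
  have h3 : algebraMap A B a ^ k * b - y ∈ N := by
    rw [← Ideal.Quotient.eq]; exact hyb.symm
  have h4 : algebraMap A B a ^ k * b - y ∈ (Ideal.span (s : Set B)).radical :=
    (Ideal.radical_mono bot_le : nilradical B ≤ (Ideal.span (s : Set B)).radical) (hN h3)
  have h5 : y ∈ (Ideal.span (s : Set B)).radical := Ideal.le_radical hy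
  have := Ideal.add_mem _ h4 h5
  rwa [sub_add_cancel] at this

/-- Prime form. -/
theorem exists_finset_forall_prime (hp : (nilradical A).IsPrime) (I : Ideal B) :
    ∃ a : A, a ∉ nilradical A ∧ ∃ s : Finset B, (↑s ⊆ (I : Set B)) ∧
      ∀ q : Ideal B, q.IsPrime → algebraMap A B a ∉ q → (↑s ⊆ (q : Set B)) → I ≤ q := by
  obtain ⟨a, ha, s, hsI, H⟩ := exists_finset_forall_pow_mul_mem_radical hp I
  refine ⟨a, ha, s, hsI, fun q hq haq hsq b hb => ?_⟩
  obtain ⟨k, hk⟩ := H b hb
  have h1 : (Ideal.span (s : Set B)).radical ≤ q :=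
    hq.isRadical.radical_le_iff.mpr (Ideal.span_le.mpr hsq)
  have h2 := h1 hk
  rcases hq.mem_or_mem h2 with h3 | h3
  · exact absurd (hq.mem_of_pow_mem k h3) haq
  · exact h3

end General

end Groth.Agent.Lib.Helper35.GenQS
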