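/-
Helper library (helper35): generic quasi-separatedness of a morphism of finite type over an
irreducible scheme.
-/
import Mathlib
import Groth.Agent.Lib.Helper35.GenQS1
import Groth.Agent.Lib.Helper13.GenFibre3

set_option autoImplicit false
set_option maxHeartbeats 2000000
universe u

namespace Groth.Agent.Lib.Helper35.GenQS

open AlgebraicGeometry CategoryTheory Limits TopologicalSpace

variable {X Y : Scheme.{u}}

theorem inf_preimage_basicOpen (f : X ⟶ Y) {W : Y.Opens} {U : X.Opens} (hU : U ≤ f ⁻¹ᵁ W)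
    (r : Γ(Y, W)) : U ⊓ f ⁻¹ᵁ (Y.basicOpen r) = X.basicOpen ((f.appLE W U hU).hom r) := by
  have h1 : (f.appLE W U hU).hom r = (X.presheaf.map (homOfLE hU).op).hom ((f.app W).hom r) := by
    rw [Scheme.Hom.appLE]; rfl
  rw [h1, Scheme.basicOpen_res, Scheme.preimage_basicOpen]

theorem exists_chart_compact (f : X ⟶ Y) [LocallyOfFiniteType f] {W : Y.Opens}
    (hW : IsAffineOpen W) (hp : (nilradical Γ(Y, W)).IsPrime) (U U' : X.affineOpens)
    (hU : (U : X.Opens) ≤ f ⁻¹ᵁ W) :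
    ∃ a : Γ(Y, W), a ∉ nilradical Γ(Y, W) ∧ ∀ a' : Γ(Y, W),
      IsCompact (((U : X.Opens) ⊓ U' ⊓ f ⁻¹ᵁ (Y.basicOpen (a * a')) : X.Opens) : Set X) := by
  classical
  letI : Algebra Γ(Y, W) Γ(X, U) := (f.appLE W U hU).hom.toAlgebra
  have hft : Algebra.FiniteType Γ(Y, W) Γ(X, U) := f.finiteType_appLE hW U.2 hU
  let O : (Spec Γ(X, U)).Opens := U.2.fromSpec ⁻¹ᵁ U'
  let I : Ideal Γ(X, U) := PrimeSpectrum.vanishingIdeal ((O : Set (Spec Γ(X, U)))ᶜ)
  have hI : PrimeSpectrum.zeroLocus (I : Set Γ(X, U)) = (O : Set (Spec Γ(X, U)))ᶜ := by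
    rw [PrimeSpectrum.zeroLocus_vanishingIdeal_eq_closure]
    exact O.isOpen.isClosed_compl.closure_eq
  obtain ⟨a, ha, s, hsI, H⟩ := exists_finset_forall_prime (A := Γ(Y, W)) (B := Γ(X, U)) hp I
  refine ⟨a, ha, fun a' => ?_⟩
  have hset : (((U : X.Opens) ⊓ U' ⊓ f ⁻¹ᵁ (Y.basicOpen (a * a')) : X.Opens) : Set X) =
      U.2.fromSpec '' (⋃ b ∈ s, (PrimeSpectrum.basicOpen
        (b * (f.appLE W U hU).hom (a * a')) : Set (PrimeSpectrum Γ(X, U)))) := by
    have hinf : (U : X.Opens) ⊓ U' ⊓ f ⁻¹ᵁ (Y.basicOpen (a * a')) =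
        (U' : X.Opens) ⊓ X.basicOpen ((f.appLE W U hU).hom (a * a')) := by
      rw [← inf_preimage_basicOpen f hU, inf_comm (U : X.Opens) U', inf_assoc]
    rw [hinf]
    ext x
    constructor
    · rintro ⟨hxU', hxb⟩
      have hxU : x ∈ (U : X.Opens) := X.basicOpen_le _ hxb
      have hxr : x ∈ Set.range U.2.fromSpec := by rw [U.2.range_fromSpec]; exact hxU
      obtain ⟨q, rfl⟩ := hxr
      refine ⟨q, ?_, rfl⟩
      have hq1 : q ∈ U.2.fromSpec ⁻¹ᵁ X.basicOpen ((f.appLE W U hU).hom (a * a')) := hxb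
      rw [U.2.fromSpec_preimage_basicOpen] at hq1
      have hq2 : (f.appLE W U hU).hom (a * a') ∉ q.asIdeal := hq1
      have hqO : q ∈ (O : Set (Spec Γ(X, U))) := hxU'
      have hq3 : ¬ I ≤ q.asIdeal := by
        intro hle
        have : q ∈ PrimeSpectrum.zeroLocus (I : Set Γ(X, U)) := hle
        rw [hI] at this
        exact this hqO
      have hq4 : (f.appLE W U hU).hom a ∉ q.asIdeal := by
        intro h
        apply hq2
        rw [map_mul]
        exact q.asIdeal.mul_mem_right _ h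
      have hq5 : ¬ ((s : Set Γ(X, U)) ⊆ (q.asIdeal : Set Γ(X, U))) := fun hsq =>
        hq3 (H q.asIdeal q.isPrime hq4 hsq)
      rw [Set.not_subset] at hq5
      obtain ⟨b, hbs, hbq⟩ := hq5
      simp only [Set.mem_iUnion]
      refine ⟨b, hbs, ?_⟩
      show b * (f.appLE W U hU).hom (a * a') ∉ q.asIdeal
      intro h
      rcases q.isPrime.mem_or_mem h with h | h
      · exact hbq h
      · exact hq2 h
    · rintro ⟨q, hq, rfl⟩
      simp only [Set.mem_iUnion] at hq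
      obtain ⟨b, hbs, hbq⟩ := hq
      have hbq' : b * (f.appLE W U hU).hom (a * a') ∉ q.asIdeal := hbq
      have hb1 : b ∉ q.asIdeal := fun h => hbq' (q.asIdeal.mul_mem_right _ h)
      have hb2 : (f.appLE W U hU).hom (a * a') ∉ q.asIdeal :=
        fun h => hbq' (q.asIdeal.mul_mem_left _ h)
      constructor
      · have hq3 : q ∉ PrimeSpectrum.zeroLocus (I : Set Γ(X, U)) := by
          intro hle
          exact hb1 (hle (hsI hbs))
        rw [hI] at hq3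
        have : q ∈ (O : Set (Spec Γ(X, U))) := Set.notMem_compl_iff.mp hq3
        exact this
      · have hq1 : q ∈ (PrimeSpectrum.basicOpen ((f.appLE W U hU).hom (a * a'))) := hb2
        rw [← U.2.fromSpec_preimage_basicOpen] at hq1
        exact hq1
  rw [hset]
  refine IsCompact.image ?_ U.2.fromSpec.continuous
  exact s.finite_toSet.isCompact_biUnion (fun b _ => PrimeSpectrum.isCompact_basicOpen _)

/-- **Generic quasi-separatedness.** -/
theorem exists_open_quasiSeparated (f : X ⟶ Y) [IrreducibleSpace ↑Y] [LocallyOfFiniteType f]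
    [QuasiCompact f] :
    ∃ V : Y.Opens, genericPoint ↑Y ∈ V ∧ IsAffineOpen V ∧ QuasiSeparated (f ∣_ V) := by
  classical
  obtain ⟨W, hW, hηW, -⟩ := exists_isAffineOpen_mem_and_subset
    (x := genericPoint ↑Y) (U := ⊤) trivial
  have hηr : genericPoint ↑Y ∈ Set.range hW.fromSpec := by
    rw [hW.range_fromSpec]; exact hηW
  obtain ⟨z₀, hz₀⟩ := hηr
  have hnil : z₀.asIdeal = nilradical Γ(Y, W) :=
    Groth.Agent.Lib.Helper13.GenFibre.asIdeal_eq_nilradical_of_fromSpec_eq hW z₀ hz₀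
  have hp : (nilradical Γ(Y, W)).IsPrime := hnil ▸ z₀.isPrime
  have hcpt : IsCompact ((f ⁻¹ᵁ W : X.Opens) : Set X) :=
    (quasiCompact_iff_forall_isAffineOpen.mp inferInstance) W hW
  obtain ⟨S, hSfin, hSeq⟩ :=
    (isCompact_and_isOpen_iff_finite_and_eq_biUnion_affineOpens).mp ⟨hcpt, (f ⁻¹ᵁ W).isOpen⟩
  have hSW : ∀ U ∈ S, (U : X.Opens) ≤ f ⁻¹ᵁ W := by
    intro U hU x hx
    show x ∈ ((f ⁻¹ᵁ W : X.Opens) : Set X)
    rw [hSeq]
    simp only [Set.mem_iUnion]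
    exact ⟨U, hU, hx⟩
  have hchart : ∀ (p : X.affineOpens × X.affineOpens), ∃ a : Γ(Y, W),
      a ∉ nilradical Γ(Y, W) ∧ ((p.1 : X.Opens) ≤ f ⁻¹ᵁ W → ∀ a' : Γ(Y, W),
      IsCompact (((p.1 : X.Opens) ⊓ p.2 ⊓ f ⁻¹ᵁ (Y.basicOpen (a * a')) : X.Opens) : Set X)) := by
    intro p
    by_cases hU : (p.1 : X.Opens) ≤ f ⁻¹ᵁ W
    · obtain ⟨a, ha, hA⟩ := exists_chart_compact f hW hp p.1 p.2 hU
      exact ⟨a, ha, fun _ => hA⟩
    · exact ⟨1, fun h1 => hp.ne_top ((Ideal.eq_top_iff_one _).mpr h1), fun hU' => absurd hU' hU⟩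
  choose a ha hA using hchart
  let T : Finset (X.affineOpens × X.affineOpens) := hSfin.toFinset ×ˢ hSfin.toFinset
  let a₀ : Γ(Y, W) := ∏ p ∈ T, a p
  have ha₀ : a₀ ∉ nilradical Γ(Y, W) := by
    intro hmem
    obtain ⟨p, -, hpm⟩ := (hp.prod_mem_iff).mp hmem
    exact ha p hpm
  have hVaff : IsAffineOpen (Y.basicOpen a₀) := hW.basicOpen a₀
  refine ⟨Y.basicOpen a₀, ?_, hVaff, ?_⟩
  · have : z₀ ∈ hW.fromSpec ⁻¹ᵁ Y.basicOpen a₀ := by
      rw [hW.fromSpec_preimage_basicOpen]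
      show a₀ ∉ z₀.asIdeal
      rw [hnil]; exact ha₀
    have h2 : hW.fromSpec z₀ ∈ Y.basicOpen a₀ := this
    rwa [hz₀] at h2
  · -- quasi-separatedness
    set V := Y.basicOpen a₀ with hV
    haveI : IsAffine V.toScheme := hVaff
    rw [HasAffineProperty.iff_of_isAffine (P := @QuasiSeparated)]
    let Z : Scheme.{u} := (f ⁻¹ᵁ V).toScheme
    let C : {U : X.affineOpens // U ∈ S} → Z.Opens := fun U => (f ⁻¹ᵁ V).ι ⁻¹ᵁ (U.1 : X.Opens)
    have himg : ∀ U : {U : X.affineOpens // U ∈ S},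
        (f ⁻¹ᵁ V).ι ''ᵁ (C U) = (U.1 : X.Opens) ⊓ f ⁻¹ᵁ V := by
      intro U
      rw [Scheme.Hom.image_preimage_eq_opensRange_inf, Scheme.Opens.opensRange_ι, inf_comm]
    refine Scheme.quasiSeparatedSpace_of_isOpenCover (X := Z) C ?_ ?_ ?_
    · -- cover
      rw [TopologicalSpace.IsOpenCover, eq_top_iff]
      intro z _
      have hz : ((f ⁻¹ᵁ V).ι z) ∈ ((f ⁻¹ᵁ W : X.Opens) : Set X) := by
        have h1 : (f ⁻¹ᵁ V).ι z ∈ f ⁻¹ᵁ V := z.2
        exact (Y.basicOpen_le a₀) h1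
      rw [hSeq] at hz
      simp only [Set.mem_iUnion] at hz
      obtain ⟨U, hUS, hzU⟩ := hz
      rw [TopologicalSpace.Opens.mem_iSup]
      exact ⟨⟨U, hUS⟩, hzU⟩
    · intro U
      rw [← (f ⁻¹ᵁ V).ι.isAffineOpen_iff_of_isOpenImmersion, himg,
        inf_preimage_basicOpen f (hSW U.1 U.2)]
      exact U.1.2.basicOpen _
    · intro U U'
      rw [(f ⁻¹ᵁ V).ι.isOpenEmbedding.isCompact_iff]
      have hpT : (U.1, U'.1) ∈ T :=
        Finset.mem_product.mpr ⟨hSfin.mem_toFinset.mpr U.2, hSfin.mem_toFinset.mpr U'.2⟩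
      have hprod : a₀ = a (U.1, U'.1) * ∏ p ∈ T.erase (U.1, U'.1), a p :=
        (Finset.mul_prod_erase T a hpT).symm
      have hc := hA (U.1, U'.1) (hSW U.1 U.2) (∏ p ∈ T.erase (U.1, U'.1), a p)
      rw [← hprod] at hc
      convert hc using 1
      ext x
      constructor
      · rintro ⟨z, ⟨hz1, hz2⟩, rfl⟩
        exact ⟨⟨hz1, hz2⟩, z.2⟩
      · rintro ⟨⟨hx1, hx2⟩, hx3⟩
        exact ⟨⟨x, hx3⟩, ⟨hx1, hx2⟩, rfl⟩

end Groth.Agent.Lib.Helper35.GenQS
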