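import Groth.Agent.Lib.Helper35.HDIRestr
import Groth.Agent.Lib.Helper6.LBCPC

/-! `RΓ_I` commutes with flat base change (helper35). -/

set_option autoImplicit false
set_option linter.unusedSectionVars false
universe u v w

open CategoryTheory CategoryTheory.Limits DerivedCategory Pretriangulated TensorProduct ChangeOfRings

attribute [local instance] HasDerivedCategory.standard

namespace Groth.Agent.Lib.Helper35.HDIFlat

open Groth.Agent.Lib.Helper35.DCE Groth.Agent.Lib.Helper35.Bousfield Groth.Agent.Lib.Helper35.GM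
open Groth.Agent.Lib.Helper35.ConeN Groth.Agent.Lib.Helper35.HDIRestr
open Groth.Agent.Lib.Helper32 Groth.Agent.Lib.Helper32.GammaNoeth
  Groth.Agent.Lib.Helper32.GammaNoethD Groth.Agent.Lib.Helper32.KInjDerived

variable {A B : Type u} [CommRing A] [CommRing B] (φ : A →+* B)

set_option backward.isDefEq.respectTransparency false in
lemma smul_tmul_ext (M : ModuleCat.{v} A) (a : A) (s : B) (m : M) :
    (φ a • (s ⊗ₜ[A,φ] m : (ModuleCat.extendScalars.{u, u, v} φ).obj M)) = s ⊗ₜ[A,φ] (a • m) := by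
  rw [ModuleCat.ExtendScalars.smul_tmul]
  exact TensorProduct.smul_tmul (R := A) (R' := A)
    (M := (ModuleCat.restrictScalars φ).obj (ModuleCat.of B B)) a s m

set_option backward.isDefEq.respectTransparency false in
/-- extension of scalars of a torsion module is torsion -/
lemma isTors_ext (I : Ideal A) (M : ModuleCat.{u} A) (hM : IsTors I M) :
    IsTors (I.map φ) ((ModuleCat.extendScalars.{u, u, u} φ).obj M) := by
  have key : ∀ (s : B) (m : M), ∃ n : ℕ, ∀ b ∈ (I.map φ) ^ n,
      b • (s ⊗ₜ[A,φ] m : (ModuleCat.extendScalars.{u, u, u} φ).obj M) = 0 := by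
    intro s m
    obtain ⟨n, hn⟩ := hM m
    refine ⟨n, fun b hb => ?_⟩
    rw [← Ideal.map_pow, Ideal.map] at hb
    induction hb using Submodule.span_induction with
    | mem x hx =>
      obtain ⟨a, ha, rfl⟩ := hx
      rw [smul_tmul_ext, hn a ha, TensorProduct.tmul_zero]
    | zero => exact zero_smul _ _
    | add x y _ _ hx hy => rw [add_smul, hx, hy, add_zero]
    | smul c x _ hx => rw [smul_eq_mul, mul_smul, hx, smul_zero]
  intro y
  induction y using TensorProduct.induction_on with
  | zero => exact ⟨0, fun a _ => smul_zero a⟩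
  | tmul s m => exact key s m
  | add x y hx hy =>
    obtain ⟨n1, h1⟩ := hx
    obtain ⟨n2, h2⟩ := hy
    refine ⟨max n1 n2, fun b hb => ?_⟩
    rw [smul_add, h1 b (Ideal.pow_le_pow_right (le_max_left n1 n2) hb),
      h2 b (Ideal.pow_le_pow_right (le_max_right n1 n2) hb), add_zero]

set_option backward.isDefEq.respectTransparency false in
/-- if `f` acts bijectively on `M`, then `φ f` acts bijectively on `B ⊗_A M` -/
lemma bijective_smul_ext (f : A) (M : ModuleCat.{u} A)
    (h : Function.Bijective (fun x : M => f • x)) :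
    Function.Bijective
      (fun x : (ModuleCat.extendScalars.{u, u, u} φ).obj M => φ f • x) := by
  let g : M ⟶ M := ModuleCat.ofHom (LinearMap.lsmul A M f)
  haveI : IsIso g := (ConcreteCategory.isIso_iff_bijective g).2 h
  have hb := (ConcreteCategory.isIso_iff_bijective
    ((ModuleCat.extendScalars.{u, u, u} φ).map g)).1 inferInstance
  have heq : ∀ x : (ModuleCat.extendScalars.{u, u, u} φ).obj M,
      (ModuleCat.extendScalars.{u, u, u} φ).map g x = φ f • x := by
    intro x
    induction x using TensorProduct.induction_on with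
    | zero => rw [map_zero, smul_zero]
    | tmul s m =>
      rw [smul_tmul_ext]
      rfl
    | add x y hx hy => rw [map_add, hx, hy, smul_add]
  convert hb using 1
  funext x
  exact (heq x).symm

set_option backward.isDefEq.respectTransparency false in
/-- extension of scalars of a linear equivalence, across universes -/
noncomputable def extEquiv (M : ModuleCat.{v} A) (N : ModuleCat.{w} A) (e : M ≃ₗ[A] N) :
    (ModuleCat.extendScalars.{u, u, v} φ).obj M ≃ₗ[B] (ModuleCat.extendScalars.{u, u, w} φ).obj N :=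
  let t : ((ModuleCat.restrictScalars φ).obj (ModuleCat.of B B)) ⊗[A] M ≃ₗ[A]
      ((ModuleCat.restrictScalars φ).obj (ModuleCat.of B B)) ⊗[A] N :=
    TensorProduct.congr (LinearEquiv.refl A _) e
  { toFun := fun x => t x
    invFun := fun y => t.symm y
    map_add' := fun x y => t.map_add x y
    left_inv := fun x => t.symm_apply_apply x
    right_inv := fun y => t.apply_symm_apply y
    map_smul' := fun b x => by
      induction x using TensorProduct.induction_on with
      | zero => simp
      | tmul s m => rfl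
      | add x y hx hy =>
        rw [smul_add, map_add, hx, hy, map_add, smul_add] }

section Flat

variable [DRing.HasLBaseChange φ] (hφ : φ.Flat)

include hφ in
/-- flat base change is computed termwise on every complex -/
theorem nonempty_lbc_iso_of_ringHomFlat (X : DRing.Cx A) :
    Nonempty ((DRing.LBaseChange φ).obj (Q.obj X) ≅ Q.obj ((Ec φ).obj X)) := by
  obtain ⟨P, π, hP, hπ⟩ := KProjRes.exists_kProjective_resolution_moduleCat A X
  haveI := hP
  haveI := hπ
  haveI : PreservesFiniteLimits (ModuleCat.extendScalars.{u, u, u} φ) :=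
    ModuleCat.preservesFiniteLimits_extendScalars_of_flat hφ
  haveI : (ModuleCat.extendScalars.{u, u, u} φ).PreservesHomology := inferInstance
  haveI : QuasiIso ((Ec φ).map π) := inferInstance
  haveI : IsIso (Q.map π) := by rw [isIso_Q_map_iff_quasiIso]; infer_instance
  haveI : IsIso (Q.map ((Ec φ).map π)) := by rw [isIso_Q_map_iff_quasiIso]; infer_instance
  exact ⟨((DRing.LBaseChange φ).mapIso (asIso (Q.map π))).symm ≪≫ LBC.lbcIso φ P ≪≫
    asIso (Q.map ((Ec φ).map π))⟩

include hφ in
/-- cohomology commutes with flat base change -/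
theorem nonempty_homology_lbc_iso (K : Dual.D A) (i : ℤ) :
    Nonempty ((homologyFunctor (ModuleCat.{u} B) i).obj ((DRing.LBaseChange φ).obj K) ≅
      (ModuleCat.extendScalars.{u, u, u} φ).obj ((homologyFunctor (ModuleCat.{u} A) i).obj K)) := by
  let Y := Q.objPreimage K
  let e : Q.obj Y ≅ K := Q.objObjPreimageIso K
  let F := ModuleCat.extendScalars.{u, u, u} φ
  haveI : PreservesFiniteLimits F := ModuleCat.preservesFiniteLimits_extendScalars_of_flat hφ
  haveI : F.PreservesHomology := inferInstance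
  obtain ⟨e0⟩ := nonempty_lbc_iso_of_ringHomFlat φ hφ Y
  let i1 := (homologyFunctor (ModuleCat.{u} B) i).mapIso
    ((DRing.LBaseChange φ).mapIso e.symm ≪≫ e0)
  let i2 := (homologyFunctorFactors (ModuleCat.{u} B) i).app ((Ec φ).obj Y)
  let i3 : ((Ec φ).obj Y).homology i ≅ F.obj (Y.homology i) := (Y.sc i).mapHomologyIso F
  let i4 := F.mapIso ((homologyFunctorFactors (ModuleCat.{u} A) i).app Y).symm
  let i5 := F.mapIso ((homologyFunctor (ModuleCat.{u} A) i).mapIso e)
  exact ⟨i1 ≪≫ i2 ≪≫ i3 ≪≫ i4 ≪≫ i5⟩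

include hφ in
/-- base case: base changes of localizations at `f` lie in the image of `D(B_{φ f})` -/
theorem im_lbc_locCx (f : A) (Y : DRing.Cx A) :
    Im (aw (φ f)) ((DRing.LBaseChange φ).obj
      (Q.obj ((DerCA.locCx (Submonoid.powers f)).obj Y))) := by
  let X := (DerCA.locCx (Submonoid.powers f)).obj Y
  obtain ⟨e0⟩ := nonempty_lbc_iso_of_ringHomFlat φ hφ X
  obtain ⟨E, ⟨e⟩⟩ := Groth.Agent.Lib.Helper35.DCR.exists_restrict_iso_of_bijective (φ f)
    ((Ec φ).obj X) (fun i => bijective_smul_ext φ f (X.X i)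
      (Groth.Agent.Lib.Helper35.HomCone.bijective_smul_localizedModule f (Y.X i)))
  exact ⟨E, ⟨e.symm ≪≫ e0.symm⟩⟩

section Main

variable [IsNoetherianRing A] [IsNoetherianRing B] (I : Ideal A)
  [DRing.HasRgammaI I] [DRing.HasRgammaI (I.map φ)]

/-- objects of `D(A)` whose base change to `B` is killed by `RΓ_{IB}` -/
def NF : ObjectProperty (Dual.D A) := fun W =>
  IsZero ((DRing.RgammaI (I.map φ)).obj ((DRing.LBaseChange φ).obj W))

lemma nF_zero (Z : Dual.D A) (hZ : IsZero Z) : NF φ I Z := by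
  haveI : (DRing.LBaseChange φ).Additive :=
    (Groth.Agent.Lib.Helper6.LBCPC.lbcAdj φ).left_adjoint_additive
  exact isZero_Rgamma_of_isZero _ _ ((DRing.LBaseChange φ).map_isZero hZ)

lemma nF_ext (T : Triangle (Dual.D A)) (hT : T ∈ distTriang (Dual.D A))
    (h₁ : NF φ I T.obj₁) (h₃ : NF φ I T.obj₃) : NF φ I T.obj₂ := by
  letI := Groth.Agent.Lib.Helper6.LBCPC.lbcCommShift φ
  haveI := Groth.Agent.Lib.Helper6.LBCPC.lbc_isTriangulated φ
  exact isZero_Rgamma_obj₂ _ _ ((DRing.LBaseChange φ).map_distinguished T hT) h₁ h₃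

include hφ in
lemma coneN_flat : ConeN I (NF φ I) := by
  classical
  obtain ⟨s, hs⟩ := (isNoetherianRing_iff_ideal_fg A).1 inferInstance I
  have h1 : ConeN (Ideal.span (s : Set A)) (NF φ I) := by
    refine coneN_span (NF φ I) (nF_zero φ I) (nF_ext φ I) s ?_
    intro f hf Y
    refine isZero_Rgamma_of_Im _ (φ f) ?_ _ (im_lbc_locCx φ hφ f Y)
    exact Ideal.mem_map_of_mem φ (hs ▸ Ideal.subset_span hf)
  rwa [hs] at h1

include hφ in
/-- `RΓ` commutes with flat base change of Noetherian rings. -/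
theorem nonempty_Rgamma_lbc_iso (K : Dual.D A) :
    Nonempty ((DRing.RgammaI (I.map φ)).obj ((DRing.LBaseChange φ).obj K) ≅
      (DRing.LBaseChange φ).obj ((DRing.RgammaI I).obj K)) := by
  letI := Groth.Agent.Lib.Helper6.LBCPC.lbcCommShift φ
  haveI := Groth.Agent.Lib.Helper6.LBCPC.lbc_isTriangulated φ
  let 𝔟 := I.map φ
  let L := DRing.LBaseChange φ
  obtain ⟨J, hJ, hinj, ⟨e⟩⟩ := exists_rep K
  haveI := hJ
  haveI : IsIso (βΓ I J) := TriRF.isIso_β _ _ _ hasKInjRes J
  obtain ⟨W, p, δ, hT, hW⟩ := coneN_flat φ hφ I J (fun q => baer_of_injective (J.X q))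
  have hT' := L.map_distinguished _ hT
  obtain ⟨h, hh⟩ := TriRF.exists_distinguished (DRing.gammaI 𝔟) (DRing.RgammaI 𝔟) (αΓ 𝔟)
    hasKInjRes _ hT'
  haveI : IsIso ((DRing.RgammaI 𝔟).map (L.map (Q.map (ιΓ I J)))) :=
    (Triangle.isZero₃_iff_isIso₁ _ hh).1 hW
  haveI : IsIso ((DRing.RgammaIε 𝔟).app (L.obj (Q.obj (Gam I J)))) := by
    apply isIso_ε_of_torsion
    intro q
    obtain ⟨e0⟩ := nonempty_lbc_iso_of_ringHomFlat φ hφ (Gam I J)
    refine IsTors.of_iso 𝔟 ((DerivedCategory.homologyFunctor (ModuleCat.{u} B) q).mapIso e0 ≪≫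
      (DerivedCategory.homologyFunctorFactors (ModuleCat.{u} B) q).app ((Ec φ).obj (Gam I J))) ?_
    exact isTors_homology_of_terms 𝔟 _
      (fun q' => isTors_ext φ I ((Gam I J).X q') (isTors_Gam_X I J q')) q
  exact ⟨(DRing.RgammaI 𝔟).mapIso (L.mapIso e.symm) ≪≫
    (asIso ((DRing.RgammaI 𝔟).map (L.map (Q.map (ιΓ I J))))).symm ≪≫
    asIso ((DRing.RgammaIε 𝔟).app (L.obj (Q.obj (Gam I J)))) ≪≫
    L.mapIso (asIso (βΓ I J) ≪≫ (DRing.RgammaI I).mapIso e)⟩

end Main

end Flat

end Groth.Agent.Lib.Helper35.HDIFlat
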