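import Groth.Agent.Lib.Helper35.HDIFlat
import Groth.Agent.S1812
import Groth.Agent.Lib.Helper6.RestrLin
import Groth.Agent.Lib.Helper35.FlatLBC

/-! `RΓ_I` commutes with arbitrary derived base change (helper35). -/

set_option autoImplicit false
set_option linter.unusedSectionVars false
universe u v w

open CategoryTheory CategoryTheory.Limits DerivedCategory Pretriangulated

attribute [local instance] HasDerivedCategory.standard

namespace Groth.Agent.Lib.Helper35.HDIGen

open Groth.Agent.Lib.Helper35.DCE Groth.Agent.Lib.Helper35.Bousfield Groth.Agent.Lib.Helper35.GM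
open Groth.Agent.Lib.Helper35.ConeN Groth.Agent.Lib.Helper35.HDIRestr Groth.Agent.Lib.Helper35.LD
open Groth.Agent.Lib.Helper32 Groth.Agent.Lib.Helper32.GammaNoeth
  Groth.Agent.Lib.Helper32.GammaNoethD Groth.Agent.Lib.Helper32.KInjDerived

section Smul

variable {A : Type u} [CommRing A]

/-- no nonzero maps from an object killed by `g ^ n` to an object on which `g` is invertible -/
theorem subsingleton_hom_of_smul (X Z : Dual.D A) (g : A) (n : ℕ) (hX : g ^ n • 𝟙 X = 0)
    (hZ : IsIso (g • 𝟙 Z)) : Subsingleton (X ⟶ Z) := by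
  have key : ∀ (m : ℕ) (h : X ⟶ Z), g ^ m • h = 0 → h = 0 := by
    intro m
    induction m with
    | zero => intro h hh; simpa using hh
    | succ m ih =>
      intro h hh
      apply ih
      have h1 : (g ^ m • h) ≫ (g • 𝟙 Z) = 0 := by
        rw [Linear.smul_comp, Linear.comp_smul, Category.comp_id, smul_smul, ← pow_succ]
        exact hh
      rw [← cancel_mono (g • 𝟙 Z), h1, zero_comp]
  refine ⟨fun h h' => ?_⟩
  rw [← sub_eq_zero]
  apply key n
  have : g ^ n • (h - h') = (g ^ n • 𝟙 X) ≫ (h - h') := by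
    rw [Linear.smul_comp, Category.id_comp]
  rw [this, hX, zero_comp]

lemma isIso_smul_shift (Z : Dual.D A) (g : A) (q : ℤ) (hZ : IsIso (g • 𝟙 Z)) :
    IsIso (g • 𝟙 (Z⟦q⟧)) := by
  have h : g • 𝟙 (Z⟦q⟧) = (g • 𝟙 Z)⟦q⟧' := by
    rw [Functor.map_smul, CategoryTheory.Functor.map_id]
  rw [h]
  infer_instance

lemma smul_pow_single_quot (I : Ideal A) (g : A) (hg : g ∈ I) (n : ℕ) :
    g ^ n • 𝟙 ((DerivedCategory.singleFunctor (ModuleCat.{u} A) 0).obj
      (ModuleCat.of A (A ⧸ I ^ n))) = 0 := by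
  have h0 : g ^ n • 𝟙 (ModuleCat.of A (A ⧸ I ^ n)) = 0 := by
    apply ModuleCat.hom_ext
    apply LinearMap.ext
    intro x
    obtain ⟨x, rfl⟩ := Ideal.Quotient.mk_surjective x
    change g ^ n • (Ideal.Quotient.mk (I ^ n) x) = 0
    rw [← Ideal.Quotient.mk_eq_mk, ← Submodule.Quotient.mk_smul, Submodule.Quotient.mk_eq_zero]
    rw [smul_eq_mul]
    exact Ideal.mul_mem_right _ _ (Ideal.pow_mem_pow hg n)
  rw [← CategoryTheory.Functor.map_id, ← Functor.map_smul, h0, Functor.map_zero]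

variable [IsNoetherianRing A] (I : Ideal A) [DRing.HasRgammaI I]

/-- `RΓ_I` kills objects on which some `g ∈ I` acts invertibly -/
theorem isZero_Rgamma_of_isIso_smul (g : A) (hg : g ∈ I) (Z : Dual.D A) (hZ : IsIso (g • 𝟙 Z)) :
    IsZero ((DRing.RgammaI I).obj Z) := by
  apply Groth.Agent.Lib.Helper35.TA.isZero_of_forall_isZero_homology
  intro q
  obtain ⟨e⟩ := Groth.Agent.S1812.result A I ((isNoetherianRing_iff_ideal_fg A).1 inferInstance I) Z q
  have hz : IsZero (Dual2.HDI A I Z q) := by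
    rw [IsZero.iff_id_eq_zero]
    apply colimit.hom_ext
    intro j
    have hs : Subsingleton ((DerivedCategory.singleFunctor (ModuleCat.{u} A) 0).obj
        (ModuleCat.of A (A ⧸ I ^ j.unop.unop)) ⟶ Z⟦q⟧) :=
      subsingleton_hom_of_smul _ _ g j.unop.unop (smul_pow_single_quot I g hg _)
        (isIso_smul_shift Z g q hZ)
    exact (@ModuleCat.isZero_of_subsingleton _ _ _ hs).eq_of_src _ _
  have hs : Subsingleton (Dual2.HDI A I Z q) := ModuleCat.subsingleton_of_isZero hz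
  have : Subsingleton (Dual.HD A ((DRing.RgammaI I).obj Z) q) := e.toEquiv.subsingleton
  exact ModuleCat.isZero_of_subsingleton _

/-- no nonzero maps from an object with `I`-power torsion cohomology to an object on which some
`f ∈ I` acts invertibly -/
theorem subsingleton_hom_of_isTorsD (T Y : Dual.D A) (hT : IsTorsD I T) (f : A) (hf : f ∈ I)
    (hY : IsIso (f • 𝟙 Y)) : Subsingleton (T ⟶ Y) := by
  have hz := isZero_Rgamma_of_isIso_smul I f hf Y hY
  have hb := bijective_comp_ε' I T Y hT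
  refine ⟨fun u v => ?_⟩
  obtain ⟨u', rfl⟩ := hb.2 u
  obtain ⟨v', rfl⟩ := hb.2 v
  rw [hz.eq_of_tgt u' v']

omit [IsNoetherianRing A] in
lemma isIso_smul_Q_of_bijective (g : A) (X : DRing.Cx A)
    (hX : ∀ i : ℤ, Function.Bijective (fun x : X.X i => g • x)) : IsIso (g • 𝟙 (Q.obj X)) := by
  haveI : ∀ i, IsIso ((g • 𝟙 X : X ⟶ X).f i) := fun i => by
    rw [ConcreteCategory.isIso_iff_bijective]
    exact hX i
  haveI : IsIso (g • 𝟙 X : X ⟶ X) := HomologicalComplex.Hom.isIso_of_components _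
  have h : g • 𝟙 (Q.obj X) = Q.map (g • 𝟙 X) := by
    rw [Functor.map_smul, CategoryTheory.Functor.map_id]
  rw [h]
  infer_instance

/-- an object is `I`-torsion as soon as it has no nonzero maps to objects on which a generator of
`I` acts invertibly -/
theorem isTorsD_of_subsingleton_hom (s : Finset A) (T' : Dual.D A)
    (h : ∀ g ∈ s, ∀ Z : Dual.D A, IsIso (g • 𝟙 Z) → Subsingleton (T' ⟶ Z)) :
    IsTorsD (Ideal.span (s : Set A)) T' := by
  let N : ObjectProperty (Dual.D A) := fun W => Subsingleton (T' ⟶ W)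
  have hN0 : ∀ Z : Dual.D A, IsZero Z → N Z := fun Z hZ => ⟨fun u v => hZ.eq_of_tgt u v⟩
  have hN : ∀ T ∈ distTriang (Dual.D A), N T.obj₁ → N T.obj₃ → N T.obj₂ := by
    intro T hT h₁ h₃
    have key : ∀ u : T' ⟶ T.obj₂, u = 0 := by
      intro u
      obtain ⟨u', rfl⟩ := Triangle.coyoneda_exact₂ T hT u (h₃.elim _ _)
      rw [h₁.elim u' 0, zero_comp]
    exact ⟨fun u v => (key u).trans (key v).symm⟩
  have hc : ConeN (Ideal.span (s : Set A)) N := by
    refine coneN_span N hN0 hN s ?_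
    intro g hg Y
    exact h g hg _ (isIso_smul_Q_of_bijective g _
      (fun i => Groth.Agent.Lib.Helper35.HomCone.bijective_smul_localizedModule g (Y.X i)))
  obtain ⟨J, hJ, hinj, ⟨e⟩⟩ := exists_rep T'
  obtain ⟨W, p, δ, hT, hW⟩ := hc J (fun q => baer_of_injective (J.X q))
  have hp : p = 0 := by
    have h1 : e.inv ≫ p = 0 := hW.elim _ _
    rw [← cancel_epi e.inv, h1, comp_zero]
  obtain ⟨σ, hσ⟩ : ∃ σ : Q.obj J ⟶ Q.obj (Gam (Ideal.span (s : Set A)) J),
      𝟙 (Q.obj J) = σ ≫ Q.map (ιΓ (Ideal.span (s : Set A)) J) :=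
    Triangle.coyoneda_exact₂ _ hT (𝟙 (Q.obj J)) (by
      change 𝟙 _ ≫ p = 0
      rw [hp, comp_zero])
  intro q
  refine IsTors.of_iso _ ((homologyFunctor (ModuleCat.{u} A) q).mapIso e.symm) ?_
  intro y
  have hy : y = (homologyFunctor (ModuleCat.{u} A) q).map
      (Q.map (ιΓ (Ideal.span (s : Set A)) J))
      ((homologyFunctor (ModuleCat.{u} A) q).map σ y) := by
    have h1 : (homologyFunctor (ModuleCat.{u} A) q).map σ ≫
        (homologyFunctor (ModuleCat.{u} A) q).map (Q.map (ιΓ (Ideal.span (s : Set A)) J)) =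
        𝟙 _ := by
      rw [← Functor.map_comp, ← hσ, CategoryTheory.Functor.map_id]
    have h2 := ConcreteCategory.congr_hom h1 y
    rw [ConcreteCategory.comp_apply] at h2
    exact h2.symm
  have ht : IsTors (Ideal.span (s : Set A)) ((homologyFunctor (ModuleCat.{u} A) q).obj
      (Q.obj (Gam (Ideal.span (s : Set A)) J))) :=
    IsTors.of_iso _ ((homologyFunctorFactors (ModuleCat.{u} A) q).app _)
      (isTors_homology_Gam _ J q)
  obtain ⟨n, hn⟩ := ht ((homologyFunctor (ModuleCat.{u} A) q).map σ y)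
  refine ⟨n, fun a ha => ?_⟩
  rw [hy, ← map_smul, hn a ha, map_zero]

end Smul

section LBC

variable {A B : Type u} [CommRing A] [CommRing B] (φ : A →+* B) [DRing.HasLBaseChange φ]

/-- derived base change is semilinear -/
theorem lbc_map_smul_id (f : A) (Z : Dual.D A) :
    (DRing.LBaseChange φ).map (f • 𝟙 Z) = φ f • 𝟙 ((DRing.LBaseChange φ).obj Z) := by
  let adj := Groth.Agent.Lib.Helper6.LBCPC.lbcAdj φ
  apply (adj.homEquiv _ _).injective
  rw [Adjunction.homEquiv_unit, Adjunction.homEquiv_unit,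
    Groth.Agent.Lib.Helper6.RestrLin.restrictD_map_smul_id, Linear.comp_smul]
  have h1 := adj.unit_naturality (f • 𝟙 Z)
  rw [Linear.smul_comp, Category.id_comp] at h1
  erw [Category.comp_id]
  exact h1

theorem isIso_smul_lbc (f : A) (Z : Dual.D A) (h : IsIso (f • 𝟙 Z)) :
    IsIso (φ f • 𝟙 ((DRing.LBaseChange φ).obj Z)) := by
  rw [← lbc_map_smul_id]
  infer_instance

end LBC


section Rad

variable {A : Type u} [CommRing A]

lemma mem_torsionSub_span_of_forall {M : Type u} [AddCommGroup M] [Module A M] (y : M)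
    (s : Finset A) (h : ∀ f ∈ s, y ∈ DRing.torsionSub (Ideal.span {f}) M) :
    y ∈ DRing.torsionSub (Ideal.span (s : Set A)) M := by
  classical
  induction s using Finset.induction_on with
  | empty =>
    refine ⟨1, fun a ha => ?_⟩
    rw [Finset.coe_empty, Ideal.span_empty, pow_one, Ideal.mem_bot] at ha
    rw [ha, zero_smul]
  | insert f s _ ih =>
    rw [Finset.coe_insert, Ideal.span_insert]
    exact mem_torsionSub_sup y (h f (by simp)) (ih (fun g hg => h g (by simp [hg])))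

/-- torsion with respect to an ideal containing powers of all elements of `I` is `I`-torsion -/
lemma isTors_of_pow_mem [IsNoetherianRing A] (I 𝔞' : Ideal A)
    (h : ∀ f ∈ I, ∃ k : ℕ, f ^ k ∈ 𝔞') (M : ModuleCat.{u} A) (hM : IsTors 𝔞' M) : IsTors I M := by
  obtain ⟨s, hs⟩ := (isNoetherianRing_iff_ideal_fg A).1 inferInstance I
  intro y
  obtain ⟨n, hn⟩ := hM y
  have h1 : y ∈ DRing.torsionSub (Ideal.span (s : Set A)) M := by
    apply mem_torsionSub_span_of_forall
    intro f hf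
    obtain ⟨k, hk⟩ := h f (hs ▸ Ideal.subset_span hf)
    rw [mem_torsionSub_span_singleton]
    refine ⟨k * n, ?_⟩
    rw [pow_mul]
    exact hn _ (Ideal.pow_mem_pow hk n)
  rw [hs] at h1
  exact h1

end Rad

section Main

variable {A B : Type u} [CommRing A] [CommRing B] (φ : A →+* B) [DRing.HasLBaseChange φ]
  [IsNoetherianRing A] [IsNoetherianRing B] (I : Ideal A) (𝔟 : Ideal B)
  [DRing.HasRgammaI I] [DRing.HasRgammaI 𝔟]

/-- objects of `D(A)` whose base change to `B` is killed by `RΓ_𝔟` -/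
def NG : ObjectProperty (Dual.D A) := fun W =>
  IsZero ((DRing.RgammaI 𝔟).obj ((DRing.LBaseChange φ).obj W))

lemma nG_zero (Z : Dual.D A) (hZ : IsZero Z) : NG φ 𝔟 Z := by
  haveI : (DRing.LBaseChange φ).Additive :=
    (Groth.Agent.Lib.Helper6.LBCPC.lbcAdj φ).left_adjoint_additive
  exact isZero_Rgamma_of_isZero _ _ ((DRing.LBaseChange φ).map_isZero hZ)

lemma nG_ext (T : Triangle (Dual.D A)) (hT : T ∈ distTriang (Dual.D A))
    (h₁ : NG φ 𝔟 T.obj₁) (h₃ : NG φ 𝔟 T.obj₃) : NG φ 𝔟 T.obj₂ := by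
  letI := Groth.Agent.Lib.Helper6.LBCPC.lbcCommShift φ
  haveI := Groth.Agent.Lib.Helper6.LBCPC.lbc_isTriangulated φ
  exact isZero_Rgamma_obj₂ _ _ ((DRing.LBaseChange φ).map_distinguished T hT) h₁ h₃

lemma coneN_gen (h1 : ∀ f ∈ I, φ f ∈ 𝔟) : ConeN I (NG φ 𝔟) := by
  classical
  obtain ⟨s, hs⟩ := (isNoetherianRing_iff_ideal_fg A).1 inferInstance I
  have h : ConeN (Ideal.span (s : Set A)) (NG φ 𝔟) := by
    refine coneN_span (NG φ 𝔟) (nG_zero φ 𝔟) (nG_ext φ 𝔟) s ?_
    intro f hf Y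
    exact isZero_Rgamma_of_isIso_smul 𝔟 (φ f) (h1 f (hs ▸ Ideal.subset_span hf)) _
      (isIso_smul_lbc φ f _ (isIso_smul_Q_of_bijective f _
        (fun i => Groth.Agent.Lib.Helper35.HomCone.bijective_smul_localizedModule f (Y.X i))))
  rwa [hs] at h

omit [DRing.HasRgammaI 𝔟] in
/-- derived base change preserves torsion objects -/
theorem isTorsD_lbc (T : Dual.D A) (hT : IsTorsD I T) :
    IsTorsD (I.map φ) ((DRing.LBaseChange φ).obj T) := by
  classical
  obtain ⟨s, hs⟩ := (isNoetherianRing_iff_ideal_fg A).1 inferInstance I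
  have h1 : I.map φ = Ideal.span ((s.image φ : Finset B) : Set B) := by
    rw [← hs, Ideal.map_span, Finset.coe_image]
  rw [h1]
  apply isTorsD_of_subsingleton_hom
  intro g hg Z hZ
  obtain ⟨f, hf, rfl⟩ := Finset.mem_image.1 hg
  let adj := Groth.Agent.Lib.Helper6.LBCPC.lbcAdj φ
  have hiso : IsIso (f • 𝟙 ((DRing.restrictD φ).obj Z)) := by
    rw [← Groth.Agent.Lib.Helper6.RestrLin.restrictD_map_smul_id]
    infer_instance
  haveI := subsingleton_hom_of_isTorsD I T _ hT f (hs ▸ Ideal.subset_span hf) hiso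
  exact (adj.homEquiv T Z).subsingleton

/-- `RΓ` commutes with arbitrary derived base change of Noetherian rings. -/
theorem nonempty_Rgamma_lbc_iso_gen (h1 : ∀ f ∈ I, φ f ∈ 𝔟)
    (h2 : ∀ M : ModuleCat.{u} B, IsTors (I.map φ) M → IsTors 𝔟 M) (K : Dual.D A) :
    Nonempty ((DRing.RgammaI 𝔟).obj ((DRing.LBaseChange φ).obj K) ≅
      (DRing.LBaseChange φ).obj ((DRing.RgammaI I).obj K)) := by
  letI := Groth.Agent.Lib.Helper6.LBCPC.lbcCommShift φ
  haveI := Groth.Agent.Lib.Helper6.LBCPC.lbc_isTriangulated φ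
  let L := DRing.LBaseChange φ
  obtain ⟨J, hJ, hinj, ⟨e⟩⟩ := exists_rep K
  haveI := hJ
  haveI : IsIso (βΓ I J) := TriRF.isIso_β _ _ _ hasKInjRes J
  obtain ⟨W, p, δ, hT, hW⟩ := coneN_gen φ I 𝔟 h1 J (fun q => baer_of_injective (J.X q))
  have hT' := L.map_distinguished _ hT
  obtain ⟨h, hh⟩ := TriRF.exists_distinguished (DRing.gammaI 𝔟) (DRing.RgammaI 𝔟) (αΓ 𝔟)
    hasKInjRes _ hT'
  haveI : IsIso ((DRing.RgammaI 𝔟).map (L.map (Q.map (ιΓ I J)))) :=
    (Triangle.isZero₃_iff_isIso₁ _ hh).1 hW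
  haveI : IsIso ((DRing.RgammaIε 𝔟).app (L.obj (Q.obj (Gam I J)))) := by
    apply isIso_ε_of_torsion
    intro q
    apply h2
    have hT0 : IsTorsD I (Q.obj (Gam I J)) := fun q =>
      IsTors.of_iso _ ((homologyFunctorFactors (ModuleCat.{u} A) q).app _)
        (isTors_homology_Gam I J q)
    exact isTorsD_lbc φ I _ hT0 q
  exact ⟨(DRing.RgammaI 𝔟).mapIso (L.mapIso e.symm) ≪≫
    (asIso ((DRing.RgammaI 𝔟).map (L.map (Q.map (ιΓ I J))))).symm ≪≫
    asIso ((DRing.RgammaIε 𝔟).app (L.obj (Q.obj (Gam I J)))) ≪≫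
    L.mapIso (asIso (βΓ I J) ≪≫ (DRing.RgammaI I).mapIso e)⟩

end Main

end Groth.Agent.Lib.Helper35.HDIGen
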