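import Groth.Agent.Lib.Helper35.GMPart2
import Groth.Agent.Lib.Helper6.MatlisFL
import Groth.Agent.Lib.Helper26.InjHullChar
import Groth.Agent.Lib.Helper2.InjHull
import Groth.Agent.Lib.Helper2.MatlisComplete
import Groth.Agent.S1812
import Groth.Agent.S1749

/-! Local duality, part 1: `RΓ_m(ω) ≅ E[0]` (helper35). -/

set_option autoImplicit false
set_option linter.unusedSectionVars false
universe u

open CategoryTheory CategoryTheory.Limits DerivedCategory Pretriangulated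

attribute [local instance] HasDerivedCategory.standard

namespace Groth.Agent.Lib.Helper35.LD

open Groth.Agent.Lib.Helper35.Bousfield
open Groth.Agent.Lib.Helper32 Groth.Agent.Lib.Helper32.GammaNoeth
  Groth.Agent.Lib.Helper32.GammaNoethD Groth.Agent.Lib.Helper32.KInjDerived
  Groth.Agent.Lib.Helper32.GammaAdj

variable {A : Type u} [CommRing A]

/-- `RΓ_I` always exists. -/
theorem hasRgammaI (I : Ideal A) : DRing.HasRgammaI I := by
  have := hasPointwiseLeftKanExtension (hasTerminalArrows_Qh (hasKInjRes (A := A))) (DRing.gammaIKh I)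
  change (DRing.gammaIKh I).HasRightDerivedFunctor _
  rw [Functor.hasRightDerivedFunctor_iff (DRing.gammaIKh I) DerivedCategory.Qh]
  infer_instance

section Adj

variable [IsNoetherianRing A] (𝔞 : Ideal A) [DRing.HasRgammaI 𝔞]

/-- objects of `D(A)` with `𝔞`-power torsion cohomology -/
def IsTorsD (L : Dual.D A) : Prop :=
  ∀ i : ℤ, IsTors 𝔞 ((DerivedCategory.homologyFunctor (ModuleCat.{u} A) i).obj L)

lemma bijective_comp_ε' (L K : Dual.D A) (hL : IsTorsD 𝔞 L) :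
    Function.Bijective (fun ψ : L ⟶ (DRing.RgammaI 𝔞).obj K => ψ ≫ (DRing.RgammaIε 𝔞).app K) := by
  haveI : IsIso ((DRing.RgammaIε 𝔞).app L) := isIso_ε_of_torsion 𝔞 L hL
  haveI := isIso_map_ε 𝔞 K
  constructor
  · intro ψ ψ' hψ
    dsimp only at hψ
    have h1 : (DRing.RgammaI 𝔞).map ψ = (DRing.RgammaI 𝔞).map ψ' := by
      rw [← cancel_mono ((DRing.RgammaI 𝔞).map ((DRing.RgammaIε 𝔞).app K)), ← Functor.map_comp,
        ← Functor.map_comp, hψ]
    have h2 := (DRing.RgammaIε 𝔞).naturality ψ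
    have h3 := (DRing.RgammaIε 𝔞).naturality ψ'
    dsimp only [Functor.id_map] at h2 h3
    rw [← cancel_epi ((DRing.RgammaIε 𝔞).app L), ← h2, ← h3, h1]
  · intro φ
    refine ⟨inv ((DRing.RgammaIε 𝔞).app L) ≫ (DRing.RgammaI 𝔞).map φ, ?_⟩
    have h2 := (DRing.RgammaIε 𝔞).naturality φ
    dsimp only [Functor.id_map, Functor.id_obj] at h2
    change (inv ((DRing.RgammaIε 𝔞).app L) ≫ (DRing.RgammaI 𝔞).map φ) ≫ _ = φ
    rw [Category.assoc, h2, IsIso.inv_hom_id_assoc]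

omit [DRing.HasRgammaI 𝔞] in
lemma isTorsD_of_iso {L L' : Dual.D A} (e : L ≅ L') (h : IsTorsD 𝔞 L') : IsTorsD 𝔞 L := fun i =>
  IsTors.of_iso 𝔞 ((DerivedCategory.homologyFunctor (ModuleCat.{u} A) i).mapIso e) (h i)

omit [DRing.HasRgammaI 𝔞] in
lemma isTorsD_shift (L : Dual.D A) (n : ℤ) (h : IsTorsD 𝔞 L) : IsTorsD 𝔞 (L⟦n⟧) := fun i =>
  IsTors.of_iso 𝔞 (((DerivedCategory.homologyFunctor (ModuleCat.{u} A) 0).shiftIso n i (n + i)
    rfl).app L) (h (n + i))

omit [DRing.HasRgammaI 𝔞] in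
lemma isTorsD_single (M : ModuleCat.{u} A) (hM : IsTors 𝔞 M) :
    IsTorsD 𝔞 ((DerivedCategory.singleFunctor (ModuleCat.{u} A) 0).obj M) := by
  intro i
  by_cases hi : i = 0
  · subst hi
    exact IsTors.of_iso 𝔞 ((DerivedCategory.singleFunctorCompHomologyFunctorIso
      (ModuleCat.{u} A) 0).app M) hM
  · have hz : IsZero ((DerivedCategory.homologyFunctor (ModuleCat.{u} A) i).obj
        ((DerivedCategory.singleFunctor (ModuleCat.{u} A) 0).obj M)) := by
      rcases lt_or_gt_of_ne hi with h | h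
      · exact DerivedCategory.isZero_of_isGE _ 0 i h
      · exact DerivedCategory.isZero_of_isLE _ 0 i h
    intro y
    haveI := ModuleCat.subsingleton_of_isZero hz
    exact ⟨0, fun a _ => Subsingleton.elim _ _⟩

end Adj

/-- A power torsion module over a Noetherian ring is injective as soon as maps into it extend
along injections into the modules `A/𝔞^m`. -/
theorem baer_of_extension [IsNoetherianRing A] (𝔞 : Ideal A) (M : Type u) [AddCommGroup M]
    [Module A M] (htors : ∀ x : M, x ∈ DRing.torsionSub 𝔞 M)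
    (hext : ∀ (m : ℕ) (X : Type u) [AddCommGroup X] [Module A X] (f : X →ₗ[A] (A ⧸ 𝔞 ^ m)),
      Function.Injective f → ∀ g : X →ₗ[A] M, ∃ h : (A ⧸ 𝔞 ^ m) →ₗ[A] M, h ∘ₗ f = g) :
    Module.Baer A M := by
  intro 𝔟 g
  let g' : 𝔟 →ₗ[A] DRing.torsionSub 𝔞 M := g.codRestrict _ (fun b => htors (g b))
  obtain ⟨n, hn⟩ := exists_pow_kills 𝔞 g'
  obtain ⟨k, hk⟩ := Ideal.exists_pow_inf_eq_pow_smul 𝔞 (𝔟 : Submodule A A)
  let m := n + k
  have hkill : ∀ b : 𝔟, (b : A) ∈ 𝔞 ^ m → g b = 0 := by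
    intro b hb
    have h1 : (b : A) ∈ 𝔞 ^ m • (⊤ : Submodule A A) ⊓ 𝔟 :=
      ⟨by rw [Ideal.smul_top_eq_map, Algebra.algebraMap_self, Ideal.map_id]; exact hb, b.2⟩
    rw [hk m (Nat.le_add_left k n)] at h1
    have hmk : m - k = n := Nat.add_sub_cancel n k
    rw [hmk] at h1
    have key : ∃ hb' : (b : A) ∈ 𝔟, g ⟨(b : A), hb'⟩ = 0 := by
      refine Submodule.smul_induction_on h1 ?_ ?_
      · intro r hr y hy
        refine ⟨𝔟.smul_mem r hy.2, ?_⟩
        have : (⟨r • y, 𝔟.smul_mem r hy.2⟩ : 𝔟) = r • (⟨y, hy.2⟩ : 𝔟) := rfl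
        rw [this, map_smul]
        exact hn _ r hr
      · rintro x y ⟨hx, hx'⟩ ⟨hy, hy'⟩
        refine ⟨𝔟.add_mem hx hy, ?_⟩
        have : (⟨x + y, 𝔟.add_mem hx hy⟩ : 𝔟) = (⟨x, hx⟩ : 𝔟) + ⟨y, hy⟩ := rfl
        rw [this, map_add, hx', hy', add_zero]
    obtain ⟨_, h2⟩ := key
    exact h2
  let p : Submodule A 𝔟 := Submodule.comap 𝔟.subtype (𝔞 ^ m)
  let f : (𝔟 ⧸ p) →ₗ[A] (A ⧸ 𝔞 ^ m) := Submodule.mapQ p (𝔞 ^ m) 𝔟.subtype le_rfl
  have hf : Function.Injective f := by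
    rw [← LinearMap.ker_eq_bot, LinearMap.ker_eq_bot']
    intro x hx
    obtain ⟨b, rfl⟩ := Submodule.Quotient.mk_surjective _ x
    rw [Submodule.Quotient.mk_eq_zero]
    have h1 : (Submodule.Quotient.mk (b : A) : A ⧸ 𝔞 ^ m) = 0 := hx
    rw [Submodule.Quotient.mk_eq_zero] at h1
    exact h1
  let gbar : (𝔟 ⧸ p) →ₗ[A] M := p.liftQ g (by
    intro b hb
    rw [LinearMap.mem_ker]
    exact hkill b hb)
  obtain ⟨h, hh⟩ := hext m (𝔟 ⧸ p) f hf gbar
  refine ⟨h ∘ₗ (Submodule.mkQ (𝔞 ^ m)), fun b hb => ?_⟩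
  have h1 : h (f (Submodule.Quotient.mk ⟨b, hb⟩)) = gbar (Submodule.Quotient.mk ⟨b, hb⟩) := by
    rw [← hh]; rfl
  exact h1

section Local

variable [IsLocalRing A] [IsNoetherianRing A] (ω : Dual.D A) (hω : Dual.IsDualizing A ω)
  (hn : Dual.IsNormalized A ω) {E : Type u} [AddCommGroup E] [Module A E]
  (f : IsLocalRing.ResidueField A →ₗ[A] E) (hf : InjHull.IsInjectiveHull f)

omit [IsNoetherianRing A] in
lemma isTors_of_isFiniteLength (N : Type u) [AddCommGroup N] [Module A N]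
    (hN : IsFiniteLength A N) : IsTors (IsLocalRing.maximalIdeal A) (ModuleCat.of A N) := by
  obtain ⟨n, hn⟩ := Groth.Agent.Lib.Helper6.MatlisFL.exists_pow_smul_eq_zero A N hN
  intro y
  exact ⟨n, fun a ha => hn a ha y⟩

include hω hn hf in
lemma subsingleton_HDI (i : ℤ) (hi : i ≠ 0) :
    Subsingleton (Dual2.HDI A (IsLocalRing.maximalIdeal A) ω i) := by
  refine ⟨fun x y => ?_⟩
  suffices h : ∀ z : (Dual2.HDI A (IsLocalRing.maximalIdeal A) ω i : Type _), z = 0 by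
    rw [h x, h y]
  intro z
  obtain ⟨j, y, rfl⟩ := Concrete.colimit_exists_rep _ z
  have hsub : Subsingleton (Dual.inD A (A ⧸ (IsLocalRing.maximalIdeal A) ^ j.unop.unop) ⟶ ω⟦i⟧) :=
    (Groth.Agent.S1749.result A ω hω hn E f hf _
      (Groth.Agent.Lib.Helper2.isFiniteLength_quot_maximalIdeal_pow A j.unop.unop)).1 i hi
  have hy : y = 0 := hsub.elim _ _
  rw [hy, map_zero]

variable [DRing.HasRgammaI (IsLocalRing.maximalIdeal A)]

include hω hn hf in
lemma isZero_homology_Rgamma_dualizing (q : ℤ) (hq : q ≠ 0) :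
    IsZero ((DerivedCategory.homologyFunctor (ModuleCat.{u} A) q).obj
      ((DRing.RgammaI (IsLocalRing.maximalIdeal A)).obj ω)) := by
  obtain ⟨e⟩ := Groth.Agent.S1812.result A (IsLocalRing.maximalIdeal A)
    ((isNoetherianRing_iff_ideal_fg A).1 inferInstance _) ω q
  haveI := subsingleton_HDI ω hω hn f hf q hq
  haveI : Subsingleton (Dual.HD A ((DRing.RgammaI (IsLocalRing.maximalIdeal A)).obj ω) q) :=
    e.toEquiv.subsingleton
  exact ModuleCat.isZero_of_subsingleton _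

include hω hn hf in
/-- `RΓ_m ω` is concentrated in degree `0`. -/
lemma exists_iso_single :
    ∃ T₀ : ModuleCat.{u} A, Nonempty ((DRing.RgammaI (IsLocalRing.maximalIdeal A)).obj ω ≅
      (DerivedCategory.singleFunctor (ModuleCat.{u} A) 0).obj T₀) := by
  haveI : ((DRing.RgammaI (IsLocalRing.maximalIdeal A)).obj ω).IsGE 0 := by
    rw [DerivedCategory.isGE_iff]
    intro i hi
    exact isZero_homology_Rgamma_dualizing ω hω hn f hf i (by omega)
  haveI : ((DRing.RgammaI (IsLocalRing.maximalIdeal A)).obj ω).IsLE 0 := by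
    rw [DerivedCategory.isLE_iff]
    intro i hi
    exact isZero_homology_Rgamma_dualizing ω hω hn f hf i (by omega)
  exact DerivedCategory.exists_iso_singleFunctor_obj_of_isGE_of_isLE _ 0

section Shift

variable {D : Type*} [Category D] [Preadditive D] [HasShift D ℤ]
  [∀ n : ℤ, (shiftFunctor D n).Additive]

omit [Preadditive D] [∀ n : ℤ, (shiftFunctor D n).Additive] in
lemma subsingleton_shift_left (X Y : D) (n : ℤ) (h : Subsingleton (X ⟶ Y⟦n⟧)) :
    Subsingleton (X⟦-n⟧ ⟶ Y) := by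
  refine ⟨fun u v => ?_⟩
  apply (shiftFunctor D n).map_injective
  have h1 : (shiftNegShift X n).inv ≫ u⟦n⟧' = (shiftNegShift X n).inv ≫ v⟦n⟧' := h.elim _ _
  exact (cancel_epi _).1 h1

omit [Preadditive D] [∀ n : ℤ, (shiftFunctor D n).Additive] in
lemma subsingleton_shift_right (X Y : D) (n : ℤ) (h : Subsingleton (X⟦-n⟧ ⟶ Y)) :
    Subsingleton (X ⟶ Y⟦n⟧) := by
  refine ⟨fun u v => ?_⟩
  apply (shiftFunctor D (-n)).map_injective
  have h1 : u⟦-n⟧' ≫ (shiftShiftNeg Y n).hom = v⟦-n⟧' ≫ (shiftShiftNeg Y n).hom := h.elim _ _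
  exact (cancel_mono _).1 h1

end Shift

section T0

variable (T₀ : ModuleCat.{u} A)
  (e : (DRing.RgammaI (IsLocalRing.maximalIdeal A)).obj ω ≅
    (DerivedCategory.singleFunctor (ModuleCat.{u} A) 0).obj T₀)

include e in
lemma isTors_T₀ : IsTors (IsLocalRing.maximalIdeal A) T₀ := by
  have h := isTors_homology_Rgamma (IsLocalRing.maximalIdeal A) ω 0
  exact IsTors.of_iso _ ((DerivedCategory.singleFunctorCompHomologyFunctorIso
    (ModuleCat.{u} A) 0).app T₀).symm
    (IsTors.of_iso _ ((DerivedCategory.homologyFunctor (ModuleCat.{u} A) 0).mapIso e.symm) h)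

include hω hn hf e in
/-- `Ext^i(N, T₀) = 0` for `i ≠ 0` and `N` of finite length. -/
lemma subsingleton_hom_T₀ (N : Type u) [AddCommGroup N] [Module A N] (hN : IsFiniteLength A N)
    (i : ℤ) (hi : i ≠ 0) :
    Subsingleton (Dual.inD A N ⟶
      ((DerivedCategory.singleFunctor (ModuleCat.{u} A) 0).obj T₀)⟦i⟧) := by
  have h1 : Subsingleton (Dual.inD A N ⟶ ω⟦i⟧) :=
    (Groth.Agent.S1749.result A ω hω hn E f hf N hN).1 i hi
  have h2 : Subsingleton ((Dual.inD A N)⟦-i⟧ ⟶ ω) := subsingleton_shift_left _ _ i h1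
  have htors : IsTorsD (IsLocalRing.maximalIdeal A) ((Dual.inD A N)⟦-i⟧) :=
    isTorsD_shift _ _ _ (isTorsD_single _ _ (isTors_of_isFiniteLength N hN))
  have h3 : Subsingleton ((Dual.inD A N)⟦-i⟧ ⟶
      (DRing.RgammaI (IsLocalRing.maximalIdeal A)).obj ω) :=
    ⟨fun u v => (bijective_comp_ε' _ _ ω htors).1 (h2.elim _ _)⟩
  have h4 : Subsingleton (Dual.inD A N ⟶
      ((DRing.RgammaI (IsLocalRing.maximalIdeal A)).obj ω)⟦i⟧) := subsingleton_shift_right _ _ i h3
  refine ⟨fun u v => ?_⟩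
  have h5 : u ≫ e.inv⟦i⟧' = v ≫ e.inv⟦i⟧' := h4.elim _ _
  exact (cancel_mono _).1 h5

include hω hn hf e in
/-- `Hom(N, T₀) ≅ Hom(N, E)` for `N` of finite length. -/
lemma nonempty_hom_T₀_equiv (N : Type u) [AddCommGroup N] [Module A N] (hN : IsFiniteLength A N) :
    Nonempty ((N →ₗ[A] T₀) ≃ₗ[A] (N →ₗ[A] E)) := by
  obtain ⟨θ5⟩ := Groth.Agent.Lib.Helper6.MatlisFL.main A ω hω hn E f hf N hN
  let θ1 : (ModuleCat.of A N ⟶ T₀) ≃ₗ[A] (N →ₗ[A] T₀) := ModuleCat.homLinearEquiv (S := A)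
  let θ2 : (ModuleCat.of A N ⟶ T₀) ≃ₗ[A]
      (Dual.inD A N ⟶ (DerivedCategory.singleFunctor (ModuleCat.{u} A) 0).obj T₀) :=
    LinearEquiv.ofBijective
      ((DerivedCategory.singleFunctor (ModuleCat.{u} A) 0).mapLinearMap A)
      ((Functor.FullyFaithful.ofFullyFaithful
        (DerivedCategory.singleFunctor (ModuleCat.{u} A) 0)).map_bijective _ _)
  let θ3 : (Dual.inD A N ⟶ (DerivedCategory.singleFunctor (ModuleCat.{u} A) 0).obj T₀) ≃ₗ[A]
      (Dual.inD A N ⟶ (DRing.RgammaI (IsLocalRing.maximalIdeal A)).obj ω) :=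
    Linear.homCongr A (Iso.refl _) e.symm
  have htors : IsTorsD (IsLocalRing.maximalIdeal A) (Dual.inD A N) :=
    isTorsD_single _ _ (isTors_of_isFiniteLength N hN)
  let θ4 : (Dual.inD A N ⟶ (DRing.RgammaI (IsLocalRing.maximalIdeal A)).obj ω) ≃ₗ[A]
      (Dual.inD A N ⟶ ω) :=
    LinearEquiv.ofBijective
      (Linear.rightComp A (Dual.inD A N) ((DRing.RgammaIε (IsLocalRing.maximalIdeal A)).app ω))
      (bijective_comp_ε' _ _ ω htors)
  exact ⟨θ1.symm.trans (θ2.trans (θ3.trans (θ4.trans θ5)))⟩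

include hω hn hf e in
/-- extension of maps into `T₀` along injections into modules of finite length -/
lemma exists_extension_T₀ (X Y : Type u) [AddCommGroup X] [Module A X] [AddCommGroup Y]
    [Module A Y] (hY : IsFiniteLength A Y) (j : X →ₗ[A] Y) (hj : Function.Injective j)
    (g : X →ₗ[A] T₀) : ∃ h : Y →ₗ[A] T₀, h ∘ₗ j = g := by
  have hC : IsFiniteLength A (Y ⧸ LinearMap.range j) :=
    hY.of_surjective (f := (LinearMap.range j).mkQ) (Submodule.mkQ_surjective _)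
  let S : ShortComplex (ModuleCat.{u} A) :=
    ShortComplex.mk (ModuleCat.ofHom j) (ModuleCat.ofHom (LinearMap.range j).mkQ) (by
      ext x
      change (LinearMap.range j).mkQ (j x) = 0
      rw [Submodule.mkQ_apply, Submodule.Quotient.mk_eq_zero]
      exact ⟨x, rfl⟩)
  have hS : S.ShortExact :=
    { exact := by
        rw [ShortComplex.moduleCat_exact_iff]
        intro y hy
        have hy' : (LinearMap.range j).mkQ y = 0 := hy
        rw [Submodule.mkQ_apply, Submodule.Quotient.mk_eq_zero] at hy'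
        exact hy'
      mono_f := (ModuleCat.mono_iff_injective _).2 hj
      epi_g := (ModuleCat.epi_iff_surjective _).2 (Submodule.mkQ_surjective _) }
  have hT := hS.singleTriangle_distinguished
  let ψ : hS.singleTriangle.obj₁ ⟶ (DerivedCategory.singleFunctor (ModuleCat.{u} A) 0).obj T₀ :=
    (DerivedCategory.singleFunctor (ModuleCat.{u} A) 0).map (ModuleCat.ofHom g)
  have hz : hS.singleTriangle.mor₃ ≫ ψ⟦(1 : ℤ)⟧' = 0 :=
    (subsingleton_hom_T₀ ω hω hn f hf T₀ e (Y ⧸ LinearMap.range j) hC 1 one_ne_zero).elim _ _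
  obtain ⟨φ, hφ⟩ := Groth.Agent.Lib.Helper35.KL.exists_of_mor₃_comp_shift_eq_zero _ hT ψ hz
  obtain ⟨h', rfl⟩ := (DerivedCategory.singleFunctor (ModuleCat.{u} A) 0).map_surjective φ
  refine ⟨h'.hom, ?_⟩
  have h1 : ModuleCat.ofHom g = S.f ≫ h' := by
    apply (DerivedCategory.singleFunctor (ModuleCat.{u} A) 0).map_injective
    rw [Functor.map_comp]
    exact hφ
  have h2 := congrArg ModuleCat.Hom.hom h1
  exact h2.symm

include hω hn hf e in
lemma injective_T₀ : Module.Injective A T₀ := by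
  apply Module.Baer.injective
  apply baer_of_extension (IsLocalRing.maximalIdeal A) T₀
  · intro x
    exact isTors_T₀ ω T₀ e x
  · intro m X _ _ j hj g
    exact exists_extension_T₀ ω hω hn f hf T₀ e X _
      (Groth.Agent.Lib.Helper2.isFiniteLength_quot_maximalIdeal_pow A m) j hj g

include hω hn hf e in
/-- `T₀ ≅ E`. -/
lemma nonempty_T₀_equiv : Nonempty (T₀ ≃ₗ[A] E) := by
  have hE := (Groth.Agent.Lib.Helper26.InjHullChar.main A E).1 ⟨f, hf⟩
  obtain ⟨θ⟩ := nonempty_hom_T₀_equiv ω hω hn f hf T₀ e (IsLocalRing.ResidueField A)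
    (by
      have h1 := Groth.Agent.Lib.Helper2.isFiniteLength_quot_maximalIdeal_pow A 1
      rw [pow_one] at h1
      exact h1)
  haveI := hE.2.2
  have hsimple : IsSimpleModule A (IsLocalRing.ResidueField A →ₗ[A] T₀) :=
    IsSimpleModule.congr θ
  obtain ⟨g, hg⟩ := (Groth.Agent.Lib.Helper26.InjHullChar.main A T₀).2
    ⟨injective_T₀ ω hω hn f hf T₀ e, fun x => isTors_T₀ ω T₀ e x, hsimple⟩
  obtain ⟨ε, -⟩ := Groth.Agent.Lib.Helper2.IsInjectiveHull.exists_equiv hg hf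
  exact ⟨ε⟩

end T0

include hω hn hf in
/-- For a normalized dualizing complex `ω` over a Noetherian local ring, `RΓ_m(ω) ≅ E[0]`. -/
theorem nonempty_Rgamma_dualizing_iso :
    Nonempty ((DRing.RgammaI (IsLocalRing.maximalIdeal A)).obj ω ≅ Dual.inD A E) := by
  obtain ⟨T₀, ⟨e⟩⟩ := exists_iso_single ω hω hn f hf
  obtain ⟨θ⟩ := nonempty_T₀_equiv ω hω hn f hf T₀ e
  exact ⟨e ≪≫ (DerivedCategory.singleFunctor (ModuleCat.{u} A) 0).mapIso θ.toModuleIso⟩

end Local

end Groth.Agent.Lib.Helper35.LD
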