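import Groth.Agent.Lib.Helper35.ConeN
import Groth.Agent.Lib.Helper35.LDBase

/-! `RΓ_I` commutes with restriction of scalars (helper35). -/

set_option autoImplicit false
set_option linter.unusedSectionVars false
universe u

open CategoryTheory CategoryTheory.Limits DerivedCategory Pretriangulated

attribute [local instance] HasDerivedCategory.standard

namespace Groth.Agent.Lib.Helper35.HDIRestr

open Groth.Agent.Lib.Helper35.DCE Groth.Agent.Lib.Helper35.Bousfield Groth.Agent.Lib.Helper35.GM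
open Groth.Agent.Lib.Helper35.ConeN
open Groth.Agent.Lib.Helper32 Groth.Agent.Lib.Helper32.GammaNoeth
  Groth.Agent.Lib.Helper32.GammaNoethD Groth.Agent.Lib.Helper32.KInjDerived

section Tors

variable {A : Type u} [CommRing A]

/-- a complex of `I`-power torsion modules has `I`-power torsion cohomology -/
lemma isTors_homology_of_terms (I : Ideal A) (X : DRing.Cx A) (h : ∀ q, IsTors I (X.X q)) (q : ℤ) :
    IsTors I (X.homology q) := by
  intro y
  obtain ⟨c, rfl⟩ := ModCxElem.homologyπ_surjective X q y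
  obtain ⟨n, hn⟩ := h q ((X.iCycles q) c)
  refine ⟨n, fun a ha => ?_⟩
  have h1 : a • c = 0 := by
    apply ModCxElem.iCycles_injective
    rw [map_smul, map_zero]
    exact hn a ha
  rw [← map_smul, h1, map_zero]

lemma isTors_Gam_X (I : Ideal A) (J : DRing.Cx A) (q : ℤ) : IsTors I ((Gam I J).X q) := by
  intro y
  obtain ⟨n, hn⟩ := ιΓ_f_mem I J q y
  refine ⟨n, fun a ha => ?_⟩
  apply ιΓ_f_injective
  rw [map_smul, map_zero]
  exact hn a ha

end Tors

variable {A B : Type u} [CommRing A] [CommRing B] [Algebra A B]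

lemma isTors_restrict (I : Ideal A) (M : ModuleCat.{u} B)
    (hM : IsTors (I.map (algebraMap A B)) M) :
    IsTors I ((ModuleCat.restrictScalars.{u} (algebraMap A B)).obj M) := by
  intro y
  obtain ⟨n, hn⟩ := hM y
  refine ⟨n, fun a ha => ?_⟩
  have h1 : algebraMap A B a ∈ (I.map (algebraMap A B)) ^ n := by
    rw [← Ideal.map_pow]
    exact Ideal.mem_map_of_mem _ ha
  exact hn _ h1

/-- base case: restrictions of localizations at `φ f` lie in the image of `D(A_f)` -/
theorem im_restrict_locCx (f : A) (Y : DRing.Cx B) :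
    Im (aw f) ((DRing.restrictD (algebraMap A B)).obj
      (Q.obj ((DerCA.locCx (Submonoid.powers (algebraMap A B f))).obj Y))) := by
  let X := (DerCA.locCx (Submonoid.powers (algebraMap A B f))).obj Y
  obtain ⟨E, ⟨e⟩⟩ := Groth.Agent.Lib.Helper35.DCR.exists_restrict_iso_of_bijective f
    ((Lc (algebraMap A B)).obj X) (fun i =>
      Groth.Agent.Lib.Helper35.HomCone.bijective_smul_localizedModule (algebraMap A B f) (Y.X i))
  exact ⟨E, ⟨e.symm ≪≫
    ((ModuleCat.restrictScalars.{u} (algebraMap A B)).mapDerivedCategoryFactors.app X).symm⟩⟩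

section Main

variable [IsNoetherianRing A] [IsNoetherianRing B] (I : Ideal A)
  [DRing.HasRgammaI I] [DRing.HasRgammaI (I.map (algebraMap A B))]

/-- objects of `D(B)` whose restriction to `A` is killed by `RΓ_I` -/
def NR : ObjectProperty (Dual.D B) := fun W =>
  IsZero ((DRing.RgammaI I).obj ((DRing.restrictD (algebraMap A B)).obj W))

lemma nR_zero (Z : Dual.D B) (hZ : IsZero Z) : NR I Z :=
  isZero_Rgamma_of_isZero I _ ((DRing.restrictD (algebraMap A B)).map_isZero hZ)

lemma nR_ext (T : Triangle (Dual.D B)) (hT : T ∈ distTriang (Dual.D B))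
    (h₁ : NR I T.obj₁) (h₃ : NR I T.obj₃) : NR I T.obj₂ :=
  isZero_Rgamma_obj₂ I _ ((DRing.restrictD (algebraMap A B)).map_distinguished T hT) h₁ h₃

lemma coneN_map : ConeN (I.map (algebraMap A B)) (NR I) := by
  classical
  obtain ⟨s, hs⟩ := (isNoetherianRing_iff_ideal_fg A).1 inferInstance I
  have h1 : I.map (algebraMap A B) = Ideal.span ((s.image (algebraMap A B) : Finset B) : Set B) := by
    rw [← hs, Ideal.map_span, Finset.coe_image]
  rw [h1]
  refine coneN_span (NR I) (nR_zero I) (nR_ext I) _ ?_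
  intro g hg Y
  obtain ⟨f, hf, rfl⟩ := Finset.mem_image.1 hg
  exact isZero_Rgamma_of_Im I f (hs ▸ Ideal.subset_span hf) _ (im_restrict_locCx f Y)

/-- `RΓ_I` commutes with restriction of scalars along a map of Noetherian rings. -/
theorem nonempty_Rgamma_restrict_iso (K : Dual.D B) :
    Nonempty ((DRing.RgammaI I).obj ((DRing.restrictD (algebraMap A B)).obj K) ≅
      (DRing.restrictD (algebraMap A B)).obj ((DRing.RgammaI (I.map (algebraMap A B))).obj K)) := by
  let φ := algebraMap A B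
  let 𝔟 := I.map φ
  obtain ⟨J, hJ, hinj, ⟨e⟩⟩ := exists_rep K
  haveI := hJ
  haveI : IsIso (βΓ 𝔟 J) := TriRF.isIso_β _ _ _ hasKInjRes J
  obtain ⟨W, p, δ, hT, hW⟩ := coneN_map (B := B) I J (fun q => baer_of_injective (J.X q))
  have hT' := (DRing.restrictD φ).map_distinguished _ hT
  obtain ⟨h, hh⟩ := TriRF.exists_distinguished (DRing.gammaI I) (DRing.RgammaI I) (αΓ I)
    hasKInjRes _ hT'
  haveI : IsIso ((DRing.RgammaI I).map ((DRing.restrictD φ).map (Q.map (ιΓ 𝔟 J)))) :=
    (Triangle.isZero₃_iff_isIso₁ _ hh).1 hW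
  haveI : IsIso ((DRing.RgammaIε I).app ((DRing.restrictD φ).obj (Q.obj (Gam 𝔟 J)))) := by
    apply isIso_ε_of_torsion
    intro q
    refine IsTors.of_iso I ((DerivedCategory.homologyFunctor (ModuleCat.{u} A) q).mapIso
      ((ModuleCat.restrictScalars.{u} φ).mapDerivedCategoryFactors.app (Gam 𝔟 J)) ≪≫
      (DerivedCategory.homologyFunctorFactors (ModuleCat.{u} A) q).app ((Lc φ).obj (Gam 𝔟 J))) ?_
    exact isTors_homology_of_terms I _ (fun q' => isTors_restrict (B := B) I ((Gam 𝔟 J).X q') (isTors_Gam_X 𝔟 J q')) q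
  exact ⟨(DRing.RgammaI I).mapIso ((DRing.restrictD φ).mapIso e.symm) ≪≫
    (asIso ((DRing.RgammaI I).map ((DRing.restrictD φ).map (Q.map (ιΓ 𝔟 J))))).symm ≪≫
    asIso ((DRing.RgammaIε I).app ((DRing.restrictD φ).obj (Q.obj (Gam 𝔟 J)))) ≪≫
    (DRing.restrictD φ).mapIso (asIso (βΓ 𝔟 J) ≪≫ (DRing.RgammaI 𝔟).mapIso e)⟩

end Main

section HD

variable {A B : Type u} [CommRing A] [CommRing B] (φ : A →+* B)

/-- cohomology commutes with restriction of scalars -/
theorem nonempty_homology_restrictD_iso (X : Dual.D B) (i : ℤ) :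
    Nonempty ((homologyFunctor (ModuleCat.{u} A) i).obj ((DRing.restrictD φ).obj X) ≅
      (ModuleCat.restrictScalars.{u} φ).obj ((homologyFunctor (ModuleCat.{u} B) i).obj X)) := by
  let Y := Q.objPreimage X
  let e : Q.obj Y ≅ X := Q.objObjPreimageIso X
  let F := ModuleCat.restrictScalars.{u} φ
  let i1 := (homologyFunctor (ModuleCat.{u} A) i).mapIso
    ((DRing.restrictD φ).mapIso e.symm ≪≫ F.mapDerivedCategoryFactors.app Y)
  let i2 := (homologyFunctorFactors (ModuleCat.{u} A) i).app ((Lc φ).obj Y)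
  let i3 : ((Lc φ).obj Y).homology i ≅ F.obj (Y.homology i) := (Y.sc i).mapHomologyIso F
  let i4 := F.mapIso ((homologyFunctorFactors (ModuleCat.{u} B) i).app Y).symm
  let i5 := F.mapIso ((homologyFunctor (ModuleCat.{u} B) i).mapIso e)
  exact ⟨i1 ≪≫ i2 ≪≫ i3 ≪≫ i4 ≪≫ i5⟩

end HD

end Groth.Agent.Lib.Helper35.HDIRestr
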