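import Groth.Agent.Lib.Helper35.RHomCone
import Groth.Agent.Lib.Helper6.QisCrit

/-! Quasi-isomorphisms between Hom complexes from acyclicity (helper35). -/

set_option autoImplicit false
set_option linter.unusedSectionVars false
universe u

open CategoryTheory CategoryTheory.Limits DerivedCategory CochainComplex HomComplex

attribute [local instance] HasDerivedCategory.standard

namespace Groth.Agent.Lib.Helper35.HomCone

open Groth.Agent.Lib.Helper35.RHomKInj

variable {A : Type u} [CommRing A]

/-- All cocycles in `Hom•(C, T)` are coboundaries. -/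
def HomAcyclic (C T : DRing.Cx A) : Prop :=
  ∀ (k k' : ℤ) (_ : k + 1 = k') (z : Cochain C T k'), δ k' (k' + 1) z = 0 →
    ∃ w : Cochain C T k, z = δ k k' w

section Cone

variable (C : DRing.Cx A) {T J : DRing.Cx A} (ε : T ⟶ J)

lemma eq_liftCochain (n m : ℤ) (h : n + 1 = m) (w : Cochain C (mappingCone ε) n) :
    w = mappingCone.liftCochain ε (w.comp (mappingCone.fst ε).1 h)
      (w.comp (mappingCone.snd ε) (add_zero n)) h := by
  rw [mappingCone.ext_cochain_to_iff ε n m h, mappingCone.liftCochain_fst,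
    mappingCone.liftCochain_snd]
  exact ⟨rfl, rfl⟩

lemma δ_lift (n m m' : ℤ) (h : n + 1 = m) (hm' : m + 1 = m') (α : Cochain C T m)
    (β : Cochain C J n) :
    δ n m (mappingCone.liftCochain ε α β h) =
      mappingCone.liftCochain ε (-(δ m m' α))
        (δ n m β + α.comp (Cochain.ofHom ε) (add_zero m)) hm' := by
  rw [mappingCone.δ_liftCochain ε α β h m' hm']
  dsimp only [mappingCone.liftCochain]
  rw [Cochain.neg_comp]

lemma lift_eq_iff (n m : ℤ) (h : n + 1 = m) (α α' : Cochain C T m) (β β' : Cochain C J n) :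
    mappingCone.liftCochain ε α β h = mappingCone.liftCochain ε α' β' h ↔ α = α' ∧ β = β' := by
  rw [mappingCone.ext_cochain_to_iff ε n m h, mappingCone.liftCochain_fst,
    mappingCone.liftCochain_snd, mappingCone.liftCochain_fst, mappingCone.liftCochain_snd]

lemma comp_inr_eq_lift (n m : ℤ) (h : n + 1 = m) (z : Cochain C J n) :
    z.comp (Cochain.ofHom (mappingCone.inr ε)) (add_zero n) =
      mappingCone.liftCochain ε (0 : Cochain C T m) z h := by
  dsimp only [mappingCone.liftCochain]
  rw [Cochain.zero_comp, zero_add]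

/-- `Hom•(C, J) ⟶ Hom•(C, cone ε)` is a quasi-isomorphism when `Hom•(C, T)` is acyclic. -/
theorem quasiIso_homCxMap_inr (hac : HomAcyclic C T) :
    QuasiIso (DRing.homCxMap C (mappingCone.inr ε)) := by
  apply Groth.Agent.Lib.Helper6.QisCrit.quasiIso_of_elementwise
  · intro n (z' : Cochain C (mappingCone ε) n) (hz' : δ n (n + 1) z' = 0)
    set α := z'.comp (mappingCone.fst ε).1 (rfl : n + 1 = n + 1) with hα
    set β := z'.comp (mappingCone.snd ε) (add_zero n) with hβ
    have h1 : z' = mappingCone.liftCochain ε α β rfl := eq_liftCochain C ε n (n + 1) rfl z'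
    have h2 := δ_lift C ε n (n + 1) (n + 1 + 1) rfl rfl α β
    rw [← h1, hz'] at h2
    have h3 : (0 : Cochain C (mappingCone ε) (n + 1)) =
        mappingCone.liftCochain ε (0 : Cochain C T (n + 1 + 1)) (0 : Cochain C J (n + 1)) rfl := by
      dsimp only [mappingCone.liftCochain]
      rw [Cochain.zero_comp, Cochain.zero_comp, add_zero]
    rw [h3, lift_eq_iff] at h2
    obtain ⟨h4, h5⟩ := h2
    have hαc : δ (n + 1) (n + 1 + 1) α = 0 := by
      rw [← neg_eq_zero]
      exact h4.symm
    obtain ⟨γ, hγ⟩ := hac n (n + 1) rfl α hαc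
    refine ⟨(β + γ.comp (Cochain.ofHom ε) (add_zero n) : Cochain C J n), ?_,
      (mappingCone.liftCochain ε γ (0 : Cochain C J (n - 1)) (by omega) :
        Cochain C (mappingCone ε) (n - 1)), ?_⟩
    · change δ n (n + 1) (β + γ.comp (Cochain.ofHom ε) (add_zero n)) = 0
      rw [δ_add, δ_comp_ofHom, ← hγ]
      exact h5.symm
    · change (β + γ.comp (Cochain.ofHom ε) (add_zero n)).comp
          (Cochain.ofHom (mappingCone.inr ε)) (add_zero n) - z' =
        δ (n - 1) n (mappingCone.liftCochain ε γ (0 : Cochain C J (n - 1)) (by omega))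
      rw [δ_lift C ε (n - 1) n (n + 1) (by omega) rfl, comp_inr_eq_lift C ε n (n + 1) rfl]
      conv_lhs => rw [h1]
      rw [δ_zero, zero_add, ← hγ]
      dsimp only [mappingCone.liftCochain]
      rw [Cochain.zero_comp, Cochain.neg_comp, Cochain.add_comp]
      abel
  · intro n (z : Cochain C J n) (hz : δ n (n + 1) z = 0)
    rintro ⟨(w' : Cochain C (mappingCone ε) (n - 1)), hw'⟩
    change z.comp (Cochain.ofHom (mappingCone.inr ε)) (add_zero n) = δ (n - 1) n w' at hw'
    have hn : n - 1 + 1 = n := by omega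
    set a := w'.comp (mappingCone.fst ε).1 hn with ha
    set b := w'.comp (mappingCone.snd ε) (add_zero (n - 1)) with hb
    have h1 : w' = mappingCone.liftCochain ε a b hn := eq_liftCochain C ε (n - 1) n hn w'
    rw [h1, δ_lift C ε (n - 1) n (n + 1) hn rfl, comp_inr_eq_lift C ε n (n + 1) rfl,
      lift_eq_iff] at hw'
    obtain ⟨h4, h5⟩ := hw'
    have hac' : δ n (n + 1) a = 0 := by
      rw [← neg_eq_zero]
      exact h4.symm
    obtain ⟨c, hc⟩ := hac (n - 1) n hn a hac'
    refine ⟨(b + c.comp (Cochain.ofHom ε) (add_zero (n - 1)) : Cochain C J (n - 1)), ?_⟩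
    change z = δ (n - 1) n (b + c.comp (Cochain.ofHom ε) (add_zero (n - 1)))
    rw [δ_add, δ_comp_ofHom, ← hc]
    exact h5

end Cone

end Groth.Agent.Lib.Helper35.HomCone
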