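import Groth.Agent.Lib.Helper35.HomCone1
import Mathlib.Algebra.Homology.HomotopyCategory.MappingCocone

/-! Hom complexes out of a mapping cocone (helper35). -/

set_option autoImplicit false
set_option linter.unusedSectionVars false
universe u

open CategoryTheory CategoryTheory.Limits DerivedCategory CochainComplex HomComplex

attribute [local instance] HasDerivedCategory.standard

namespace Groth.Agent.Lib.Helper35.HomCone

open Groth.Agent.Lib.Helper35.RHomKInj

variable {A : Type u} [CommRing A]

section Cocone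

variable {X Y : DRing.Cx A} (u : X ⟶ Y) (M : DRing.Cx A)

lemma desc_eq (m n : ℤ) (h : m + 1 = n) (α : Cochain X M m) (β : Cochain Y M n) :
    mappingCocone.descCochain u α β h =
      (Cochain.ofHom (mappingCocone.fst u)).comp α (zero_add m) +
        (mappingCocone.snd u).comp β (by omega) := by
  refine Cochain.ext _ _ (fun p q hpq => ?_)
  have hid := mappingCocone.id_X u p (p + -1) rfl
  rw [Cochain.add_v, Cochain.zero_cochain_comp_v, Cochain.ofHom_v,
    Cochain.comp_v _ _ (show -1 + n = m by omega) p (p + -1) q rfl (by omega)]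
  calc (mappingCocone.descCochain u α β h).v p q hpq
      = 𝟙 _ ≫ (mappingCocone.descCochain u α β h).v p q hpq := (Category.id_comp _).symm
    _ = _ := by
      rw [← hid, Preadditive.add_comp, Category.assoc, Category.assoc,
        mappingCocone.inl_v_descCochain_v,
        mappingCocone.inr_v_descCochain_v u α β h (p + -1) p (by omega) q hpq]

lemma eq_desc (m n : ℤ) (h : m + 1 = n) (z : Cochain (mappingCocone u) M m) :
    z = mappingCocone.descCochain u ((mappingCocone.inl u).comp z (zero_add m))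
      ((mappingCocone.inr u).1.comp z (by omega)) h := by
  rw [desc_eq]
  refine Cochain.ext _ _ (fun p q hpq => ?_)
  have hid := mappingCocone.id_X u p (p + -1) rfl
  rw [Cochain.add_v, Cochain.zero_cochain_comp_v, Cochain.ofHom_v,
    Cochain.comp_v _ _ (show -1 + n = m by omega) p (p + -1) q rfl (by omega),
    Cochain.zero_cochain_comp_v,
    Cochain.comp_v _ _ (show 1 + m = n by omega) (p + -1) p q (by omega) hpq]
  calc z.v p q hpq = 𝟙 _ ≫ z.v p q hpq := (Category.id_comp _).symm
    _ = _ := by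
      rw [← hid, Preadditive.add_comp, Category.assoc, Category.assoc]

lemma desc_eq_iff (m n : ℤ) (h : m + 1 = n) (α α' : Cochain X M m) (β β' : Cochain Y M n) :
    mappingCocone.descCochain u α β h = mappingCocone.descCochain u α' β' h ↔
      α = α' ∧ β = β' := by
  constructor
  · intro hh
    constructor
    · have := congrArg (fun z => (mappingCocone.inl u).comp z (zero_add m)) hh
      simpa using this
    · have := congrArg (fun z => (mappingCocone.inr u).1.comp z (show 1 + m = n by omega)) hh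
      simpa using this
  · rintro ⟨rfl, rfl⟩
    rfl

lemma δ_desc (m n n' : ℤ) (h : m + 1 = n) (hn' : n + 1 = n') (α : Cochain X M m)
    (β : Cochain Y M n) :
    δ m n (mappingCocone.descCochain u α β h) =
      mappingCocone.descCochain u
        (δ m n α + m.negOnePow • (Cochain.ofHom u).comp β (zero_add n)) (δ n n' β) hn' := by
  rw [mappingCocone.δ_descCochain u α β h n' hn', desc_eq]

lemma desc_zero (m n : ℤ) (h : m + 1 = n) :
    mappingCocone.descCochain u (0 : Cochain X M m) (0 : Cochain Y M n) h = 0 := by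
  rw [desc_eq, Cochain.comp_zero, Cochain.comp_zero, add_zero]

lemma ofHom_fst_comp (m n : ℤ) (h : m + 1 = n) (z : Cochain X M m) :
    (Cochain.ofHom (mappingCocone.fst u)).comp z (zero_add m) =
      mappingCocone.descCochain u z (0 : Cochain Y M n) h := by
  rw [desc_eq, Cochain.comp_zero, add_zero]

lemma S2 (hac : HomAcyclic Y M) (m n n' : ℤ) (hmn : m + 1 = n) (hnn' : n + 1 = n')
    (z' : Cochain (mappingCocone u) M n) (hz' : δ n n' z' = 0) :
    ∃ z : Cochain X M n, δ n n' z = 0 ∧ ∃ w' : Cochain (mappingCocone u) M m,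
      (Cochain.ofHom (mappingCocone.fst u)).comp z (zero_add n) - z' = δ m n w' := by
  subst hmn hnn'
  set α := (mappingCocone.inl u).comp z' (zero_add (m + 1)) with hα
  set β := (mappingCocone.inr u).1.comp z' (show 1 + (m + 1) = m + 1 + 1 by omega) with hβ
  have h1 : z' = mappingCocone.descCochain u α β rfl := eq_desc u M (m + 1) (m + 1 + 1) rfl z'
  have h2 := δ_desc u M (m + 1) (m + 1 + 1) (m + 1 + 1 + 1) rfl rfl α β
  rw [← h1, hz', ← desc_zero u M (m + 1 + 1) (m + 1 + 1 + 1) rfl, desc_eq_iff] at h2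
  obtain ⟨h4, h5⟩ := h2
  obtain ⟨γ, hγ⟩ := hac (m + 1) (m + 1 + 1) rfl β h5.symm
  refine ⟨α - m.negOnePow • (Cochain.ofHom u).comp γ (zero_add (m + 1)), ?_,
    -(mappingCocone.descCochain u (0 : Cochain X M m) γ rfl), ?_⟩
  · rw [δ_sub, δ_units_smul, δ_ofHom_comp, ← hγ]
    have h6 : δ (m + 1) (m + 1 + 1) α =
        -((m + 1).negOnePow • (Cochain.ofHom u).comp β (zero_add (m + 1 + 1))) :=
      eq_neg_of_add_eq_zero_left h4.symm
    rw [h6, Int.negOnePow_succ, Units.neg_smul, neg_neg, sub_self]
  · rw [δ_neg, δ_desc u M m (m + 1) (m + 1 + 1) rfl rfl, δ_zero, zero_add, ← hγ,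
      ofHom_fst_comp u M (m + 1) (m + 1 + 1) rfl]
    conv_lhs => rw [h1]
    rw [desc_eq, desc_eq, desc_eq]
    simp only [Cochain.comp_sub, Cochain.comp_zero, add_zero]
    abel

lemma I2 (hac : HomAcyclic Y M) (m n n' : ℤ) (hmn : m + 1 = n) (hnn' : n + 1 = n')
    (z : Cochain X M n) (w' : Cochain (mappingCocone u) M m)
    (hw' : (Cochain.ofHom (mappingCocone.fst u)).comp z (zero_add n) = δ m n w') :
    ∃ w : Cochain X M m, z = δ m n w := by
  subst hmn hnn'
  set a := (mappingCocone.inl u).comp w' (zero_add m) with ha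
  set b := (mappingCocone.inr u).1.comp w' (show 1 + m = m + 1 by omega) with hb
  have h1 : w' = mappingCocone.descCochain u a b rfl := eq_desc u M m (m + 1) rfl w'
  rw [h1, δ_desc u M m (m + 1) (m + 1 + 1) rfl rfl,
    ofHom_fst_comp u M (m + 1) (m + 1 + 1) rfl, desc_eq_iff] at hw'
  obtain ⟨h4, h5⟩ := hw'
  obtain ⟨c, hc⟩ := hac m (m + 1) rfl b h5.symm
  refine ⟨a + m.negOnePow • (Cochain.ofHom u).comp c (zero_add m), ?_⟩
  rw [δ_add, δ_units_smul, δ_ofHom_comp, ← hc]
  exact h4

/-- `Hom•(X, M) ⟶ Hom•(cocone u, M)` is a quasi-isomorphism when `Hom•(Y, M)` is acyclic. -/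
theorem quasiIso_homCxPre_fst (hac : HomAcyclic Y M) :
    QuasiIso (homCxPre (mappingCocone.fst u) M) := by
  apply Groth.Agent.Lib.Helper6.QisCrit.quasiIso_of_elementwise
  · intro n (z' : Cochain (mappingCocone u) M n) (hz' : δ n (n + 1) z' = 0)
    obtain ⟨z, hz, w', hw'⟩ := S2 u M hac (n - 1) n (n + 1) (by omega) rfl z' hz'
    exact ⟨z, hz, w', hw'⟩
  · intro n (z : Cochain X M n) _
    rintro ⟨(w' : Cochain (mappingCocone u) M (n - 1)), hw'⟩
    exact I2 u M hac (n - 1) n (n + 1) (by omega) rfl z w' hw'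

/-- `Hom•(cocone u, W)` is acyclic when precomposition with `u` is bijective on cochains into
`W`. -/
theorem homAcyclic_cocone (W : DRing.Cx A)
    (hbij : ∀ k : ℤ, Function.Bijective
      (fun z : Cochain Y W k => (Cochain.ofHom u).comp z (zero_add k))) :
    HomAcyclic (mappingCocone u) W := by
  intro k k' hk z hz
  subst hk
  set α := (mappingCocone.inl u).comp z (zero_add (k + 1)) with hα
  set β := (mappingCocone.inr u).1.comp z (show 1 + (k + 1) = k + 1 + 1 by omega) with hβ
  have h1 : z = mappingCocone.descCochain u α β rfl := eq_desc u W (k + 1) (k + 1 + 1) rfl z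
  have h2 := δ_desc u W (k + 1) (k + 1 + 1) (k + 1 + 1 + 1) rfl rfl α β
  rw [← h1, hz, ← desc_zero u W (k + 1 + 1) (k + 1 + 1 + 1) rfl, desc_eq_iff] at h2
  obtain ⟨h4, h5⟩ := h2
  obtain ⟨b, hb⟩ := (hbij (k + 1)).2 (k.negOnePow • α)
  change (Cochain.ofHom u).comp b (zero_add (k + 1)) = k.negOnePow • α at hb
  have h6 : δ (k + 1) (k + 1 + 1) b = β := by
    apply (hbij (k + 1 + 1)).1
    change (Cochain.ofHom u).comp (δ (k + 1) (k + 1 + 1) b) (zero_add _) =
      (Cochain.ofHom u).comp β (zero_add _)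
    rw [← δ_ofHom_comp, hb, δ_units_smul]
    have h7 : δ (k + 1) (k + 1 + 1) α =
        -((k + 1).negOnePow • (Cochain.ofHom u).comp β (zero_add (k + 1 + 1))) :=
      eq_neg_of_add_eq_zero_left h4.symm
    rw [h7, Int.negOnePow_succ, Units.neg_smul, neg_neg, smul_smul, Int.units_mul_self,
      one_smul]
  refine ⟨mappingCocone.descCochain u (0 : Cochain X W k) b rfl, ?_⟩
  rw [δ_desc u W k (k + 1) (k + 1 + 1) rfl rfl, δ_zero, zero_add, hb, smul_smul,
    Int.units_mul_self, one_smul, h6]
  exact h1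

end Cocone

end Groth.Agent.Lib.Helper35.HomCone
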