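import Groth.Agent.Lib.Helper35.HomCone2
import Groth.Prelude.Def_DerCA

/-! Hom complexes and termwise localization (helper35). -/

set_option autoImplicit false
set_option linter.unusedSectionVars false
universe u

open CategoryTheory CategoryTheory.Limits DerivedCategory CochainComplex HomComplex

attribute [local instance] HasDerivedCategory.standard

namespace Groth.Agent.Lib.Helper35.HomCone

open Groth.Agent.Lib.Helper35.DC Groth.Agent.Lib.Helper35.DCE Groth.Agent.Lib.Helper35.Bousfield
  Groth.Agent.Lib.Helper35.PiCx Groth.Agent.Lib.Helper35.RHomKInj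
  Groth.Agent.Lib.Helper35.RHomPi Groth.Agent.Lib.Helper35.RHomCone

variable {A : Type u} [CommRing A]

/-- Precomposition with the termwise localization map is bijective on cochains into a complex on
whose terms the elements of `S` act invertibly. -/
theorem bijective_precomp_locCxUnit (S : Submonoid A) (X W : DRing.Cx A)
    (hW : ∀ (q : ℤ) (s : S), IsUnit ((algebraMap A (Module.End A (W.X q))) s)) (k : ℤ) :
    Function.Bijective (fun z : Cochain ((DerCA.locCx S).obj X) W k =>
      (Cochain.ofHom (DerCA.locCxUnit S X)).comp z (zero_add k)) := by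
  constructor
  · intro z z' h
    refine Cochain.ext _ _ (fun p q hpq => ?_)
    have h1 := Cochain.congr_v h p q hpq
    rw [Cochain.zero_cochain_comp_v, Cochain.zero_cochain_comp_v, Cochain.ofHom_v] at h1
    refine ModuleCat.hom_ext ?_
    apply IsLocalizedModule.ext S (LocalizedModule.mkLinearMap S (X.X p)) (hW q)
    exact congrArg ModuleCat.Hom.hom h1
  · intro w
    refine ⟨Cochain.mk (fun p q hpq =>
      ModuleCat.ofHom (LocalizedModule.lift S (w.v p q hpq).hom (hW q))), ?_⟩
    refine Cochain.ext _ _ (fun p q hpq => ?_)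
    rw [Cochain.zero_cochain_comp_v, Cochain.ofHom_v, Cochain.mk_v]
    refine ModuleCat.hom_ext ?_
    exact LocalizedModule.lift_comp S (w.v p q hpq).hom (hW q)

theorem isUnit_algebraMap_end_of_bijective (f : A) (N : Type u) [AddCommGroup N] [Module A N]
    (h : Function.Bijective (fun x : N => f • x)) (s : Submonoid.powers f) :
    IsUnit ((algebraMap A (Module.End A N)) s) := by
  obtain ⟨s, k, rfl⟩ := s
  change IsUnit ((algebraMap A (Module.End A N)) (f ^ k))
  rw [map_pow]
  apply IsUnit.pow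
  rw [Module.End.isUnit_iff]
  exact h

/-- `f` acts bijectively on localizations at the powers of `f`. -/
theorem bijective_smul_localizedModule (f : A) (N : Type u) [AddCommGroup N] [Module A N] :
    Function.Bijective (fun x : LocalizedModule (Submonoid.powers f) N => f • x) := by
  have h := IsLocalizedModule.map_units (S := Submonoid.powers f)
    (LocalizedModule.mkLinearMap (Submonoid.powers f) N) ⟨f, Submonoid.mem_powers f⟩
  rw [Module.End.isUnit_iff] at h
  exact h

/-- `Hom•(Y, M)` is acyclic when `f` acts bijectively on the terms of `Y` and `M` is a K-injective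
complex which is derived `f`-complete. -/
theorem homAcyclic_of_pg (f : A) (Y M : DRing.Cx A) [M.IsKInjective]
    (hY : ∀ q : ℤ, Function.Bijective (fun x : Y.X q => f • x)) (hM : Pg f (Q.obj M)) :
    HomAcyclic Y M := by
  intro k k' hk z hz
  have hYim : Im (aw f) (Q.obj Y) := by
    obtain ⟨E, ⟨e⟩⟩ := Groth.Agent.Lib.Helper35.DCR.exists_restrict_iso_of_bijective f Y hY
    exact ⟨E, ⟨e.symm⟩⟩
  have h1 : Subsingleton (Q.obj Y ⟶ (Q.obj M)⟦k'⟧) :=
    (ROrth.shift (Im_shift (aw f)) hM k') _ hYim
  let c : Cocycle Y M k' := Cocycle.mk z (k' + 1) rfl hz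
  have h2 : Groth.Agent.Lib.Helper6.ExtCocycle.ext1 Y M k' c = 0 := h1.elim _ _
  rw [ext1_eq_zero_iff_inj, mem_coboundaries_iff _ k hk] at h2
  obtain ⟨β, hβ⟩ := h2
  exact ⟨β, hβ.symm⟩

/-- `Hom•(X, -)` sends quasi-isomorphisms between K-injective complexes to
quasi-isomorphisms. -/
theorem quasiIso_homCxMap_of_kInjective (X : DRing.Cx A) {J₁ J₂ : DRing.Cx A} [J₁.IsKInjective]
    [J₂.IsKInjective] (φ : J₁ ⟶ J₂) (hφ : QuasiIso φ) : QuasiIso (DRing.homCxMap X φ) := by
  have hiso : IsIso (Q.map φ) := by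
    rw [isIso_Q_map_iff_quasiIso]
    exact hφ
  obtain ⟨ψ, hψ⟩ := exists_map_eq_inj (F := J₂) (Y := J₁) (inv (Q.map φ))
  have e1 : Q.map (φ ≫ ψ) = Q.map (𝟙 J₁) := by
    rw [Functor.map_comp, hψ, IsIso.hom_inv_id, CategoryTheory.Functor.map_id]
  have e2 : Q.map (ψ ≫ φ) = Q.map (𝟙 J₂) := by
    rw [Functor.map_comp, hψ, IsIso.inv_hom_id, CategoryTheory.Functor.map_id]
  obtain ⟨H1⟩ := Groth.Agent.Lib.Helper35.CoextAdj.nonempty_homotopy_of_Q_map_eq_of_isKInjective
    _ _ e1
  obtain ⟨H2⟩ := Groth.Agent.Lib.Helper35.CoextAdj.nonempty_homotopy_of_Q_map_eq_of_isKInjective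
    _ _ e2
  have G1 := homCxHomotopy X H1
  have G2 := homCxHomotopy X H2
  rw [quasiIso_iff]
  intro n
  rw [quasiIsoAt_iff_isIso_homologyMap]
  have k1 : HomologicalComplex.homologyMap (DRing.homCxMap X φ) n ≫
      HomologicalComplex.homologyMap (DRing.homCxMap X ψ) n = 𝟙 _ := by
    rw [← HomologicalComplex.homologyMap_comp]
    have hc : DRing.homCxMap X φ ≫ DRing.homCxMap X ψ = DRing.homCxMap X (φ ≫ ψ) :=
      ((DRing.homCxFunctor X).map_comp φ ψ).symm
    rw [hc, G1.homologyMap_eq n]
    change HomologicalComplex.homologyMap ((DRing.homCxFunctor X).map (𝟙 J₁)) n = _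
    rw [CategoryTheory.Functor.map_id, HomologicalComplex.homologyMap_id]
    rfl
  have k2 : HomologicalComplex.homologyMap (DRing.homCxMap X ψ) n ≫
      HomologicalComplex.homologyMap (DRing.homCxMap X φ) n = 𝟙 _ := by
    rw [← HomologicalComplex.homologyMap_comp]
    have hc : DRing.homCxMap X ψ ≫ DRing.homCxMap X φ = DRing.homCxMap X (ψ ≫ φ) :=
      ((DRing.homCxFunctor X).map_comp ψ φ).symm
    rw [hc, G2.homologyMap_eq n]
    change HomologicalComplex.homologyMap ((DRing.homCxFunctor X).map (𝟙 J₂)) n = _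
    rw [CategoryTheory.Functor.map_id, HomologicalComplex.homologyMap_id]
    rfl
  exact ⟨⟨_, k1, k2⟩⟩

/-- `Hom•(X, -)` preserves derived `g`-completeness of K-injective complexes. -/
theorem pg_homCx (X J : DRing.Cx A) [J.IsKInjective] (g : A) (hJ : Pg g (Q.obj J)) :
    Pg g (Q.obj (DRing.homCx X J)) := by
  have h2 : QuasiIso (SC g J) := (pg_Q_iff g J).1 hJ
  have h8 : QuasiIso (DRing.homCxMap X (SC g J)) :=
    quasiIso_homCxMap_of_kInjective X (SC g J) h2
  have h9 : QuasiIso (SC g (DRing.homCx X J)) := by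
    have h10 : SC g (DRing.homCx X J) =
        (θ X J).inv ≫ DRing.homCxMap X (SC g J) ≫ (θ X J).hom := by
      rw [← θ_SC, Iso.inv_hom_id_assoc]
    rw [h10]
    infer_instance
  exact (pg_Q_iff g _).2 h9

end Groth.Agent.Lib.Helper35.HomCone
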