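import Mathlib.Algebra.Homology.HomotopyCategory.HomComplex
import Mathlib.Algebra.Homology.HomotopyCategory.KInjective
import Mathlib.Algebra.Homology.ShortComplex.Exact
import Mathlib.CategoryTheory.Preadditive.Projective.Basic

/-! Maps from a complex in degrees `≤ 0` with projective top term to a bounded below acyclic
complex are null-homotopic (helper35). -/

universe v u

namespace Groth.Agent.Lib.Helper35.KL

open CategoryTheory Limits CochainComplex HomComplex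

variable {C : Type u} [Category.{v} C] [Abelian C]

theorem nonempty_homotopy_zero_of_exactAt {M A : CochainComplex C ℤ}
    (hM : ∀ i : ℤ, 0 < i → IsZero (M.X i)) [Projective (M.X 0)]
    (hA : ∀ i : ℤ, A.ExactAt i) (hA' : ∀ i : ℤ, i < -2 → IsZero (A.X i)) (f : M ⟶ A) :
    Nonempty (Homotopy f 0) := by
  -- the component `h0 : M⁰ ⟶ A⁻¹`
  have ex0 := (A.exactAt_iff' (-1) 0 1 (by simp) (by simp)).mp (hA 0)
  have hf0 : f.f 0 ≫ A.d 0 1 = 0 := by
    rw [f.comm, (hM 1 one_pos).eq_of_tgt (M.d 0 1) 0, zero_comp]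
  let h0 : M.X 0 ⟶ A.X (-1) := ex0.liftFromProjective (f.f 0) hf0
  have hh0 : h0 ≫ A.d (-1) 0 = f.f 0 := ex0.liftFromProjective_comp _ _
  -- the component `h1 : M⁻¹ ⟶ A⁻²`
  have ex1 := (A.exactAt_iff' (-2) (-1) 0 (by simp) (by simp)).mp (hA (-1))
  have ex2 := (A.exactAt_iff' (-3) (-2) (-1) (by simp) (by simp)).mp (hA (-2))
  have hmono : Mono (A.d (-2) (-1)) :=
    ex2.mono_g ((hA' (-3) (by omega)).eq_of_src _ _)
  have hu : (f.f (-1) - M.d (-1) 0 ≫ h0) ≫ A.d (-1) 0 = 0 := by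
    rw [Preadditive.sub_comp, Category.assoc, hh0, f.comm, sub_self]
  have : Mono (HomologicalComplex.sc' A (-2) (-1) 0).f := hmono
  let h1 : M.X (-1) ⟶ A.X (-2) := ex1.lift (f.f (-1) - M.d (-1) 0 ≫ h0) hu
  have hh1 : h1 ≫ A.d (-2) (-1) = f.f (-1) - M.d (-1) 0 ≫ h0 := ex1.lift_f _ _
  have hh2 : M.d (-2) (-1) ≫ h1 = f.f (-2) := by
    rw [← cancel_mono (A.d (-2) (-1)), Category.assoc, hh1, Preadditive.comp_sub, M.d_comp_d_assoc,
      zero_comp, sub_zero, f.comm]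
  refine ⟨(Cochain.equivHomotopy f 0).symm
    ⟨Cochain.single h0 (-1) + Cochain.single h1 (-1), ?_⟩⟩
  rw [Cochain.ofHom_zero, add_zero]
  ext n
  rw [Cochain.ofHom_v, δ_v (-1) 0 (neg_add_cancel 1) _ n n (add_zero n) (n - 1) (n + 1) rfl rfl,
    Int.negOnePow_zero, one_smul, Cochain.add_v, Cochain.add_v]
  by_cases hn0 : n = 0
  · subst hn0
    rw [Cochain.single_v_eq_zero _ _ _ _ _ (by omega : (0 : ℤ) ≠ -1),
      Cochain.single_v_eq_zero _ _ _ _ _ (by omega : (0 : ℤ) + 1 ≠ 0),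
      Cochain.single_v_eq_zero _ _ _ _ _ (by omega : (0 : ℤ) + 1 ≠ -1)]
    simp [hh0]
  by_cases hn1 : n = -1
  · subst hn1
    rw [Cochain.single_v_eq_zero _ _ _ _ _ (by omega : (-1 : ℤ) ≠ 0),
      Cochain.single_v_eq_zero _ _ _ _ _ (by omega : (-1 : ℤ) + 1 ≠ -1)]
    simp [hh1]
  by_cases hn2 : n = -2
  · subst hn2
    rw [Cochain.single_v_eq_zero _ _ _ _ _ (by omega : (-2 : ℤ) ≠ 0),
      Cochain.single_v_eq_zero _ _ _ _ _ (by omega : (-2 : ℤ) ≠ -1),
      Cochain.single_v_eq_zero _ _ _ _ _ (by omega : (-2 : ℤ) + 1 ≠ 0)]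
    simp [hh2]
  by_cases hn3 : n < 0
  · exact (hA' n (by omega)).eq_of_tgt _ _
  · exact (hM n (by omega)).eq_of_src _ _

end Groth.Agent.Lib.Helper35.KL
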