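import Groth.Agent.Lib.Helper35.HtpyX
import Mathlib.Algebra.Homology.DerivedCategory.KInjective
import Mathlib.Algebra.Homology.DerivedCategory.HomologySequence
import Mathlib.Algebra.Homology.Factorizations.CM5a
import Mathlib.Algebra.Homology.HomotopyCategory.Acyclic
import Mathlib.Algebra.Homology.HomotopyCategory.Plus

/-! `Hom_{K}(M, K) ≅ Hom_{D}(M, K)` for `M` in degrees `≤ 0` with `M⁰` projective and `K` in
degrees `≥ -1` (helper35). -/

universe w v u

namespace Groth.Agent.Lib.Helper35.KL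

open CategoryTheory Limits CochainComplex HomComplex Pretriangulated

variable {C : Type u} [Category.{v} C] [Abelian C]

/-- Lemma X in the homotopy category. -/
theorem quotient_hom_eq_zero_of_exactAt {M A : CochainComplex C ℤ}
    (hM : ∀ i : ℤ, 0 < i → IsZero (M.X i)) [Projective (M.X 0)]
    (hA : ∀ i : ℤ, A.ExactAt i) (hA' : ∀ i : ℤ, i < -2 → IsZero (A.X i))
    (φ : (HomotopyCategory.quotient C (ComplexShape.up ℤ)).obj M ⟶
      (HomotopyCategory.quotient C (ComplexShape.up ℤ)).obj A) : φ = 0 := by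
  obtain ⟨f, rfl⟩ := (HomotopyCategory.quotient C (ComplexShape.up ℤ)).map_surjective φ
  obtain ⟨h⟩ := nonempty_homotopy_zero_of_exactAt hM hA hA' f
  rw [HomotopyCategory.eq_of_homotopy f 0 h, Functor.map_zero]

/-- Lemma X for maps to the shift by `-1`. -/
theorem quotient_hom_shift_eq_zero_of_exactAt {M A : CochainComplex C ℤ}
    (hM : ∀ i : ℤ, 0 < i → IsZero (M.X i))
    (hA : ∀ i : ℤ, A.ExactAt i) (hA' : ∀ i : ℤ, i < -2 → IsZero (A.X i))
    (φ : (HomotopyCategory.quotient C (ComplexShape.up ℤ)).obj M ⟶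
      ((HomotopyCategory.quotient C (ComplexShape.up ℤ)).obj A)⟦(-1 : ℤ)⟧) : φ = 0 := by
  apply (CategoryTheory.shiftFunctor (HomotopyCategory C (ComplexShape.up ℤ)) (1 : ℤ)).map_injective
  rw [Functor.map_zero]
  have hM1 : ∀ i : ℤ, 0 < i → IsZero ((M⟦(1 : ℤ)⟧).X i) := fun i hi => hM (i + 1) (by omega)
  have hP : Projective ((M⟦(1 : ℤ)⟧).X 0) := (hM (0 + 1) (by omega)).projective
  have h0 := quotient_hom_eq_zero_of_exactAt hM1 hA hA'
    (((HomotopyCategory.quotient C (ComplexShape.up ℤ)).commShiftIso (1 : ℤ)).hom.app M ≫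
      φ⟦(1 : ℤ)⟧' ≫
      (shiftNegShift ((HomotopyCategory.quotient C (ComplexShape.up ℤ)).obj A) (1 : ℤ)).hom)
  rw [← cancel_mono (shiftNegShift ((HomotopyCategory.quotient C (ComplexShape.up ℤ)).obj A)
    (1 : ℤ)).hom, ← cancel_epi (((HomotopyCategory.quotient C
    (ComplexShape.up ℤ)).commShiftIso (1 : ℤ)).hom.app M), h0, zero_comp, comp_zero]

theorem postcomp_quasiIso_bijective {M K I : CochainComplex C ℤ}
    (hM : ∀ i : ℤ, 0 < i → IsZero (M.X i)) [Projective (M.X 0)]
    (hK : ∀ i : ℤ, i < -1 → IsZero (K.X i)) (hI : ∀ i : ℤ, i < -1 → IsZero (I.X i))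
    (i : K ⟶ I) [QuasiIso i] :
    Function.Bijective (fun φ : (HomotopyCategory.quotient C (ComplexShape.up ℤ)).obj M ⟶
      (HomotopyCategory.quotient C (ComplexShape.up ℤ)).obj K =>
      φ ≫ (HomotopyCategory.quotient C (ComplexShape.up ℤ)).map i) := by
  have hT := HomotopyCategory.mappingCone_triangleh_distinguished i
  have hW : (HomotopyCategory.subcategoryAcyclic C).trW
      ((HomotopyCategory.quotient C (ComplexShape.up ℤ)).map i) := by
    rw [← HomotopyCategory.quasiIso_eq_trW_subcategoryAcyclic,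
      HomotopyCategory.quotient_map_mem_quasiIso_iff, HomologicalComplex.mem_quasiIso_iff]
    infer_instance
  obtain ⟨Z', g, h, hT', hZ'⟩ := hW
  let e := isoTriangleOfIso₁₂ _ _ hT' hT (Iso.refl _) (Iso.refl _)
    ((Category.comp_id _).trans (Category.id_comp _).symm)
  have hZ : HomotopyCategory.subcategoryAcyclic C
      ((HomotopyCategory.quotient C (ComplexShape.up ℤ)).obj (mappingCone i)) :=
    (HomotopyCategory.subcategoryAcyclic C).prop_of_iso (Triangle.π₃.mapIso e) hZ'
  have hA := (HomotopyCategory.quotient_obj_mem_subcategoryAcyclic_iff_exactAt _).mp hZ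
  have hA' : ∀ j : ℤ, j < -2 → IsZero ((mappingCone i).X j) := fun j hj =>
    (mappingCone.isZero_X_iff i j).mpr ⟨hK (j + 1) (by omega), hI j (by omega)⟩
  constructor
  · intro α₁ α₂ h12
    have h0 : (α₁ - α₂) ≫ (mappingCone.triangleh i).invRotate.mor₂ = 0 := by
      change (α₁ - α₂) ≫ (HomotopyCategory.quotient C (ComplexShape.up ℤ)).map i = 0
      rw [Preadditive.sub_comp]
      exact sub_eq_zero.mpr h12
    obtain ⟨γ, hγ⟩ := Triangle.coyoneda_exact₂ _ (inv_rot_of_distTriang _ hT) (α₁ - α₂) h0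
    have hγ0 : γ = 0 := quotient_hom_shift_eq_zero_of_exactAt hM hA hA' γ
    rw [hγ0, zero_comp] at hγ
    exact sub_eq_zero.mp hγ
  · intro β
    obtain ⟨α, hα⟩ := Triangle.coyoneda_exact₂ _ hT β
      (quotient_hom_eq_zero_of_exactAt hM hA hA' _)
    exact ⟨α, hα.symm⟩

theorem Qh_map_bijective_of_twoTerm [HasDerivedCategory.{w} C] [EnoughInjectives C]
    {M K : CochainComplex C ℤ}
    (hM : ∀ i : ℤ, 0 < i → IsZero (M.X i)) [Projective (M.X 0)]
    (hK : ∀ i : ℤ, i < -1 → IsZero (K.X i)) :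
    Function.Bijective (fun φ : (HomotopyCategory.quotient C (ComplexShape.up ℤ)).obj M ⟶
      (HomotopyCategory.quotient C (ComplexShape.up ℤ)).obj K => DerivedCategory.Qh.map φ) := by
  have : K.IsStrictlyGE (-1) := by
    rw [isStrictlyGE_iff]
    exact hK
  obtain ⟨I, i, hqi, hInj, hI⟩ :=
    CochainComplex.Plus.modelCategoryQuillen.exists_quasiIso_injective K (-1)
  have : I.IsKInjective := isKInjective_of_injective I (-1)
  have h1 := postcomp_quasiIso_bijective hM hK
    (fun j hj => isZero_of_isStrictlyGE I (-1) j hj) i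
  have h2 : Function.Bijective
      (fun ψ : (HomotopyCategory.quotient C (ComplexShape.up ℤ)).obj M ⟶
        (HomotopyCategory.quotient C (ComplexShape.up ℤ)).obj I => DerivedCategory.Qh.map ψ) :=
    IsKInjective.Qh_map_bijective _ _
  have h3 : IsIso (DerivedCategory.Qh.map
      ((HomotopyCategory.quotient C (ComplexShape.up ℤ)).map i)) := by
    rw [DerivedCategory.isIso_Qh_map_iff, HomotopyCategory.quotient_map_mem_quasiIso_iff,
      HomologicalComplex.mem_quasiIso_iff]
    exact hqi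
  have h4 : Function.Bijective
      (fun ψ : DerivedCategory.Qh.obj ((HomotopyCategory.quotient C (ComplexShape.up ℤ)).obj M) ⟶
        DerivedCategory.Qh.obj ((HomotopyCategory.quotient C (ComplexShape.up ℤ)).obj K) =>
        ψ ≫ DerivedCategory.Qh.map ((HomotopyCategory.quotient C (ComplexShape.up ℤ)).map i)) :=
    ⟨fun a b h => (cancel_mono _).mp h, fun b => ⟨b ≫ inv (DerivedCategory.Qh.map
      ((HomotopyCategory.quotient C (ComplexShape.up ℤ)).map i)), by simp⟩⟩
  have hcomp : (fun ψ : (HomotopyCategory.quotient C (ComplexShape.up ℤ)).obj M ⟶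
        (HomotopyCategory.quotient C (ComplexShape.up ℤ)).obj I => DerivedCategory.Qh.map ψ) ∘
      (fun φ : (HomotopyCategory.quotient C (ComplexShape.up ℤ)).obj M ⟶
        (HomotopyCategory.quotient C (ComplexShape.up ℤ)).obj K =>
        φ ≫ (HomotopyCategory.quotient C (ComplexShape.up ℤ)).map i) =
      (fun ψ : DerivedCategory.Qh.obj ((HomotopyCategory.quotient C (ComplexShape.up ℤ)).obj M) ⟶
        DerivedCategory.Qh.obj ((HomotopyCategory.quotient C (ComplexShape.up ℤ)).obj K) =>
        ψ ≫ DerivedCategory.Qh.map ((HomotopyCategory.quotient C (ComplexShape.up ℤ)).map i)) ∘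
      (fun φ : (HomotopyCategory.quotient C (ComplexShape.up ℤ)).obj M ⟶
        (HomotopyCategory.quotient C (ComplexShape.up ℤ)).obj K => DerivedCategory.Qh.map φ) := by
    funext φ
    simp
  have h5 := h2.comp h1
  rw [hcomp] at h5
  exact (Function.Bijective.of_comp_iff' h4 _).mp h5

end Groth.Agent.Lib.Helper35.KL
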