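import Groth.Agent.Lib.Helper35.HtpyY
import Mathlib.Algebra.Homology.DerivedCategory.Basic

/-! Consequences of `Qh_map_bijective_of_twoTerm` in terms of `Q`, and maps to a module placed in
degree `-1` (helper35). -/

universe w v u

namespace Groth.Agent.Lib.Helper35.KL

open CategoryTheory Limits CochainComplex HomComplex DerivedCategory

variable {C : Type u} [Category.{v} C] [Abelian C]

section

variable [HasDerivedCategory.{w} C] [EnoughInjectives C]

theorem exists_Q_map_eq {M K : CochainComplex C ℤ}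
    (hM : ∀ i : ℤ, 0 < i → IsZero (M.X i)) [Projective (M.X 0)]
    (hK : ∀ i : ℤ, i < -1 → IsZero (K.X i)) (ξ : Q.obj M ⟶ Q.obj K) :
    ∃ f : M ⟶ K, Q.map f = ξ := by
  obtain ⟨φ, hφ⟩ := (Qh_map_bijective_of_twoTerm hM hK).2
    ((quotientCompQhIso C).hom.app M ≫ ξ ≫ (quotientCompQhIso C).inv.app K)
  obtain ⟨f, rfl⟩ := (HomotopyCategory.quotient C (ComplexShape.up ℤ)).map_surjective φ
  refine ⟨f, ?_⟩
  have h1 := quotientCompQhIso_hom_naturality f
  dsimp only at hφ
  rw [hφ, Category.assoc, Category.assoc, Iso.inv_hom_id_app, Category.comp_id] at h1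
  exact ((cancel_epi _).mp h1).symm

theorem nonempty_homotopy_of_Q_map_eq_zero {M K : CochainComplex C ℤ}
    (hM : ∀ i : ℤ, 0 < i → IsZero (M.X i)) [Projective (M.X 0)]
    (hK : ∀ i : ℤ, i < -1 → IsZero (K.X i)) (f : M ⟶ K) (hf : Q.map f = 0) :
    Nonempty (Homotopy f 0) := by
  rw [← HomotopyCategory.quotient_map_eq_zero_iff]
  apply (Qh_map_bijective_of_twoTerm hM hK).1
  dsimp only
  rw [Functor.map_zero]
  have h1 := quotientCompQhIso_hom_naturality f
  rw [hf, comp_zero] at h1
  rw [← cancel_mono ((quotientCompQhIso C).hom.app K), h1, zero_comp]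

omit [EnoughInjectives C] in
theorem Q_map_eq_zero_of_homotopy {M K : CochainComplex C ℤ} (f : M ⟶ K) (h : Homotopy f 0) :
    Q.map f = 0 := by
  have h1 := quotientCompQhIso_hom_naturality f
  rw [HomotopyCategory.eq_of_homotopy f 0 h, Functor.map_zero, Functor.map_zero, zero_comp] at h1
  rw [← cancel_epi ((quotientCompQhIso C).hom.app M), ← h1, comp_zero]

end

/-- The object `N` placed in degree `-1`. -/
noncomputable abbrev sgl (N : C) : CochainComplex C ℤ :=
  (HomologicalComplex.single C (ComplexShape.up ℤ) (-1)).obj N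

noncomputable def shiftSingleIso [HasDerivedCategory.{w} C] (N : C) :
    ((DerivedCategory.singleFunctor C 0).obj N)⟦(1 : ℤ)⟧ ≅ Q.obj (sgl N) :=
  ((DerivedCategory.singleFunctors C).shiftIso 1 (-1) 0 (by norm_num)).app N ≪≫
    (singleFunctorIsoCompQ C (-1)).app N

theorem isZero_sgl_X (N : C) (i : ℤ) (hi : i ≠ -1) : IsZero ((sgl N).X i) :=
  HomologicalComplex.isZero_single_obj_X _ _ _ _ hi

/-- A chain map to `N[1]` whose component factors through the differential is null-homotopic. -/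
theorem nonempty_homotopy_zero_of_factor {M : CochainComplex C ℤ} {N : C} (f : M ⟶ sgl N)
    (h : M.X 0 ⟶ (sgl N).X (-1)) (hf : f.f (-1) = M.d (-1) 0 ≫ h) :
    Nonempty (Homotopy f 0) := by
  refine ⟨(Cochain.equivHomotopy f 0).symm ⟨Cochain.single h (-1), ?_⟩⟩
  rw [Cochain.ofHom_zero, add_zero]
  ext n
  by_cases hn : n = -1
  · subst hn
    rw [Cochain.ofHom_v,
      δ_v (-1) 0 (neg_add_cancel 1) _ (-1) (-1) (add_zero _) (-2) 0 (by norm_num) (by norm_num),
      Int.negOnePow_zero, one_smul,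
      Cochain.single_v_eq_zero _ _ _ _ _ (by omega : (-1 : ℤ) ≠ 0), zero_comp, zero_add,
      Cochain.single_v, hf]
  · exact (isZero_sgl_X N n hn).eq_of_tgt _ _

/-- A null-homotopic chain map to `N[1]` factors through the differential. -/
theorem exists_factor_of_homotopy {M : CochainComplex C ℤ} {N : C} (f : M ⟶ sgl N)
    (H : Homotopy f 0) : ∃ h : M.X 0 ⟶ (sgl N).X (-1), f.f (-1) = M.d (-1) 0 ≫ h := by
  obtain ⟨z, hz⟩ := Cochain.equivHomotopy f 0 H
  rw [Cochain.ofHom_zero, add_zero] at hz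
  refine ⟨z.v 0 (-1) (by norm_num), ?_⟩
  have h1 := Cochain.congr_v hz (-1) (-1) (add_zero _)
  rw [Cochain.ofHom_v,
    δ_v (-1) 0 (neg_add_cancel 1) _ (-1) (-1) (add_zero _) (-2) 0 (by norm_num) (by norm_num),
    Int.negOnePow_zero, one_smul] at h1
  rw [h1, (isZero_sgl_X N (-2) (by omega)).eq_of_tgt (z.v (-1) (-2) (by norm_num)) 0, zero_comp,
    zero_add]

end Groth.Agent.Lib.Helper35.KL
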