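import Groth.Agent.Lib.Helper35.IALib

/-! Injective amplitude, part 2: extension of maps to injectives, detection of cohomology
(helper35). -/

set_option autoImplicit false
universe w v u

namespace Groth.Agent.Lib.Helper35.KL

open CategoryTheory Limits DerivedCategory Pretriangulated ZeroObject

attribute [local instance] HasDerivedCategory.standard

variable {R : Type u} [CommRing R]

theorem precomp_truncLTι_bijective {I : ModuleCat.{u} R} [Injective I]
    (K : DerivedCategory (ModuleCat.{u} R)) :
    Function.Bijective (fun φ : K ⟶ (singleFunctor (ModuleCat.{u} R) 0).obj I =>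
      (TStructure.t.truncLTι 1).app K ≫ φ) := by
  have hT := TStructure.t.triangleLTGE_distinguished 1 K
  have h1 : TStructure.t.IsGE ((TStructure.t.triangleLTGE 1).obj K).obj₃ 1 := inferInstance
  refine precomp_mor₁_bijective _ hT ((singleFunctor (ModuleCat.{u} R) 0).obj I)
    (fun φ => hom_to_single_injective_eq_zero (I := I) _ 1 0 (by omega) φ) (fun φ => ?_)
  let e : ((singleFunctor (ModuleCat.{u} R) 0).obj I)⟦(1 : ℤ)⟧ ≅
      (singleFunctor (ModuleCat.{u} R) (-1)).obj I :=
    ((DerivedCategory.singleFunctors (ModuleCat.{u} R)).shiftIso 1 (-1) 0 (by omega)).app I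
  have h2 : φ ≫ e.hom = 0 := hom_to_single_injective_eq_zero (I := I) _ 1 (-1) (by omega) _
  exact (cancel_mono e.hom).mp (h2.trans zero_comp.symm)

/-- Extend a map `H⁰(K) ⟶ I` to an injective `I` to a map `K ⟶ I[0]`. -/
theorem exists_extend (K : DerivedCategory (ModuleCat.{u} R)) [K.IsGE 0]
    (I : ModuleCat.{u} R) [Injective I] (j : (homologyFunctor (ModuleCat.{u} R) 0).obj K ⟶ I) :
    ∃ jt : K ⟶ (DerivedCategory.singleFunctor (ModuleCat.{u} R) 0).obj I,
      (homologyFunctor (ModuleCat.{u} R) 0).map jt =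
        j ≫ (DerivedCategory.singleFunctorCompHomologyFunctorIso (ModuleCat.{u} R) 0).inv.app I := by
  have hZG : TStructure.t.IsGE ((TStructure.t.truncLT 1).obj K) 0 := inferInstance
  have hZL : TStructure.t.IsLE ((TStructure.t.truncLT 1).obj K) 0 :=
    TStructure.t.isLE_truncLT_obj K 1 0
  obtain ⟨H, ⟨e0⟩⟩ := exists_iso_singleFunctor_obj_of_isGE_of_isLE
    ((TStructure.t.truncLT 1).obj K) 0
  have hiso0 := isIso_homology_map_truncLTι' K 1 0 (by omega)
  let i0 : (homologyFunctor (ModuleCat.{u} R) 0).obj K ≅ H :=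
    (asIso ((homologyFunctor (ModuleCat.{u} R) 0).map ((TStructure.t.truncLTι 1).app K))).symm ≪≫
      (homologyFunctor (ModuleCat.{u} R) 0).mapIso e0 ≪≫
      (DerivedCategory.singleFunctorCompHomologyFunctorIso (ModuleCat.{u} R) 0).app H
  let q : H ⟶ I := i0.inv ≫ j
  obtain ⟨jt, hjt⟩ := (precomp_truncLTι_bijective (I := I) K).2
    (e0.hom ≫ (DerivedCategory.singleFunctor (ModuleCat.{u} R) 0).map q)
  dsimp only at hjt
  refine ⟨jt, ?_⟩
  have hn := (DerivedCategory.singleFunctorCompHomologyFunctorIso (ModuleCat.{u} R) 0).inv.naturality q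
  have h2 : (homologyFunctor (ModuleCat.{u} R) 0).map
      ((DerivedCategory.singleFunctor (ModuleCat.{u} R) 0).map q) =
      (DerivedCategory.singleFunctorCompHomologyFunctorIso (ModuleCat.{u} R) 0).hom.app H ≫ q ≫
        (DerivedCategory.singleFunctorCompHomologyFunctorIso (ModuleCat.{u} R) 0).inv.app I := by
    have hn' : q ≫ (DerivedCategory.singleFunctorCompHomologyFunctorIso (ModuleCat.{u} R) 0).inv.app I =
        (DerivedCategory.singleFunctorCompHomologyFunctorIso (ModuleCat.{u} R) 0).inv.app H ≫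
        (homologyFunctor (ModuleCat.{u} R) 0).map
          ((DerivedCategory.singleFunctor (ModuleCat.{u} R) 0).map q) := hn
    rw [hn', Iso.hom_inv_id_app_assoc]
  have h1 : (homologyFunctor (ModuleCat.{u} R) 0).map jt =
      inv ((homologyFunctor (ModuleCat.{u} R) 0).map ((TStructure.t.truncLTι 1).app K)) ≫
      (homologyFunctor (ModuleCat.{u} R) 0).map e0.hom ≫
      (homologyFunctor (ModuleCat.{u} R) 0).map
        ((DerivedCategory.singleFunctor (ModuleCat.{u} R) 0).map q) := by
    rw [← Functor.map_comp, ← hjt, Functor.map_comp, IsIso.inv_hom_id_assoc]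
  rw [h1, h2]
  have h3 : inv ((homologyFunctor (ModuleCat.{u} R) 0).map ((TStructure.t.truncLTι 1).app K)) ≫
      (homologyFunctor (ModuleCat.{u} R) 0).map e0.hom ≫
      (DerivedCategory.singleFunctorCompHomologyFunctorIso (ModuleCat.{u} R) 0).hom.app H = i0.hom := by
    simp [i0]
  rw [← Category.assoc, ← Category.assoc, ← Category.assoc]
  rw [Category.assoc (inv _), h3]
  simp [q]

/-- Detection of cohomology by maps from a projective generator. -/
theorem isZero_homology_of_hom_from_projective (K : DerivedCategory (ModuleCat.{u} R)) (n : ℤ)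
    (P : ModuleCat.{u} R) [Projective P]
    (hgen : ∀ H : ModuleCat.{u} R, (∀ p : P ⟶ H, p = 0) → IsZero H)
    (h : ∀ f : (singleFunctor (ModuleCat.{u} R) n).obj P ⟶ K, f = 0) :
    IsZero ((homologyFunctor (ModuleCat.{u} R) n).obj K) := by
  let K₁ := (TStructure.t.truncLT (n + 1)).obj K
  have hK₁L : TStructure.t.IsLE K₁ n := TStructure.t.isLE_truncLT_obj K (n + 1) n
  let S := (TStructure.t.truncGE n).obj K₁
  have hSL : TStructure.t.IsLE S n := inferInstance
  have hSG : TStructure.t.IsGE S n := inferInstance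
  obtain ⟨H₀, ⟨e⟩⟩ := exists_iso_singleFunctor_obj_of_isGE_of_isLE S n
  have hπ := isIso_homology_map_truncGEπ' K₁ n n le_rfl
  have hι := isIso_homology_map_truncLTι' K (n + 1) n (by omega)
  have hH₀ : IsZero H₀ := by
    apply hgen
    intro p
    let g : (singleFunctor (ModuleCat.{u} R) n).obj P ⟶ S :=
      (singleFunctor (ModuleCat.{u} R) n).map p ≫ e.inv
    have hT := TStructure.t.triangleLTGE_distinguished n K₁
    have hX1 : TStructure.t.IsLE ((TStructure.t.truncLT n).obj K₁) (n - 1) :=
      TStructure.t.isLE_truncLT_obj K₁ n (n - 1)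
    have hX2 : TStructure.t.IsLE (((TStructure.t.truncLT n).obj K₁)⟦(1 : ℤ)⟧) (n - 2) :=
      TStructure.t.isLE_shift _ (n - 1) 1 (n - 2) (by omega)
    have h1 : g ≫ ((TStructure.t.triangleLTGE n).obj K₁).mor₃ = 0 :=
      hom_single_projective_eq_zero (P := P)
        (((TStructure.t.truncLT n).obj K₁)⟦(1 : ℤ)⟧) (n - 2) n (by omega) _
    obtain ⟨g₀, hg₀⟩ := Triangle.coyoneda_exact₃ _ hT g h1
    have hex : ∃ g' : (singleFunctor (ModuleCat.{u} R) n).obj P ⟶ K₁,
        g = g' ≫ (TStructure.t.truncGEπ n).app K₁ := ⟨g₀, hg₀⟩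
    obtain ⟨g', hg'⟩ := hex
    have hf : g' ≫ (TStructure.t.truncLTι (n + 1)).app K = 0 := h _
    have h2 : (homologyFunctor (ModuleCat.{u} R) n).map g' = 0 := by
      have h3 : (homologyFunctor (ModuleCat.{u} R) n).map g' ≫
          (homologyFunctor (ModuleCat.{u} R) n).map ((TStructure.t.truncLTι (n + 1)).app K) = 0 := by
        rw [← Functor.map_comp, hf, Functor.map_zero]
      have hm : Mono ((homologyFunctor (ModuleCat.{u} R) n).map
          ((TStructure.t.truncLTι (n + 1)).app K)) := IsIso.mono_of_iso _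
      exact (cancel_mono ((homologyFunctor (ModuleCat.{u} R) n).map
        ((TStructure.t.truncLTι (n + 1)).app K))).mp (h3.trans zero_comp.symm)
    have h4 : (homologyFunctor (ModuleCat.{u} R) n).map g = 0 := by
      rw [hg', Functor.map_comp, h2, zero_comp]
    have h5 : (homologyFunctor (ModuleCat.{u} R) n).map
        ((singleFunctor (ModuleCat.{u} R) n).map p) = 0 := by
      have h6 : (homologyFunctor (ModuleCat.{u} R) n).map
          ((singleFunctor (ModuleCat.{u} R) n).map p) ≫
          (homologyFunctor (ModuleCat.{u} R) n).map e.inv = 0 := by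
        rw [← Functor.map_comp]
        exact h4
      exact (cancel_mono _).mp (h6.trans zero_comp.symm)
    have hn := (DerivedCategory.singleFunctorCompHomologyFunctorIso (ModuleCat.{u} R) n).hom.naturality p
    have h7 : (DerivedCategory.singleFunctorCompHomologyFunctorIso (ModuleCat.{u} R) n).hom.app P ≫ p = 0 := by
      have : (DerivedCategory.singleFunctorCompHomologyFunctorIso (ModuleCat.{u} R) n).hom.app P ≫
          (𝟭 _).map p = 0 := by
        rw [← hn]
        dsimp
        rw [h5, zero_comp]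
      simpa using this
    exact (cancel_epi _).mp (h7.trans comp_zero.symm)
  have hS : IsZero S := ((singleFunctor (ModuleCat.{u} R) n).map_isZero hH₀).of_iso e
  have hz1 : IsZero ((homologyFunctor (ModuleCat.{u} R) n).obj K₁) :=
    ((homologyFunctor (ModuleCat.{u} R) n).map_isZero hS).of_iso
      (asIso ((homologyFunctor (ModuleCat.{u} R) n).map ((TStructure.t.truncGEπ n).app K₁)))
  exact hz1.of_iso
    (asIso ((homologyFunctor (ModuleCat.{u} R) n).map ((TStructure.t.truncLTι (n + 1)).app K))).symm

/-- `R ⧸ ⊥` is a generator. -/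
theorem isZero_of_hom_quotient_bot (H : ModuleCat.{u} R)
    (h : ∀ p : ModuleCat.of R (R ⧸ (⊥ : Ideal R)) ⟶ H, p = 0) : IsZero H := by
  have : Subsingleton H := by
    refine ⟨fun x y => ?_⟩
    have hz : ∀ z : H, z = 0 := by
      intro z
      let φ : (R ⧸ (⊥ : Ideal R)) →ₗ[R] H :=
        Submodule.liftQ ⊥ (LinearMap.toSpanSingleton R H z) bot_le
      have h1 := h (ModuleCat.ofHom φ)
      have h2 : φ (Submodule.Quotient.mk (1 : R)) = 0 :=
        congrArg (fun t => t.hom (Submodule.Quotient.mk (1 : R))) h1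
      have h3 : φ (Submodule.Quotient.mk (1 : R)) = z := by
        change (Submodule.liftQ ⊥ (LinearMap.toSpanSingleton R H z) bot_le)
          (Submodule.Quotient.mk (1 : R)) = z
        rw [Submodule.liftQ_apply, LinearMap.toSpanSingleton_apply, one_smul]
      rw [← h3, h2]
    rw [hz x, hz y]
  exact ModuleCat.isZero_of_subsingleton H

instance : Projective (ModuleCat.of R (R ⧸ (⊥ : Ideal R))) := by
  have : Module.Projective R (R ⧸ (⊥ : Ideal R)) :=
    Module.Projective.of_equiv (Submodule.quotEquivOfEqBot (⊥ : Ideal R) rfl).symm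
  exact (IsProjective.iff_projective (R := R) (P := R ⧸ (⊥ : Ideal R))).mp this

end Groth.Agent.Lib.Helper35.KL
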