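import Mathlib
import Groth.Agent.Lib.Helper35.NLPerf

/-! The adjugate contraction of the two-term cotangent complex of `A[x]/(f)` (helper35). -/

set_option autoImplicit false
universe u

open MvPolynomial Algebra

namespace Groth.Agent.Lib.Helper35.Jac

open Groth.Agent.Lib.Helper35.NLP

variable {A : Type u} [CommRing A] {n m : ℕ} (hmn : m ≤ n) (f : Fin m → MvPolynomial (Fin n) A)

/-- the quotient ring. -/
abbrev Bq : Type u := MvPolynomial (Fin n) A ⧸ Ideal.span (Set.range f)

/-- the quotient map as algebra hom. -/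
noncomputable abbrev π : MvPolynomial (Fin n) A →ₐ[A] Bq f := Ideal.Quotient.mkₐ A (Ideal.span (Set.range f))

lemma π_surj : Function.Surjective (π f) := Ideal.Quotient.mkₐ_surjective A _

/-- the extension. -/
noncomputable abbrev E : Extension.{u} A (Bq f) := Ef (π f) (π_surj f)

/-- the generators. -/
noncomputable abbrev G : Generators A (Bq f) (Fin n) := Generators.ofAlgHom (π f) (π_surj f)

lemma ker_E : (E f).ker = Ideal.span (Set.range f) := by
  rw [ker_Ef]
  exact Ideal.mk_ker

lemma f_mem (j : Fin m) : f j ∈ (E f).ker := by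
  rw [ker_E]
  exact Ideal.subset_span ⟨j, rfl⟩

/-- the equations as elements of the ring of the extension. -/
noncomputable def fE (j : Fin m) : (E f).Ring := f j

lemma ker_E' : (E f).ker = Submodule.span (E f).Ring (Set.range (fE f)) := ker_E f

/-- the classes of the equations in `I/I²`. -/
noncomputable def fbar (j : Fin m) : (E f).Cotangent := Extension.Cotangent.mk ⟨f j, f_mem f j⟩

lemma span_fbar : Submodule.span (Bq f) (Set.range (fbar f)) = ⊤ := by
  rw [_root_.eq_top_iff]
  intro x _
  obtain ⟨⟨y, hy⟩, rfl⟩ := Extension.Cotangent.mk_surjective x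
  suffices h : ∀ (y : (E f).Ring) (hy : y ∈ (E f).ker),
      Extension.Cotangent.mk ⟨y, hy⟩ ∈ Submodule.span (Bq f) (Set.range (fbar f)) from h y hy
  intro y hy
  have hker := ker_E' f
  have hy' : y ∈ Submodule.span (E f).Ring (Set.range (fE f)) := by
    rw [← hker]; exact hy
  induction hy' using Submodule.span_induction with
  | mem z hz =>
    obtain ⟨j, rfl⟩ := hz
    exact Submodule.subset_span ⟨j, rfl⟩
  | zero =>
    have : (⟨0, hy⟩ : (E f).ker) = 0 := rfl
    rw [this, map_zero]
    exact Submodule.zero_mem _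
  | add a b ha hb iha ihb =>
    have ha' : a ∈ (E f).ker := by rw [hker]; exact ha
    have hb' : b ∈ (E f).ker := by rw [hker]; exact hb
    have : (⟨a + b, hy⟩ : (E f).ker) = ⟨a, ha'⟩ + ⟨b, hb'⟩ := rfl
    rw [this, map_add]
    exact Submodule.add_mem _ (iha ha') (ihb hb')
  | smul p a ha iha =>
    have ha' : a ∈ (E f).ker := by rw [hker]; exact ha
    have : (⟨p • a, hy⟩ : (E f).ker) = p • ⟨a, ha'⟩ := rfl
    rw [this, map_smul, ← algebraMap_smul (Bq f) p]
    exact Submodule.smul_mem _ _ (iha ha')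

/-- the reduced Jacobian minor. -/
noncomputable def J₀ : Matrix (Fin m) (Fin m) (Bq f) :=
  Matrix.of fun i j => Ideal.Quotient.mk (Ideal.span (Set.range f))
    (pderiv (Fin.castLE hmn i) (f j))

lemma det_J₀ : (J₀ hmn f).det = Ideal.Quotient.mk (Ideal.span (Set.range f))
    (Matrix.det (Matrix.of fun i j : Fin m => pderiv (Fin.castLE hmn i) (f j))) := by
  rw [RingHom.map_det]
  rfl

/-- the basis of the cotangent space. -/
noncomputable abbrev bas : Module.Basis (Fin n) (Bq f) (E f).CotangentSpace :=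
  (G f).cotangentSpaceBasis

lemma repr_d_fbar (k : Fin m) (i : Fin n) :
    (bas f).repr ((E f).cotangentComplex (fbar f k)) i =
      Ideal.Quotient.mk (Ideal.span (Set.range f)) (pderiv i (f k)) := by
  rw [fbar, Extension.cotangentComplex_mk]
  erw [Generators.cotangentSpaceBasis_repr_one_tmul]
  exact algebraMap_Ef (π f) (π_surj f) _

/-- the contraction. -/
noncomputable def sMap : (E f).CotangentSpace →ₗ[Bq f] (E f).Cotangent :=
  Fintype.linearCombination (Bq f) (fbar f) ∘ₗ Matrix.mulVecLin (J₀ hmn f).adjugate ∘ₗ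
    LinearMap.funLeft (Bq f) (Bq f) (Fin.castLE hmn) ∘ₗ (bas f).equivFun.toLinearMap

lemma sMap_apply (x : (E f).CotangentSpace) :
    sMap hmn f x = ∑ j, ((J₀ hmn f).adjugate.mulVec
      (fun i' => (bas f).repr x (Fin.castLE hmn i')) j) • fbar f j := by
  rw [sMap, LinearMap.comp_apply, LinearMap.comp_apply, LinearMap.comp_apply,
    Fintype.linearCombination_apply]
  rfl

lemma sMap_d_fbar (k : Fin m) :
    sMap hmn f ((E f).cotangentComplex (fbar f k)) = (J₀ hmn f).det • fbar f k := by
  rw [sMap_apply]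
  have h1 : (fun i' => (bas f).repr ((E f).cotangentComplex (fbar f k)) (Fin.castLE hmn i')) =
      (J₀ hmn f).mulVec (Pi.single k 1) := by
    ext i'
    rw [repr_d_fbar, Matrix.mulVec_single_one]
    rfl
  rw [h1, Matrix.mulVec_mulVec, Matrix.adjugate_mul, Matrix.smul_mulVec, Matrix.one_mulVec]
  rw [Finset.sum_eq_single k]
  · simp
  · intro j _ hjk
    simp [Pi.single_eq_of_ne hjk]
  · intro hk
    exact absurd (Finset.mem_univ k) hk

theorem sMap_comp_d :
    sMap hmn f ∘ₗ (E f).cotangentComplex = (J₀ hmn f).det • LinearMap.id := by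
  apply LinearMap.ext_on (span_fbar f)
  rintro _ ⟨k, rfl⟩
  rw [LinearMap.comp_apply, sMap_d_fbar]
  rfl

section square

variable (fs : Fin n → MvPolynomial (Fin n) A) (hnn : n ≤ n)

theorem d_comp_sMap :
    (E fs).cotangentComplex ∘ₗ sMap hnn fs = (J₀ hnn fs).det • LinearMap.id := by
  apply LinearMap.ext
  intro x
  apply (bas fs).repr.injective
  ext l
  rw [LinearMap.comp_apply, sMap_apply, map_sum, map_sum, Finsupp.finsetSum_apply]
  simp only [map_smul, Finsupp.smul_apply, repr_d_fbar, LinearMap.smul_apply, LinearMap.id_apply]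
  have hv : (fun i' => (bas fs).repr x (Fin.castLE hnn i')) = fun i' => (bas fs).repr x i' := by
    ext i'
    congr 1
  rw [hv]
  have h2 : ∀ j : Fin n, Ideal.Quotient.mk (Ideal.span (Set.range fs)) (pderiv l (fs j)) =
      J₀ hnn fs l j := fun j => rfl
  simp only [h2, smul_eq_mul]
  have h3 : ∑ j, (J₀ hnn fs).adjugate.mulVec (fun i' => (bas fs).repr x i') j * J₀ hnn fs l j =
      ((J₀ hnn fs).mulVec ((J₀ hnn fs).adjugate.mulVec (fun i' => (bas fs).repr x i'))) l := by
    rw [Matrix.mulVec, dotProduct]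
    exact Finset.sum_congr rfl (fun j _ => mul_comm _ _)
  rw [h3, Matrix.mulVec_mulVec, Matrix.mul_adjugate, Matrix.smul_mulVec, Matrix.one_mulVec]
  rfl

end square

end Groth.Agent.Lib.Helper35.Jac
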