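import Mathlib.Algebra.Homology.Double
import Mathlib.Algebra.Homology.Homotopy
import Mathlib.Algebra.Homology.HomotopyCategory
import Mathlib.Algebra.Homology.DerivedCategory.Basic

/-! Two-term cochain complexes in degrees `-1, 0` (`HomologicalComplex.double`): maps and
homotopies (helper35). -/

set_option autoImplicit false
universe v u
open CategoryTheory CategoryTheory.Limits

namespace Groth.Agent.Lib.Helper35.TT

variable {C : Type u} [Category.{v} C] [Preadditive C] [HasZeroObject C]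

lemma rel : (ComplexShape.up ℤ).Rel (-1) 0 := by simp

lemma ne : (-1 : ℤ) ≠ 0 := by decide

/-- the two-term complex `X₁ → X₀` in degrees `-1, 0`. -/
noncomputable abbrev dbl {X₁ X₀ : C} (d : X₁ ⟶ X₀) : CochainComplex C ℤ :=
  HomologicalComplex.double d rel

/-- `(dbl d).X (-1) ≅ X₁`. -/
noncomputable abbrev iso₁ {X₁ X₀ : C} (d : X₁ ⟶ X₀) : (dbl d).X (-1) ≅ X₁ :=
  HomologicalComplex.doubleXIso₀ d rel

/-- `(dbl d).X 0 ≅ X₀`. -/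
noncomputable abbrev iso₀ {X₁ X₀ : C} (d : X₁ ⟶ X₀) : (dbl d).X 0 ≅ X₀ :=
  HomologicalComplex.doubleXIso₁ d rel ne

lemma dbl_d {X₁ X₀ : C} (d : X₁ ⟶ X₀) :
    (dbl d).d (-1) 0 = (iso₁ d).hom ≫ d ≫ (iso₀ d).inv :=
  HomologicalComplex.double_d d rel ne

lemma isZero_dbl_X {X₁ X₀ : C} (d : X₁ ⟶ X₀) (k : ℤ) (h₁ : k ≠ -1) (h₀ : k ≠ 0) :
    IsZero ((dbl d).X k) :=
  HomologicalComplex.isZero_double_X d rel k h₁ h₀

variable {X₁ X₀ Y₁ Y₀ : C} {d : X₁ ⟶ X₀} {d' : Y₁ ⟶ Y₀}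

/-- the chain map induced by a commutative square. -/
noncomputable def dmap (a₁ : X₁ ⟶ Y₁) (a₀ : X₀ ⟶ Y₀) (comm : a₁ ≫ d' = d ≫ a₀) :
    dbl d ⟶ dbl d' :=
  HomologicalComplex.mkHomFromDouble rel ne (a₁ ≫ (iso₁ d').inv) (a₀ ≫ (iso₀ d').inv)
    (by rw [dbl_d, Category.assoc, Iso.inv_hom_id_assoc, reassoc_of% comm])
    (fun k hk => by
      rw [HomologicalComplex.double_d_eq_zero₀ d' rel 0 k (by decide), comp_zero])

@[simp]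
lemma dmap_f₁ (a₁ : X₁ ⟶ Y₁) (a₀ : X₀ ⟶ Y₀) (comm : a₁ ≫ d' = d ≫ a₀) :
    (dmap a₁ a₀ comm).f (-1) = (iso₁ d).hom ≫ a₁ ≫ (iso₁ d').inv :=
  HomologicalComplex.mkHomFromDouble_f₀ _ _ _ _ _ _

@[simp]
lemma dmap_f₀ (a₁ : X₁ ⟶ Y₁) (a₀ : X₀ ⟶ Y₀) (comm : a₁ ≫ d' = d ≫ a₀) :
    (dmap a₁ a₀ comm).f 0 = (iso₀ d).hom ≫ a₀ ≫ (iso₀ d').inv :=
  HomologicalComplex.mkHomFromDouble_f₁ _ _ _ _ _ _

lemma dmap_id : dmap (d := d) (d' := d) (𝟙 X₁) (𝟙 X₀) (by simp) = 𝟙 _ := by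
  apply HomologicalComplex.from_double_hom_ext <;> simp

lemma dmap_comp {Z₁ Z₀ : C} {d'' : Z₁ ⟶ Z₀} (a₁ : X₁ ⟶ Y₁) (a₀ : X₀ ⟶ Y₀)
    (comm : a₁ ≫ d' = d ≫ a₀) (b₁ : Y₁ ⟶ Z₁) (b₀ : Y₀ ⟶ Z₀) (comm' : b₁ ≫ d'' = d' ≫ b₀) :
    dmap a₁ a₀ comm ≫ dmap b₁ b₀ comm' =
      dmap (a₁ ≫ b₁) (a₀ ≫ b₀) (by rw [Category.assoc, comm', reassoc_of% comm]) := by
  apply HomologicalComplex.from_double_hom_ext <;> simp

/-- the homotopy data. -/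
noncomputable def hmap (d : X₁ ⟶ X₀) (d' : Y₁ ⟶ Y₀) (h : X₀ ⟶ Y₁) (i j : ℤ) :
    (dbl d).X i ⟶ (dbl d').X j :=
  if hij : i = 0 ∧ j = -1 then
    eqToHom (by rw [hij.1]) ≫ (iso₀ d).hom ≫ h ≫ (iso₁ d').inv ≫ eqToHom (by rw [hij.2])
  else 0

lemma hmap_zero_negOne (h : X₀ ⟶ Y₁) :
    hmap d d' h 0 (-1) = (iso₀ d).hom ≫ h ≫ (iso₁ d').inv := by
  simp [hmap]

lemma hmap_of_ne (h : X₀ ⟶ Y₁) (i j : ℤ) (hij : ¬ (i = 0 ∧ j = -1)) :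
    hmap d d' h i j = 0 := dif_neg hij

/-- a homotopy between two maps of two-term complexes. -/
noncomputable def dhomotopy (a₁ b₁ : X₁ ⟶ Y₁) (a₀ b₀ : X₀ ⟶ Y₀)
    (ca : a₁ ≫ d' = d ≫ a₀) (cb : b₁ ≫ d' = d ≫ b₀) (h : X₀ ⟶ Y₁)
    (h₁ : a₁ = d ≫ h + b₁) (h₀ : a₀ = h ≫ d' + b₀) :
    Homotopy (dmap a₁ a₀ ca) (dmap b₁ b₀ cb) where
  hom i j := hmap d d' h i j
  zero i j hij := hmap_of_ne h i j (fun ⟨h1, h2⟩ => hij (by subst h1 h2; simp))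
  comm i := by
    by_cases hi1 : i = -1
    · subst hi1
      rw [dNext_eq _ rel, prevD_eq _ (show (ComplexShape.up ℤ).Rel (-2) (-1) by simp)]
      rw [hmap_zero_negOne, hmap_of_ne h (-1) (-2) (by decide)]
      simp only [zero_comp, add_zero, dmap_f₁, dbl_d, Category.assoc, Iso.inv_hom_id_assoc]
      rw [h₁]
      simp
    · by_cases hi0 : i = 0
      · subst hi0
        rw [dNext_eq _ (show (ComplexShape.up ℤ).Rel 0 1 by simp), prevD_eq _ rel]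
        rw [hmap_zero_negOne, hmap_of_ne h 1 0 (by decide)]
        simp only [comp_zero, zero_add, dmap_f₀, dbl_d, Category.assoc, Iso.inv_hom_id_assoc]
        rw [h₀]
        simp
      · exact (isZero_dbl_X d i hi1 hi0).eq_of_src _ _

end Groth.Agent.Lib.Helper35.TT
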