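import Mathlib
import Groth.Agent.Lib.Helper35.TwoTermCx
import Groth.Agent.Lib.Helper35.DComplBd
import Groth.Agent.Lib.Helper26.KProjQ

/-! Contractions of two-term complexes and annihilation of `Ext¹` (helper35). -/

set_option autoImplicit false
universe u

open CategoryTheory CategoryTheory.Limits HomologicalComplex

namespace Groth.Agent.Lib.Helper35.Jac

attribute [local instance] HasDerivedCategory.standard

open Groth.Agent.Lib.Helper35.TT Groth.Agent.Lib.Helper26.KProjQ

variable {S : Type u} [CommRing S] {M F : ModuleCat.{u} S} (d : M ⟶ F) (s : F ⟶ M) (g : S)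

lemma smul_id_dbl : g • 𝟙 (dbl d) =
    dmap (d := d) (d' := d) (g • 𝟙 M) (g • 𝟙 F)
      (by rw [Linear.smul_comp, Linear.comp_smul, Category.id_comp, Category.comp_id]) := by
  apply HomologicalComplex.from_double_hom_ext
  · rw [dmap_f₁]
    simp [Linear.smul_comp, Linear.comp_smul]
  · rw [dmap_f₀]
    simp [Linear.smul_comp, Linear.comp_smul]

lemma dmap_zero_zero : dmap (d := d) (d' := d) (0 : M ⟶ M) (0 : F ⟶ F) (by simp) = 0 := by
  apply HomologicalComplex.from_double_hom_ext
  · rw [dmap_f₁]; simp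
  · rw [dmap_f₀]; simp

/-- a contraction in both degrees kills the complex in the derived category. -/
theorem Q_map_smul_id_eq_zero (h₁ : d ≫ s = g • 𝟙 M) (h₀ : s ≫ d = g • 𝟙 F) :
    g • 𝟙 (DerivedCategory.Q.obj (dbl d)) = 0 := by
  have H : Homotopy (dmap (d := d) (d' := d) (g • 𝟙 M) (g • 𝟙 F)
      (by rw [Linear.smul_comp, Linear.comp_smul, Category.id_comp, Category.comp_id]))
      (dmap (d := d) (d' := d) (0 : M ⟶ M) (0 : F ⟶ F) (by simp)) :=
    dhomotopy _ _ _ _ _ _ s (by rw [h₁, add_zero]) (by rw [h₀, add_zero])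
  have h := Q_map_eq_of_homotopy (C := ModuleCat.{u} S) _ _ H
  rw [← smul_id_dbl, dmap_zero_zero, Functor.map_zero, Functor.map_smul,
    CategoryTheory.Functor.map_id] at h
  exact h

/-- the inclusion of the degree `0` term. -/
noncomputable def incl₀ :
    (HomologicalComplex.single (ModuleCat.{u} S) (ComplexShape.up ℤ) 0).obj F ⟶ dbl d :=
  HomologicalComplex.mkHomFromSingle (iso₀ d).inv (fun k hk => by
    have hk' : (0 : ℤ) + 1 = k := hk
    exact (isZero_dbl_X d k (by omega) (by omega)).eq_of_tgt _ _)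

/-- a map killing the differential factors through the degree `0` term. -/
noncomputable def proj₀ (θ : F ⟶ F) (hθ : d ≫ θ = 0) :
    dbl d ⟶ (HomologicalComplex.single (ModuleCat.{u} S) (ComplexShape.up ℤ) 0).obj F :=
  HomologicalComplex.mkHomToSingle ((iso₀ d).hom ≫ θ) (fun i hi => by
    have hi' : i + 1 = (0 : ℤ) := hi
    obtain rfl : i = -1 := by omega
    rw [dbl_d, Category.assoc, Category.assoc, Iso.inv_hom_id_assoc, hθ, comp_zero])

lemma proj₀_incl₀ (θ : F ⟶ F) (hθ : d ≫ θ = 0) :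
    proj₀ d θ hθ ≫ incl₀ d = dmap (d := d) (d' := d) (0 : M ⟶ M) θ (by rw [zero_comp, hθ]) := by
  apply HomologicalComplex.from_double_hom_ext
  · rw [dmap_f₁, zero_comp, comp_zero, HomologicalComplex.comp_f]
    have hz : IsZero (((HomologicalComplex.single (ModuleCat.{u} S) (ComplexShape.up ℤ) 0).obj F).X
        (-1)) := HomologicalComplex.isZero_single_obj_X _ _ _ _ (by decide)
    rw [hz.eq_of_tgt ((proj₀ d θ hθ).f (-1)) 0, zero_comp]
  · rw [dmap_f₀, HomologicalComplex.comp_f, proj₀, incl₀, HomologicalComplex.mkHomToSingle_f,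
      HomologicalComplex.mkHomFromSingle_f]
    simp

/-- **a contraction in degree `-1` kills `Ext¹`-type classes.** -/
theorem smul_eq_zero_of_contraction (h₁ : d ≫ s = g • 𝟙 M) (Y : DerivedCategory (ModuleCat.{u} S))
    (hY : ∀ φ : (DerivedCategory.singleFunctor (ModuleCat.{u} S) 0).obj F ⟶ Y, φ = 0)
    (ψ : DerivedCategory.Q.obj (dbl d) ⟶ Y) : g • ψ = 0 := by
  let θ : F ⟶ F := g • 𝟙 F - s ≫ d
  have hθ : d ≫ θ = 0 := by
    dsimp only [θ]
    rw [Preadditive.comp_sub, ← Category.assoc, h₁, Linear.comp_smul, Linear.smul_comp,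
      Category.comp_id, Category.id_comp, sub_self]
  have H : Homotopy (dmap (d := d) (d' := d) (g • 𝟙 M) (g • 𝟙 F)
      (by rw [Linear.smul_comp, Linear.comp_smul, Category.id_comp, Category.comp_id]))
      (dmap (d := d) (d' := d) (0 : M ⟶ M) θ (by rw [zero_comp, hθ])) :=
    dhomotopy _ _ _ _ _ _ s (by rw [h₁, add_zero]) (by dsimp only [θ]; abel)
  have h := Q_map_eq_of_homotopy (C := ModuleCat.{u} S) _ _ H
  rw [← smul_id_dbl, ← proj₀_incl₀ d θ hθ, Functor.map_comp, Functor.map_smul,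
    CategoryTheory.Functor.map_id] at h
  have h2 : DerivedCategory.Q.map (incl₀ d) ≫ ψ = 0 := by
    have h3 := hY (((DerivedCategory.singleFunctorIsoCompQ (ModuleCat.{u} S) 0).app F).hom ≫
      DerivedCategory.Q.map (incl₀ d) ≫ ψ)
    exact (cancel_epi ((DerivedCategory.singleFunctorIsoCompQ (ModuleCat.{u} S) 0).app F).hom).1
      (h3.trans comp_zero.symm)
  calc g • ψ = (g • 𝟙 _) ≫ ψ := by rw [Linear.smul_comp, Category.id_comp]
    _ = (DerivedCategory.Q.map (proj₀ d θ hθ) ≫ DerivedCategory.Q.map (incl₀ d)) ≫ ψ := by rw [h]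
    _ = 0 := by rw [Category.assoc, h2, comp_zero]

end Groth.Agent.Lib.Helper35.Jac
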