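import Groth.Agent.Lib.Helper35.RegSurj
import Groth.Agent.Lib.Helper35.FTD3
import Groth.Agent.Lib.Helper10.KoszulFlat
import Groth.Prelude.Def_RegImm

/-! A Koszul-regular immersion is a perfect morphism (helper35). -/

set_option autoImplicit false
universe u
attribute [local instance] HasDerivedCategory.standard

namespace Groth.Agent.Lib.Helper35.KoszImm

theorem isLCI_of_surjective_of_ker_eq_ofList_koszul (R B : Type u) [CommRing R] [CommRing B]
    [Algebra R B]
    (hsurj : Function.Surjective (algebraMap R B)) (rs : List R)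
    (hrs : LCI.IsKoszulRegularSeq R rs)
    (hker : RingHom.ker (algebraMap R B) = Ideal.ofList rs) : LCI.IsLCI R B := by
  refine ⟨Algebra.FiniteType.of_surjective (Algebra.ofId R B) hsurj, 0,
    (Algebra.ofId R B).comp (MvPolynomial.isEmptyAlgEquiv R (Fin 0)).toAlgHom, ?_, ?_⟩
  · intro b
    obtain ⟨r, rfl⟩ := hsurj b
    exact ⟨MvPolynomial.C r, by simp⟩
  · intro p hp
    refine ⟨1, ?_, ?_⟩
    · intro h1
      exact p.isPrime.ne_top ((Ideal.eq_top_iff_one _).2 h1)
    · let P₀ := MvPolynomial (Fin 0) R
      let S := Localization.Away (1 : P₀)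
      have hflat0 : Module.Flat P₀ S := IsLocalization.flat S (Submonoid.powers (1 : P₀))
      have hflat : Module.Flat R S := Module.Flat.trans R P₀ S
      refine ⟨rs.map (algebraMap R S),
        Groth.Agent.Lib.Helper10.KoszulFlat.isKoszulRegularSeq_map (algebraMap R S)
          ((RingHom.flat_algebraMap_iff).2 hflat) rs hrs, ?_⟩
      have h1 : RingHom.ker ((Algebra.ofId R B).comp
          (MvPolynomial.isEmptyAlgEquiv R (Fin 0)).toAlgHom).toRingHom =
          (Ideal.ofList rs).map (algebraMap R P₀) := by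
        ext x
        rw [RingHom.mem_ker]
        have hx : x = algebraMap R P₀ (MvPolynomial.isEmptyAlgEquiv R (Fin 0) x) := by
          apply (MvPolynomial.isEmptyAlgEquiv R (Fin 0)).injective
          rw [MvPolynomial.algebraMap_eq]
          simp only [MvPolynomial.isEmptyAlgEquiv_apply]
          exact (MvPolynomial.coeff_zero_C _).symm
        constructor
        · intro h
          have h2 : MvPolynomial.isEmptyAlgEquiv R (Fin 0) x ∈ Ideal.ofList rs := by
            rw [← hker, RingHom.mem_ker]
            exact h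
          rw [hx]
          exact Ideal.mem_map_of_mem _ h2
        · intro h
          have h3 : (Ideal.ofList rs).map (algebraMap R P₀) ≤
              RingHom.ker ((Algebra.ofId R B).comp
                (MvPolynomial.isEmptyAlgEquiv R (Fin 0)).toAlgHom).toRingHom := by
            rw [Ideal.map_le_iff_le_comap]
            intro r hr
            rw [← hker, RingHom.mem_ker] at hr
            rw [Ideal.mem_comap, RingHom.mem_ker]
            simpa [MvPolynomial.algebraMap_eq, Algebra.ofId_apply] using hr
          exact (RingHom.mem_ker).1 (h3 h)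
      rw [h1, Ideal.map_map, ← IsScalarTower.algebraMap_eq, Ideal.map_ofList]

open AlgebraicGeometry CategoryTheory Limits in
theorem perfMor_of_koszulRegularImmersion {Z X : Scheme.{u}} (i : Z ⟶ X)
    (hi : RegImm.IsRegularImmersion .koszul i) : MoreMor.IsPerfectMor i := by
  obtain ⟨himm, h⟩ := hi
  rw [Groth.Agent.Lib.Helper35.FTD.perfMor_iff_exists]
  intro z
  obtain ⟨W, hzW, hcl, rs, hrs, hker⟩ := h z
  have hWaff : IsAffineOpen W.1 := W.2
  have hZaff : IsAffineOpen (i ⁻¹ᵁ W.1) := by
    have : IsAffine (W.1 : Scheme.{u}) := hWaff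
    have : IsClosedImmersion (i ∣_ W.1) := hcl
    exact isAffine_of_isAffineHom (i ∣_ W.1)
  refine ⟨i ⁻¹ᵁ W.1, W.1, le_rfl, hZaff, hWaff, hzW, ?_⟩
  letI := (i.appLE W.1 (i ⁻¹ᵁ W.1) le_rfl).hom.toAlgebra
  have happ : i.appLE W.1 (i ⁻¹ᵁ W.1) le_rfl = i.app W.1 :=
    AlgebraicGeometry.Scheme.Hom.appLE_eq_app i
  apply Groth.Agent.S7070.result
  refine isLCI_of_surjective_of_ker_eq_ofList_koszul _ _ ?_ rs hrs ?_
  · show Function.Surjective (i.appLE W.1 (i ⁻¹ᵁ W.1) le_rfl).hom
    rw [happ]
    have : IsClosedImmersion (i ∣_ W.1) := hcl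
    have h1 := (i ∣_ W.1).app_surjective ⊤ (isAffineOpen_top _)
    rw [morphismRestrict_app] at h1
    have key : ∀ (V : X.Opens) (V' : Z.Opens) (e : V = W.1) (e' : V' = i ⁻¹ᵁ V),
        Function.Surjective (i.app V ≫ Z.presheaf.map (eqToHom e').op).hom →
        Function.Surjective (i.app W.1).hom := by
      intro V V' e e' h
      subst e
      subst e'
      simpa using h
    exact key _ _ (Scheme.Opens.ι_image_top _) _ h1
  · show RingHom.ker (i.appLE W.1 (i ⁻¹ᵁ W.1) le_rfl).hom = _
    rw [happ, hker]

end Groth.Agent.Lib.Helper35.KoszImm
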