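import Groth.Agent.Lib.Helper35.FTD
import Groth.Agent.Lib.Helper35.RegPerf
import Groth.Agent.Lib.Helper35.FinRes
import Groth.Prelude.Def_MoreMor
import Mathlib.RingTheory.RegularLocalRing.Polynomial

/-! Perfect ring maps from perfect modules over polynomial rings (helper35). -/

set_option autoImplicit false
set_option linter.unusedSectionVars false
universe u

open CategoryTheory CategoryTheory.Limits DerivedCategory

attribute [local instance] HasDerivedCategory.standard

namespace Groth.Agent.Lib.Helper35.PHP

open Groth.Agent.Lib.Helper35.TA Groth.Agent.Lib.Helper35.KL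

/-- A perfect module has finite tor dimension. -/
theorem hasFiniteTorDim_of_isPerfectModule {P : Type u} [CommRing P] (M : Type u) [AddCommGroup M]
    [Module P M] (h : DRing.IsPerfectModule P M) : DRing.HasFiniteTorDim P M := by
  rw [Groth.Agent.Lib.Helper35.FTD.hasFiniteTorDim_iff]
  obtain ⟨E, a, b, hv, hE, ⟨e⟩⟩ := h
  have hT : TAmp a b (Dual.inD P M) := by
    refine ⟨E, hv, fun i => ?_, ⟨e⟩⟩
    have := (hE i).2
    infer_instance
  have hLE : (Dual.inD P M).IsLE 0 := inferInstance
  have hT0 : TAmp a 0 (Dual.inD P M) := TAmp.of_isLE (b := 0) hT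
  exact ⟨(-a).toNat, hT0.mono (by omega) (le_refl _)⟩

/-- If `B` is a perfect module over a polynomial ring `A[x_1, …, x_n]` surjecting onto it, then
`A → B` is a perfect ring map. -/
theorem isPerfectHom_of_isPerfectModule (A B : Type u) [CommRing A] [CommRing B] [Algebra A B]
    (n : ℕ) (φ : MvPolynomial (Fin n) A →ₐ[A] B) (hφ : Function.Surjective φ)
    (h : letI := φ.toRingHom.toAlgebra
      DRing.IsPerfectModule (MvPolynomial (Fin n) A) B) : MoreMor.IsPerfectHom A B := by
  let _ : Algebra (MvPolynomial (Fin n) A) B := φ.toRingHom.toAlgebra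
  have hST : IsScalarTower A (MvPolynomial (Fin n) A) B :=
    IsScalarTower.of_algebraMap_eq (fun a => (φ.commutes a).symm)
  refine ⟨⟨n, φ, hφ, isPseudoCoherent'_of_isPerfect h⟩, ?_⟩
  have h1 : DRing.HasFiniteTorDim A (MvPolynomial (Fin n) A) := Groth.Agent.Lib.Helper35.FTD.of_flat _
  have h2 : DRing.HasFiniteTorDim (MvPolynomial (Fin n) A) B :=
    hasFiniteTorDim_of_isPerfectModule B h
  exact Groth.Agent.Lib.Helper35.FTD.comp B h1 h2

/-- A finite type algebra over a regular ring is perfect. -/
theorem isPerfectHom_of_finiteType_of_isRegularRing (A B : Type u) [CommRing A] [CommRing B]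
    [Algebra A B] [IsRegularRing A] [Algebra.FiniteType A B] : MoreMor.IsPerfectHom A B := by
  obtain ⟨n, φ, hφ⟩ := Algebra.FiniteType.iff_quotient_mvPolynomial''.1
    (inferInstance : Algebra.FiniteType A B)
  refine isPerfectHom_of_isPerfectModule A B n φ hφ ?_
  let _ : Algebra (MvPolynomial (Fin n) A) B := φ.toRingHom.toAlgebra
  have hfin : Module.Finite (MvPolynomial (Fin n) A) B :=
    Module.Finite.of_surjective (Algebra.linearMap (MvPolynomial (Fin n) A) B) hφ
  have hreg : IsRegularRing (MvPolynomial (Fin n) A) := inferInstance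
  have hN : IsNoetherianRing (MvPolynomial (Fin n) A) := inferInstance
  exact isPerfect_single_of_finite_of_regular (ModuleCat.of (MvPolynomial (Fin n) A) B)
    (fun p => IsRegularRing.isRegularLocalRing_localization p.asIdeal)

end Groth.Agent.Lib.Helper35.PHP
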