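import Groth.Agent.Lib.Helper10.KoszulH1
import Groth.Agent.Lib.Helper35.ConeRep2
import Groth.Agent.Lib.Helper35.FlatBC
import Groth.Agent.Lib.Helper35.PerfDescent
import Groth.Agent.Lib.Helper35.PerfHomPoly
import Mathlib.RingTheory.TensorProduct.Quotient

/-! Koszul complexes of Koszul-regular sequences are perfect resolutions (helper35). -/

set_option autoImplicit false
set_option linter.unusedSectionVars false
universe u

open CategoryTheory CategoryTheory.Limits CochainComplex HomComplex DerivedCategory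

attribute [local instance] HasDerivedCategory.standard

namespace Groth.Agent.Lib.Helper35.KzP

open Groth.Agent.Lib.Helper10.KoszulH1

variable {A : Type u} [CommRing A]

theorem koszul_finite_free : ∀ (l : List A) (i : ℤ),
    Module.Finite A ((Koszul.koszul A l).X i) ∧ Module.Free A ((Koszul.koszul A l).X i)
  | [], i => by
    by_cases hi : i = 0
    · subst hi
      let e := (HomologicalComplex.singleObjXSelf (ComplexShape.up ℤ) (0 : ℤ)
        (ModuleCat.of A A)).toLinearEquiv
      exact ⟨Module.Finite.equiv e.symm, Module.Free.of_equiv e.symm⟩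
    · have hz : IsZero ((Koszul.koszul A ([] : List A)).X i) :=
        HomologicalComplex.isZero_single_obj_X _ _ _ _ hi
      have := ModuleCat.subsingleton_of_isZero hz
      exact ⟨inferInstance, inferInstance⟩
  | f :: l, i => by
    obtain ⟨h1, h2⟩ := koszul_finite_free l (i + 1)
    obtain ⟨h3, h4⟩ := koszul_finite_free l i
    let e := KL.mappingConeXLinearEquiv (f • 𝟙 (Koszul.koszul A l)) i
    have h5 : Module.Finite A ((Koszul.koszul A l).X (i + 1) × (Koszul.koszul A l).X i) :=
      inferInstance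
    have h6 : Module.Free A ((Koszul.koszul A l).X (i + 1) × (Koszul.koszul A l).X i) :=
      inferInstance
    exact ⟨Module.Finite.equiv e.symm, Module.Free.of_equiv e.symm⟩

theorem koszul_isZero_X_of_lt : ∀ (l : List A) (i : ℤ), i < -(l.length : ℤ) →
    IsZero ((Koszul.koszul A l).X i)
  | [], i, hi => HomologicalComplex.isZero_single_obj_X _ _ _ _ (by simp at hi; omega)
  | f :: l, i, hi => by
      rw [koszul_cons, mappingCone.isZero_X_iff]
      have : ((f :: l).length : ℤ) = (l.length : ℤ) + 1 := by simp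
      exact ⟨koszul_isZero_X_of_lt l _ (by omega), koszul_isZero_X_of_lt l _ (by omega)⟩

/-- The Koszul complex is perfect. -/
theorem isPerfect_koszul (l : List A) : DRing.IsPerfect A (DRing.toD (Koszul.koszul A l)) := by
  refine ⟨Koszul.koszul A l, -(l.length : ℤ), 0, ?_, ?_, ⟨Iso.refl _⟩⟩
  · rintro i (hi | hi)
    · exact koszul_isZero_X_of_lt l i hi
    · exact isZero_X_of_pos l i hi
  · intro i
    obtain ⟨h1, h2⟩ := koszul_finite_free l i
    exact ⟨h1, inferInstance⟩

section Resolution

variable (l : List A)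

/-- The ideal generated by the members of a list. -/
abbrev JJ : Ideal A := Ideal.span {x : A | x ∈ l}

theorem mem_JJ_iff (a : A) : a ∈ JJ l ↔ ∃ c : Fin l.length → A, a = ∑ i, c i * l.get i := by
  have h : {x : A | x ∈ l} = Set.range l.get := by
    ext x
    simp only [Set.mem_ofPred_eq, Set.mem_range]
    exact List.mem_iff_get
  rw [JJ, h, Ideal.mem_span_range_iff_exists_fun]
  constructor
  · rintro ⟨c, hc⟩
    exact ⟨c, hc.symm⟩
  · rintro ⟨c, hc⟩
    exact ⟨c, hc.symm⟩

/-- The augmentation `K^0 = A → A/(l)`. -/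
noncomputable def aug (D : LowData l) :
    (Koszul.koszul A l).X 0 ⟶ ModuleCat.of A (A ⧸ JJ l) :=
  ModuleCat.ofHom ((Submodule.mkQ (JJ l)) ∘ₗ D.ε.toLinearMap)

theorem aug_apply (D : LowData l) (x : (Koszul.koszul A l).X 0) :
    (aug l D).hom x = Submodule.Quotient.mk (D.ε x) := rfl

theorem aug_eq_zero_iff (D : LowData l) (x : (Koszul.koszul A l).X 0) :
    (aug l D).hom x = 0 ↔ x ∈ Set.range ((Koszul.koszul A l).d (-1) 0).hom := by
  rw [aug_apply, Submodule.Quotient.mk_eq_zero, mem_JJ_iff]
  constructor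
  · rintro ⟨c, hc⟩
    refine ⟨D.φ c, D.ε.injective ?_⟩
    rw [D.εd, hc, D.ψφ]
  · rintro ⟨y, rfl⟩
    exact ⟨D.ψ y, D.εd y⟩

theorem d_comp_aug (D : LowData l) : (Koszul.koszul A l).d (-1) 0 ≫ aug l D = 0 := by
  ext y
  exact (aug_eq_zero_iff l D _).2 ⟨y, rfl⟩

/-- The augmentation of the Koszul complex. -/
noncomputable def augCx (D : LowData l) :
    Koszul.koszul A l ⟶ (HomologicalComplex.single (ModuleCat.{u} A) (ComplexShape.up ℤ) 0).obj
      (ModuleCat.of A (A ⧸ JJ l)) :=
  HomologicalComplex.mkHomToSingle (aug l D) (fun i hi => by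
    have : i = -1 := by
      change i + 1 = 0 at hi
      omega
    subst this
    exact d_comp_aug l D)

theorem exact_and_epi_of_eq (D : LowData l) {Y : ModuleCat.{u} A}
    (e : ModuleCat.of A (A ⧸ JJ l) ≅ Y)
    (f : (Koszul.koszul A l).X (-1) ⟶ (Koszul.koszul A l).X 0)
    (g : (Koszul.koszul A l).X 0 ⟶ Y) (w : f ≫ g = 0)
    (hf : f = (Koszul.koszul A l).d (-1) 0) (hg : g = aug l D ≫ e.hom) :
    (ShortComplex.mk f g w).Exact ∧ Epi g := by
  subst hf
  subst hg
  constructor
  · rw [ShortComplex.ShortExact.moduleCat_exact_iff_function_exact]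
    intro x
    change e.hom.hom ((aug l D).hom x) = 0 ↔ _
    have hinj : Function.Injective e.hom.hom :=
      (ModuleCat.mono_iff_injective e.hom).1 inferInstance
    rw [← aug_eq_zero_iff l D x]
    constructor
    · intro h
      exact hinj (h.trans (map_zero _).symm)
    · intro h
      rw [h, map_zero]
  · have h1 : Epi (aug l D) := by
      rw [ModuleCat.epi_iff_surjective]
      intro y
      obtain ⟨a, rfl⟩ := Submodule.Quotient.mk_surjective _ y
      exact ⟨D.ε.symm a, by rw [aug_apply, LinearEquiv.apply_symm_apply]⟩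
    infer_instance

theorem quasiIso_augCx (D : LowData l) (hl : LCI.IsKoszulRegularSeq A l) :
    QuasiIso (augCx l D) := by
  refine ⟨fun i => ?_⟩
  by_cases hi : i = 0
  · subst hi
    rw [quasiIsoAt_iff' _ (-1) 0 1 (by simp) (by simp),
      ShortComplex.quasiIso_iff_of_zeros']
    · exact exact_and_epi_of_eq l D
        (HomologicalComplex.singleObjXSelf (ComplexShape.up ℤ) (0 : ℤ)
          (ModuleCat.of A (A ⧸ JJ l))).symm
        ((Koszul.koszul A l).d (-1) 0) ((augCx l D).f 0) _ rfl
        (HomologicalComplex.mkHomToSingle_f _ _)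
    · exact (isZero_X_of_pos l 1 one_pos).eq_of_tgt _ _
    · exact (HomologicalComplex.isZero_single_obj_X (ComplexShape.up ℤ) (0 : ℤ)
        (ModuleCat.of A (A ⧸ JJ l)) (-1) (by omega)).eq_of_src _ _
    · exact (HomologicalComplex.isZero_single_obj_X (ComplexShape.up ℤ) (0 : ℤ)
        (ModuleCat.of A (A ⧸ JJ l)) 1 (by omega)).eq_of_tgt _ _
  · rw [quasiIsoAt_iff_exactAt']
    · rw [HomologicalComplex.exactAt_iff_isZero_homology]
      exact hl i hi
    · exact HomologicalComplex.exactAt_single_obj _ _ _ _ hi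

/-- For a Koszul-regular sequence, `A/(l)` is a perfect module. -/
theorem isPerfect_quotient_of_isKoszulRegularSeq (hl : LCI.IsKoszulRegularSeq A l) :
    DRing.IsPerfect A (DRing.toD ((HomologicalComplex.single (ModuleCat.{u} A)
      (ComplexShape.up ℤ) 0).obj (ModuleCat.of A (A ⧸ JJ l)))) := by
  obtain ⟨D⟩ := nonempty_lowData l
  have := quasiIso_augCx l D hl
  have h2 : IsIso (Q.map (augCx l D)) := by
    rw [isIso_Q_map_iff_quasiIso]
    infer_instance
  exact KL.isPerfect_of_iso (asIso (Q.map (augCx l D))) (isPerfect_koszul l)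

end Resolution

section Local

open TensorProduct

variable {P B : Type u} [CommRing P] [CommRing B] [Algebra P B]

/-- The complex `B[0]` over `P`. -/
noncomputable abbrev sB : DRing.Cx P :=
  (HomologicalComplex.single (ModuleCat.{u} P) (ComplexShape.up ℤ) 0).obj (ModuleCat.of P B)

/-- The termwise base change of `B[0]` to `P_g`. -/
noncomputable abbrev sBg (g : P) : DRing.Cx (Localization.Away g) :=
  ((ModuleCat.extendScalars.{u, u, u} (algebraMap P (Localization.Away g))).mapHomologicalComplex
    (ComplexShape.up ℤ)).obj (sB (P := P) (B := B))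

/-- `(B[0])_g ≅ (B_g)[0]`. -/
noncomputable def sBgIso (g : P) :
    sBg (P := P) (B := B) g ≅ (HomologicalComplex.single (ModuleCat.{u} (Localization.Away g))
      (ComplexShape.up ℤ) 0).obj ((ModuleCat.extendScalars.{u, u, u}
        (algebraMap P (Localization.Away g))).obj (ModuleCat.of P B)) :=
  (HomologicalComplex.singleMapHomologicalComplex (ModuleCat.extendScalars.{u, u, u}
    (algebraMap P (Localization.Away g))) (ComplexShape.up ℤ) 0).app (ModuleCat.of P B)

theorem subsingleton_tensor_of_mem_ker (g : P) (hg : g ∈ RingHom.ker (algebraMap P B)) :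
    Subsingleton (Localization.Away g ⊗[P] B) := by
  refine ⟨fun x y => ?_⟩
  suffices hz : ∀ z : Localization.Away g ⊗[P] B, z = 0 by rw [hz x, hz y]
  intro z
  induction z using TensorProduct.induction_on with
  | zero => rfl
  | tmul a b =>
    obtain ⟨v, hv⟩ := IsLocalization.Away.algebraMap_isUnit (S := Localization.Away g) g
    have h1 : a = g • (a * (v⁻¹ : (Localization.Away g)ˣ)) := by
      rw [Algebra.smul_def, ← hv, mul_comm a, ← mul_assoc, Units.mul_inv, one_mul]
    have h2 : g • b = 0 := by
      rw [Algebra.smul_def, (RingHom.mem_ker).1 hg, zero_mul]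
    rw [h1, TensorProduct.smul_tmul, h2, TensorProduct.tmul_zero]
  | add x y hx hy => rw [hx, hy, add_zero]

/-- On `D(g)` with `g ∈ I`, the module `B_g` vanishes. -/
theorem isPerfect_sBg_of_mem_ker (g : P) (hg : g ∈ RingHom.ker (algebraMap P B)) :
    DRing.IsPerfect (Localization.Away g) (DRing.toD (sBg (P := P) (B := B) g)) := by
  have := subsingleton_tensor_of_mem_ker (B := B) g hg
  have hsub : Subsingleton ((ModuleCat.extendScalars.{u, u, u}
      (algebraMap P (Localization.Away g))).obj (ModuleCat.of P B)) :=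
    (Groth.Agent.Lib.Helper35.FlatBC.extLinearEquiv (A := P) (Localization.Away g) B).toEquiv.subsingleton
  have hz : IsZero ((ModuleCat.extendScalars.{u, u, u}
      (algebraMap P (Localization.Away g))).obj (ModuleCat.of P B)) :=
    ModuleCat.isZero_of_subsingleton _
  have hz' : ∀ i : ℤ, IsZero ((sBg (P := P) (B := B) g).X i) := by
    intro i
    refine IsZero.of_iso ?_ ((HomologicalComplex.eval _ _ i).mapIso (sBgIso (B := B) g))
    by_cases hi : i = 0
    · subst hi
      exact hz.of_iso (HomologicalComplex.singleObjXSelf (ComplexShape.up ℤ) (0 : ℤ) _)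
    · exact HomologicalComplex.isZero_single_obj_X (ComplexShape.up ℤ) (0 : ℤ) _ i hi
  refine ⟨sBg (P := P) (B := B) g, 0, 0, fun i _ => hz' i, fun i => ?_, ⟨Iso.refl _⟩⟩
  have := ModuleCat.subsingleton_of_isZero (hz' i)
  exact ⟨inferInstance, inferInstance⟩

/-- `B_g ≃ P_g / I P_g`. -/
noncomputable def extQuotEquiv (hsurj : Function.Surjective (algebraMap P B)) (g : P)
    (J : Ideal (Localization.Away g))
    (hI : (RingHom.ker (algebraMap P B)).map (algebraMap P (Localization.Away g)) = J) :
    ((ModuleCat.extendScalars.{u, u, u} (algebraMap P (Localization.Away g))).obj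
      (ModuleCat.of P B)) ≃ₗ[Localization.Away g] (Localization.Away g ⧸ J) := by
  let I : Ideal P := RingHom.ker (algebraMap P B)
  have hker : RingHom.ker (Algebra.ofId P B) = I :=
    Ideal.ext (fun x => by simp [I, RingHom.mem_ker, Algebra.ofId_apply])
  let e1 := Groth.Agent.Lib.Helper35.FlatBC.extLinearEquiv (A := P) (Localization.Away g) B
  let e2a : (P ⧸ RingHom.ker (Algebra.ofId P B)) ≃ₗ[P] B :=
    (Ideal.quotientKerAlgEquivOfSurjective (f := Algebra.ofId P B) hsurj).toLinearEquiv
  let e2 : (P ⧸ I) ≃ₗ[P] B := (Submodule.quotEquivOfEq _ _ hker.symm) ≪≫ₗ e2a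
  let e3 : Localization.Away g ⊗[P] (P ⧸ I) ≃ₗ[Localization.Away g] Localization.Away g ⊗[P] B :=
    TensorProduct.AlgebraTensorModule.congr
      (LinearEquiv.refl (Localization.Away g) (Localization.Away g)) e2
  let e4 := (Algebra.TensorProduct.quotIdealMapEquivTensorQuot (Localization.Away g) I).toLinearEquiv
  let e5 : (Localization.Away g ⧸ I.map (algebraMap P (Localization.Away g))) ≃ₗ[Localization.Away g]
      (Localization.Away g ⧸ J) := Submodule.quotEquivOfEq _ _ hI
  exact e1 ≪≫ₗ e3.symm ≪≫ₗ e4.symm ≪≫ₗ e5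

/-- On `D(g)` where `I` is generated by a Koszul-regular sequence, `B_g` is perfect. -/
theorem isPerfect_sBg_of_koszul (hsurj : Function.Surjective (algebraMap P B)) (g : P)
    (l : List (Localization.Away g)) (hl : LCI.IsKoszulRegularSeq (Localization.Away g) l)
    (hI : (RingHom.ker (algebraMap P B)).map (algebraMap P (Localization.Away g)) =
      Ideal.span {x | x ∈ l}) :
    DRing.IsPerfect (Localization.Away g) (DRing.toD (sBg (P := P) (B := B) g)) := by
  have h := isPerfect_quotient_of_isKoszulRegularSeq l hl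
  let e := (extQuotEquiv hsurj g (JJ l) hI).toModuleIso
  let e' := sBgIso (B := B) g ≪≫ (HomologicalComplex.single (ModuleCat.{u} (Localization.Away g))
    (ComplexShape.up ℤ) 0).mapIso e
  exact KL.isPerfect_of_iso (Q.mapIso e').symm h

/-- If the kernel of a surjection `P → B` is a Koszul-regular ideal, `B` is a perfect
`P`-module. -/
theorem isPerfectModule_of_isKoszulRegularIdeal (hsurj : Function.Surjective (algebraMap P B))
    (hI : LCI.IsKoszulRegularIdeal (RingHom.ker (algebraMap P B))) :
    DRing.IsPerfectModule P B := by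
  classical
  let Φ : P → Prop := fun g =>
    DRing.IsPerfect (Localization.Away g) (DRing.toD (sBg (P := P) (B := B) g))
  have hcov : ∀ p : PrimeSpectrum P, ∃ g : P, g ∉ p.asIdeal ∧ Φ g := by
    intro p
    by_cases hp : RingHom.ker (algebraMap P B) ≤ p.asIdeal
    · obtain ⟨g, hg, l, hl, hIl⟩ := hI p hp
      exact ⟨g, hg, isPerfect_sBg_of_koszul hsurj g l hl hIl⟩
    · obtain ⟨g, hgI, hgp⟩ := Set.not_subset.1 hp
      exact ⟨g, hgp, isPerfect_sBg_of_mem_ker g hgI⟩
  have htop : Ideal.span {g : P | Φ g} = ⊤ := by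
    by_contra hne
    obtain ⟨m, hm, hle⟩ := Ideal.exists_le_maximal _ hne
    obtain ⟨g, hg, hΦ⟩ := hcov ⟨m, hm.isPrime⟩
    exact hg (hle (Ideal.subset_span hΦ))
  obtain ⟨s, hs, hstop⟩ := (Ideal.span_eq_top_iff_finite _).1 htop
  let f : Fin s.card → P := fun i => (s.equivFin.symm i : P)
  have hrange : Set.range f = (s : Set P) := by
    ext x
    constructor
    · rintro ⟨i, rfl⟩
      exact (s.equivFin.symm i).2
    · intro hx
      exact ⟨s.equivFin ⟨x, hx⟩, by simp [f]⟩
  have hf : Ideal.span (Set.range f) = ⊤ := by rw [hrange]; exact hstop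
  have hK : ∀ i, Φ (f i) := fun i => hs (s.equivFin.symm i).2
  have h := Groth.Agent.Lib.Helper35.TA.isPerfect_of_span_eq_top f hf (sB (P := P) (B := B)) hK
  exact KL.isPerfect_of_iso
    ((DerivedCategory.singleFunctorIsoCompQ (ModuleCat.{u} P) 0).app (ModuleCat.of P B)).symm h

end Local

end Groth.Agent.Lib.Helper35.KzP

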