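import Groth.Agent.Lib.Helper35.BCIso

/-! Transitivity of derived base change, and applications (helper35). -/

set_option autoImplicit false
set_option linter.unusedSectionVars false
universe u
open CategoryTheory CategoryTheory.Limits MonoidalCategory DerivedCategory CochainComplex
  TensorProduct
attribute [local instance] HasDerivedCategory.standard

namespace Groth.Agent.Lib.Helper35.TA

open Groth.Agent.Lib.Helper32.LBC Groth.Agent.Lib.Helper26

section Comp

variable {A B C : Type u} [CommRing A] [CommRing B] [CommRing C]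

/-- Transitivity of derived base change. -/
theorem nonempty_LBC_comp_iso (φ : A →+* B) (ψ : B →+* C) (χ : A →+* C) (h : χ = ψ.comp φ)
    [DRing.HasLBaseChange φ] [DRing.HasLBaseChange ψ] [DRing.HasLBaseChange χ] (K : Dual.D A) :
    Nonempty ((DRing.LBaseChange ψ).obj ((DRing.LBaseChange φ).obj K) ≅
      (DRing.LBaseChange χ).obj K) := by
  subst h
  obtain ⟨P, hP, ⟨e⟩⟩ := exists_kproj_iso K
  have hPB : ((extCx φ).obj P).IsKProjective :=
    AdjKProj.isKProjective_map (ModuleCat.extendRestrictScalarsAdj.{u, u, u} φ) P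
  have e1 : (DRing.LBaseChange φ).obj K ≅ DRing.toD ((extCx φ).obj P) :=
    (DRing.LBaseChange φ).mapIso e.symm ≪≫ lbcIso φ P
  have e2 : (DRing.LBaseChange ψ).obj (DRing.toD ((extCx φ).obj P)) ≅
      DRing.toD ((extCx ψ).obj ((extCx φ).obj P)) := lbcIso ψ _
  have e3 : (extCx (ψ.comp φ)).obj P ≅ (extCx ψ).obj ((extCx φ).obj P) :=
    HomologicalComplex.Hom.isoOfComponents
      (fun i => (ModuleCat.extendScalarsComp φ ψ).app (P.X i))
      (fun i j _ => ((ModuleCat.extendScalarsComp φ ψ).hom.naturality (P.d i j)).symm)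
  have e4 : (DRing.LBaseChange (ψ.comp φ)).obj K ≅ DRing.toD ((extCx (ψ.comp φ)).obj P) :=
    (DRing.LBaseChange (ψ.comp φ)).mapIso e.symm ≪≫ lbcIso (ψ.comp φ) P
  exact ⟨(DRing.LBaseChange ψ).mapIso e1 ≪≫ e2 ≪≫ DerivedCategory.Q.mapIso e3.symm ≪≫ e4.symm⟩

end Comp

section Jac

variable (R : Type u) [CommRing R]

theorem TAmp_of_LBaseChange_quotient_le_jacobson (I : Ideal R)
    (hI : I ≤ Ideal.jacobson (⊥ : Ideal R)) [DRing.HasLBaseChange (Ideal.Quotient.mk I)]
    (P : Dual.D R) (hP : DRing.IsPseudoCoherent' R P) (a b : ℤ)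
    (h : TAmp a b ((DRing.LBaseChange (Ideal.Quotient.mk I)).obj P)) :
    DRing.IsPerfect R P ∧ TAmp a b P := by
  have : ∀ m : Ideal R, DRing.HasLBaseChange (Ideal.Quotient.mk m) := fun m => hasLBaseChange _
  refine isPerfect_and_TAmp_of_fibres P hP a b (fun m hm i hi => ?_)
  have hIm : I ≤ m := hI.trans (sInf_le ⟨bot_le, hm⟩)
  have := hasLBaseChange (Ideal.Quotient.factor hIm)
  obtain ⟨e⟩ := nonempty_LBC_comp_iso (Ideal.Quotient.mk I) (Ideal.Quotient.factor hIm)
    (Ideal.Quotient.mk m) (Ideal.Quotient.factor_comp_mk hIm).symm P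
  have h1 := TAmp_LBaseChange (Ideal.Quotient.factor hIm) _ a b h
  have h2 := TAmp.of_iso h1 e
  have hLE := h2.isLE
  have hGE := h2.isGE
  rcases hi with hi | hi
  · exact DerivedCategory.isZero_of_isGE _ a i hi
  · exact DerivedCategory.isZero_of_isLE _ b i hi

end Jac

end Groth.Agent.Lib.Helper35.TA
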