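import Mathlib.CategoryTheory.Triangulated.Pretriangulated
import Mathlib.CategoryTheory.Triangulated.Yoneda

/-! Some exactness yoga in pretriangulated categories (helper35). -/

namespace Groth.Agent.Lib.Helper35.KL

open CategoryTheory Limits Pretriangulated

variable {D : Type*} [Category D] [Preadditive D] [HasZeroObject D] [HasShift D ℤ]
  [∀ n : ℤ, (shiftFunctor D n).Additive] [Pretriangulated D]

theorem postcomp_mor₂_bijective (T : Triangle D) (hT : T ∈ distTriang D) (S : D)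
    (h₁ : ∀ φ : S ⟶ T.obj₁, φ = 0) (h₁' : ∀ φ : S ⟶ T.obj₁⟦(1 : ℤ)⟧, φ = 0) :
    Function.Bijective (fun φ : S ⟶ T.obj₂ => φ ≫ T.mor₂) := by
  constructor
  · intro φ ψ h
    have h0 : (φ - ψ) ≫ T.mor₂ = 0 := by
      rw [Preadditive.sub_comp]; exact sub_eq_zero.mpr h
    obtain ⟨χ, hχ⟩ := Triangle.coyoneda_exact₂ T hT (φ - ψ) h0
    rw [h₁ χ, zero_comp] at hχ
    exact sub_eq_zero.mp hχ
  · intro ψ
    obtain ⟨φ, hφ⟩ := Triangle.coyoneda_exact₃ T hT ψ (h₁' _)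
    exact ⟨φ, hφ.symm⟩

theorem postcomp_mor₁_bijective (T : Triangle D) (hT : T ∈ distTriang D) (S : D)
    (h₃ : ∀ φ : S ⟶ T.obj₃, φ = 0) (h₃' : ∀ φ : S ⟶ T.obj₃⟦(-1 : ℤ)⟧, φ = 0) :
    Function.Bijective (fun φ : S ⟶ T.obj₁ => φ ≫ T.mor₁) := by
  constructor
  · intro φ ψ h
    have h0 : (φ - ψ) ≫ T.mor₁ = 0 := by
      rw [Preadditive.sub_comp]; exact sub_eq_zero.mpr h
    obtain ⟨χ, hχ⟩ := Triangle.coyoneda_exact₂ T.invRotate (inv_rot_of_distTriang T hT)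
      (φ - ψ) h0
    have hχ0 : χ = 0 := h₃' χ
    have h1 : φ - ψ = 0 := by
      rw [hχ, hχ0]
      exact zero_comp
    exact sub_eq_zero.mp h1
  · intro ψ
    obtain ⟨φ, hφ⟩ := Triangle.coyoneda_exact₂ T hT ψ (h₃ _)
    exact ⟨φ, hφ.symm⟩

/-- Exactness at `Hom(X₁, Z)` of the contravariant sequence, in shifted form. -/
theorem exists_of_mor₃_comp_shift_eq_zero (T : Triangle D) (hT : T ∈ distTriang D) {Z : D}
    (ψ : T.obj₁ ⟶ Z) (h : T.mor₃ ≫ ψ⟦(1 : ℤ)⟧' = 0) : ∃ φ : T.obj₂ ⟶ Z, ψ = T.mor₁ ≫ φ := by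
  obtain ⟨g, hg⟩ : ∃ g : T.obj₂⟦(1 : ℤ)⟧ ⟶ Z⟦(1 : ℤ)⟧,
      ψ⟦(1 : ℤ)⟧' = (-T.mor₁⟦(1 : ℤ)⟧') ≫ g :=
    Triangle.yoneda_exact₃ T.rotate (rot_of_distTriang T hT) (ψ⟦(1 : ℤ)⟧') h
  refine ⟨-(shiftFunctor D (1 : ℤ)).preimage g, ?_⟩
  apply (shiftFunctor D (1 : ℤ)).map_injective
  rw [Functor.map_comp, Functor.map_neg, Functor.map_preimage, hg, Preadditive.neg_comp,
    Preadditive.comp_neg]

theorem forall_subsingleton_hom_obj₃_iff (T : Triangle D) (hT : T ∈ distTriang D) (Y : D) :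
    (∀ n : ℤ, Subsingleton (T.obj₃ ⟶ Y⟦n⟧)) ↔
      ∀ n : ℤ, Function.Bijective (fun φ : T.obj₂ ⟶ Y⟦n⟧ => T.mor₁ ≫ φ) := by
  constructor
  · intro h n
    constructor
    · intro φ ψ hφψ
      have h0 : T.mor₁ ≫ (φ - ψ) = 0 := by
        rw [Preadditive.comp_sub]; exact sub_eq_zero.mpr hφψ
      obtain ⟨χ, hχ⟩ := Triangle.yoneda_exact₂ T hT (φ - ψ) h0
      rw [(h n).elim χ 0, comp_zero] at hχ
      exact sub_eq_zero.mp hχ
    · intro ψ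
      have h1 : T.mor₃ ≫ ψ⟦(1 : ℤ)⟧' = 0 := by
        let ε := (shiftFunctorAdd' D n 1 (n + 1) rfl).symm.app Y
        rw [← cancel_mono ε.hom, zero_comp]
        exact (h (n + 1)).elim _ _
      obtain ⟨φ, hφ⟩ := exists_of_mor₃_comp_shift_eq_zero T hT ψ h1
      exact ⟨φ, hφ.symm⟩
  · intro h n
    refine ⟨fun χ χ' => ?_⟩
    suffices hz : ∀ χ : T.obj₃ ⟶ Y⟦n⟧, χ = 0 by rw [hz χ, hz χ']
    intro χ
    have h1 : T.mor₂ ≫ χ = 0 := by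
      apply (h n).1
      change T.mor₁ ≫ T.mor₂ ≫ χ = T.mor₁ ≫ 0
      rw [← Category.assoc, comp_distTriang_mor_zero₁₂ _ hT, zero_comp, comp_zero]
    obtain ⟨g, hg⟩ := Triangle.yoneda_exact₃ T hT χ h1
    let ε := (shiftFunctorAdd' D (n - 1) 1 n (by omega)).app Y
    obtain ⟨φ, hφ⟩ := (h (n - 1)).2 ((shiftFunctor D (1 : ℤ)).preimage (g ≫ ε.hom))
    have h2 : g ≫ ε.hom = T.mor₁⟦(1 : ℤ)⟧' ≫ φ⟦(1 : ℤ)⟧' := by
      rw [← Functor.map_comp]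
      have := congrArg (fun x => (shiftFunctor D (1 : ℤ)).map x) hφ
      simp only [Functor.map_preimage] at this
      exact this.symm
    rw [← cancel_mono ε.hom, zero_comp, hg, Category.assoc, h2, ← Category.assoc,
      comp_distTriang_mor_zero₃₁ _ hT, zero_comp]

end Groth.Agent.Lib.Helper35.KL
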