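import Groth.Agent.Lib.Helper35.PALib
import Groth.Agent.Lib.Helper35.TwoTerm
import Groth.Agent.Lib.Helper35.TriYoga

/-! Maps into an injective module placed in degree `0` (helper35). -/

set_option autoImplicit false
set_option linter.unusedSectionVars false
universe u

open CategoryTheory CategoryTheory.Limits DerivedCategory Pretriangulated

attribute [local instance] HasDerivedCategory.standard

namespace Groth.Agent.Lib.Helper35.LDInj

section Tri

variable {D : Type*} [Category D] [Preadditive D] [HasZeroObject D] [HasShift D ℤ]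
  [∀ n : ℤ, (shiftFunctor D n).Additive] [Pretriangulated D]

/-- Precomposition with the first map of a distinguished triangle is bijective on maps into `L`
when the cone has no maps to `L` and `L⟦1⟧`. -/
theorem bijective_precomp_mor₁ (T : Triangle D) (hT : T ∈ distTriang D) (L : D)
    (h0 : Subsingleton (T.obj₃ ⟶ L)) (h1 : Subsingleton (T.obj₃ ⟶ L⟦(1 : ℤ)⟧)) :
    Function.Bijective (fun φ : T.obj₂ ⟶ L => T.mor₁ ≫ φ) := by
  constructor
  · intro φ ψ hφψ
    have h : T.mor₁ ≫ (φ - ψ) = 0 := by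
      rw [Preadditive.comp_sub]
      exact sub_eq_zero.mpr hφψ
    obtain ⟨χ, hχ⟩ := Triangle.yoneda_exact₂ T hT (φ - ψ) h
    rw [h0.elim χ 0] at hχ
    exact sub_eq_zero.mp (hχ.trans comp_zero)
  · intro ψ
    have h : T.mor₃ ≫ ψ⟦(1 : ℤ)⟧' = 0 := h1.elim _ _
    obtain ⟨φ, hφ⟩ := Groth.Agent.Lib.Helper35.KL.exists_of_mor₃_comp_shift_eq_zero T hT ψ h
    exact ⟨φ, hφ.symm⟩

omit [Preadditive D] [HasZeroObject D] [∀ n : ℤ, (shiftFunctor D n).Additive] [Pretriangulated D] in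
lemma subsingleton_shift_right (X Y : D) (n : ℤ) (h : Subsingleton (X⟦-n⟧ ⟶ Y)) :
    Subsingleton (X ⟶ Y⟦n⟧) := by
  refine ⟨fun u v => ?_⟩
  apply (shiftFunctor D (-n)).map_injective
  have h1 : u⟦-n⟧' ≫ (shiftShiftNeg Y n).hom = v⟦-n⟧' ≫ (shiftShiftNeg Y n).hom := h.elim _ _
  exact (cancel_mono _).1 h1

omit [Preadditive D] [HasZeroObject D] [∀ n : ℤ, (shiftFunctor D n).Additive] [Pretriangulated D] in
lemma subsingleton_shift_both (X Y : D) (n : ℤ) (h : Subsingleton (X ⟶ Y)) :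
    Subsingleton (X⟦n⟧ ⟶ Y⟦n⟧) := by
  refine ⟨fun u v => ?_⟩
  obtain ⟨u', rfl⟩ := (shiftFunctor D n).map_surjective u
  obtain ⟨v', rfl⟩ := (shiftFunctor D n).map_surjective v
  rw [h.elim u' v']

end Tri

variable {R : Type u} [CommRing R]

open Groth.Agent.Lib.Helper35.KL

/-- For an injective module `I`, maps `X ⟶ I[0]` in `D(R)` correspond to maps `H⁰(X) ⟶ I`. -/
theorem nonempty_hom_single_injective_equiv (I : ModuleCat.{u} R) [Injective I] (X : Dual.D R) :
    Nonempty ((X ⟶ (singleFunctor (ModuleCat.{u} R) 0).obj I) ≃ₗ[R]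
      ((homologyFunctor (ModuleCat.{u} R) 0).obj X ⟶ I)) := by
  let sI := (singleFunctor (ModuleCat.{u} R) 0).obj I
  let K₁ := (TStructure.t.truncGE 0).obj X
  let S := (TStructure.t.truncLT 1).obj K₁
  have hSL : TStructure.t.IsLE S 0 := TStructure.t.isLE_truncLT_obj K₁ 1 0
  have hSG : TStructure.t.IsGE S 0 := inferInstance
  obtain ⟨H₀, ⟨e⟩⟩ := exists_iso_singleFunctor_obj_of_isGE_of_isLE S 0
  -- first step: `X ⟶ K₁`
  have hT1 := rot_of_distTriang _ (TStructure.t.triangleLTGE_distinguished 0 X)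
  have hY : TStructure.t.IsLE ((TStructure.t.truncLT 0).obj X) (-1) :=
    TStructure.t.isLE_truncLT_obj X 0 (-1)
  have hsI : TStructure.t.IsGE sI 0 := inferInstance
  have h10 : Subsingleton (((TStructure.t.truncLT 0).obj X)⟦(1 : ℤ)⟧ ⟶ sI) := by
    have : TStructure.t.IsLE (((TStructure.t.truncLT 0).obj X)⟦(1 : ℤ)⟧) (-2) :=
      TStructure.t.isLE_shift _ (-1) 1 (-2) (by omega)
    exact ⟨fun u v => (TStructure.t.zero_of_isLE_of_isGE u (-2) 0 (by omega) inferInstance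
      inferInstance).trans (TStructure.t.zero_of_isLE_of_isGE v (-2) 0 (by omega) inferInstance
      inferInstance).symm⟩
  have h11 : Subsingleton (((TStructure.t.truncLT 0).obj X)⟦(1 : ℤ)⟧ ⟶ sI⟦(1 : ℤ)⟧) := by
    apply subsingleton_shift_both
    exact ⟨fun u v => (TStructure.t.zero_of_isLE_of_isGE u (-1) 0 (by omega) inferInstance
      inferInstance).trans (TStructure.t.zero_of_isLE_of_isGE v (-1) 0 (by omega) inferInstance
      inferInstance).symm⟩
  have hb1 : Function.Bijective (fun φ : K₁ ⟶ sI => (TStructure.t.truncGEπ 0).app X ≫ φ) :=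
    bijective_precomp_mor₁ _ hT1 sI h10 h11
  -- second step: `S ⟶ K₁`
  have hT2 := TStructure.t.triangleLTGE_distinguished 1 K₁
  have hZ : TStructure.t.IsGE ((TStructure.t.truncGE 1).obj K₁) 1 := inferInstance
  have h20 : Subsingleton ((TStructure.t.truncGE 1).obj K₁ ⟶ sI) :=
    ⟨fun u v => (hom_to_single_injective_eq_zero (I := I) _ 1 0 (by omega) u).trans
      (hom_to_single_injective_eq_zero (I := I) _ 1 0 (by omega) v).symm⟩
  have h21 : Subsingleton ((TStructure.t.truncGE 1).obj K₁ ⟶ sI⟦(1 : ℤ)⟧) := by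
    apply subsingleton_shift_right
    have : TStructure.t.IsGE (((TStructure.t.truncGE 1).obj K₁)⟦(-1 : ℤ)⟧) 2 :=
      TStructure.t.isGE_shift _ 1 (-1) 2 (by omega)
    exact ⟨fun u v => (hom_to_single_injective_eq_zero (I := I) _ 2 0 (by omega) u).trans
      (hom_to_single_injective_eq_zero (I := I) _ 2 0 (by omega) v).symm⟩
  have hb2 : Function.Bijective (fun φ : K₁ ⟶ sI => (TStructure.t.truncLTι 1).app K₁ ≫ φ) :=
    bijective_precomp_mor₁ _ hT2 sI h20 h21
  -- the equivalences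
  let θ1 : (K₁ ⟶ sI) ≃ₗ[R] (X ⟶ sI) :=
    LinearEquiv.ofBijective (Linear.leftComp R sI ((TStructure.t.truncGEπ 0).app X)) hb1
  let θ2 : (K₁ ⟶ sI) ≃ₗ[R] (S ⟶ sI) :=
    LinearEquiv.ofBijective (Linear.leftComp R sI ((TStructure.t.truncLTι 1).app K₁)) hb2
  let θ3 : (S ⟶ sI) ≃ₗ[R] ((singleFunctor (ModuleCat.{u} R) 0).obj H₀ ⟶ sI) :=
    Linear.homCongr R e (Iso.refl _)
  let θ4 : (H₀ ⟶ I) ≃ₗ[R] ((singleFunctor (ModuleCat.{u} R) 0).obj H₀ ⟶ sI) :=
    LinearEquiv.ofBijective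
      ((singleFunctor (ModuleCat.{u} R) 0).mapLinearMap R)
      ((Functor.FullyFaithful.ofFullyFaithful
        (singleFunctor (ModuleCat.{u} R) 0)).map_bijective _ _)
  -- `H₀ ≅ H⁰(X)`
  have hπ := isIso_homology_map_truncGEπ' X 0 0 le_rfl
  have hι := isIso_homology_map_truncLTι' K₁ 1 0 (by omega)
  let ε : (homologyFunctor (ModuleCat.{u} R) 0).obj X ≅ H₀ :=
    asIso ((homologyFunctor (ModuleCat.{u} R) 0).map ((TStructure.t.truncGEπ 0).app X)) ≪≫
      (asIso ((homologyFunctor (ModuleCat.{u} R) 0).map ((TStructure.t.truncLTι 1).app K₁))).symm ≪≫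
      (homologyFunctor (ModuleCat.{u} R) 0).mapIso e ≪≫
      (singleFunctorCompHomologyFunctorIso (ModuleCat.{u} R) 0).app H₀
  let θ5 : (H₀ ⟶ I) ≃ₗ[R] ((homologyFunctor (ModuleCat.{u} R) 0).obj X ⟶ I) :=
    Linear.homCongr R ε.symm (Iso.refl _)
  exact ⟨θ1.symm.trans (θ2.trans (θ3.trans (θ4.symm.trans θ5)))⟩

end Groth.Agent.Lib.Helper35.LDInj
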