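import Groth.Agent.Lib.Helper35.RHomKInj
import Groth.Agent.Lib.Helper35.RHomCompl

/-! Quasi-isomorphisms between Hom complexes detected on `Hom` groups in `D(A)` (helper35). -/

set_option autoImplicit false
set_option linter.unusedSectionVars false
universe u

open CategoryTheory CategoryTheory.Limits DerivedCategory CochainComplex HomComplex

attribute [local instance] HasDerivedCategory.standard

namespace Groth.Agent.Lib.Helper35.RHomBij

open Groth.Agent.Lib.Helper35.RHomKInj Groth.Agent.Lib.Helper6.ExtCocycle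
  Groth.Agent.Lib.Helper35.RHomCompl

variable {A : Type u} [CommRing A]

section Formal

variable {D : Type*} [Category D]

theorem bijective_postcomp_iso {X Y : D} (e : X ≅ Y) (T : D) :
    Function.Bijective (fun ψ : T ⟶ X => ψ ≫ e.hom) :=
  ⟨fun a b h => (cancel_mono e.hom).1 h, fun a => ⟨a ≫ e.inv, by simp⟩⟩

theorem bijective_postcomp_comp {X Y Z : D} (a : X ⟶ Y) (b : Y ⟶ Z) (T : D)
    (ha : Function.Bijective (fun ψ : T ⟶ X => ψ ≫ a))
    (hb : Function.Bijective (fun ψ : T ⟶ Y => ψ ≫ b)) :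
    Function.Bijective (fun ψ : T ⟶ X => ψ ≫ (a ≫ b)) := by
  have h : (fun ψ : T ⟶ X => ψ ≫ (a ≫ b)) =
      (fun ψ : T ⟶ Y => ψ ≫ b) ∘ (fun ψ : T ⟶ X => ψ ≫ a) := by
    funext ψ
    simp
  rw [h]
  exact hb.comp ha

end Formal

section pre

variable {E E' : DRing.Cx A} (φ : E' ⟶ E) (I : DRing.Cx A) [I.IsKInjective]
  (hφ : ∀ n : ℤ, Function.Bijective (fun e : Q.obj E ⟶ (Q.obj I)⟦n⟧ => Q.map φ ≫ e))

include hφ in
/-- `Hom•(E, I) ⟶ Hom•(E', I)` is a quasi-isomorphism as soon as precomposition with `φ` is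
bijective on maps to all shifts of `I` in `D(A)`. -/
theorem quasiIso_homCxPre_of_bijective : QuasiIso (homCxPre φ I) := by
  apply Groth.Agent.Lib.Helper6.QisCrit.quasiIso_of_elementwise
  · intro n (z' : Cochain E' I n) (hz' : δ n (n + 1) z' = 0)
    let c' : Cocycle E' I n := Cocycle.mk z' (n + 1) rfl hz'
    obtain ⟨e, he⟩ := (hφ n).2 (ext1 E' I n c')
    change Q.map φ ≫ e = _ at he
    obtain ⟨c, hc⟩ := ext1_surjective_inj (F := E) (L := I) (n := n) e
    have h1 : ext1 E' I n (c.precomp φ) = ext1 E' I n c' := by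
      rw [ext1_precomp, hc, he]
    have h2 : ext1 E' I n (c.precomp φ - c') = 0 := by
      rw [ext1_sub', h1, sub_self]
    rw [ext1_eq_zero_iff_inj, mem_coboundaries_iff _ (n - 1) (by omega)] at h2
    obtain ⟨β, hβ⟩ := h2
    exact ⟨c.1, Cocycle.δ_eq_zero c (n + 1), β, hβ.symm⟩
  · intro n (z : Cochain E I n) (hz : δ n (n + 1) z = 0)
    rintro ⟨(w' : Cochain E' I (n - 1)), hw'⟩
    let c : Cocycle E I n := Cocycle.mk z (n + 1) rfl hz
    have h1 : ext1 E' I n (c.precomp φ) = 0 := by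
      rw [ext1_eq_zero_iff_inj, mem_coboundaries_iff _ (n - 1) (by omega)]
      exact ⟨w', hw'.symm⟩
    rw [ext1_precomp] at h1
    have h2 : ext1 E I n c = 0 := by
      apply (hφ n).1
      change Q.map φ ≫ _ = Q.map φ ≫ 0
      rw [h1, comp_zero]
    rw [ext1_eq_zero_iff_inj, mem_coboundaries_iff _ (n - 1) (by omega)] at h2
    obtain ⟨β, hβ⟩ := h2
    exact ⟨β, hβ.symm⟩

end pre

section post

variable (G : DRing.Cx A) {I' I : DRing.Cx A} [I'.IsKInjective] [I.IsKInjective] (β : I' ⟶ I)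
  (hβ : ∀ n : ℤ, Function.Bijective (fun e : Q.obj G ⟶ (Q.obj I')⟦n⟧ => e ≫ (Q.map β)⟦n⟧'))

include hβ in
/-- `Hom•(G, I') ⟶ Hom•(G, I)` is a quasi-isomorphism as soon as postcomposition with `β` is
bijective on maps from `G` to all shifts in `D(A)`. -/
theorem quasiIso_homCxMap_of_bijective : QuasiIso (DRing.homCxMap G β) := by
  apply Groth.Agent.Lib.Helper6.QisCrit.quasiIso_of_elementwise
  · intro n (z' : Cochain G I n) (hz' : δ n (n + 1) z' = 0)
    let c' : Cocycle G I n := Cocycle.mk z' (n + 1) rfl hz'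
    obtain ⟨e, he⟩ := (hβ n).2 (ext1 G I n c')
    change e ≫ _ = _ at he
    obtain ⟨c, hc⟩ := ext1_surjective_inj (F := G) (L := I') (n := n) e
    have h1 : ext1 G I n (c.postcomp β) = ext1 G I n c' := by
      rw [ext1_postcomp, hc, he]
    have h2 : ext1 G I n (c.postcomp β - c') = 0 := by
      rw [ext1_sub', h1, sub_self]
    rw [ext1_eq_zero_iff_inj, mem_coboundaries_iff _ (n - 1) (by omega)] at h2
    obtain ⟨w, hw⟩ := h2
    exact ⟨c.1, Cocycle.δ_eq_zero c (n + 1), w, hw.symm⟩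
  · intro n (z : Cochain G I' n) (hz : δ n (n + 1) z = 0)
    rintro ⟨(w' : Cochain G I (n - 1)), hw'⟩
    let c : Cocycle G I' n := Cocycle.mk z (n + 1) rfl hz
    have h1 : ext1 G I n (c.postcomp β) = 0 := by
      rw [ext1_eq_zero_iff_inj, mem_coboundaries_iff _ (n - 1) (by omega)]
      exact ⟨w', hw'.symm⟩
    rw [ext1_postcomp] at h1
    have h2 : ext1 G I' n c = 0 := by
      apply (hβ n).1
      change _ ≫ (Q.map β)⟦n⟧' = 0 ≫ (Q.map β)⟦n⟧'
      rw [h1, zero_comp]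
    rw [ext1_eq_zero_iff_inj, mem_coboundaries_iff _ (n - 1) (by omega)] at h2
    obtain ⟨w, hw⟩ := h2
    exact ⟨w, hw.symm⟩

end post


section Derived

/-- every object of `D(A)` is represented by a K-injective complex -/
theorem exists_kInj_rep (L : Dual.D A) :
    ∃ (I : DRing.Cx A) (_ : I.IsKInjective), Nonempty (L ≅ Q.obj I) := by
  obtain ⟨I, j, hI, hj⟩ := hasKInjRes A (Q.objPreimage L)
  have h1 : IsIso (Q.map j) := by
    rw [isIso_Q_map_iff_quasiIso]
    exact hj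
  exact ⟨I, hI, ⟨(Q.objObjPreimageIso L).symm ≪≫ asIso (Q.map j)⟩⟩

/-- **contravariant invariance**: if `a : G ⟶ K` in `D(A)` induces bijections on maps to all
shifts of `L`, then `RHom(K, L) ≅ RHom(G, L)`. -/
theorem nonempty_rhom_iso_of_bijective_pre (K G : DRing.Cx A) [DRing.HasRHomCx K]
    [DRing.HasRHomCx G] (a : DRing.toD G ⟶ DRing.toD K) (L : Dual.D A)
    (h : ∀ (L' : Dual.D A), (L ≅ L') → ∀ n : ℤ,
      Function.Bijective (fun e : DRing.toD K ⟶ L'⟦n⟧ => a ≫ e)) :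
    Nonempty ((DRing.RHomCx K).obj L ≅ (DRing.RHomCx G).obj L) := by
  obtain ⟨I, hI, ⟨eL⟩⟩ := exists_kInj_rep L
  obtain ⟨JK, j, hJK, hj⟩ := hasKInjRes A K
  obtain ⟨JG, g, hJG, hg⟩ := hasKInjRes A G
  have hj' : IsIso (Q.map j) := by
    rw [isIso_Q_map_iff_quasiIso]
    exact hj
  have hg' : IsIso (Q.map g) := by
    rw [isIso_Q_map_iff_quasiIso]
    exact hg
  obtain ⟨γ, hγ⟩ := exists_map_eq_inj (F := JG) (Y := JK) (inv (Q.map g) ≫ a ≫ Q.map j)
  have hγb : ∀ n : ℤ, Function.Bijective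
      (fun e : Q.obj JK ⟶ (Q.obj I)⟦n⟧ => Q.map γ ≫ e) := by
    intro n
    rw [hγ]
    have h1 := bijective_precomp_iso (asIso (Q.map g)).symm ((Q.obj I)⟦n⟧)
    have h2 := h (Q.obj I) eL n
    have h3 := bijective_precomp_iso (asIso (Q.map j)) ((Q.obj I)⟦n⟧)
    have h4 := bijective_precomp_comp _ _ _ h1 (bijective_precomp_comp _ _ _ h2 h3)
    simpa using h4
  have q1 : IsIso (Q.map (homCxPre j I)) := by
    rw [isIso_Q_map_iff_quasiIso]
    exact quasiIso_homCxPre j I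
  have q2 : IsIso (Q.map (homCxPre γ I)) := by
    rw [isIso_Q_map_iff_quasiIso]
    exact quasiIso_homCxPre_of_bijective γ I hγb
  have q3 : IsIso (Q.map (homCxPre g I)) := by
    rw [isIso_Q_map_iff_quasiIso]
    exact quasiIso_homCxPre g I
  have u1 := isIso_rhomUnit K I
  have u2 := isIso_rhomUnit G I
  exact ⟨(DRing.RHomCx K).mapIso eL ≪≫ (asIso (rhomUnit K I)).symm ≪≫
    (asIso (Q.map (homCxPre j I))).symm ≪≫ asIso (Q.map (homCxPre γ I)) ≪≫
    asIso (Q.map (homCxPre g I)) ≪≫ asIso (rhomUnit G I) ≪≫ (DRing.RHomCx G).mapIso eL.symm⟩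

/-- **covariant invariance**: if `b : L' ⟶ L` induces bijections on maps from `G` to all shifts,
then `RHom(G, b)` is an isomorphism. -/
theorem isIso_rhom_map_of_bijective (G : DRing.Cx A) [DRing.HasRHomCx G] {L' L : Dual.D A}
    (b : L' ⟶ L)
    (h : ∀ n : ℤ, Function.Bijective (fun e : DRing.toD G ⟶ L'⟦n⟧ => e ≫ b⟦n⟧')) :
    IsIso ((DRing.RHomCx G).map b) := by
  obtain ⟨I', hI', ⟨e'⟩⟩ := exists_kInj_rep L'
  obtain ⟨I, hI, ⟨e⟩⟩ := exists_kInj_rep L
  obtain ⟨β, hβ⟩ := exists_map_eq_inj (F := I') (Y := I) (e'.inv ≫ b ≫ e.hom)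
  have hβb : ∀ n : ℤ, Function.Bijective
      (fun ψ : Q.obj G ⟶ (Q.obj I')⟦n⟧ => ψ ≫ (Q.map β)⟦n⟧') := by
    intro n
    rw [hβ]
    have h1 := bijective_postcomp_iso ((CategoryTheory.shiftFunctor (Dual.D A) n).mapIso e'.symm) (Q.obj G)
    have h2 := h n
    have h3 := bijective_postcomp_iso ((CategoryTheory.shiftFunctor (Dual.D A) n).mapIso e) (Q.obj G)
    have h4 := bijective_postcomp_comp _ _ _ h1 (bijective_postcomp_comp _ _ _ h2 h3)
    simpa using h4
  have q : IsIso (Q.map (DRing.homCxMap G β)) := by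
    rw [isIso_Q_map_iff_quasiIso]
    exact quasiIso_homCxMap_of_bijective G β hβb
  have u1 := isIso_rhomUnit G I'
  have u2 := isIso_rhomUnit G I
  have hnat := rhomUnit_naturality G β
  have h5 : IsIso ((DRing.RHomCx G).map (Q.map β)) := by
    have h6 : (DRing.RHomCx G).map (Q.map β) =
        inv (rhomUnit G I') ≫ Q.map (DRing.homCxMap G β) ≫ rhomUnit G I := by
      rw [hnat, IsIso.inv_hom_id_assoc]
    rw [h6]
    infer_instance
  have h7 : b = e'.hom ≫ Q.map β ≫ e.inv := by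
    rw [hβ]
    simp
  rw [h7, Functor.map_comp, Functor.map_comp]
  infer_instance

end Derived

end Groth.Agent.Lib.Helper35.RHomBij
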