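import Groth.Agent.Lib.Helper35.LDGen
import Groth.Agent.Lib.Helper35.ExtFin
import Groth.Agent.Lib.Helper35.DCNoeth
import Groth.Agent.Lib.Helper35.DComplEx
import Groth.Agent.Lib.Helper6.HomCxH
import Groth.Agent.Lib.Helper6.DqTri
import Groth.Agent.Lib.Helper32.KProjRes

/-! Vanishing of `Hom(M, ω[i])` versus vanishing of local cohomology (helper35). -/

set_option autoImplicit false
set_option linter.unusedSectionVars false
universe u

open CategoryTheory CategoryTheory.Limits DerivedCategory Pretriangulated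

attribute [local instance] HasDerivedCategory.standard

namespace Groth.Agent.Lib.Helper35.LD

open Groth.Agent.Lib.Helper35.Bousfield Groth.Agent.Lib.Helper35.RHomBij
  Groth.Agent.Lib.Helper35.RHomCompl Groth.Agent.Lib.Helper35.RHomKInj

variable {A : Type u} [CommRing A]

/-- `H^i(RHom(P, L)) ≃ Hom_{D(A)}(P, L[i])`. -/
theorem nonempty_homology_rhom_equiv (P : DRing.Cx A) [DRing.HasRHomCx P] (L : Dual.D A) (i : ℤ) :
    Nonempty (Dual.HD A ((DRing.RHomCx P).obj L) i ≃ₗ[A] (DRing.toD P ⟶ L⟦i⟧)) := by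
  obtain ⟨I, hI, ⟨eL⟩⟩ := exists_kInj_rep L
  have u := isIso_rhomUnit P I
  let e1 : Dual.HD A ((DRing.RHomCx P).obj L) i ≃ₗ[A] Dual.HD A (Q.obj (DRing.homCx P I)) i :=
    ((DerivedCategory.homologyFunctor (ModuleCat.{u} A) i).mapIso
      ((DRing.RHomCx P).mapIso eL ≪≫ (asIso (rhomUnit P I)).symm)).toLinearEquiv
  let e2 := Groth.Agent.Lib.Helper6.Bidual.hdQEquiv (DRing.homCx P I) i
  let e3 := Groth.Agent.Lib.Helper6.HomCxH.homologyEquiv P I i
  let e4 : (Q.obj P ⟶ (Q.obj I : Dual.D A)⟦i⟧) ≃ₗ[A] (DRing.toD P ⟶ L⟦i⟧) :=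
    Linear.homCongr A (Iso.refl _) ((CategoryTheory.shiftFunctor (Dual.D A) i).mapIso eL.symm)
  exact ⟨e1 ≪≫ₗ e2 ≪≫ₗ e3 ≪≫ₗ e4⟩

/-- `RHom(P, -)` exists for `P` K-projective. -/
theorem hasRHomCx_of_isKProjective (P : DRing.Cx A) [P.IsKProjective] : DRing.HasRHomCx P := by
  have := Functor.hasPointwiseRightDerivedFunctor_of_inverts (DRing.homCxQ P)
    (Groth.Agent.Lib.Helper6.RHomKProj.isInvertedBy_homCxQ P)
  infer_instance

/-- For a finite module over a Noetherian local ring, the completion vanishes iff the module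
does. -/
theorem subsingleton_adicCompletion_iff [IsLocalRing A] [IsNoetherianRing A] (N : Type u)
    [AddCommGroup N] [Module A N] [Module.Finite A N] :
    Subsingleton (AdicCompletion (IsLocalRing.maximalIdeal A) N) ↔ Subsingleton N := by
  constructor
  · intro h
    exact (AdicCompletion.of_injective (I := IsLocalRing.maximalIdeal A) (M := N)).subsingleton
  · intro h
    refine ⟨fun x y => ?_⟩
    apply AdicCompletion.ext
    intro n
    exact Subsingleton.elim _ _


section Main

variable [IsLocalRing A] [IsNoetherianRing A]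
  (ω : Dual.D A) (hω : Dual.IsDualizing A ω) (hn : Dual.IsNormalized A ω)
  [DRing.HasRgammaI (IsLocalRing.maximalIdeal A)]

include hω in
theorem hasFiniteInjDim_of_isDualizing : DRing.HasFiniteInjDim A ω := by
  obtain ⟨I, a, b, hv, hinj, hK, ⟨ι⟩⟩ := Groth.Agent.Lib.Helper6.DqTri.exists_model ω hω
  exact ⟨a, b, I, hv, fun n => Module.injective_module_of_injective_object (R := A) (M := I.X n),
    ⟨ι.symm⟩⟩

include hω hn in
/-- **Local duality, vanishing form**: for `M` with finite cohomology modules over a Noetherian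
local ring with normalized dualizing complex `ω`, `Hom(M, ω[i]) = 0` iff `H^{-i}(RΓ_m M) = 0`. -/
theorem subsingleton_hom_dualizing_iff (M : Dual.D A)
    (hfin : ∀ i : ℤ, Module.Finite A (Dual.HD A M i)) (i : ℤ) :
    Subsingleton (M ⟶ ω⟦i⟧) ↔
      Subsingleton (Dual.HD A ((DRing.RgammaI (IsLocalRing.maximalIdeal A)).obj M) (-i)) := by
  obtain ⟨E, _, _, f, hf⟩ := exists_injectiveHull_residueField A
  have hFG : (IsLocalRing.maximalIdeal A).FG :=
    (isNoetherianRing_iff_ideal_fg A).1 inferInstance _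
  haveI := Groth.Agent.Lib.Helper35.DCE.hasDerivedCompletion_of_fg (IsLocalRing.maximalIdeal A) hFG
  obtain ⟨P, p, hP, hp⟩ :=
    Groth.Agent.Lib.Helper32.KProjRes.exists_kProjective_resolution_moduleCat (R := A) (Q.objPreimage M)
  haveI := hP
  have hp' : IsIso (Q.map p) := by
    rw [isIso_Q_map_iff_quasiIso]
    exact hp
  let eP : DRing.toD P ≅ M := asIso (Q.map p) ≪≫ Q.objObjPreimageIso M
  haveI := hasRHomCx_of_isKProjective P
  set Λ := ((DRing.derivedCompletion (IsLocalRing.maximalIdeal A)).obj ω).obj with hΛ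
  have hΛc : DRing.IsDerivedComplete (IsLocalRing.maximalIdeal A) Λ :=
    ((DRing.derivedCompletion (IsLocalRing.maximalIdeal A)).obj ω).property
  obtain ⟨hc1, hc2⟩ := RHomCompl.main P (IsLocalRing.maximalIdeal A) hFG ω
  set T := (DRing.RHomCx P).obj ω with hT
  obtain ⟨e1, -⟩ := Groth.Agent.Lib.Helper35.CechCompl.exists_iso_of_reflections
    (DRing.IsDerivedComplete (IsLocalRing.maximalIdeal A))
    (DRing.toDerivedCompletion (IsLocalRing.maximalIdeal A) T)
    ((DRing.RHomCx P).map (DRing.toDerivedCompletion (IsLocalRing.maximalIdeal A) ω))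
    ((DRing.derivedCompletion (IsLocalRing.maximalIdeal A)).obj T).property hc1
    (fun L hL => Bousfield.bijective_precomp_unit
      (DRing.derivedCompletionAdj (IsLocalRing.maximalIdeal A)) T L hL)
    hc2
  have hinj := hasFiniteInjDim_of_isDualizing ω hω
  have hfinP : ∀ j : ℤ, Module.Finite A
      ((DerivedCategory.homologyFunctor (ModuleCat.{u} A) j).obj (DRing.toD P)) := by
    intro j
    haveI := hfin j
    exact Module.Finite.equiv
      ((DerivedCategory.homologyFunctor (ModuleCat.{u} A) j).mapIso eP).symm.toLinearEquiv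
  have hfinT : ∀ j : ℤ, Module.Finite A
      ((DerivedCategory.homologyFunctor (ModuleCat.{u} A) j).obj T) := by
    intro j
    obtain ⟨e⟩ := nonempty_homology_rhom_equiv P ω j
    haveI := Groth.Agent.Lib.Helper35.KL.finite_hom_shift (DRing.toD P) ω hfinP
      hω.finite_cohomology hinj j
    exact Module.Finite.equiv e.symm
  obtain ⟨ec, -⟩ := Groth.Agent.Lib.Helper35.DCNoeth.exists_equiv (IsLocalRing.maximalIdeal A) T
    hfinT i
  obtain ⟨a1⟩ := nonempty_homology_rhom_equiv P ω i
  obtain ⟨a2⟩ := nonempty_homology_rhom_equiv P Λ i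
  obtain ⟨e4⟩ := Groth.Agent.Lib.Helper35.GM.nonempty_iso_Rgamma_completion
    (IsLocalRing.maximalIdeal A) ω
  obtain ⟨e5⟩ := nonempty_Rgamma_dualizing_iso ω hω hn f hf
  haveI : Module.Injective A E := hf.isInjective
  obtain ⟨a3⟩ := nonempty_hom_equiv_of_complete (IsLocalRing.maximalIdeal A) Λ hΛc E
    (e4 ≪≫ e5) M i
  haveI := hfinT i
  calc Subsingleton (M ⟶ ω⟦i⟧)
      ↔ Subsingleton (DRing.toD P ⟶ ω⟦i⟧) :=
        (Linear.homCongr A eP.symm (Iso.refl (ω⟦i⟧))).toEquiv.subsingleton_congr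
    _ ↔ Subsingleton (Dual.HD A T i) := a1.toEquiv.subsingleton_congr.symm
    _ ↔ Subsingleton (AdicCompletion (IsLocalRing.maximalIdeal A) (Dual.HD A T i)) :=
        (subsingleton_adicCompletion_iff _).symm
    _ ↔ Subsingleton (Dual.HD A
          ((DRing.derivedCompletion (IsLocalRing.maximalIdeal A)).obj T).obj i) :=
        ec.toEquiv.subsingleton_congr.symm
    _ ↔ Subsingleton (Dual.HD A ((DRing.RHomCx P).obj Λ) i) :=
        ((DerivedCategory.homologyFunctor (ModuleCat.{u} A) i).mapIso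
          e1).toLinearEquiv.toEquiv.subsingleton_congr
    _ ↔ Subsingleton (DRing.toD P ⟶ Λ⟦i⟧) := a2.toEquiv.subsingleton_congr
    _ ↔ Subsingleton (M ⟶ Λ⟦i⟧) :=
        (Linear.homCongr A eP (Iso.refl (Λ⟦i⟧))).toEquiv.subsingleton_congr
    _ ↔ Subsingleton (Dual.HD A ((DRing.RgammaI (IsLocalRing.maximalIdeal A)).obj M) (-i)
          →ₗ[A] E) := a3.toEquiv.subsingleton_congr
    _ ↔ Subsingleton (Dual.HD A ((DRing.RgammaI (IsLocalRing.maximalIdeal A)).obj M) (-i)) :=
        subsingleton_hom_injHull_iff f hf _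

end Main

end Groth.Agent.Lib.Helper35.LD
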