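import Mathlib
import Groth.Agent.Lib.Helper35.ProjAmp
import Groth.Agent.Lib.Helper35.IndRep
import Groth.Agent.Lib.Helper35.ConeRep
import Groth.Agent.Lib.Helper35.KLHeart
import Groth.Agent.Lib.Helper35.TriYoga
import Groth.Agent.Lib.Helper35.TwoTerm
import Groth.Agent.Lib.Helper6.TriLadder
import Groth.Agent.Lib.Helper6.HtpyExt
import Groth.Agent.Lib.Helper6.SeqColim

/-! Port of helper6's resolution machine (`MPC.Cond`, `Resol1`, `Resol2`) to modules over a
not necessarily commutative ring (helper35). -/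

set_option autoImplicit false
universe w' v' u' u

open CategoryTheory Limits Pretriangulated DerivedCategory ZeroObject CochainComplex

namespace Groth.Agent.Lib.Helper35
namespace NCResol

attribute [local instance] HasDerivedCategory.standard

variable {R : Type u} [Ring R]

/-- the derived category of left `R`-modules. -/
abbrev DR (R : Type u) [Ring R] : Type (u + 1) := DerivedCategory (ModuleCat.{u} R)

/-- cochain complexes of `R`-modules. -/
abbrev CxR (R : Type u) [Ring R] : Type (u + 1) := CochainComplex (ModuleCat.{u} R) ℤ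

open Groth.Agent.Lib.Helper35.KL Groth.Agent.Lib.Helper6

/-- `f` induces isomorphisms on `H^i` for `i > m` and an epimorphism on `H^m`. -/
def Cond (m : ℤ) {X Y : DR R} (f : X ⟶ Y) : Prop :=
  (∀ i : ℤ, m < i → IsIso ((homologyFunctor (ModuleCat.{u} R) i).map f)) ∧
    Epi ((homologyFunctor (ModuleCat.{u} R) m).map f)

section Cond

variable {X Y Z : DR R}

lemma Cond.epi {m : ℤ} {f : X ⟶ Y} (hf : Cond m f) (i : ℤ) (hi : m ≤ i) :
    Epi ((homologyFunctor (ModuleCat.{u} R) i).map f) := by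
  by_cases h : i = m
  · subst h; exact hf.2
  · have := hf.1 i (by omega); infer_instance

lemma Cond.of_le {m m' : ℤ} (h : m ≤ m') {f : X ⟶ Y} (hf : Cond m f) : Cond m' f :=
  ⟨fun i hi => hf.1 i (by omega), hf.epi m' h⟩

lemma cond_of_isIso (m : ℤ) (f : X ⟶ Y) [IsIso f] : Cond m f :=
  ⟨fun _ _ => inferInstance, inferInstance⟩

lemma Cond.comp {m : ℤ} {f : X ⟶ Y} {g : Y ⟶ Z} (hf : Cond m f) (hg : Cond m g) :
    Cond m (f ≫ g) := by
  constructor
  · intro i hi
    have := hf.1 i hi
    have := hg.1 i hi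
    rw [Functor.map_comp]
    infer_instance
  · have := hf.2
    have := hg.2
    rw [Functor.map_comp]
    infer_instance

lemma cond_of_isZero (m : ℤ) (f : X ⟶ Y) (hX : IsZero X) [Y.IsLE (m - 1)] : Cond m f := by
  have hY : ∀ i : ℤ, m ≤ i → IsZero ((homologyFunctor (ModuleCat.{u} R) i).obj Y) := fun i hi =>
    DerivedCategory.isZero_of_isLE Y (m - 1) i (by omega)
  have hX' : ∀ i : ℤ, IsZero ((homologyFunctor (ModuleCat.{u} R) i).obj X) := fun i =>
    (homologyFunctor (ModuleCat.{u} R) i).map_isZero hX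
  constructor
  · intro i hi
    exact ⟨⟨0, (hX' i).eq_of_src _ _, (hY i hi.le).eq_of_src _ _⟩⟩
  · exact ⟨fun _ _ _ => (hY m le_rfl).eq_of_src _ _⟩

/-- Cone criterion. -/
lemma cond_iff_isLE (T : Triangle (DR R)) (hT : T ∈ distTriang _) (m : ℤ) :
    Cond m T.mor₁ ↔ T.obj₃.IsLE (m - 1) := by
  constructor
  · rintro ⟨hiso, hepi⟩
    rw [DerivedCategory.isLE_iff]
    intro i hi
    have hepi' : Epi ((homologyFunctor (ModuleCat.{u} R) i).map T.mor₁) :=
      Cond.epi ⟨hiso, hepi⟩ i (by omega)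
    have hmono : Mono ((homologyFunctor (ModuleCat.{u} R) (i + 1)).map T.mor₁) := by
      have := hiso (i + 1) (by omega); infer_instance
    have h2 : (homologyFunctor (ModuleCat.{u} R) i).map T.mor₂ = 0 :=
      (HomologySequence.epi_homologyMap_mor₁_iff _ hT i).1 hepi'
    have h3 : HomologySequence.δ T i (i + 1) rfl = 0 :=
      (HomologySequence.mono_homologyMap_mor₁_iff _ hT i (i + 1) rfl).1 hmono
    have hex := HomologySequence.exact₃ _ hT i (i + 1) rfl
    exact hex.isZero_of_both_zeros h2 h3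
  · intro hC
    have hz : ∀ i : ℤ, m ≤ i → IsZero ((homologyFunctor (ModuleCat.{u} R) i).obj T.obj₃) :=
      fun i hi => DerivedCategory.isZero_of_isLE T.obj₃ (m - 1) i (by omega)
    have hepi : ∀ i : ℤ, m ≤ i → Epi ((homologyFunctor (ModuleCat.{u} R) i).map T.mor₁) :=
      fun i hi => (HomologySequence.epi_homologyMap_mor₁_iff _ hT i).2 ((hz i hi).eq_of_tgt _ _)
    have hmono : ∀ i : ℤ, m < i → Mono ((homologyFunctor (ModuleCat.{u} R) i).map T.mor₁) :=
      fun i hi => (HomologySequence.mono_homologyMap_mor₁_iff _ hT (i - 1) i (by omega)).2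
        ((hz (i - 1) (by omega)).eq_of_src _ _)
    refine ⟨fun i hi => ?_, hepi m le_rfl⟩
    have := hepi i hi.le
    have := hmono i hi
    exact isIso_of_mono_of_epi _

lemma Cond.shift {m : ℤ} {f : X ⟶ Y} (hf : Cond m f) (n m' : ℤ) (h : m' + n = m) :
    Cond m' (f⟦n⟧') := by
  have key : ∀ i i' : ℤ, n + i = i' →
      (Arrow.mk ((homologyFunctor (ModuleCat.{u} R) i).map (f⟦n⟧')) ≅
        Arrow.mk ((homologyFunctor (ModuleCat.{u} R) i').map f)) := fun i i' hi =>
    Arrow.isoMk (((homologyFunctor (ModuleCat.{u} R) 0).shiftIso n i i' hi).app X)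
      (((homologyFunctor (ModuleCat.{u} R) 0).shiftIso n i i' hi).app Y)
      (((homologyFunctor (ModuleCat.{u} R) 0).shiftIso n i i' hi).hom.naturality f).symm
  constructor
  · intro i hi
    have := hf.1 (n + i) (by omega)
    exact ((MorphismProperty.isomorphisms _).arrow_iso_iff (key i (n + i) rfl)).2 this
  · have := hf.2
    exact ((MorphismProperty.epimorphisms _).arrow_iso_iff (key m' m (by omega))).2 this

/-- The ladder lemma: in a morphism of distinguished triangles. -/
lemma Cond.hom₃ {T T' : Triangle (DR R)} (hT : T ∈ distTriang _) (hT' : T' ∈ distTriang _)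
    (φ : T ⟶ T') (m : ℤ) (h₁ : Cond (m + 1) φ.hom₁) (h₂ : Cond m φ.hom₂) : Cond m φ.hom₃ := by
  constructor
  · intro i hi
    have e1 : Epi ((homologyFunctor (ModuleCat.{u} R) i).map φ.hom₁) := h₁.epi i (by omega)
    have e2 : IsIso ((homologyFunctor (ModuleCat.{u} R) i).map φ.hom₂) := h₂.1 i hi
    have e3 : IsIso ((homologyFunctor (ModuleCat.{u} R) (i + 1)).map φ.hom₁) :=
      h₁.1 (i + 1) (by omega)
    have e4 : Mono ((homologyFunctor (ModuleCat.{u} R) (i + 1)).map φ.hom₂) := by
      have := h₂.1 (i + 1) (by omega); infer_instance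
    exact TriLadder.isIso_hom₃ (homologyFunctor (ModuleCat.{u} R) 0) hT hT' φ i (i + 1) rfl
      e1 e2 e3 e4
  · have e2 : Epi ((homologyFunctor (ModuleCat.{u} R) m).map φ.hom₂) := h₂.2
    have e3 : Epi ((homologyFunctor (ModuleCat.{u} R) (m + 1)).map φ.hom₁) := h₁.2
    have e4 : Mono ((homologyFunctor (ModuleCat.{u} R) (m + 1)).map φ.hom₂) := by
      have := h₂.1 (m + 1) (by omega); infer_instance
    exact TriLadder.epi_hom₃ (homologyFunctor (ModuleCat.{u} R) 0) hT hT' φ m (m + 1) rfl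
      e2 e3 e4

end Cond

/-- The terms of a mapping cone of complexes of modules. -/
noncomputable def mcXLinearEquiv {E₁ E₂ : CxR R}
    (f : E₁ ⟶ E₂) (i : ℤ) : (mappingCone f).X i ≃ₗ[R] (E₁.X (i + 1) × E₂.X i) :=
  ((HomologicalComplex.homotopyCofiber.XIsoBiprod f i (i + 1) rfl) ≪≫
    ModuleCat.biprodIsoProd _ _).toLinearEquiv

theorem isKProjective_of_vanishesAbove' (E : CxR R) (b : ℤ) (hb : ∀ i : ℤ, b < i → IsZero (E.X i))
    (hE : ∀ i : ℤ, Module.Projective R (E.X i)) : E.IsKProjective := by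
  have h1 : E.IsStrictlyLE b := by
    rw [isStrictlyLE_iff]
    exact hb
  have h2 : ∀ n : ℤ, Projective (E.X n) := fun n =>
    (IsProjective.iff_projective (R := R) (P := E.X n)).mp (hE n)
  exact isKProjective_of_projective E b


/-- In a morphism of distinguished triangles, the middle map inherits `Cond m` from the outer
ones. -/
lemma Cond.hom₂ {T T' : Triangle (DR R)} (hT : T ∈ distTriang _) (hT' : T' ∈ distTriang _)
    (Φ : T ⟶ T') (m : ℤ) (h₁ : Cond m Φ.hom₁) (h₃ : Cond m Φ.hom₃) : Cond m Φ.hom₂ :=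
  Cond.hom₃ (inv_rot_of_distTriang _ hT) (inv_rot_of_distTriang _ hT')
    ((invRotate (DR R)).map Φ) m (h₃.shift (-1) (m + 1) (by omega)) h₁

section General

variable {C : Type u'} [Category.{v'} C] [Abelian C] [HasDerivedCategory.{w'} C]

theorem nonempty_homotopy_of_Q_map_eq {E₁ E₂ : CochainComplex C ℤ} [E₁.IsKProjective]
    (f g : E₁ ⟶ E₂) (h : (Q.map f : Q.obj E₁ ⟶ Q.obj E₂) = Q.map g) : Nonempty (Homotopy f g) := by
  have h1 := quotientCompQhIso_hom_naturality f
  have h2 := quotientCompQhIso_hom_naturality g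
  rw [h] at h1
  have h3 : Qh.map ((HomotopyCategory.quotient C (ComplexShape.up ℤ)).map f) =
      Qh.map ((HomotopyCategory.quotient C (ComplexShape.up ℤ)).map g) := by
    rw [← cancel_mono ((quotientCompQhIso C).hom.app E₂)]
    exact h1.trans h2.symm
  have h4 := (IsKProjective.Qh_map_bijective E₁
    ((HomotopyCategory.quotient C (ComplexShape.up ℤ)).obj E₂)).1 h3
  exact ⟨HomotopyCategory.homotopyOfEq _ _ h4⟩

theorem Q_map_eq_of_homotopy {E₁ E₂ : CochainComplex C ℤ} (f g : E₁ ⟶ E₂) (h : Homotopy f g) :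
    (Q.map f : Q.obj E₁ ⟶ Q.obj E₂) = Q.map g := by
  have h1 := quotientCompQhIso_hom_naturality f
  have h2 := quotientCompQhIso_hom_naturality g
  rw [HomotopyCategory.eq_of_homotopy f g h] at h1
  rw [← cancel_epi ((quotientCompQhIso C).hom.app E₁)]
  exact h1.symm.trans h2

end General

/-- A projective cover of the top cohomology lifts to a map from the module placed in the top
degree, and the cone of this map is one degree lower. -/
theorem exists_cond_map_of_epi (C : DR R) (t : ℤ) [C.IsLE t] (F : ModuleCat.{u} R)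
    [Projective F] (f : F ⟶ (homologyFunctor (ModuleCat.{u} R) t).obj C) [Epi f] :
    ∃ ψ : (DerivedCategory.singleFunctor (ModuleCat.{u} R) t).obj F ⟶ C, Cond t ψ := by
  have hT := TStructure.t.triangleLTGE_distinguished t C
  have hZG : TStructure.t.IsGE ((TStructure.t.truncGE t).obj C) t := inferInstance
  have hZL : TStructure.t.IsLE ((TStructure.t.truncGE t).obj C) t := inferInstance
  obtain ⟨H, ⟨e0⟩⟩ := exists_iso_singleFunctor_obj_of_isGE_of_isLE
    ((TStructure.t.truncGE t).obj C) t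
  have hiso0 := isIso_homology_map_truncGEπ' C t t le_rfl
  let i0 : (homologyFunctor (ModuleCat.{u} R) t).obj C ≅ H :=
    asIso ((homologyFunctor (ModuleCat.{u} R) t).map ((TStructure.t.truncGEπ t).app C)) ≪≫
      (homologyFunctor (ModuleCat.{u} R) t).mapIso e0 ≪≫
      (DerivedCategory.singleFunctorCompHomologyFunctorIso (ModuleCat.{u} R) t).app H
  let S := (DerivedCategory.singleFunctor (ModuleCat.{u} R) t).obj F
  have h1 : TStructure.t.IsLE ((TStructure.t.triangleLTGE t).obj C).obj₁ (t - 1) :=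
    TStructure.t.isLE_truncLT_obj C t (t - 1)
  have h2 : TStructure.t.IsLE (((TStructure.t.triangleLTGE t).obj C).obj₁⟦(1 : ℤ)⟧) (t - 2) :=
    TStructure.t.isLE_shift _ (t - 1) 1 (t - 2)
  have hbij := postcomp_mor₂_bijective _ hT S
    (fun φ => hom_single_projective_eq_zero _ (t - 1) t (by omega) φ)
    (fun φ => hom_single_projective_eq_zero _ (t - 2) t (by omega) φ)
  let ψ₀ : S ⟶ (TStructure.t.truncGE t).obj C :=
    (DerivedCategory.singleFunctor (ModuleCat.{u} R) t).map (f ≫ i0.hom) ≫ e0.inv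
  obtain ⟨ψ, hψ⟩ : ∃ ψ : S ⟶ C, ψ ≫ (TStructure.t.truncGEπ t).app C = ψ₀ := hbij.2 ψ₀
  refine ⟨ψ, fun i hi => ?_, ?_⟩
  · have hS : IsZero ((homologyFunctor (ModuleCat.{u} R) i).obj S) :=
      DerivedCategory.isZero_of_isLE S t i hi
    have hC : IsZero ((homologyFunctor (ModuleCat.{u} R) i).obj C) :=
      DerivedCategory.isZero_of_isLE C t i hi
    exact ⟨⟨0, hS.eq_of_src _ _, hC.eq_of_src _ _⟩⟩
  · have hepi0 : Epi ((homologyFunctor (ModuleCat.{u} R) t).map ψ₀) := by
      let e := DerivedCategory.singleFunctorCompHomologyFunctorIso (ModuleCat.{u} R) t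
      have h3 : (homologyFunctor (ModuleCat.{u} R) t).map
          ((DerivedCategory.singleFunctor (ModuleCat.{u} R) t).map (f ≫ i0.hom)) =
          e.hom.app F ≫ (f ≫ i0.hom) ≫ e.inv.app H := by
        have := e.hom.naturality (f ≫ i0.hom)
        simp only [Functor.comp_map, Functor.id_map] at this
        rw [← Category.assoc, ← this, Category.assoc, Iso.hom_inv_id_app, Category.comp_id]
      dsimp only [ψ₀]
      rw [Functor.map_comp, h3]
      infer_instance
    have h4 : (homologyFunctor (ModuleCat.{u} R) t).map ψ =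
        (homologyFunctor (ModuleCat.{u} R) t).map ψ₀ ≫
          inv ((homologyFunctor (ModuleCat.{u} R) t).map ((TStructure.t.truncGEπ t).app C)) := by
      rw [← hψ, Functor.map_comp]
      simp
    rw [h4]
    infer_instance

/-- One step of the construction: add a projective module in degree `t`. -/
theorem step (K₀ E : CxR R) (a : E ⟶ K₀) (t b : ℤ)
    (hv : ∀ i : ℤ, (i ≤ t ∨ b < i) → IsZero (E.X i))
    (hproj : ∀ i : ℤ, Module.Projective R (E.X i))
    (F : ModuleCat.{u} R) [Module.Projective R F]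
    (C : DR R) (p : Q.obj K₀ ⟶ C) (q : C ⟶ (Q.obj E)⟦(1 : ℤ)⟧)
    (hT : Triangle.mk (Q.map a) p q ∈ distTriang _) [C.IsLE t]
    (f : F ⟶ (homologyFunctor (ModuleCat.{u} R) t).obj C) [Epi f] :
    ∃ (φ : (HomologicalComplex.single (ModuleCat.{u} R) (ComplexShape.up ℤ) (t + 1)).obj F ⟶ E)
      (a' : mappingCone φ ⟶ K₀), mappingCone.inr φ ≫ a' = a ∧ Cond t (Q.map a') := by
  have hF : Projective F := (IsProjective.iff_projective (R := R) (P := F)).mp inferInstance
  obtain ⟨ψ, hψ⟩ := exists_cond_map_of_epi C t F f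
  let G : CxR R :=
    (HomologicalComplex.single (ModuleCat.{u} R) (ComplexShape.up ℤ) (t + 1)).obj F
  let eZ : (Q.obj G)⟦(1 : ℤ)⟧ ≅ (DerivedCategory.singleFunctor (ModuleCat.{u} R) t).obj F :=
    (CategoryTheory.shiftFunctor (DR R) (1 : ℤ)).mapIso
        ((DerivedCategory.singleFunctorIsoCompQ (ModuleCat.{u} R) (t + 1)).app F).symm ≪≫
      ((DerivedCategory.singleFunctors (ModuleCat.{u} R)).shiftIso 1 t (t + 1) (by omega)).app F
  let ψ' : (Q.obj G)⟦(1 : ℤ)⟧ ⟶ C := eZ.hom ≫ ψ
  have hψ' : Cond t ψ' := (cond_of_isIso t eZ.hom).comp hψ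
  obtain ⟨g, hg⟩ : ∃ g : Q.obj G ⟶ Q.obj E, g⟦(1 : ℤ)⟧' = -(ψ' ≫ q) :=
    ⟨(CategoryTheory.shiftFunctor (DR R) (1 : ℤ)).preimage (-(ψ' ≫ q)), Functor.map_preimage _ _⟩
  have hGK : G.IsKProjective := isKProjective_of_vanishesAbove' G (t + 1)
    (fun i hi => HomologicalComplex.isZero_single_obj_X _ _ _ _ (by omega)) (fun i => by
      by_cases hi : i = t + 1
      · subst hi
        exact Module.Projective.of_equiv
          (HomologicalComplex.singleObjXSelf (ComplexShape.up ℤ) (t + 1) F).toLinearEquiv.symm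
      · have hz : IsZero (G.X i) := HomologicalComplex.isZero_single_obj_X _ _ _ _ hi
        have := ModuleCat.subsingleton_of_isZero hz
        infer_instance)
  obtain ⟨φ, hφ⟩ := exists_Q_map_eq_of_isKProjective G E g
  have hT₁ : (Q.mapTriangle.obj (mappingCone.triangle φ)).rotate ∈ distTriang _ :=
    rot_of_distTriang _ (mappingCone_triangle_distinguished φ)
  have comm : (Q.mapTriangle.obj (mappingCone.triangle φ)).rotate.mor₃ ≫
      (𝟙 (Q.obj E))⟦(1 : ℤ)⟧' = ψ' ≫ (Triangle.mk (Q.map a) p q).mor₃ := by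
    change (-((Q.map φ)⟦(1 : ℤ)⟧')) ≫ (𝟙 (Q.obj E))⟦(1 : ℤ)⟧' = ψ' ≫ q
    rw [CategoryTheory.Functor.map_id, Category.comp_id, hφ, hg, neg_neg]
  obtain ⟨α', hα'₁, hα'₂⟩ := complete_distinguished_triangle_morphism₂ _ _ hT₁ hT
    (𝟙 (Q.obj E)) ψ' comm
  let Φ : (Q.mapTriangle.obj (mappingCone.triangle φ)).rotate ⟶ Triangle.mk (Q.map a) p q :=
    Triangle.homMk _ _ (𝟙 (Q.obj E)) α' ψ' hα'₁ hα'₂ comm
  have hα' : Cond t α' := Cond.hom₂ hT₁ hT Φ t (cond_of_isIso t (𝟙 (Q.obj E))) hψ'
  have hEK : E.IsKProjective := isKProjective_of_vanishesAbove' E b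
    (fun i hi => hv i (Or.inr hi)) hproj
  have hE'K : (mappingCone φ).IsKProjective := by
    refine isKProjective_of_vanishesAbove' _ (max b t) (fun i hi => ?_) (fun i => ?_)
    · rw [mappingCone.isZero_X_iff]
      exact ⟨HomologicalComplex.isZero_single_obj_X _ _ _ _ (by omega), hv i (Or.inr (by omega))⟩
    · have h1 : Module.Projective R (G.X (i + 1)) := by
        by_cases hi : i + 1 = t + 1
        · rw [hi]
          exact Module.Projective.of_equiv
            (HomologicalComplex.singleObjXSelf (ComplexShape.up ℤ) (t + 1) F).toLinearEquiv.symm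
        · have hz : IsZero (G.X (i + 1)) := HomologicalComplex.isZero_single_obj_X _ _ _ _ hi
          have := ModuleCat.subsingleton_of_isZero hz
          infer_instance
      have h2 := hproj i
      exact Module.Projective.of_equiv (mcXLinearEquiv φ i).symm
  obtain ⟨a₀, ha₀⟩ := exists_Q_map_eq_of_isKProjective (mappingCone φ) K₀ α'
  have hQ : (Q.map (mappingCone.inr φ ≫ a₀) : Q.obj E ⟶ Q.obj K₀) = Q.map a := by
    rw [Functor.map_comp, ha₀]
    exact hα'₁.trans (Category.id_comp _)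
  obtain ⟨h⟩ := nonempty_homotopy_of_Q_map_eq (mappingCone.inr φ ≫ a₀) a hQ
  obtain ⟨a', ha', ⟨h'⟩⟩ := HtpyExt.exists_strict_extension φ a a₀ h
  refine ⟨φ, a', ha', ?_⟩
  rw [Q_map_eq_of_homotopy a' a₀ h', ha₀]
  exact hα'


end NCResol
end Groth.Agent.Lib.Helper35
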