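import Groth.Agent.Lib.Helper35.TwoTermCx
import Groth.Prelude.Def_LCI2

/-! The two-term cotangent complex of an extension, up to homotopy equivalence independent of
the extension (helper35). -/

set_option autoImplicit false
universe u
open CategoryTheory CategoryTheory.Limits
attribute [local instance] HasDerivedCategory.standard

namespace Groth.Agent.Lib.Helper35.NLC

open Groth.Agent.Lib.Helper35.TT Algebra

variable {R S : Type u} [CommRing R] [CommRing S] [Algebra R S]

/-- the two-term cotangent complex of an extension. -/
noncomputable abbrev nlCx (P : Extension.{u} R S) : DRing.Cx S :=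
  dbl (ModuleCat.ofHom P.cotangentComplex)

variable {P P' : Extension.{u} R S}

lemma nl_comm (f : P.Hom P') :
    ModuleCat.ofHom (Extension.Cotangent.map f) ≫ ModuleCat.ofHom P'.cotangentComplex =
      ModuleCat.ofHom P.cotangentComplex ≫ ModuleCat.ofHom (Extension.CotangentSpace.map f) := by
  ext x
  exact (Extension.CotangentSpace.map_cotangentComplex f x).symm

/-- the map of cotangent complexes induced by a map of extensions. -/
noncomputable def nlMap (f : P.Hom P') : nlCx P ⟶ nlCx P' :=
  dmap (ModuleCat.ofHom (Extension.Cotangent.map f))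
    (ModuleCat.ofHom (Extension.CotangentSpace.map f)) (nl_comm f)

/-- two maps of extensions induce homotopic maps. -/
noncomputable def nlHomotopy (f g : P.Hom P') : Homotopy (nlMap f) (nlMap g) :=
  dhomotopy _ _ _ _ (nl_comm f) (nl_comm g) (ModuleCat.ofHom (f.sub g))
    (by
      have := Extension.Cotangent.map_sub_map f g
      rw [← ModuleCat.ofHom_comp, ← ModuleCat.ofHom_add, ← this, sub_add_cancel])
    (by
      have := Extension.CotangentSpace.map_sub_map f g
      have h2 : (P'.cotangentComplex.restrictScalars S) = P'.cotangentComplex := rfl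
      rw [h2] at this
      rw [← ModuleCat.ofHom_comp, ← ModuleCat.ofHom_add, ← this]
      congr 1
      ext x
      simp)

lemma nlMap_id : nlMap (Extension.Hom.id P) = 𝟙 (nlCx P) := by
  unfold nlMap
  simp only [Extension.Cotangent.map_id, Extension.CotangentSpace.map_id]
  exact dmap_id

lemma nlMap_comp {P'' : Extension.{u} R S} (f : P.Hom P') (g : P'.Hom P'') :
    nlMap (g.comp f) = nlMap f ≫ nlMap g := by
  unfold nlMap
  rw [dmap_comp]
  congr 1
  · rw [← ModuleCat.ofHom_comp, Extension.Cotangent.map_comp]
    rfl
  · rw [← ModuleCat.ofHom_comp, Extension.CotangentSpace.map_comp]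
    rfl

/-- maps of extensions in both directions give a homotopy equivalence. -/
noncomputable def nlHomotopyEquiv (f : P.Hom P') (g : P'.Hom P) :
    HomotopyEquiv (nlCx P) (nlCx P') where
  hom := nlMap f
  inv := nlMap g
  homotopyHomInvId := (Homotopy.ofEq (nlMap_comp f g).symm).trans
    ((nlHomotopy (g.comp f) (Extension.Hom.id P)).trans (Homotopy.ofEq nlMap_id))
  homotopyInvHomId := (Homotopy.ofEq (nlMap_comp g f).symm).trans
    ((nlHomotopy (f.comp g) (Extension.Hom.id P')).trans (Homotopy.ofEq nlMap_id))

/-- homotopy equivalent complexes are isomorphic in the derived category. -/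
theorem nonempty_toD_iso_of_homotopyEquiv {K L : DRing.Cx S} (e : HomotopyEquiv K L) :
    Nonempty (DRing.toD K ≅ DRing.toD L) :=
  ⟨(DerivedCategory.quotientCompQhIso (ModuleCat.{u} S)).symm.app K ≪≫
    DerivedCategory.Qh.mapIso (HomotopyCategory.isoOfHomotopyEquiv e) ≪≫
    (DerivedCategory.quotientCompQhIso (ModuleCat.{u} S)).app L⟩

theorem nonempty_toD_nlCx_iso (f : P.Hom P') (g : P'.Hom P) :
    Nonempty (DRing.toD (nlCx P) ≅ DRing.toD (nlCx P')) :=
  nonempty_toD_iso_of_homotopyEquiv (nlHomotopyEquiv f g)

/-- The prelude's naive cotangent complex is the two-term cotangent complex of any presentation,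
up to isomorphism in the derived category. -/
theorem nonempty_NL_iso {ι : Type} (G : Generators R S ι) :
    Nonempty (LCI.NL R S ≅ DRing.toD (nlCx G.toExtension)) :=
  nonempty_toD_nlCx_iso ((Generators.self R S).defaultHom G).toExtensionHom
    (G.defaultHom (Generators.self R S)).toExtensionHom

end Groth.Agent.Lib.Helper35.NLC
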