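import Mathlib
import Groth.Agent.S7224

set_option autoImplicit false
universe u

open CategoryTheory CategoryTheory.Limits TensorProduct
attribute [local instance] HasDerivedCategory.standard

namespace Groth.Agent.Lib.Helper35.NLFB

section tch

variable (R : Type*) {S : Type*} [CommRing R] [CommRing S] [Algebra R S]
variable (T : Type*) [CommRing T] [Algebra R T] (I : Ideal S)

/-- the quotient map `S/I² → S/I`, `R`-linear. -/
noncomputable def sqToQuot : (S ⧸ I ^ 2) →ₗ[R] (S ⧸ I) :=
  (Ideal.Quotient.factorₐ R (Ideal.pow_le_self (two_ne_zero))).toLinearMap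

lemma sqToQuot_mk (x : S) : sqToQuot R I (Ideal.Quotient.mk (I ^ 2) x) = Ideal.Quotient.mk I x := rfl

lemma sqToQuot_surjective : Function.Surjective (sqToQuot R I) := by
  intro y
  obtain ⟨x, rfl⟩ := Ideal.Quotient.mk_surjective y
  exact ⟨Ideal.Quotient.mk (I ^ 2) x, rfl⟩

lemma exact_cotangent_sqToQuot :
    Function.Exact (I.cotangentToQuotientSquare.restrictScalars R) (sqToQuot R I) := by
  intro y
  obtain ⟨x, rfl⟩ := Ideal.Quotient.mk_surjective y
  rw [sqToQuot_mk, Ideal.Quotient.eq_zero_iff_mem]
  constructor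
  · intro hx
    exact ⟨I.toCotangent ⟨x, hx⟩, rfl⟩
  · rintro ⟨c, hc⟩
    obtain ⟨⟨z, hz⟩, rfl⟩ := I.toCotangent_surjective c
    have h1 : (Ideal.Quotient.mk (I ^ 2)) z = (Ideal.Quotient.mk (I ^ 2)) x := hc
    rw [Ideal.Quotient.eq] at h1
    have h2 : z - x ∈ I := Ideal.pow_le_self two_ne_zero h1
    have : x = z - (z - x) := by ring
    rw [this]
    exact I.sub_mem hz h2

set_option backward.isDefEq.respectTransparency.types false in
set_option backward.defeqAttrib.useBackward true in
/-- If `S/I` is a flat `R`-module, the canonical map `tensorCotangentHom R T I` is injective. -/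
lemma tensorCotangentHom_injective_of_flat_quotient [Module.Flat R (S ⧸ I)] :
    Function.Injective (I.tensorCotangentHom R T) := by
  let a : S →+* T ⊗[R] S := Algebra.TensorProduct.includeRight.toRingHom
  let f : (I.map a).Cotangent →ₗ[T] T ⊗[R] S ⧸ (I.map a) ^ 2 :=
    (Ideal.cotangentToQuotientSquare _).restrictScalars T
  suffices h : Function.Injective (f ∘ₗ Ideal.tensorCotangentHom R T I) from .of_comp h
  let g : T ⊗[R] I.Cotangent →ₗ[T] T ⊗[R] (S ⧸ I ^ 2) :=
    AlgebraTensorModule.lTensor T T I.cotangentToQuotientSquare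
  let hₐ : T ⊗[R] (S ⧸ I ^ 2) ≃ₐ[T] T ⊗[R] S ⧸ (I.map a) ^ 2 :=
    (Algebra.TensorProduct.tensorQuotientEquiv _ _ _ _).trans
      (Ideal.quotientEquivAlgOfEq T (Ideal.map_pow _ _ _))
  have : f ∘ₗ Ideal.tensorCotangentHom R T I = hₐ.toLinearMap ∘ₗ g := by
    ext x
    obtain ⟨x, rfl⟩ := I.toCotangent_surjective x
    dsimp [f, g, hₐ]
    rw [Ideal.tensorCotangentHom_tmul, one_smul, Ideal.toCotangent_to_quotient_square]
    simp
  rw [this, LinearMap.coe_comp]
  apply hₐ.injective.comp
  exact LinearMap.lTensor_injective_of_exact_of_flat (sqToQuot R I) (sqToQuot_surjective R I)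
    (I.cotangentToQuotientSquare.restrictScalars R) (Ideal.cotangentToQuotientSquare_injective I)
    (exact_cotangent_sqToQuot R I) T

end tch


open Algebra Algebra.Extension

section inj

variable {R S R' S' : Type u} [CommRing R] [CommRing S] [CommRing R'] [CommRing S']
  [Algebra R S] [Algebra R' S'] [Algebra R R'] [Algebra S S'] [Algebra R S']
  [IsScalarTower R R' S'] [IsScalarTower R S S'] [Algebra.IsPushout R R' S S'] [Module.Flat R S]
  (P : Algebra.Extension.{u} R S) (P' : Algebra.Extension.{u} R' S') (f : P.Hom P')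
  (α : R' ⊗[R] P.Ring ≃ₐ[R'] P'.Ring) (hα : ∀ x : P.Ring, α ((1 : R') ⊗ₜ[R] x) = f.toRingHom x)
  (hker : P'.ker ≤ Ideal.map f.toRingHom P.ker)

include hα hker in
theorem lift_cotangent_injective_gen :
    Function.Injective (LinearMap.liftBaseChange S' (Algebra.Extension.Cotangent.map f)) := by
  classical
  let a : P.Ring →+* R' ⊗[R] P.Ring :=
    (Algebra.TensorProduct.includeRight : P.Ring →ₐ[R] R' ⊗[R] P.Ring).toRingHom
  let Ie : Ideal (R' ⊗[R] P.Ring) := P.ker.map a
  have hα1 : Ie ≤ P'.ker.comap α.toAlgHom := by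
    rw [Ideal.map_le_iff_le_comap]
    intro x hx
    show α (a x) ∈ P'.ker
    have h1 : a x = (1 : R') ⊗ₜ[R] x := rfl
    rw [h1, hα]
    show algebraMap P'.Ring S' (f.toRingHom x) = 0
    rw [f.algebraMap_toRingHom, show algebraMap P.Ring S x = 0 from hx, map_zero]
  have hα2 : P'.ker ≤ Ie.comap α.symm.toAlgHom := by
    refine hker.trans ?_
    rw [Ideal.map_le_iff_le_comap]
    intro x hx
    show α.symm (f.toRingHom x) ∈ Ie
    rw [← hα, AlgEquiv.symm_apply_apply]
    exact Ideal.mem_map_of_mem a hx
  let τ := Ideal.tensorCotangentHom R R' P.ker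
  have hflatq : Module.Flat R (P.Ring ⧸ P.ker) := by
    have e : (P.Ring ⧸ P.ker) ≃ₐ[R] S :=
      Ideal.quotientKerAlgEquivOfSurjective (f := IsScalarTower.toAlgHom R P.Ring S)
        P.algebraMap_surjective
    exact Module.Flat.of_linearEquiv e.toLinearEquiv
  have hτ : Function.Injective τ := tensorCotangentHom_injective_of_flat_quotient R R' P.ker
  let μ := Ideal.mapCotangent Ie P'.ker α.toAlgHom hα1
  let ν := Ideal.mapCotangent P'.ker Ie α.symm.toAlgHom hα2
  have hνμ : ∀ y, ν (μ y) = y := by
    intro y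
    obtain ⟨y, rfl⟩ := Ideal.toCotangent_surjective _ y
    rw [Ideal.mapCotangent_toCotangent, Ideal.mapCotangent_toCotangent]
    congr 1
    exact Subtype.ext (α.symm_apply_apply y.1)
  have hμ : Function.Injective μ := Function.LeftInverse.injective hνμ
  let e := Algebra.IsPushout.cancelBaseChange R R' S S' P.Cotangent
  let κ : R' ⊗[R] P.Cotangent ≃ₗ[R'] R' ⊗[R] P.ker.Cotangent :=
    TensorProduct.AlgebraTensorModule.congr (LinearEquiv.refl R' R')
      (P.cotangentEquivCotangentKer.restrictScalars R)
  have key : ∀ z : R' ⊗[R] P.Cotangent, Algebra.Extension.Cotangent.of (μ (τ (κ z))) =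
      LinearMap.liftBaseChange S' (Algebra.Extension.Cotangent.map f) (e.symm z) := by
    intro z
    induction z using TensorProduct.induction_on with
    | zero =>
      rw [map_zero, map_zero, map_zero, map_zero, map_zero]
      rfl
    | tmul r m =>
      obtain ⟨x, rfl⟩ := Algebra.Extension.Cotangent.mk_surjective m
      rw [Algebra.IsPushout.cancelBaseChange_symm_tmul, LinearMap.liftBaseChange_tmul,
        Algebra.Extension.Cotangent.map_mk]
      have h1 : κ (r ⊗ₜ Algebra.Extension.Cotangent.mk x) = r ⊗ₜ P.ker.toCotangent x := rfl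
      rw [h1, Ideal.tensorCotangentHom_tmul, map_smul, Ideal.mapCotangent_toCotangent]
      apply Algebra.Extension.Cotangent.ext
      rw [algebraMap_smul, Algebra.Extension.Cotangent.val_smul'',
        Algebra.Extension.Cotangent.val_mk]
      show r • _ = r • _
      congr 2
      exact Subtype.ext (hα x.1)
    | add a b ha hb =>
      rw [map_add, map_add, map_add, map_add, map_add, ← ha, ← hb]
      rfl
  rw [injective_iff_map_eq_zero]
  intro t ht
  have h1 := key (e t)
  rw [LinearEquiv.symm_apply_apply, ht] at h1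
  have h2 : μ (τ (κ (e t))) = 0 := h1
  have h3 : τ (κ (e t)) = 0 := hμ (h2.trans (map_zero μ).symm)
  have h4 : κ (e t) = 0 := hτ (h3.trans (map_zero τ).symm)
  have h5 : e t = 0 := κ.injective (h4.trans (map_zero κ).symm)
  exact e.injective (h5.trans (map_zero e).symm)

end inj

section part1

variable {R S R' S' : Type u} [CommRing R] [CommRing S] [CommRing R'] [CommRing S']
  [Algebra R S] [Algebra R' S'] [Algebra R R'] [Algebra S S'] [Algebra R S']
  [IsScalarTower R R' S'] [IsScalarTower R S S'] [Algebra.IsPushout R R' S S'] [Module.Flat R S]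
  {ι : Type u} (G : Algebra.Generators R S ι) (G' : Algebra.Generators R' S' ι)
  (h : ∀ i, G'.val i = algebraMap S S' (G.val i))

omit [Module.Flat R S] in
include h in
lemma ker_le_map' : G'.toExtension.ker ≤
    Ideal.map (NLCx.sameVarsHom G G' h).toExtensionHom.toRingHom G.toExtension.ker := by
  intro y hy
  have hy0 : MvPolynomial.aeval G'.val (y : MvPolynomial ι R') = 0 :=
    (G'.algebraMap_apply y).symm.trans hy
  have h1 := Groth.Agent.S7221.ker_le_map G G' h y hy0
  have h2 : Ideal.map (MvPolynomial.map (algebraMap R R'))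
      (RingHom.ker (MvPolynomial.aeval G.val : MvPolynomial ι R →ₐ[R] S)) ≤
      Ideal.map (NLCx.sameVarsHom G G' h).toExtensionHom.toRingHom G.toExtension.ker := by
    refine Ideal.map_le_iff_le_comap.mpr ?_
    intro x hx
    have hx' : algebraMap G.toExtension.Ring S x = 0 := (G.algebraMap_apply x).trans hx
    have e := Groth.Agent.S7221.sameVars_toRingHom G G' h x
    have h3 : (NLCx.sameVarsHom G G' h).toExtensionHom.toRingHom x ∈
        Ideal.map (NLCx.sameVarsHom G G' h).toExtensionHom.toRingHom G.toExtension.ker :=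
      Ideal.mem_map_of_mem _ hx'
    rw [e] at h3
    exact h3
  exact h2 h1

include h in
theorem lift_cotangent_bijective :
    Function.Bijective (LinearMap.liftBaseChange S' (Algebra.Extension.Cotangent.map
      (NLCx.sameVarsHom G G' h).toExtensionHom)) := by
  refine ⟨?_, Groth.Agent.S7221.lift_cotangent_surjective G G' h⟩
  refine lift_cotangent_injective_gen G.toExtension G'.toExtension
    (NLCx.sameVarsHom G G' h).toExtensionHom (MvPolynomial.algebraTensorAlgEquiv (σ := ι) R R') ?_
    (ker_le_map' G G' h)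
  intro x
  rw [Groth.Agent.S7221.sameVars_toRingHom]
  exact (MvPolynomial.algebraTensorAlgEquiv_tmul R R' (1 : R') (x : MvPolynomial ι R)).trans
    (one_smul _ _)

include h in
theorem part1 : IsIso (NLCx.bcMap (S' := S') (NLCx.sameVarsHom G G' h).toExtensionHom) := by
  have h1 := lift_cotangent_bijective G G' h
  have h0 := Groth.Agent.S7221.lift_cotangentSpace_bijective G G' h
  unfold NLCx.bcMap
  refine Groth.Agent.S7225.isIso_mkHomFromDouble _ _ _ _ _ _ ?_ ?_ ?_
  · exact @IsIso.comp_isIso _ _ _ _ _ _ _ ((ConcreteCategory.isIso_iff_bijective _).mpr h1) (Iso.isIso_inv _)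
  · exact @IsIso.comp_isIso _ _ _ _ _ _ _ ((ConcreteCategory.isIso_iff_bijective _).mpr h0) (Iso.isIso_inv _)
  · intro k hk0 hk1
    exact HomologicalComplex.isZero_double_X _ _ k hk0 hk1

end part1

section part2

open HomologicalComplex Groth.Agent.S7221 Groth.Agent.S7224

variable (R S R' S' : Type u) [CommRing R] [CommRing S] [CommRing R'] [CommRing S']
  [Algebra R S] [Algebra R' S'] [Algebra R R'] [Algebra S S'] [Algebra R S']
  [IsScalarTower R R' S'] [IsScalarTower R S S'] [Algebra.IsPushout R R' S S'] [Module.Flat R S]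

theorem part2 : ∃ e : HomotopyEquiv (NLCx.bcCx (Algebra.Generators.self R S).toExtension S')
      (NLCx.cx (Algebra.Generators.self R' S').toExtension),
      e.hom = NLCx.bcMapSelf R S R' S' := by
  haveI := part1 (Algebra.Generators.self R S) (Gmid R S R' S') (Gmid_val R S R' S')
  refine ⟨(HomotopyEquiv.ofIso (asIso (NLCx.bcMap (S' := S')
    (NLCx.sameVarsHom (Algebra.Generators.self R S) (Gmid R S R' S')
      (Gmid_val R S R' S')).toExtensionHom))).trans
    (homotopyEquivOfHoms (gHom R S R' S').toExtensionHom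
      (Algebra.Generators.defaultHom (Algebra.Generators.self R' S')
        (Gmid R S R' S')).toExtensionHom), ?_⟩
  exact (bcMap_factor R S R' S').symm

theorem quasiIso_bcMapSelf : QuasiIso (NLCx.bcMapSelf R S R' S') := by
  obtain ⟨e, he⟩ := part2 R S R' S'
  rw [← he]
  exact e.quasiIso_hom

end part2

end Groth.Agent.Lib.Helper35.NLFB
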