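import Mathlib
import Groth.Prelude.Def_DRing2
import Groth.Agent.Lib.Helper35.TADev
import Groth.Agent.Lib.Helper35.TorDim

/-! Flatness of the degree `-1` term of a two-term complex of tor amplitude `[-1, 0]` (helper35). -/

set_option autoImplicit false
universe u

open CategoryTheory Limits Pretriangulated DerivedCategory ZeroObject CochainComplex
  HomologicalComplex

namespace Groth.Agent.Lib.Helper35.TA

attribute [local instance] HasDerivedCategory.standard

variable {R : Type u} [CommRing R]

/-- A complex concentrated in degree `n` of tor amplitude `[a, b]` with `n ≤ a` has a flat term. -/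
theorem flat_X_of_TAmp_concentrated (C : DRing.Cx R) (n : ℤ) [C.IsStrictlyGE n] [C.IsStrictlyLE n]
    (a b : ℤ) (han : n ≤ a) (h : TAmp a b (DRing.toD C)) : Module.Flat R (C.X n) := by
  obtain ⟨M', ⟨e'⟩⟩ := C.exists_iso_single n
  let eX : C.X n ≅ M' := (HomologicalComplex.eval _ _ n).mapIso e' ≪≫
    HomologicalComplex.singleObjXSelf (ComplexShape.up ℤ) n M'
  have h1 : TAmp a b ((DerivedCategory.singleFunctor (ModuleCat.{u} R) n).obj M') :=
    h.of_iso (Q.mapIso e' ≪≫ ((DerivedCategory.singleFunctorIsoCompQ (ModuleCat.{u} R) n).app M').symm)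
  have h2 : TAmp (a - n) (b - n) ((DerivedCategory.singleFunctor (ModuleCat.{u} R) 0).obj M') :=
    (h1.shift n).of_iso
      (((DerivedCategory.singleFunctors (ModuleCat.{u} R)).shiftIso n 0 n (by omega)).app M')
  have h3 : TAmp 0 (max 0 (b - n)) ((DerivedCategory.singleFunctor (ModuleCat.{u} R) 0).obj M') :=
    h2.mono (by omega) (le_max_right _ _)
  have h4 : TAmp 0 0 ((DerivedCategory.singleFunctor (ModuleCat.{u} R) 0).obj M') := h3.of_isLE
  have hM' : Module.Flat R M' := flat_of_TAmp_zero M' h4
  exact Module.Flat.of_linearEquiv eX.toLinearEquiv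

/-- If a complex concentrated in degrees `[-1, 0]` with flat degree `0` term has tor amplitude in
`[-1, 0]`, then its degree `-1` term is flat. -/
theorem flat_of_twoTerm_TAmp (K : DRing.Cx R) (hK : DRing.VanishesOutside K (-1) 0)
    (h0 : Module.Flat R (K.X 0)) (h : TAmp (-1) 0 (DRing.toD K)) : Module.Flat R (K.X (-1)) := by
  let b : ℤ := 0
  let ι : (HomologicalComplex.single (ModuleCat.{u} R) (ComplexShape.up ℤ) b).obj (K.X b) ⟶ K :=
    mkHomFromSingle (𝟙 (K.X b)) (fun k hk => by
      have hk' : b + 1 = k := hk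
      exact (hK k (Or.inr (by omega))).eq_of_tgt _ _)
  have hιb : ι.f b = (singleObjXSelf (ComplexShape.up ℤ) b (K.X b)).hom ≫ 𝟙 (K.X b) :=
    mkHomFromSingle_f _ _
  have hιiso : IsIso (ι.f b) := by
    rw [hιb]
    infer_instance
  have hmono : Mono ι := mono_of_mono_f ι (fun i => by
    by_cases hi : i = b
    · subst hi
      infer_instance
    · exact (isZero_single_obj_X (ComplexShape.up ℤ) b (K.X b) i hi).mono _)
  let S : ShortComplex (DRing.Cx R) := ShortComplex.mk ι (cokernel.π ι) (cokernel.condition ι)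
  have hS : S.ShortExact := { exact := ShortComplex.exact_cokernel ι }
  have hSi := (shortExact_iff_degreewise_shortExact S).mp hS
  have hCb : IsZero ((cokernel ι).X b) := ((hSi b).isIso_f_iff).mp hιiso
  have hCi : ∀ i : ℤ, i ≠ b → IsIso ((cokernel.π ι).f i) := fun i hi =>
    ((hSi i).isIso_g_iff).mpr (isZero_single_obj_X (ComplexShape.up ℤ) b (K.X b) i hi)
  have hC : ∀ i : ℤ, i ≠ -1 → IsZero ((cokernel ι).X i) := by
    intro i hi
    by_cases hib : i = b
    · subst hib
      exact hCb
    · have := hCi i hib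
      exact (hK i (by omega)).of_iso (asIso ((cokernel.π ι).f i)).symm
  have hGE : CochainComplex.IsStrictlyGE (cokernel ι) (-1) := by
    rw [CochainComplex.isStrictlyGE_iff]
    exact fun i hi => hC i (by omega)
  have hLE : CochainComplex.IsStrictlyLE (cokernel ι) (-1) := by
    rw [CochainComplex.isStrictlyLE_iff]
    exact fun i hi => hC i (by omega)
  have hT := triangleOfSES_distinguished hS
  have h₁ : TAmp (-1 + 1) (0 + 1) (triangleOfSES hS).obj₁ := by
    have h00 : TAmp 0 0 ((DerivedCategory.singleFunctor (ModuleCat.{u} R) 0).obj (K.X 0)) :=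
      TAmp_zero_of_flat (K.X 0)
    exact (h00.of_iso ((DerivedCategory.singleFunctorIsoCompQ (ModuleCat.{u} R) 0).app (K.X 0))).mono
      (by omega) (by omega)
  have h₃ : TAmp (-1) 0 (DRing.toD (cokernel ι)) := TAmp.obj₃ _ hT (-1) 0 h₁ h
  have hfl : Module.Flat R ((cokernel ι).X (-1)) :=
    flat_X_of_TAmp_concentrated (cokernel ι) (-1) (-1) 0 le_rfl h₃
  have := hCi (-1) (by decide)
  exact Module.Flat.of_linearEquiv (asIso ((cokernel.π ι).f (-1))).toLinearEquiv

end Groth.Agent.Lib.Helper35.TA
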