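import Mathlib
import Groth.Agent.Lib.Helper35.NLFlatBC
import Groth.Agent.Lib.Helper35.TwoTermFlat
import Groth.Agent.Lib.Helper35.FlatLBC
import Groth.Agent.Lib.Helper35.FlatBC

/-! Derived base change of the naive cotangent complex of a flat ring map (helper35). -/

set_option autoImplicit false
universe u

open CategoryTheory CategoryTheory.Limits TensorProduct HomologicalComplex
attribute [local instance] HasDerivedCategory.standard

namespace Groth.Agent.Lib.Helper35.NLFB

open Groth.Agent.Lib.Helper35.FlatBC Groth.Agent.Lib.Helper35.TA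

section nat

variable {A : Type u} [CommRing A] (B : Type u) [CommRing B] [Algebra A B]
  {M N : Type u} [AddCommGroup M] [Module A M] [AddCommGroup N] [Module A N] (d : M →ₗ[A] N)

/-- naturality of `extObjIso`. -/
lemma extObjIso_naturality :
    (ext A B).map (ModuleCat.ofHom d) ≫ (extObjIso (A := A) B N).hom =
      (extObjIso (A := A) B M).hom ≫ ModuleCat.ofHom (d.baseChange B) := by
  apply ModuleCat.ExtendScalars.hom_ext
  intro m
  rfl

lemma extObjIso_inv_naturality :
    (extObjIso (A := A) B M).inv ≫ (ext A B).map (ModuleCat.ofHom d) =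
      ModuleCat.ofHom (d.baseChange B) ≫ (extObjIso (A := A) B N).inv := by
  rw [Iso.inv_comp_eq, ← Category.assoc, Iso.eq_comp_inv]
  exact extObjIso_naturality B d

end nat

section cxiso

variable {R S : Type u} [CommRing R] [CommRing S] [Algebra R S] (P : Algebra.Extension.{u} R S)
  (S' : Type u) [CommRing S'] [Algebra S S']

lemma relNegOne : (ComplexShape.up ℤ).Rel (-1) 0 := by simp

lemma bcToExt_comm :
    ((extObjIso (A := S) S' P.Cotangent).inv ≫
      (ext S S').map (doubleXIso₀ (ModuleCat.ofHom P.cotangentComplex) relNegOne).inv) ≫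
      (ext S S').map ((HomologicalComplex.double (ModuleCat.ofHom P.cotangentComplex)
        relNegOne).d (-1) 0) =
    ModuleCat.ofHom (P.cotangentComplex.baseChange S') ≫
      ((extObjIso (A := S) S' P.CotangentSpace).inv ≫
      (ext S S').map (doubleXIso₁ (ModuleCat.ofHom P.cotangentComplex) relNegOne
        (by decide)).inv) := by
  rw [HomologicalComplex.double_d _ _ (by decide), Category.assoc, ← Functor.map_comp,
    Iso.inv_hom_id_assoc, Functor.map_comp, ← Category.assoc, extObjIso_inv_naturality,
    Category.assoc]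

/-- comparison `NL(P) ⊗_S S' → S' ⊗ NL(P)` (termwise extension of scalars). -/
noncomputable def bcToExt : NLCx.bcCx P S' ⟶
    (extCx S S').obj (HomologicalComplex.double (ModuleCat.ofHom P.cotangentComplex) relNegOne) :=
  HomologicalComplex.mkHomFromDouble _ (by decide)
    ((extObjIso (A := S) S' P.Cotangent).inv ≫
      (ext S S').map (doubleXIso₀ (ModuleCat.ofHom P.cotangentComplex) relNegOne).inv)
    ((extObjIso (A := S) S' P.CotangentSpace).inv ≫
      (ext S S').map (doubleXIso₁ (ModuleCat.ofHom P.cotangentComplex) relNegOne (by decide)).inv)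
    (bcToExt_comm P S')
    (fun k hk => ((ext S S').map_isZero (HomologicalComplex.isZero_double_X _ _ k
      (by simp at hk; omega) (by simp at hk; omega))).eq_of_tgt _ _)

instance isIso_bcToExt : IsIso (bcToExt P S') := by
  unfold bcToExt
  refine Groth.Agent.S7225.isIso_mkHomFromDouble _ _ _ _ _ _ ?_ ?_ ?_
  · exact IsIso.comp_isIso' (Iso.isIso_inv _) (Functor.map_isIso _ _)
  · exact IsIso.comp_isIso' (Iso.isIso_inv _) (Functor.map_isIso _ _)
  · intro k hk0 hk1
    exact (ext S S').map_isZero (HomologicalComplex.isZero_double_X _ _ k hk0 hk1)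

end cxiso

section main

variable (R S R' S' : Type u) [CommRing R] [CommRing S] [CommRing R'] [CommRing S']
  [Algebra R S] [Algebra R' S'] [Algebra R R'] [Algebra S S'] [Algebra R S']
  [IsScalarTower R R' S'] [IsScalarTower R S S'] [Algebra.IsPushout R R' S S'] [Module.Flat R S]

omit [Algebra.IsPushout R R' S S'] [Module.Flat R S] in
theorem flat_NLcx_X (h : DRing.HasTorAmplitudeIn S (-1) 0 (LCI.NL R S)) (i : ℤ) :
    Module.Flat S ((LCI.NLcx R S).X i) := by
  have hv : DRing.VanishesOutside (LCI.NLcx R S) (-1) 0 := fun k hk =>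
    HomologicalComplex.isZero_double_X _ _ k (by omega) (by omega)
  have h0 : Module.Flat S ((LCI.NLcx R S).X 0) :=
    Module.Flat.of_linearEquiv
      (doubleXIso₁ (ModuleCat.ofHom (Algebra.Generators.self R S).toExtension.cotangentComplex)
        relNegOne (by decide)).toLinearEquiv
  by_cases hi0 : i = 0
  · subst hi0
    exact h0
  · by_cases hi1 : i = -1
    · subst hi1
      exact flat_of_twoTerm_TAmp (LCI.NLcx R S) hv h0 h
    · have hz : IsZero ((LCI.NLcx R S).X i) := HomologicalComplex.isZero_double_X _ _ i hi1 hi0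
      have := ModuleCat.subsingleton_of_isZero hz
      infer_instance

theorem nonempty_lbc_NL_iso (h : DRing.HasTorAmplitudeIn S (-1) 0 (LCI.NL R S))
    [DRing.HasLBaseChange (algebraMap S S')] :
    Nonempty ((DRing.LBaseChange (algebraMap S S')).obj (LCI.NL R S) ≅ LCI.NL R' S') := by
  have hv : DRing.VanishesAbove (LCI.NLcx R S) 0 := fun k hk =>
    HomologicalComplex.isZero_double_X _ _ k (by omega) (by omega)
  obtain ⟨e1⟩ := nonempty_lbc_iso_of_flat (algebraMap S S') (LCI.NLcx R S) 0 hv
    (flat_NLcx_X R S h)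
  have hq : QuasiIso (NLCx.bcMapSelf R S R' S') := quasiIso_bcMapSelf R S R' S'
  have hiso : IsIso (DerivedCategory.Q.map (NLCx.bcMapSelf R S R' S')) := by
    rw [DerivedCategory.isIso_Q_map_iff_quasiIso]
    exact hq
  exact ⟨e1 ≪≫ (DerivedCategory.Q.mapIso
      (asIso (bcToExt (Algebra.Generators.self R S).toExtension S'))).symm ≪≫
    @asIso _ _ _ _ (DerivedCategory.Q.map (NLCx.bcMapSelf R S R' S')) hiso⟩

end main

end Groth.Agent.Lib.Helper35.NLFB

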