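import Groth.Agent.Lib.Helper35.NilTA2
import Groth.Agent.Lib.Helper6.LBCPC
import Groth.Agent.Lib.Helper6.Descent
import Groth.Agent.Lib.Helper35.PerfDescent
import Groth.Agent.Lib.Helper35.PCRes

/-! Pseudo-coherence and nilpotent thickenings (helper35). -/

set_option autoImplicit false
set_option linter.unusedSectionVars false
universe u
open CategoryTheory CategoryTheory.Limits MonoidalCategory DerivedCategory CochainComplex
  TensorProduct Pretriangulated
attribute [local instance] HasDerivedCategory.standard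

namespace Groth.Agent.Lib.Helper35.TA

open Groth.Agent.Lib.Helper32.KProjDerived Groth.Agent.Lib.Helper32.LBC
open Groth.Agent.Lib.Helper6 Groth.Agent.Lib.Helper6.MPC

section Descent

variable {R : Type u} [CommRing R] {R' : Type u} [CommRing R']
  (F : Dual.D R ⥤ Dual.D R') [F.CommShift ℤ] [F.IsTriangulated]

/-- hypotheses for descent of pseudo-coherence along one functor (variant of helper6's
`PCDescent.Hyp` where finiteness is only required for top cohomology). -/
structure Hyp1 : Prop where
  isLE : ∀ (K : Dual.D R) (t : ℤ), K.IsLE t → (F.obj K).IsLE t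
  isLE_of : ∀ (K : Dual.D R) (t : ℤ), (F.obj K).IsLE t → K.IsLE t
  finite : ∀ (K : Dual.D R) (t : ℤ), K.IsLE t →
    Module.Finite R' ((homologyFunctor (ModuleCat.{u} R') t).obj (F.obj K)) →
      Module.Finite R ((homologyFunctor (ModuleCat.{u} R) t).obj K)
  free : ∀ (t : ℤ) (r : ℕ) (m : ℤ), DRing.IsPseudoCoherent R' m
    (F.obj ((DerivedCategory.singleFunctor (ModuleCat.{u} R) t).obj
      (ModuleCat.of R (Fin r → R))))

variable {F}

theorem descent1_aux (H : Hyp1 F) (n : ℕ) :
    ∀ (K : Dual.D R) (t m : ℤ), t - m + 1 ≤ n → K.IsLE t →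
      DRing.IsPseudoCoherent R' m (F.obj K) → DRing.IsPseudoCoherent R m K := by
  induction n with
  | zero =>
    intro K t m hn hK _
    have : K.IsLE (m - 1) := TStructure.t.isLE_of_le K t (m - 1) (by omega)
    exact isPC_of_isLE m K
  | succ n ih =>
    intro K t m hn hK h
    by_cases htm : t < m
    · have : K.IsLE (m - 1) := TStructure.t.isLE_of_le K t (m - 1) (by omega)
      exact isPC_of_isLE m K
    · have htm' : m ≤ t := by omega
      have hfin : Module.Finite R ((homologyFunctor (ModuleCat.{u} R) t).obj K) := by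
        refine H.finite K t hK ?_
        have := H.isLE K t hK
        exact finite_top _ t (isPC_of_le htm' h)
      obtain ⟨r, f, hf⟩ := Module.Finite.exists_fin' R ((homologyFunctor (ModuleCat.{u} R) t).obj K)
      let P : ModuleCat.{u} R := ModuleCat.of R (Fin r → R)
      have hF1 : Module.Finite R P := inferInstanceAs (Module.Finite R (Fin r → R))
      have hF2 : Module.Free R P := inferInstanceAs (Module.Free R (Fin r → R))
      have hF3 : Projective P := (IsProjective.iff_projective (R := R) (P := P)).mp inferInstance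
      have hepi : Epi (ModuleCat.ofHom f) := (ModuleCat.epi_iff_surjective _).2 hf
      obtain ⟨ψ, hψ⟩ := Resol.exists_cond_map_of_epi K t P (ModuleCat.ofHom f)
      obtain ⟨K', p, q, hT⟩ := distinguished_cocone_triangle ψ
      have hK' : K'.IsLE (t - 1) := (cond_iff_isLE _ hT t).1 hψ
      have h2 : DRing.IsPseudoCoherent R' m (F.obj K') :=
        (isPC_triangle _ (F.map_distinguished _ hT) m).1 (H.free t r (m + 1)) h
      have h3 : DRing.IsPseudoCoherent R m K' := ih K' (t - 1) m (by omega) hK' h2
      have hFB : DRing.IsPseudoCoherent R m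
          ((DerivedCategory.singleFunctor (ModuleCat.{u} R) t).obj P) :=
        isPC_single_degree P t m (isPC_of_FF (FF_single P) (m - t))
      exact (isPC_triangle _ hT m).2.1 hFB h3

theorem descent1 (H : Hyp1 F) (K : Dual.D R) (m : ℤ)
    (h : DRing.IsPseudoCoherent R' m (F.obj K)) : DRing.IsPseudoCoherent R m K := by
  obtain ⟨t, ht⟩ := Resol.exists_isLE_of_isPC h
  have hK : K.IsLE t := H.isLE_of K t ht
  exact descent1_aux H (t - m + 1).toNat K t m (by omega) hK h

theorem descent1' (H : Hyp1 F) (K : Dual.D R)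
    (h : DRing.IsPseudoCoherent' R' (F.obj K)) : DRing.IsPseudoCoherent' R K := by
  rw [Resol.isPC'_iff]
  intro m
  exact descent1 H K m (isPC_of_isPC' h m)

end Descent

section Nak

variable {A : Type u} [CommRing A] {M : Type u} [AddCommGroup M] [Module A M]

theorem sup_pow_smul_top_eq_top (I : Ideal A) (N : Submodule A M)
    (h : N ⊔ I • (⊤ : Submodule A M) = ⊤) (k : ℕ) : N ⊔ I ^ k • (⊤ : Submodule A M) = ⊤ := by
  induction k with
  | zero => simp
  | succ k ih =>
    rw [eq_top_iff]
    calc (⊤ : Submodule A M) = N ⊔ I • (⊤ : Submodule A M) := h.symm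
      _ = N ⊔ I • (N ⊔ I ^ k • (⊤ : Submodule A M)) := by rw [ih]
      _ = N ⊔ (I • N ⊔ I • I ^ k • (⊤ : Submodule A M)) := by rw [Submodule.smul_sup]
      _ ≤ N ⊔ I ^ (k + 1) • (⊤ : Submodule A M) := by
        refine sup_le le_sup_left (sup_le (le_sup_of_le_left Submodule.smul_le_right) ?_)
        rw [← mul_smul, ← pow_succ']
        exact le_sup_right

/-- Nakayama for nilpotent ideals: `M ⧸ I M` finite implies `M` finite. -/
theorem finite_of_finite_quotient_smul_of_isNilpotent (I : Ideal A) (hI : IsNilpotent I)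
    (h : Module.Finite A (M ⧸ I • (⊤ : Submodule A M))) : Module.Finite A M := by
  obtain ⟨n, s, hs⟩ := Module.Finite.exists_fin (R := A) (M := M ⧸ I • (⊤ : Submodule A M))
  choose x hx using fun i => Submodule.mkQ_surjective _ (s i)
  let N : Submodule A M := Submodule.span A (Set.range x)
  have h1 : N.map (I • (⊤ : Submodule A M)).mkQ = ⊤ := by
    rw [Submodule.map_span, ← Set.range_comp, ← hs]
    congr 2
    funext i
    exact hx i
  have h2 : N ⊔ I • (⊤ : Submodule A M) = ⊤ := by
    have := Submodule.comap_map_eq (I • (⊤ : Submodule A M)).mkQ N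
    rw [h1, Submodule.comap_top, Submodule.ker_mkQ] at this
    exact this.symm
  obtain ⟨k, hk⟩ := hI
  have h3 := sup_pow_smul_top_eq_top I N h2 k
  rw [hk, Ideal.zero_eq_bot, Submodule.bot_smul, sup_bot_eq] at h3
  exact ⟨by rw [← h3]; exact Submodule.fg_span (Set.finite_range x)⟩

end Nak

section LemF

variable {A B : Type u} [CommRing A] [CommRing B] (φ : A →+* B)

/-- `B` as an `A`-module through restriction of scalars along `φ`. -/
abbrev rRes : Type u := ((ModuleCat.restrictScalars φ).obj (ModuleCat.of B B))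

set_option backward.isDefEq.respectTransparency false in
/-- `A ⧸ ker φ ≃ B` as `A`-modules. -/
noncomputable def quotKerLinearEquiv (hφ : Function.Surjective φ) :
    (A ⧸ RingHom.ker φ) ≃ₗ[A] rRes φ where
  toFun := fun q => (RingHom.quotientKerEquivOfSurjective hφ q : B)
  invFun := fun b => (RingHom.quotientKerEquivOfSurjective hφ).symm (show B from b)
  map_add' := fun x y => map_add (RingHom.quotientKerEquivOfSurjective hφ) x y
  map_smul' := fun a q => by
    change RingHom.quotientKerEquivOfSurjective hφ (a • q) =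
      (φ a * RingHom.quotientKerEquivOfSurjective hφ q : B)
    rw [Algebra.smul_def, map_mul]
    congr 1
  left_inv := fun q => (RingHom.quotientKerEquivOfSurjective hφ).symm_apply_apply q
  right_inv := fun b => (RingHom.quotientKerEquivOfSurjective hφ).apply_symm_apply _

variable {X Y : Type u} [AddCommGroup X] [Module A X] [AddCommGroup Y] [Module A Y]

theorem finite_coker_of_finite_coker_lTensor (hφ : Function.Surjective φ)
    (hnil : IsNilpotent (RingHom.ker φ)) (d : X →ₗ[A] Y)
    (h : Module.Finite A ((rRes φ ⊗[A] Y) ⧸ LinearMap.range (d.lTensor (rRes φ)))) :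
    Module.Finite A (Y ⧸ LinearMap.range d) := by
  let π := (LinearMap.range d).mkQ
  have hex : Function.Exact (d.lTensor (rRes φ)) (π.lTensor (rRes φ)) :=
    lTensor_exact _ (LinearMap.exact_map_mkQ_range d) (Submodule.mkQ_surjective _)
  have hs : Function.Surjective (π.lTensor (rRes φ)) :=
    LinearMap.lTensor_surjective _ (Submodule.mkQ_surjective _)
  have hk : LinearMap.range (d.lTensor (rRes φ)) = LinearMap.ker (π.lTensor (rRes φ)) :=
    (LinearMap.exact_iff.1 hex).symm
  let e₁ := (Submodule.quotEquivOfEq _ _ hk).trans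
    (LinearMap.quotKerEquivOfSurjective (π.lTensor (rRes φ)) hs)
  let e₂ := TensorProduct.congr (quotKerLinearEquiv φ hφ).symm
    (LinearEquiv.refl A (Y ⧸ LinearMap.range d))
  let e₃ := TensorProduct.quotTensorEquivQuotSMul (Y ⧸ LinearMap.range d) (RingHom.ker φ)
  have h1 : Module.Finite A ((Y ⧸ LinearMap.range d) ⧸
      (RingHom.ker φ) • (⊤ : Submodule A (Y ⧸ LinearMap.range d))) :=
    Module.Finite.equiv (e₁.trans (e₂.trans e₃))
  exact finite_of_finite_quotient_smul_of_isNilpotent _ hnil h1

set_option backward.isDefEq.respectTransparency false in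
/-- The identity, from the `B`-module `B ⊗_A Y` to the `A`-module `B ⊗_A Y`. -/
def toT (Y : ModuleCat.{u} A) :
    (ModuleCat.extendScalars.{u, u, u} φ).obj Y →+ rRes φ ⊗[A] Y where
  toFun := fun z => z
  map_zero' := rfl
  map_add' := fun _ _ => rfl

set_option backward.isDefEq.respectTransparency false in
theorem toT_surjective (Y : ModuleCat.{u} A) : Function.Surjective (toT φ Y) := fun z => ⟨z, rfl⟩

set_option backward.isDefEq.respectTransparency false in
theorem toT_smul (Y : ModuleCat.{u} A) (a : A)
    (z : (ModuleCat.extendScalars.{u, u, u} φ).obj Y) :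
    toT φ Y ((φ a) • z) = a • toT φ Y z := by
  induction z using TensorProduct.induction_on with
  | zero => rw [smul_zero, map_zero, smul_zero]
  | tmul b y =>
    rw [ModuleCat.ExtendScalars.smul_tmul]
    rfl
  | add z z' hz hz' => rw [smul_add, map_add, hz, hz', map_add, smul_add]

set_option backward.isDefEq.respectTransparency false in
theorem toT_map {X Y : ModuleCat.{u} A} (d : X ⟶ Y)
    (w : (ModuleCat.extendScalars.{u, u, u} φ).obj X) :
    toT φ Y (((ModuleCat.extendScalars.{u, u, u} φ).map d).hom w) =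
      d.hom.lTensor (rRes φ) (toT φ X w) := rfl

set_option backward.isDefEq.respectTransparency false in
theorem finite_coker_lTensor_of_finite_ext (hφ : Function.Surjective φ) (X Y : ModuleCat.{u} A)
    (d : X ⟶ Y)
    (h : Module.Finite B (((ModuleCat.extendScalars.{u, u, u} φ).obj Y) ⧸
      LinearMap.range ((ModuleCat.extendScalars.{u, u, u} φ).map d).hom)) :
    Module.Finite A ((rRes φ ⊗[A] Y) ⧸ LinearMap.range (d.hom.lTensor (rRes φ))) := by
  obtain ⟨n, s, hs⟩ := Module.Finite.exists_fin (R := B)
    (M := ((ModuleCat.extendScalars.{u, u, u} φ).obj Y) ⧸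
      LinearMap.range ((ModuleCat.extendScalars.{u, u, u} φ).map d).hom)
  choose y hy using fun i => Submodule.mkQ_surjective _ (s i)
  let g : (Fin n → A) →ₗ[A] ((rRes φ ⊗[A] Y) ⧸ LinearMap.range (d.hom.lTensor (rRes φ))) :=
    Fintype.linearCombination A (fun i => Submodule.Quotient.mk (toT φ Y (y i)))
  refine Module.Finite.of_surjective g ?_
  intro q
  obtain ⟨z', rfl⟩ := Submodule.mkQ_surjective _ q
  obtain ⟨z, rfl⟩ := toT_surjective φ Y z'
  have hz : (LinearMap.range ((ModuleCat.extendScalars.{u, u, u} φ).map d).hom).mkQ z ∈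
      Submodule.span B (Set.range s) := by
    rw [hs]
    exact Submodule.mem_top
  obtain ⟨b, hb⟩ := (Submodule.mem_span_range_iff_exists_fun B).1 hz
  choose a ha using fun i => hφ (b i)
  have h1 : (LinearMap.range ((ModuleCat.extendScalars.{u, u, u} φ).map d).hom).mkQ
      (z - ∑ i, b i • y i) = 0 := by
    rw [map_sub, map_sum, ← hb, sub_eq_zero]
    refine (Finset.sum_congr rfl (fun i _ => ?_)).symm
    rw [map_smul, hy]
  obtain ⟨w, hw⟩ := (Submodule.Quotient.mk_eq_zero _).1 h1
  refine ⟨a, ?_⟩
  have h2 : toT φ Y z = (∑ i, a i • toT φ Y (y i)) + d.hom.lTensor (rRes φ) (toT φ X w) := by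
    rw [← toT_map, hw, map_sub, map_sum]
    have h4 : ∑ i, toT φ Y (b i • y i) = ∑ i, a i • toT φ Y (y i) := by
      refine Finset.sum_congr rfl (fun i _ => ?_)
      rw [← ha i, toT_smul]
    rw [h4]
    abel
  change g a = Submodule.Quotient.mk (toT φ Y z)
  have h5 : (Submodule.Quotient.mk (d.hom.lTensor (rRes φ) (toT φ X w)) :
      (rRes φ ⊗[A] Y) ⧸ LinearMap.range (d.hom.lTensor (rRes φ))) = 0 :=
    (Submodule.Quotient.mk_eq_zero _).2 (LinearMap.mem_range_self _ _)
  rw [h2, Submodule.Quotient.mk_add, h5, add_zero]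
  change g a = (LinearMap.range (d.hom.lTensor (rRes φ))).mkQ (∑ i, a i • (toT φ Y) (y i))
  rw [map_sum]
  simp only [g, Fintype.linearCombination_apply, map_smul]
  rfl

end LemF

section Main

/-- top cohomology as a cokernel -/
noncomputable def topHomologyLinearEquiv {S : Type u} [CommRing S] (E : DRing.Cx S) (t : ℤ)
    (hv : DRing.VanishesAbove E t) :
    ((homologyFunctor (ModuleCat.{u} S) t).obj (DRing.toD E)) ≃ₗ[S]
      (E.X t ⧸ LinearMap.range (E.d (t - 1) t).hom) :=
  ((DerivedCategory.homologyFunctorFactors (ModuleCat.{u} S) t).app E ≪≫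
    E.isoHomologyι t (t + 1) (by simp)
      (IsZero.eq_of_tgt (hv (t + 1) (by omega)) _ _)).toLinearEquiv ≪≫ₗ
    (opcyclesLinearEquiv E (t - 1) t (by omega)).symm

variable {A B : Type u} [CommRing A] [CommRing B] (φ : A →+* B) [DRing.HasLBaseChange φ]

open Groth.Agent.Lib.Helper26 in
theorem isLE_of_LBaseChange_nilpotent (hφ : Function.Surjective φ)
    (hnil : IsNilpotent (RingHom.ker φ)) (K : Dual.D A) (t : ℤ)
    (h : ((DRing.LBaseChange φ).obj K).IsLE t) : K.IsLE t := by
  obtain ⟨X, ⟨eX⟩⟩ : ∃ X : DRing.Cx A, Nonempty (DerivedCategory.Q.obj X ≅ K) :=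
    ⟨_, ⟨DerivedCategory.Q.objObjPreimageIso K⟩⟩
  obtain ⟨P, f, hP, hf, hproj⟩ := KPT.exists_kProjective_resolution_moduleCat_termwise A X
  have e : DRing.toD P ≅ K := asIso (DerivedCategory.Q.map f) ≪≫ eX
  have hPB : ((extCx φ).obj P).IsKProjective :=
    AdjKProj.isKProjective_map (ModuleCat.extendRestrictScalarsAdj.{u, u, u} φ) P
  have hfib : ∀ j : ℤ, t < j → ((extCx φ).obj P).ExactAt j := by
    intro j hj
    rw [← isZero_homology_toD_iff]
    exact (DerivedCategory.isZero_of_isLE _ t j hj).of_iso
      ((homologyFunctor (ModuleCat.{u} B) j).mapIso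
        ((lbcIso φ P).symm ≪≫ (DRing.LBaseChange φ).mapIso e))
  rw [DerivedCategory.isLE_iff]
  intro j hj
  refine IsZero.of_iso ?_ ((homologyFunctor (ModuleCat.{u} A) j).mapIso e.symm)
  rw [isZero_homology_toD_iff]
  have h1 := exactAt_tenCx_of_nilpotent φ hφ hnil P
    (fun i => by have := hproj i; infer_instance) j
    (fun N => exactAt_tenCx_of_isLE _ t hfib N j hj) (𝟙_ (ModuleCat.{u} A))
  exact h1.of_iso (tensorRightUnitCxIso P)

set_option backward.isDefEq.respectTransparency false in
theorem finite_homology_of_LBaseChange_nilpotent (hφ : Function.Surjective φ)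
    (hnil : IsNilpotent (RingHom.ker φ)) (K : Dual.D A) (t : ℤ) (hK : K.IsLE t)
    (h : Module.Finite B ((homologyFunctor (ModuleCat.{u} B) t).obj
      ((DRing.LBaseChange φ).obj K))) :
    Module.Finite A ((homologyFunctor (ModuleCat.{u} A) t).obj K) := by
  obtain ⟨E, hv, hproj, ⟨e⟩⟩ := exists_projective_rep K t
  have hEK : E.IsKProjective := isKProjective_of_vanishesAbove E t hv hproj
  have hvB : DRing.VanishesAbove ((extCx φ).obj E) t := fun i hi =>
    CategoryTheory.Functor.map_isZero (ModuleCat.extendScalars.{u, u, u} φ) (hv i hi)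
  have e' : (DRing.LBaseChange φ).obj K ≅ DRing.toD ((extCx φ).obj E) :=
    (DRing.LBaseChange φ).mapIso e.symm ≪≫ lbcIso φ E
  have h1 : Module.Finite B (((ModuleCat.extendScalars.{u, u, u} φ).obj (E.X t)) ⧸
      LinearMap.range ((ModuleCat.extendScalars.{u, u, u} φ).map (E.d (t - 1) t)).hom) :=
    Module.Finite.equiv (((homologyFunctor (ModuleCat.{u} B) t).mapIso e').toLinearEquiv ≪≫ₗ
      topHomologyLinearEquiv ((extCx φ).obj E) t hvB)
  have h2 := finite_coker_lTensor_of_finite_ext φ hφ _ _ (E.d (t - 1) t) h1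
  have h3 := finite_coker_of_finite_coker_lTensor φ hφ hnil (E.d (t - 1) t).hom h2
  exact Module.Finite.equiv (((homologyFunctor (ModuleCat.{u} A) t).mapIso e.symm).toLinearEquiv ≪≫ₗ
      topHomologyLinearEquiv E t hv).symm

theorem hyp1_LBaseChange_nilpotent (hφ : Function.Surjective φ)
    (hnil : IsNilpotent (RingHom.ker φ)) :
    letI := LBCPC.lbcCommShift φ
    haveI := LBCPC.lbc_isTriangulated φ
    Hyp1 (DRing.LBaseChange φ) := by
  let _ := LBCPC.lbcCommShift φ
  have := LBCPC.lbc_isTriangulated φ
  exact {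
    isLE := fun K t hK => LBCPC.isLE_LBaseChange φ K t
    isLE_of := fun K t h => isLE_of_LBaseChange_nilpotent φ hφ hnil K t h
    finite := fun K t hK h => finite_homology_of_LBaseChange_nilpotent φ hφ hnil K t hK h
    free := fun t r m => by
      let P : ModuleCat.{u} A := ModuleCat.of A (Fin r → A)
      have hF1 : Module.Finite A P := inferInstanceAs (Module.Finite A (Fin r → A))
      have hF2 : Module.Free A P := inferInstanceAs (Module.Free A (Fin r → A))
      exact LBCPC.isPC_LBaseChange φ _ m
        (isPC_single_degree P t m (isPC_of_FF (FF_single P) (m - t))) }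

theorem isPseudoCoherent'_LBaseChange_iff_of_nilpotent (hφ : Function.Surjective φ)
    (hnil : IsNilpotent (RingHom.ker φ)) (K : Dual.D A) :
    DRing.IsPseudoCoherent' B ((DRing.LBaseChange φ).obj K) ↔ DRing.IsPseudoCoherent' A K := by
  let _ := LBCPC.lbcCommShift φ
  have := LBCPC.lbc_isTriangulated φ
  constructor
  · intro h
    exact descent1' (hyp1_LBaseChange_nilpotent φ hφ hnil) K h
  · intro h
    rw [Resol.isPC'_iff] at h ⊢
    exact fun m => LBCPC.isPC_LBaseChange φ K m (h m)

theorem isPerfect_of_LBaseChange_nilpotent (hφ : Function.Surjective φ)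
    (hnil : IsNilpotent (RingHom.ker φ)) (K : Dual.D A)
    (h : DRing.IsPerfect B ((DRing.LBaseChange φ).obj K)) : DRing.IsPerfect A K := by
  obtain ⟨a, b, hab⟩ := TAmp_of_isPerfect h
  have h1 := (isPseudoCoherent'_LBaseChange_iff_of_nilpotent φ hφ hnil K).1
    (Groth.Agent.Lib.Helper35.KL.isPseudoCoherent'_of_isPerfect h)
  exact isPerfect_of_isPseudoCoherent'_of_TAmp K h1 a b
    (TAmp_of_LBaseChange_nilpotent φ hφ hnil K a b hab)

end Main

end Groth.Agent.Lib.Helper35.TA
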