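import Groth.Agent.Lib.Helper35.NilTA

/-! Derived tensor with modules killed by a power of an ideal (helper35). -/

set_option autoImplicit false
set_option linter.unusedSectionVars false
universe u
open CategoryTheory CategoryTheory.Limits MonoidalCategory DerivedCategory CochainComplex
  TensorProduct
attribute [local instance] HasDerivedCategory.standard

namespace Groth.Agent.Lib.Helper35.TA

open Groth.Agent.Lib.Helper32.KProjDerived Groth.Agent.Lib.Helper32.LBC

section Cx

variable {A B : Type u} [CommRing A] [CommRing B]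

set_option backward.isDefEq.respectTransparency false in
/-- Exactness of `P ⊗_A M` at one spot for an `A`-module `M` killed by `ker φ`, from the same for
`(P ⊗_A B) ⊗_B N` and all `B`-modules `N`, when `φ : A → B` is surjective. -/
theorem exact_lTensor_of_killed (φ : A →+* B) (hφ : Function.Surjective φ) (P : DRing.Cx A)
    (i : ℤ)
    (h : ∀ N : ModuleCat.{u} B, (((tensorRight N).mapHomologicalComplex (ComplexShape.up ℤ)).obj
      (((ModuleCat.extendScalars.{u, u, u} φ).mapHomologicalComplex (ComplexShape.up ℤ)).obj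
        P)).ExactAt (i + 1))
    (N : Type u) [AddCommGroup N] [Module A N] (hN : ∀ a ∈ RingHom.ker φ, ∀ m : N, a • m = 0) :
    Function.Exact ((P.d i (i + 1)).hom.lTensor N) ((P.d (i + 1) (i + 1 + 1)).hom.lTensor N) := by
  have hT : Module.IsTorsionBySet A N (RingHom.ker φ : Set A) := fun x a => hN a.1 a.2 x
  let _ : Module (A ⧸ RingHom.ker φ) N := hT.module
  let _ : Module B N := Module.compHom N
    ((RingHom.quotientKerEquivOfSurjective hφ).symm : B →+* A ⧸ RingHom.ker φ)
  let _ : Algebra A B := φ.toAlgebra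
  have : IsScalarTower A B N := IsScalarTower.of_algebraMap_smul (fun a x => by
    change ((RingHom.quotientKerEquivOfSurjective hφ).symm (φ a)) • x = a • x
    rw [RingHom.quotientKerEquivOfSurjective_symm_apply]
    rfl)
  have h1 := h (ModuleCat.of B N)
  rw [exactAt_tenCx_iff] at h1
  have h2 : Function.Exact (((P.d i (i + 1)).hom.baseChange B).lTensor N)
      (((P.d (i + 1) (i + 1 + 1)).hom.baseChange B).lTensor N) := h1
  exact (exact_lTensor_baseChange_iff _ _).1 h2

/-- Tensoring a K-projective complex which is exact above `b` stays exact above `b`. -/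
theorem exactAt_tenCx_of_isLE (Q : DRing.Cx B) [Q.IsKProjective] (b : ℤ)
    (hQ : ∀ j : ℤ, b < j → Q.ExactAt j) (M : ModuleCat.{u} B) (j : ℤ) (hj : b < j) :
    (((tensorRight M).mapHomologicalComplex (ComplexShape.up ℤ)).obj Q).ExactAt j := by
  have hLE : (DRing.toD Q).IsLE b := by
    rw [DerivedCategory.isLE_iff]
    intro j hj
    rw [isZero_homology_toD_iff]
    exact hQ j hj
  obtain ⟨T, hTb, hTp, ⟨eT⟩⟩ := exists_projective_rep (DRing.toD Q) b
  have hTK : T.IsKProjective := isKProjective_of_vanishesAbove T b hTb hTp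
  have := hasLTensor B M
  have e := (ltIso B M Q).symm ≪≫ (DRing.LTensor B M).mapIso eT.symm ≪≫ ltIso B M T
  rw [← isZero_homology_toD_iff]
  refine IsZero.of_iso ?_ ((homologyFunctor (ModuleCat.{u} B) j).mapIso e)
  rw [isZero_homology_toD_iff]
  apply exactAt_of_isZero_X
  exact CategoryTheory.Functor.map_isZero (tensorRight M) (hTb j hj)

end Cx

section Main

variable {R : Type u} [CommRing R]

open Groth.Agent.Lib.Helper26 in
set_option backward.isDefEq.respectTransparency false in
theorem isZero_homology_LTensor_of_pow (I : Ideal R)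
    [DRing.HasLTensor R (ModuleCat.of R (R ⧸ I))] (K : Dual.D R) (b : ℤ)
    (hK : ∀ i : ℤ, b < i → IsZero ((homologyFunctor (ModuleCat.{u} R) i).obj
      ((DRing.LTensor R (ModuleCat.of R (R ⧸ I))).obj K)))
    (N : ModuleCat.{u} R) (n : ℕ) (hN : ∀ a ∈ I ^ n, ∀ x : N, a • x = 0)
    [DRing.HasLTensor R N] (i : ℤ) (hi : b < i) :
    IsZero ((homologyFunctor (ModuleCat.{u} R) i).obj ((DRing.LTensor R N).obj K)) := by
  obtain ⟨X, ⟨eX⟩⟩ : ∃ X : DRing.Cx R, Nonempty (DerivedCategory.Q.obj X ≅ K) :=
    ⟨_, ⟨DerivedCategory.Q.objObjPreimageIso K⟩⟩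
  obtain ⟨P, f, hP, hf, hproj⟩ := KPT.exists_kProjective_resolution_moduleCat_termwise R X
  have e : DRing.toD P ≅ K := asIso (DerivedCategory.Q.map f) ≪≫ eX
  have hPB : ((extCx (Ideal.Quotient.mk I)).obj P).IsKProjective :=
    AdjKProj.isKProjective_map (ModuleCat.extendRestrictScalarsAdj.{u, u, u} (Ideal.Quotient.mk I)) P
  -- the fibre is exact above `b`
  have hfib : ∀ j : ℤ, b < j → ((extCx (Ideal.Quotient.mk I)).obj P).ExactAt j := by
    intro j hj
    have h1 := (hK j hj).of_iso ((homologyFunctor (ModuleCat.{u} R) j).mapIso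
      ((DRing.LTensor R (ModuleCat.of R (R ⧸ I))).mapIso e.symm ≪≫ ltIso R _ P).symm)
    rw [isZero_homology_toD_iff] at h1
    obtain ⟨i, rfl⟩ : ∃ i, j = i + 1 := ⟨j - 1, by omega⟩
    rw [exactAt_tenCx_iff] at h1
    have h2 := exact_lTensor_congr' (qResEquiv R I).symm _ _ h1
    rw [HomologicalComplex.exactAt_iff' _ i (i + 1) (i + 1 + 1) (by simp) (by simp),
      ShortComplex.ShortExact.moduleCat_exact_iff_function_exact]
    exact h2
  have e1 := (DRing.LTensor R N).mapIso e.symm ≪≫ ltIso R N P
  refine IsZero.of_iso ?_ ((homologyFunctor (ModuleCat.{u} R) i).mapIso e1)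
  rw [isZero_homology_toD_iff]
  obtain ⟨i, rfl⟩ : ∃ i', i = i' + 1 := ⟨i - 1, by omega⟩
  rw [exactAt_tenCx_iff]
  have := hproj (i + 1 + 1)
  refine exact_lTensor_of_pow I _ _ ?_ ?_ n N hN
  · ext x
    rw [LinearMap.comp_apply, ← ModuleCat.comp_apply, P.d_comp_d]
    rfl
  · intro M _ _ hM
    refine exact_lTensor_of_killed (Ideal.Quotient.mk I) Ideal.Quotient.mk_surjective P i ?_ M
      (by rwa [Ideal.mk_ker])
    intro N'
    exact exactAt_tenCx_of_isLE _ b hfib N' (i + 1) hi

end Main

end Groth.Agent.Lib.Helper35.TA
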