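import Groth.Agent.Lib.Helper35.TwoTerm2

/-! Objects of `D(R)` with cohomology in `[-1, 0]` are represented by two-term complexes
(helper35). -/

universe u

namespace Groth.Agent.Lib.Helper35.KL

open CategoryTheory Limits DerivedCategory Pretriangulated CochainComplex

attribute [local instance] HasDerivedCategory.standard

variable {R : Type u} [CommRing R]

/-- The two-term complex `G ⟶ F` in degrees `-1, 0`, as a mapping cone. -/
noncomputable abbrev twoTermCx {G F : ModuleCat.{u} R} (d : G ⟶ F) :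
    CochainComplex (ModuleCat.{u} R) ℤ :=
  mappingCone ((HomologicalComplex.single (ModuleCat.{u} R) (ComplexShape.up ℤ) 0).map d)

theorem isZero_twoTermCx_X {G F : ModuleCat.{u} R} (d : G ⟶ F) (i : ℤ) (h1 : i ≠ -1) (h0 : i ≠ 0) :
    IsZero ((twoTermCx d).X i) := by
  rw [mappingCone.isZero_X_iff]
  exact ⟨HomologicalComplex.isZero_single_obj_X _ _ _ _ (by omega),
    HomologicalComplex.isZero_single_obj_X _ _ _ _ h0⟩

/-- The degree `0` term of the two-term complex `G ⟶ F` is `F`. -/
noncomputable def twoTermCxXZeroIso {G F : ModuleCat.{u} R} (d : G ⟶ F) :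
    (twoTermCx d).X 0 ≅ F where
  hom := (mappingCone.snd ((HomologicalComplex.single (ModuleCat.{u} R)
      (ComplexShape.up ℤ) 0).map d)).v 0 0 (add_zero 0) ≫
    (HomologicalComplex.singleObjXSelf (ComplexShape.up ℤ) 0 F).hom
  inv := (HomologicalComplex.singleObjXSelf (ComplexShape.up ℤ) 0 F).inv ≫
    (mappingCone.inr ((HomologicalComplex.single (ModuleCat.{u} R)
      (ComplexShape.up ℤ) 0).map d)).f 0
  hom_inv_id := by
    have h1 := mappingCone.id_X ((HomologicalComplex.single (ModuleCat.{u} R)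
      (ComplexShape.up ℤ) 0).map d) 0 1 (by norm_num)
    have h2 : (mappingCone.fst ((HomologicalComplex.single (ModuleCat.{u} R)
        (ComplexShape.up ℤ) 0).map d)).1.v 0 1 (by norm_num) = 0 :=
      (HomologicalComplex.isZero_single_obj_X (ComplexShape.up ℤ) 0 G 1 (by omega)).eq_of_tgt _ _
    rw [h2, zero_comp, zero_add] at h1
    rw [Category.assoc, Iso.hom_inv_id_assoc, h1]
  inv_hom_id := by
    rw [Category.assoc, mappingCone.inr_f_snd_v_assoc, Iso.inv_hom_id]

/-- The degree `-1` term of the two-term complex `G ⟶ F` is `G`. -/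
noncomputable def twoTermCxXNegOneIso {G F : ModuleCat.{u} R} (d : G ⟶ F) :
    (twoTermCx d).X (-1) ≅ G where
  hom := (mappingCone.fst ((HomologicalComplex.single (ModuleCat.{u} R)
      (ComplexShape.up ℤ) 0).map d)).1.v (-1) 0 (by norm_num) ≫
    (HomologicalComplex.singleObjXSelf (ComplexShape.up ℤ) 0 G).hom
  inv := (HomologicalComplex.singleObjXSelf (ComplexShape.up ℤ) 0 G).inv ≫
    (mappingCone.inl ((HomologicalComplex.single (ModuleCat.{u} R)
      (ComplexShape.up ℤ) 0).map d)).v 0 (-1) (by norm_num)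
  hom_inv_id := by
    have h1 := mappingCone.id_X ((HomologicalComplex.single (ModuleCat.{u} R)
      (ComplexShape.up ℤ) 0).map d) (-1) 0 (by norm_num)
    have h2 : (mappingCone.snd ((HomologicalComplex.single (ModuleCat.{u} R)
        (ComplexShape.up ℤ) 0).map d)).v (-1) (-1) (add_zero _) = 0 :=
      (HomologicalComplex.isZero_single_obj_X (ComplexShape.up ℤ) 0 F (-1) (by omega)).eq_of_tgt _ _
    rw [h2, zero_comp, add_zero] at h1
    rw [Category.assoc, Iso.hom_inv_id_assoc, h1]
  inv_hom_id := by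
    rw [Category.assoc, mappingCone.inl_v_fst_v_assoc, Iso.inv_hom_id]

theorem comp_shift_hom_inv {D : Type*} [Category D] [HasShift D ℤ] {X Y Y' : D}
    (f : X ⟶ Y⟦(1 : ℤ)⟧) (e : Y ≅ Y') : (f ≫ e.hom⟦(1 : ℤ)⟧') ≫ e.inv⟦(1 : ℤ)⟧' = f := by
  rw [Category.assoc, ← Functor.map_comp, e.hom_inv_id, CategoryTheory.Functor.map_id, Category.comp_id]

theorem exists_twoTerm_rep (K : DerivedCategory (ModuleCat.{u} R)) [K.IsGE (-1)] [K.IsLE 0]
    (F : ModuleCat.{u} R) [Projective F] (p : F ⟶ (homologyFunctor (ModuleCat.{u} R) 0).obj K)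
    [Epi p] :
    ∃ (G : ModuleCat.{u} R) (d : G ⟶ F) (T : Triangle (DerivedCategory (ModuleCat.{u} R))),
      T ∈ distTriang _ ∧ T.obj₁ = (DerivedCategory.singleFunctor (ModuleCat.{u} R) 0).obj G ∧
        T.obj₂ = (DerivedCategory.singleFunctor (ModuleCat.{u} R) 0).obj F ∧ T.obj₃ = K ∧
        Nonempty (Q.obj (twoTermCx d) ≅ K) := by
  -- lift `p` to a map `p̃ : F[0] ⟶ K`
  have hZG : TStructure.t.IsGE ((TStructure.t.truncGE 0).obj K) 0 := inferInstance
  have hZL : TStructure.t.IsLE ((TStructure.t.truncGE 0).obj K) 0 := inferInstance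
  obtain ⟨H, ⟨e0⟩⟩ := exists_iso_singleFunctor_obj_of_isGE_of_isLE
    ((TStructure.t.truncGE 0).obj K) 0
  have hiso0 := isIso_homology_map_truncGEπ' K 0 0 le_rfl
  let i0 : (homologyFunctor (ModuleCat.{u} R) 0).obj K ≅ H :=
    asIso ((homologyFunctor (ModuleCat.{u} R) 0).map ((TStructure.t.truncGEπ 0).app K)) ≪≫
      (homologyFunctor (ModuleCat.{u} R) 0).mapIso e0 ≪≫
      (DerivedCategory.singleFunctorCompHomologyFunctorIso (ModuleCat.{u} R) 0).app H
  let q : F ⟶ H := p ≫ i0.hom
  have hq : Epi q := inferInstance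
  obtain ⟨pt, hpt⟩ := (postcomp_truncGEπ_bijective (P := F) K).2
    ((DerivedCategory.singleFunctor (ModuleCat.{u} R) 0).map q ≫ e0.inv)
  dsimp only at hpt
  have hsq : Epi ((homologyFunctor (ModuleCat.{u} R) 0).map
      ((DerivedCategory.singleFunctor (ModuleCat.{u} R) 0).map q)) := by
    have hn := (DerivedCategory.singleFunctorCompHomologyFunctorIso (ModuleCat.{u} R) 0).hom.naturality q
    have h2 : (homologyFunctor (ModuleCat.{u} R) 0).map
        ((DerivedCategory.singleFunctor (ModuleCat.{u} R) 0).map q) =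
        (DerivedCategory.singleFunctorCompHomologyFunctorIso (ModuleCat.{u} R) 0).hom.app F ≫ q ≫
          (DerivedCategory.singleFunctorCompHomologyFunctorIso (ModuleCat.{u} R) 0).inv.app H := by
      rw [← Category.assoc, ← Functor.id_map q, ← hn]
      simp
    rw [h2]
    infer_instance
  have hpe : Epi ((homologyFunctor (ModuleCat.{u} R) 0).map pt) := by
    have h1 : (homologyFunctor (ModuleCat.{u} R) 0).map pt =
        ((homologyFunctor (ModuleCat.{u} R) 0).map ((DerivedCategory.singleFunctor (ModuleCat.{u} R) 0).map q) ≫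
          (homologyFunctor (ModuleCat.{u} R) 0).map e0.inv) ≫
        inv ((homologyFunctor (ModuleCat.{u} R) 0).map ((TStructure.t.truncGEπ 0).app K)) := by
      rw [← Functor.map_comp, ← hpt, Functor.map_comp, Category.assoc, IsIso.hom_inv_id,
        Category.comp_id]
    rw [h1]
    infer_instance
  -- the cone
  obtain ⟨Z, g, δ, hT⟩ := distinguished_cocone_triangle pt
  have hFG : ((DerivedCategory.singleFunctor (ModuleCat.{u} R) 0).obj F).IsGE 0 := inferInstance
  have hFL : ((DerivedCategory.singleFunctor (ModuleCat.{u} R) 0).obj F).IsLE 0 := inferInstance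
  have hZL1 : Z.IsLE (-1) := by
    rw [DerivedCategory.isLE_iff]
    intro i hi
    refine isZero_homology_obj₃ _ hT i (i + 1) rfl ?_ ?_
    · by_cases hi0 : i = 0
      · subst hi0
        exact hpe
      · exact (isZero_of_isLE K 0 i (by omega)).epi _
    · exact (isZero_of_isLE ((DerivedCategory.singleFunctor (ModuleCat.{u} R) 0).obj F) 0 (i + 1) (by omega)).mono _
  have hZG1 : Z.IsGE (-1) := by
    rw [DerivedCategory.isGE_iff]
    intro i hi
    refine isZero_homology_obj₃ _ hT i (i + 1) rfl ?_ ?_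
    · exact (isZero_of_isGE K (-1) i hi).epi _
    · exact (isZero_of_isGE ((DerivedCategory.singleFunctor (ModuleCat.{u} R) 0).obj F) 0 (i + 1) (by omega)).mono _
  have hZ'G : TStructure.t.IsGE (Z⟦(-1 : ℤ)⟧) 0 := TStructure.t.isGE_shift _ (-1) (-1) 0
  have hZ'L : TStructure.t.IsLE (Z⟦(-1 : ℤ)⟧) 0 := TStructure.t.isLE_shift _ (-1) (-1) 0
  obtain ⟨G, ⟨e1⟩⟩ := exists_iso_singleFunctor_obj_of_isGE_of_isLE (Z⟦(-1 : ℤ)⟧) 0
  have hT' := inv_rot_of_distTriang _ hT
  obtain ⟨d, hd⟩ := (DerivedCategory.singleFunctor (ModuleCat.{u} R) 0).map_surjective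
    (e1.inv ≫ (Triangle.mk pt g δ).invRotate.mor₁)
  -- the triangle `G[0] ⟶ F[0] ⟶ K ⟶`
  let T₁ : Triangle (DerivedCategory (ModuleCat.{u} R)) :=
    Triangle.mk ((DerivedCategory.singleFunctor (ModuleCat.{u} R) 0).map d) (Triangle.mk pt g δ).invRotate.mor₂
      ((Triangle.mk pt g δ).invRotate.mor₃ ≫ e1.hom⟦(1 : ℤ)⟧')
  have hT₁ : T₁ ∈ distTriang _ := by
    refine isomorphic_distinguished _ hT' _ ?_
    refine Triangle.isoMk _ _ e1.symm (Iso.refl _) (Iso.refl _) ?_ ?_ ?_
    · exact (Category.comp_id _).trans hd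
    · exact (Category.comp_id _).trans (Category.id_comp _).symm
    · exact (comp_shift_hom_inv _ e1).trans (Category.id_comp _).symm
  let T₂ := Q.mapTriangle.obj (mappingCone.triangle
    ((HomologicalComplex.single (ModuleCat.{u} R) (ComplexShape.up ℤ) 0).map d))
  have hT₂ : T₂ ∈ distTriang _ := mappingCone_triangle_distinguished _
  let e := isoTriangleOfIso₁₂ T₁ T₂ hT₁ hT₂ (Iso.refl _) (Iso.refl _)
    ((Category.comp_id _).trans (Category.id_comp _).symm)
  exact ⟨G, d, T₁, hT₁, rfl, rfl, rfl, ⟨(Triangle.π₃.mapIso e).symm⟩⟩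

end Groth.Agent.Lib.Helper35.KL
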