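import Groth.Agent.Lib.Helper35.ProjAmp
import Groth.Agent.Lib.Helper35.TwoTermRep
import Groth.Agent.Lib.Helper35.NoethRes
import Mathlib.Algebra.Homology.DerivedCategory.Ext.EnoughInjectives
import Mathlib.Algebra.Category.ModuleCat.EnoughInjectives

set_option autoImplicit false
universe u

namespace Groth.Agent.Lib.Helper35.KL

open CategoryTheory Limits DerivedCategory Pretriangulated ZeroObject

attribute [local instance] HasDerivedCategory.standard

variable {R : Type u} [CommRing R]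

/-- `K` has projective amplitude in `[a, b]`. -/
def PA (a b : ℤ) (K : Dual.D R) : Prop :=
  ∃ P : DRing.Cx R, DRing.VanishesOutside P a b ∧ (∀ i : ℤ, Module.Projective R (P.X i)) ∧
    Nonempty (DRing.toD P ≅ K)

theorem PA.of_iso {a b : ℤ} {K K' : Dual.D R} (e : K ≅ K') (h : PA a b K) : PA a b K' := by
  obtain ⟨P, hv, hP, ⟨e'⟩⟩ := h
  exact ⟨P, hv, hP, ⟨e' ≪≫ e⟩⟩

theorem PA.mono {a b a' b' : ℤ} {K : Dual.D R} (h : PA a b K) (ha : a' ≤ a) (hb : b ≤ b') :
    PA a' b' K := by
  obtain ⟨P, hv, hP, he⟩ := h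
  exact ⟨P, fun i hi => hv i (by omega), hP, he⟩

theorem PA.shift {a b : ℤ} {K : Dual.D R} (h : PA a b K) (n : ℤ) : PA (a - n) (b - n) (K⟦n⟧) := by
  obtain ⟨E, hb, hE, ⟨e⟩⟩ := h
  refine ⟨E⟦n⟧, ?_, ?_, ⟨(Q.commShiftIso n).app E ≪≫
    (CategoryTheory.shiftFunctor (DerivedCategory (ModuleCat.{u} R)) n).mapIso e⟩⟩
  · intro i hi
    exact hb (i + n) (by omega)
  · intro i
    exact hE (i + n)

theorem PA.of_isZero {a b : ℤ} {K : Dual.D R} (hK : IsZero K) : PA a b K := by
  refine ⟨0, ?_, ?_, ⟨(Q.map_isZero (isZero_zero _)).iso hK⟩⟩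
  · intro i _
    exact (HomologicalComplex.eval _ _ i).map_isZero (isZero_zero _)
  · intro i
    have hz : IsZero ((0 : DRing.Cx R).X i) :=
      (HomologicalComplex.eval _ _ i).map_isZero (isZero_zero _)
    have : Subsingleton ((0 : DRing.Cx R).X i) := ModuleCat.subsingleton_of_isZero hz
    infer_instance

theorem PA.single (N : ModuleCat.{u} R) [Module.Projective R N] :
    PA 0 0 ((DerivedCategory.singleFunctor (ModuleCat.{u} R) 0).obj N) := by
  refine ⟨(HomologicalComplex.single (ModuleCat.{u} R) (ComplexShape.up ℤ) 0).obj N, ?_, ?_,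
    ⟨((DerivedCategory.singleFunctorIsoCompQ (ModuleCat.{u} R) 0).app N).symm⟩⟩
  · intro i hi
    exact HomologicalComplex.isZero_single_obj_X _ _ _ _ (by omega)
  · intro i
    by_cases hi : i = 0
    · subst hi
      have e := (HomologicalComplex.singleObjXSelf (ComplexShape.up ℤ) 0 N).toLinearEquiv
      exact Module.Projective.of_equiv e.symm
    · have hz : IsZero (((HomologicalComplex.single (ModuleCat.{u} R) (ComplexShape.up ℤ) 0).obj N).X i) :=
        HomologicalComplex.isZero_single_obj_X _ _ _ _ hi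
      have := ModuleCat.subsingleton_of_isZero hz
      infer_instance

theorem PA.obj₃ {a b : ℤ} (T : Triangle (Dual.D R)) (hT : T ∈ distTriang _)
    (h₁ : PA (a + 1) (b + 1) T.obj₁) (h₂ : PA a b T.obj₂) : PA a b T.obj₃ := by
  obtain ⟨E₁, hb₁, hE₁, ⟨e₁⟩⟩ := h₁
  obtain ⟨E₂, hb₂, hE₂, ⟨e₂⟩⟩ := h₂
  have hKP : E₁.IsKProjective := isKProjective_of_vanishesAbove E₁ (b + 1)
    (fun i hi => hb₁ i (Or.inr hi)) hE₁
  obtain ⟨f, ⟨e⟩⟩ := nonempty_iso_mappingCone_of_isKProjective T hT e₁ e₂
  refine ⟨CochainComplex.mappingCone f, ?_, ?_, ⟨e⟩⟩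
  · intro i hi
    rw [CochainComplex.mappingCone.isZero_X_iff]
    exact ⟨hb₁ (i + 1) (by omega), hb₂ i (by omega)⟩
  · intro i
    have := hE₁ (i + 1)
    have := hE₂ i
    exact Module.Projective.of_equiv (mappingConeXLinearEquiv f i).symm

theorem PA.isLE {a b : ℤ} {K : Dual.D R} (h : PA a b K) : K.IsLE b := by
  obtain ⟨P, hv, -, ⟨e⟩⟩ := h
  have : P.IsStrictlyLE b := by
    rw [CochainComplex.isStrictlyLE_iff]
    exact fun i hi => hv i (Or.inr hi)
  exact TStructure.t.isLE_of_iso e b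

theorem PA.isGE {a b : ℤ} {K : Dual.D R} (h : PA a b K) : K.IsGE a := by
  obtain ⟨P, hv, -, ⟨e⟩⟩ := h
  have : P.IsStrictlyGE a := by
    rw [CochainComplex.isStrictlyGE_iff]
    exact fun i hi => hv i (Or.inl hi)
  exact TStructure.t.isGE_of_iso e a

/-- Lift an epimorphism `F ⟶ H⁰(K)` from a projective `F` to a map `F[0] ⟶ K` which is an
epimorphism on `H⁰`. -/
theorem exists_lift_epi (K : DerivedCategory (ModuleCat.{u} R)) [K.IsLE 0]
    (F : ModuleCat.{u} R) [Projective F] (p : F ⟶ (homologyFunctor (ModuleCat.{u} R) 0).obj K)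
    [Epi p] :
    ∃ pt : (DerivedCategory.singleFunctor (ModuleCat.{u} R) 0).obj F ⟶ K,
      Epi ((homologyFunctor (ModuleCat.{u} R) 0).map pt) := by
  have hZG : TStructure.t.IsGE ((TStructure.t.truncGE 0).obj K) 0 := inferInstance
  have hZL : TStructure.t.IsLE ((TStructure.t.truncGE 0).obj K) 0 := inferInstance
  obtain ⟨H, ⟨e0⟩⟩ := exists_iso_singleFunctor_obj_of_isGE_of_isLE
    ((TStructure.t.truncGE 0).obj K) 0
  have hiso0 := isIso_homology_map_truncGEπ' K 0 0 le_rfl
  let i0 : (homologyFunctor (ModuleCat.{u} R) 0).obj K ≅ H :=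
    asIso ((homologyFunctor (ModuleCat.{u} R) 0).map ((TStructure.t.truncGEπ 0).app K)) ≪≫
      (homologyFunctor (ModuleCat.{u} R) 0).mapIso e0 ≪≫
      (DerivedCategory.singleFunctorCompHomologyFunctorIso (ModuleCat.{u} R) 0).app H
  let q : F ⟶ H := p ≫ i0.hom
  have hq : Epi q := inferInstance
  obtain ⟨pt, hpt⟩ := (postcomp_truncGEπ_bijective (P := F) K).2
    ((DerivedCategory.singleFunctor (ModuleCat.{u} R) 0).map q ≫ e0.inv)
  dsimp only at hpt
  have hsq : Epi ((homologyFunctor (ModuleCat.{u} R) 0).map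
      ((DerivedCategory.singleFunctor (ModuleCat.{u} R) 0).map q)) := by
    have hn := (DerivedCategory.singleFunctorCompHomologyFunctorIso (ModuleCat.{u} R) 0).hom.naturality q
    have h2 : (homologyFunctor (ModuleCat.{u} R) 0).map
        ((DerivedCategory.singleFunctor (ModuleCat.{u} R) 0).map q) =
        (DerivedCategory.singleFunctorCompHomologyFunctorIso (ModuleCat.{u} R) 0).hom.app F ≫ q ≫
          (DerivedCategory.singleFunctorCompHomologyFunctorIso (ModuleCat.{u} R) 0).inv.app H := by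
      rw [← Category.assoc, ← Functor.id_map q, ← hn]
      simp
    rw [h2]
    infer_instance
  refine ⟨pt, ?_⟩
  have h1 : (homologyFunctor (ModuleCat.{u} R) 0).map pt =
      ((homologyFunctor (ModuleCat.{u} R) 0).map ((DerivedCategory.singleFunctor (ModuleCat.{u} R) 0).map q) ≫
        (homologyFunctor (ModuleCat.{u} R) 0).map e0.inv) ≫
      inv ((homologyFunctor (ModuleCat.{u} R) 0).map ((TStructure.t.truncGEπ 0).app K)) := by
    rw [← Functor.map_comp, ← hpt, Functor.map_comp, Category.assoc, IsIso.hom_inv_id,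
      Category.comp_id]
  rw [h1]
  infer_instance

theorem eq_zero_of_shift {X Y : DerivedCategory (ModuleCat.{u} R)} (m n k : ℤ) (h : m + n = k)
    (hz : ∀ f : X ⟶ Y⟦m⟧, f = 0) (φ : X⟦n⟧ ⟶ Y⟦k⟧) : φ = 0 := by
  let e : Y⟦k⟧ ≅ Y⟦m⟧⟦n⟧ :=
    (shiftFunctorAdd' (DerivedCategory (ModuleCat.{u} R)) m n k h).app Y
  obtain ⟨ψ, hψ⟩ := (shiftFunctor (DerivedCategory (ModuleCat.{u} R)) n).map_surjective (φ ≫ e.hom)
  rw [hz ψ, Functor.map_zero] at hψ
  exact (cancel_mono e.hom).mp (hψ.symm.trans zero_comp.symm)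

/-- Normalized form of the construction of a projective representative: an object in degrees
`[-n, 0]` with `Hom(K, N[n+1]) = 0` for all modules `N` has projective amplitude `[-n, 0]`. -/
theorem PA_norm (n : ℕ) : ∀ (K : DerivedCategory (ModuleCat.{u} R)), K.IsLE 0 → K.IsGE (-(n : ℤ)) →
    (∀ (N : ModuleCat.{u} R) (m : ℤ) (_ : m = (n : ℤ) + 1)
      (f : K ⟶ ((DerivedCategory.singleFunctor (ModuleCat.{u} R) 0).obj N)⟦m⟧), f = 0) →
    PA (-(n : ℤ)) 0 K := by
  induction n with
  | zero =>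
    intro K hL hG h
    have hG' : K.IsGE 0 := by simpa using hG
    obtain ⟨H, ⟨e0⟩⟩ := exists_iso_singleFunctor_obj_of_isGE_of_isLE K 0
    have hP : Projective H := by
      apply projective_of_subsingleton_hom_shift_one
      intro Y
      refine ⟨fun a b => ?_⟩
      have ha := h Y 1 (by simp) (e0.hom ≫ a)
      have hb := h Y 1 (by simp) (e0.hom ≫ b)
      rw [← cancel_epi e0.hom, ha, hb]
    have hP' : Module.Projective R H := (IsProjective.iff_projective (R := R) (P := H)).mpr hP
    have := PA.of_iso e0.symm (PA.single H)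
    simpa using this
  | succ n ih =>
    intro K hL hG h
    -- lift a free cover of `H⁰(K)`
    have hF : Projective (coverObj ((homologyFunctor (ModuleCat.{u} R) 0).obj K)) :=
      (IsProjective.iff_projective (R := R)
        (P := coverObj ((homologyFunctor (ModuleCat.{u} R) 0).obj K))).mp Module.Projective.of_free
    have hFm : Module.Projective R (coverObj ((homologyFunctor (ModuleCat.{u} R) 0).obj K)) :=
      Module.Projective.of_free
    have hepi : Epi (coverMap ((homologyFunctor (ModuleCat.{u} R) 0).obj K)) := by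
      rw [ModuleCat.epi_iff_surjective]
      exact coverMap_surjective _
    obtain ⟨pt, hpe⟩ := exists_lift_epi K (coverObj ((homologyFunctor (ModuleCat.{u} R) 0).obj K))
      (coverMap _)
    obtain ⟨Z, g, δ, hT⟩ := distinguished_cocone_triangle pt
    have hFG : ((DerivedCategory.singleFunctor (ModuleCat.{u} R) 0).obj
      (coverObj ((homologyFunctor (ModuleCat.{u} R) 0).obj K))).IsGE 0 := inferInstance
    have hFL : ((DerivedCategory.singleFunctor (ModuleCat.{u} R) 0).obj
      (coverObj ((homologyFunctor (ModuleCat.{u} R) 0).obj K))).IsLE 0 := inferInstance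
    have hZL1 : Z.IsLE (-1) := by
      rw [DerivedCategory.isLE_iff]
      intro i hi
      refine isZero_homology_obj₃ _ hT i (i + 1) rfl ?_ ?_
      · by_cases hi0 : i = 0
        · subst hi0
          exact hpe
        · exact (isZero_of_isLE K 0 i (by omega)).epi _
      · exact (isZero_of_isLE ((DerivedCategory.singleFunctor (ModuleCat.{u} R) 0).obj
          (coverObj ((homologyFunctor (ModuleCat.{u} R) 0).obj K))) 0 (i + 1) (by omega)).mono _
    have hZG1 : Z.IsGE (-((n + 1 : ℕ) : ℤ)) := by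
      rw [DerivedCategory.isGE_iff]
      intro i hi
      refine isZero_homology_obj₃ _ hT i (i + 1) rfl ?_ ?_
      · exact (isZero_of_isGE K (-((n + 1 : ℕ) : ℤ)) i hi).epi _
      · exact (isZero_of_isGE ((DerivedCategory.singleFunctor (ModuleCat.{u} R) 0).obj
          (coverObj ((homologyFunctor (ModuleCat.{u} R) 0).obj K))) 0 (i + 1)
            (by push_cast at hi; omega)).mono _
    have hZ'L : TStructure.t.IsLE (Z⟦(-1 : ℤ)⟧) 0 := TStructure.t.isLE_shift _ (-1) (-1) 0
    have hZ'G : TStructure.t.IsGE (Z⟦(-1 : ℤ)⟧) (-(n : ℤ)) :=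
      TStructure.t.isGE_shift _ (-((n + 1 : ℕ) : ℤ)) (-1) _ (by push_cast; omega)
    -- maps from `Z` to `N[n+2]` vanish
    have hZN : ∀ (N : ModuleCat.{u} R)
        (f : Z ⟶ ((DerivedCategory.singleFunctor (ModuleCat.{u} R) 0).obj N)⟦((n : ℤ) + 2)⟧),
        f = 0 := by
      intro N f
      have h1 : g ≫ f = 0 := h N _ (by push_cast; ring) _
      obtain ⟨ψ, hψ⟩ := Triangle.yoneda_exact₃ _ hT f h1
      have hW : TStructure.t.IsLE
          (((DerivedCategory.singleFunctor (ModuleCat.{u} R) 0).obj N)⟦((n : ℤ) + 2)⟧)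
          (-((n : ℤ) + 2)) := TStructure.t.isLE_shift _ 0 _ _ (by omega)
      have hW' : TStructure.t.IsLE
          ((((DerivedCategory.singleFunctor (ModuleCat.{u} R) 0).obj N)⟦((n : ℤ) + 2)⟧)⟦(-1 : ℤ)⟧)
          (-((n : ℤ) + 1)) := TStructure.t.isLE_shift _ (-((n : ℤ) + 2)) (-1) _ (by omega)
      have h2 : (shiftShiftNeg ((DerivedCategory.singleFunctor (ModuleCat.{u} R) 0).obj
          (coverObj ((homologyFunctor (ModuleCat.{u} R) 0).obj K))) (1 : ℤ)).inv ≫
          ψ⟦(-1 : ℤ)⟧' = 0 :=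
        hom_single_projective_eq_zero _ (-((n : ℤ) + 1)) 0 (by omega) _
      have h3 : ψ⟦(-1 : ℤ)⟧' = 0 :=
        (cancel_epi (shiftShiftNeg ((DerivedCategory.singleFunctor (ModuleCat.{u} R) 0).obj
          (coverObj ((homologyFunctor (ModuleCat.{u} R) 0).obj K))) (1 : ℤ)).inv).mp
            (h2.trans comp_zero.symm)
      have h4 : ψ = 0 := (shiftFunctor (DerivedCategory (ModuleCat.{u} R)) (-1 : ℤ)).map_injective
        (by rw [h3, Functor.map_zero])
      rw [hψ, h4]
      exact comp_zero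
    have hZ' : PA (-(n : ℤ)) 0 (Z⟦(-1 : ℤ)⟧) := by
      refine ih _ hZ'L hZ'G (fun N m hm f => ?_)
      subst hm
      exact eq_zero_of_shift ((n : ℤ) + 2) (-1) ((n : ℤ) + 1) (by omega) (hZN N) f
    have hT' := inv_rot_of_distTriang _ hT
    have h0 : PA (-((n + 1 : ℕ) : ℤ)) 0 ((DerivedCategory.singleFunctor (ModuleCat.{u} R) 0).obj
        (coverObj ((homologyFunctor (ModuleCat.{u} R) 0).obj K))) :=
      (PA.single _).mono (by push_cast; omega) le_rfl
    exact PA.obj₃ _ hT' (hZ'.mono (by push_cast; omega) (by omega)) h0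

/-- General form: an object in degrees `[a, b]` with `Hom(K, N[-a+1]) = 0` for all modules `N` has
projective amplitude `[a, b]`. -/
theorem PA_of_hom_vanishing (K : DerivedCategory (ModuleCat.{u} R)) (a b : ℤ) (hG : K.IsGE a)
    (hL : K.IsLE b)
    (h : ∀ (N : ModuleCat.{u} R)
      (f : K ⟶ ((DerivedCategory.singleFunctor (ModuleCat.{u} R) 0).obj N)⟦(-a + 1)⟧), f = 0) :
    PA a b K := by
  by_cases hab : b < a
  · exact PA.of_isZero (TStructure.t.isZero K b a hab)
  have hL' : TStructure.t.IsLE (K⟦b⟧) 0 := TStructure.t.isLE_shift K b b 0 (by omega)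
  have hG' : TStructure.t.IsGE (K⟦b⟧) (-(((b - a).toNat : ℕ) : ℤ)) :=
    TStructure.t.isGE_shift K a b _ (by omega)
  have h1 := PA_norm (b - a).toNat (K⟦b⟧) hL' hG' (fun N m hm f =>
    eq_zero_of_shift (-a + 1) b m (by omega) (h N) f)
  exact ((h1.shift (-b)).of_iso (shiftShiftNeg K b)).mono (by omega) (by omega)

theorem hom_to_single_injective_eq_zero {I : ModuleCat.{u} R} [Injective I]
    (X : DerivedCategory (ModuleCat.{u} R)) (n i : ℤ) (hn : i < n) [X.IsGE n]
    (φ : X ⟶ (singleFunctor (ModuleCat.{u} R) i).obj I) : φ = 0 := by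
  obtain ⟨L, hL, ⟨e⟩⟩ := exists_iso_Q_obj_of_isGE X n
  rw [← cancel_epi e.inv, comp_zero]
  exact to_singleFunctor_obj_eq_zero_of_injective (e.inv ≫ φ) n hn

/-- Detection of cohomology by maps to injectives: if every map `K ⟶ I[-n]` with `I` injective
vanishes, then `Hⁿ(K) = 0`. -/
theorem isZero_homology_of_hom_to_injective (K : DerivedCategory (ModuleCat.{u} R)) (n : ℤ)
    (h : ∀ (I : ModuleCat.{u} R) [Injective I]
      (f : K ⟶ (singleFunctor (ModuleCat.{u} R) n).obj I), f = 0) :
    IsZero ((homologyFunctor (ModuleCat.{u} R) n).obj K) := by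
  let K₁ := (TStructure.t.truncGE n).obj K
  let S := (TStructure.t.truncLT (n + 1)).obj K₁
  have hSL : TStructure.t.IsLE S n := TStructure.t.isLE_truncLT_obj K₁ (n + 1) n
  have hSG : TStructure.t.IsGE S n := inferInstance
  obtain ⟨H₀, ⟨e⟩⟩ := exists_iso_singleFunctor_obj_of_isGE_of_isLE S n
  have : EnoughInjectives (ModuleCat.{u} R) := inferInstance
  let I := Injective.under H₀
  let j : H₀ ⟶ I := Injective.ι H₀
  let g : S ⟶ (singleFunctor (ModuleCat.{u} R) n).obj I :=
    e.hom ≫ (singleFunctor (ModuleCat.{u} R) n).map j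
  have hT := inv_rot_of_distTriang _ (TStructure.t.triangleLTGE_distinguished (n + 1) K₁)
  have hG2 : TStructure.t.IsGE (((TStructure.t.truncGE (n + 1)).obj K₁)⟦(-1 : ℤ)⟧) (n + 2) :=
    TStructure.t.isGE_shift _ (n + 1) (-1) (n + 2) (by omega)
  have h1 : ((TStructure.t.triangleLTGE (n + 1)).obj K₁).invRotate.mor₁ ≫ g = 0 :=
    hom_to_single_injective_eq_zero (I := I)
      (((TStructure.t.truncGE (n + 1)).obj K₁)⟦(-1 : ℤ)⟧) (n + 2) n (by omega) _
  obtain ⟨g₀, hg₀⟩ := Triangle.yoneda_exact₂ _ hT g h1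
  have hex : ∃ g' : K₁ ⟶ (singleFunctor (ModuleCat.{u} R) n).obj I,
      g = (TStructure.t.truncLTι (n + 1)).app K₁ ≫ g' := ⟨g₀, hg₀⟩
  obtain ⟨g', hg''⟩ := hex
  have hf : (TStructure.t.truncGEπ n).app K ≫ g' = 0 := h I _
  have hπ := isIso_homology_map_truncGEπ' K n n le_rfl
  have hι := isIso_homology_map_truncLTι' K₁ (n + 1) n (by omega)
  -- `Hⁿ(g') = 0`
  have h2 : (homologyFunctor (ModuleCat.{u} R) n).map g' = 0 := by
    have h3 : (homologyFunctor (ModuleCat.{u} R) n).map ((TStructure.t.truncGEπ n).app K) ≫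
        (homologyFunctor (ModuleCat.{u} R) n).map g' = 0 := by
      rw [← Functor.map_comp, hf, Functor.map_zero]
    have hπe : Epi ((homologyFunctor (ModuleCat.{u} R) n).map ((TStructure.t.truncGEπ n).app K)) :=
      IsIso.epi_of_iso _
    exact (cancel_epi ((homologyFunctor (ModuleCat.{u} R) n).map
      ((TStructure.t.truncGEπ n).app K))).mp (h3.trans comp_zero.symm)
  -- `Hⁿ(g) = 0`
  have h4 : (homologyFunctor (ModuleCat.{u} R) n).map g = 0 := by
    rw [hg'', Functor.map_comp, h2, comp_zero]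
  -- `j = 0`
  have h5 : (homologyFunctor (ModuleCat.{u} R) n).map
      ((singleFunctor (ModuleCat.{u} R) n).map j) = 0 := by
    have h6 : (homologyFunctor (ModuleCat.{u} R) n).map e.hom ≫
        (homologyFunctor (ModuleCat.{u} R) n).map ((singleFunctor (ModuleCat.{u} R) n).map j) = 0 := by
      rw [← Functor.map_comp]
      exact h4
    exact (cancel_epi _).mp (h6.trans comp_zero.symm)
  have hj : j = 0 := by
    have hn := (DerivedCategory.singleFunctorCompHomologyFunctorIso (ModuleCat.{u} R) n).hom.naturality j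
    have h7 : (DerivedCategory.singleFunctorCompHomologyFunctorIso (ModuleCat.{u} R) n).hom.app H₀ ≫ j = 0 := by
      have : (DerivedCategory.singleFunctorCompHomologyFunctorIso (ModuleCat.{u} R) n).hom.app H₀ ≫
          (𝟭 _).map j = 0 := by
        rw [← hn]
        dsimp
        rw [h5, zero_comp]
      simpa using this
    exact (cancel_epi _).mp (h7.trans comp_zero.symm)
  have hH₀ : IsZero H₀ := by
    have hm : Mono j := inferInstance
    rw [IsZero.iff_id_eq_zero]
    exact (cancel_mono j).mp (by rw [hj, comp_zero, zero_comp])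
  have hS : IsZero S := ((singleFunctor (ModuleCat.{u} R) n).map_isZero hH₀).of_iso e
  have hz1 : IsZero ((homologyFunctor (ModuleCat.{u} R) n).obj K₁) :=
    ((homologyFunctor (ModuleCat.{u} R) n).map_isZero hS).of_iso
      (asIso ((homologyFunctor (ModuleCat.{u} R) n).map ((TStructure.t.truncLTι (n + 1)).app K₁))).symm
  exact hz1.of_iso
    (asIso ((homologyFunctor (ModuleCat.{u} R) n).map ((TStructure.t.truncGEπ n).app K)))

theorem eq_zero_of_subsingleton_shift (K : DerivedCategory (ModuleCat.{u} R)) (I : ModuleCat.{u} R)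
    (n m : ℤ) (hnm : m + n = 0)
    (hs : Subsingleton (K ⟶ ((singleFunctor (ModuleCat.{u} R) 0).obj I)⟦m⟧))
    (f : K ⟶ (singleFunctor (ModuleCat.{u} R) n).obj I) : f = 0 := by
  let e : ((singleFunctor (ModuleCat.{u} R) 0).obj I)⟦m⟧ ≅ (singleFunctor (ModuleCat.{u} R) n).obj I :=
    ((DerivedCategory.singleFunctors (ModuleCat.{u} R)).shiftIso m n 0 hnm).app I
  have h1 : f ≫ e.inv = 0 := hs.elim _ _
  exact (cancel_mono e.inv).mp (h1.trans zero_comp.symm)

/-- Cohomology vanishing from vanishing of maps to shifted modules. -/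
theorem subsingleton_homology_of_subsingleton_hom (K : DerivedCategory (ModuleCat.{u} R)) (n m : ℤ)
    (hnm : m + n = 0)
    (hs : ∀ N : ModuleCat.{u} R, Subsingleton (K ⟶ ((singleFunctor (ModuleCat.{u} R) 0).obj N)⟦m⟧)) :
    Subsingleton ((homologyFunctor (ModuleCat.{u} R) n).obj K) :=
  ModuleCat.subsingleton_of_isZero (isZero_homology_of_hom_to_injective K n
    (fun I _ f => eq_zero_of_subsingleton_shift K I n m hnm (hs I) f))

/-- The four characterizations of projective amplitude. -/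
theorem PA_tfae (K : DerivedCategory (ModuleCat.{u} R)) (a b : ℤ) :
    [PA a b K,
      ∀ (N : ModuleCat.{u} R) (i : ℤ), (i < -b ∨ -a < i) →
        Subsingleton (K ⟶ ((singleFunctor (ModuleCat.{u} R) 0).obj N)⟦i⟧),
      (∀ n : ℤ, b < n → Subsingleton ((homologyFunctor (ModuleCat.{u} R) n).obj K)) ∧
        ∀ (N : ModuleCat.{u} R) (i : ℤ), -a < i →
          Subsingleton (K ⟶ ((singleFunctor (ModuleCat.{u} R) 0).obj N)⟦i⟧),
      (∀ n : ℤ, (n < a - 1 ∨ b < n) → Subsingleton ((homologyFunctor (ModuleCat.{u} R) n).obj K)) ∧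
        ∀ (N : ModuleCat.{u} R),
          Subsingleton (K ⟶ ((singleFunctor (ModuleCat.{u} R) 0).obj N)⟦(-a + 1)⟧)].TFAE := by
  tfae_have 1 → 2 := by
    intro hK N i hi
    refine ⟨fun φ ψ => ?_⟩
    have hz : ∀ ξ : K ⟶ ((singleFunctor (ModuleCat.{u} R) 0).obj N)⟦i⟧, ξ = 0 := by
      intro ξ
      rcases hi with hi | hi
      · have := hK.isLE
        have hG : TStructure.t.IsGE (((singleFunctor (ModuleCat.{u} R) 0).obj N)⟦i⟧) (-i) :=
          TStructure.t.isGE_shift _ 0 i (-i) (by omega)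
        exact TStructure.t.zero ξ b (-i) (by omega)
      · have hL : TStructure.t.IsLE (((singleFunctor (ModuleCat.{u} R) 0).obj N)⟦i⟧) (-i) :=
          TStructure.t.isLE_shift _ 0 i (-i) (by omega)
        have hL' : DerivedCategory.IsLE (((singleFunctor (ModuleCat.{u} R) 0).obj N)⟦i⟧) (a - 1) :=
          TStructure.t.isLE_of_le _ (-i) (a - 1) (by omega)
        exact hom_eq_zero_of_projAmp a b K hK _ ξ
    rw [hz φ, hz ψ]
  tfae_have 2 → 3 := by
    intro h
    refine ⟨fun n hn => ?_, fun N i hi => h N i (Or.inr hi)⟩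
    exact subsingleton_homology_of_subsingleton_hom K n (-n) (by omega)
      (fun N => h N (-n) (Or.inl (by omega)))
  tfae_have 3 → 4 := by
    rintro ⟨h1, h2⟩
    refine ⟨fun n hn => ?_, fun N => h2 N (-a + 1) (by omega)⟩
    rcases hn with hn | hn
    · exact subsingleton_homology_of_subsingleton_hom K n (-n) (by omega)
        (fun N => h2 N (-n) (by omega))
    · exact h1 n hn
  tfae_have 4 → 1 := by
    rintro ⟨h1, h2⟩
    have hL : K.IsLE b := by
      rw [DerivedCategory.isLE_iff]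
      intro i hi
      have := h1 i (Or.inr hi)
      exact ModuleCat.isZero_of_subsingleton _
    have hG : K.IsGE a := by
      rw [DerivedCategory.isGE_iff]
      intro i hi
      by_cases hi' : i < a - 1
      · have := h1 i (Or.inl hi')
        exact ModuleCat.isZero_of_subsingleton _
      · have hia : i = a - 1 := by omega
        subst hia
        have := subsingleton_homology_of_subsingleton_hom K (a - 1) (-a + 1) (by omega) h2
        exact ModuleCat.isZero_of_subsingleton _
    exact PA_of_hom_vanishing K a b hG hL (fun N f => (h2 N).elim _ _)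
  tfae_finish

end Groth.Agent.Lib.Helper35.KL
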