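import Groth.Agent.Lib.Helper35.FlatGlue

/-! Perfectness modulo a product of ideals (helper35). -/

set_option autoImplicit false
set_option linter.unusedSectionVars false
universe u
open CategoryTheory CategoryTheory.Limits MonoidalCategory DerivedCategory CochainComplex
  TensorProduct Pretriangulated
attribute [local instance] HasDerivedCategory.standard

namespace Groth.Agent.Lib.Helper35.TA

open Groth.Agent.Lib.Helper32.KProjDerived Groth.Agent.Lib.Helper32.LBC
open Groth.Agent.Lib.Helper6 Groth.Agent.Lib.Helper6.MPC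

section Descent2

variable {R R₁ R₂ : Type u} [CommRing R] [CommRing R₁] [CommRing R₂]
  (F₁ : Dual.D R ⥤ Dual.D R₁) [F₁.CommShift ℤ] [F₁.IsTriangulated]
  (F₂ : Dual.D R ⥤ Dual.D R₂) [F₂.CommShift ℤ] [F₂.IsTriangulated]

/-- hypotheses for descent of pseudo-coherence along a pair of functors. -/
structure Hyp2 : Prop where
  isLE₁ : ∀ (K : Dual.D R) (t : ℤ), K.IsLE t → (F₁.obj K).IsLE t
  isLE₂ : ∀ (K : Dual.D R) (t : ℤ), K.IsLE t → (F₂.obj K).IsLE t
  finite : ∀ (K : Dual.D R) (t : ℤ), K.IsLE t →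
    Module.Finite R₁ ((homologyFunctor (ModuleCat.{u} R₁) t).obj (F₁.obj K)) →
    Module.Finite R₂ ((homologyFunctor (ModuleCat.{u} R₂) t).obj (F₂.obj K)) →
      Module.Finite R ((homologyFunctor (ModuleCat.{u} R) t).obj K)
  free₁ : ∀ (t : ℤ) (r : ℕ) (m : ℤ), DRing.IsPseudoCoherent R₁ m
    (F₁.obj ((DerivedCategory.singleFunctor (ModuleCat.{u} R) t).obj
      (ModuleCat.of R (Fin r → R))))
  free₂ : ∀ (t : ℤ) (r : ℕ) (m : ℤ), DRing.IsPseudoCoherent R₂ m
    (F₂.obj ((DerivedCategory.singleFunctor (ModuleCat.{u} R) t).obj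
      (ModuleCat.of R (Fin r → R))))

variable {F₁ F₂}

theorem descent2_aux (H : Hyp2 F₁ F₂) (n : ℕ) :
    ∀ (K : Dual.D R) (t m : ℤ), t - m + 1 ≤ n → K.IsLE t →
      DRing.IsPseudoCoherent R₁ m (F₁.obj K) → DRing.IsPseudoCoherent R₂ m (F₂.obj K) →
      DRing.IsPseudoCoherent R m K := by
  induction n with
  | zero =>
    intro K t m hn hK _ _
    have : K.IsLE (m - 1) := TStructure.t.isLE_of_le K t (m - 1) (by omega)
    exact isPC_of_isLE m K
  | succ n ih =>
    intro K t m hn hK h₁ h₂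
    by_cases htm : t < m
    · have : K.IsLE (m - 1) := TStructure.t.isLE_of_le K t (m - 1) (by omega)
      exact isPC_of_isLE m K
    · have htm' : m ≤ t := by omega
      have hfin : Module.Finite R ((homologyFunctor (ModuleCat.{u} R) t).obj K) := by
        refine H.finite K t hK ?_ ?_
        · have := H.isLE₁ K t hK
          exact finite_top _ t (isPC_of_le htm' h₁)
        · have := H.isLE₂ K t hK
          exact finite_top _ t (isPC_of_le htm' h₂)
      obtain ⟨r, f, hf⟩ := Module.Finite.exists_fin' R ((homologyFunctor (ModuleCat.{u} R) t).obj K)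
      let P : ModuleCat.{u} R := ModuleCat.of R (Fin r → R)
      have hF1 : Module.Finite R P := inferInstanceAs (Module.Finite R (Fin r → R))
      have hF2 : Module.Free R P := inferInstanceAs (Module.Free R (Fin r → R))
      have hF3 : Projective P := (IsProjective.iff_projective (R := R) (P := P)).mp inferInstance
      have hepi : Epi (ModuleCat.ofHom f) := (ModuleCat.epi_iff_surjective _).2 hf
      obtain ⟨ψ, hψ⟩ := Resol.exists_cond_map_of_epi K t P (ModuleCat.ofHom f)
      obtain ⟨K', p, q, hT⟩ := distinguished_cocone_triangle ψ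
      have hK' : K'.IsLE (t - 1) := (cond_iff_isLE _ hT t).1 hψ
      have h2₁ : DRing.IsPseudoCoherent R₁ m (F₁.obj K') :=
        (isPC_triangle _ (F₁.map_distinguished _ hT) m).1 (H.free₁ t r (m + 1)) h₁
      have h2₂ : DRing.IsPseudoCoherent R₂ m (F₂.obj K') :=
        (isPC_triangle _ (F₂.map_distinguished _ hT) m).1 (H.free₂ t r (m + 1)) h₂
      have h3 : DRing.IsPseudoCoherent R m K' := ih K' (t - 1) m (by omega) hK' h2₁ h2₂
      have hFB : DRing.IsPseudoCoherent R m
          ((DerivedCategory.singleFunctor (ModuleCat.{u} R) t).obj P) :=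
        isPC_single_degree P t m (isPC_of_FF (FF_single P) (m - t))
      exact (isPC_triangle _ hT m).2.1 hFB h3

theorem descent2' (H : Hyp2 F₁ F₂) (K : Dual.D R) (t : ℤ) (hK : K.IsLE t)
    (h₁ : DRing.IsPseudoCoherent' R₁ (F₁.obj K)) (h₂ : DRing.IsPseudoCoherent' R₂ (F₂.obj K)) :
    DRing.IsPseudoCoherent' R K := by
  rw [Resol.isPC'_iff]
  intro m
  exact descent2_aux H (t - m + 1).toNat K t m (by omega) hK (isPC_of_isPC' h₁ m)
    (isPC_of_isPC' h₂ m)

end Descent2

section Nak2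

variable {A : Type u} [CommRing A] {M : Type u} [AddCommGroup M] [Module A M]

theorem exists_fg_sup_smul_top_eq_top (I : Ideal A)
    (h : Module.Finite A (M ⧸ I • (⊤ : Submodule A M))) :
    ∃ N : Submodule A M, N.FG ∧ N ⊔ I • (⊤ : Submodule A M) = ⊤ := by
  obtain ⟨n, s, hs⟩ := Module.Finite.exists_fin (R := A) (M := M ⧸ I • (⊤ : Submodule A M))
  choose x hx using fun i => Submodule.mkQ_surjective _ (s i)
  let N : Submodule A M := Submodule.span A (Set.range x)
  have h1 : N.map (I • (⊤ : Submodule A M)).mkQ = ⊤ := by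
    rw [Submodule.map_span, ← Set.range_comp, ← hs]
    congr 2
    funext i
    exact hx i
  have h2 : N ⊔ I • (⊤ : Submodule A M) = ⊤ := by
    have := Submodule.comap_map_eq (I • (⊤ : Submodule A M)).mkQ N
    rw [h1, Submodule.comap_top, Submodule.ker_mkQ] at this
    exact this.symm
  exact ⟨N, Submodule.fg_span (Set.finite_range x), h2⟩

/-- `M ⧸ I M` and `M ⧸ J M` finite with `I J = 0` implies `M` finite. -/
theorem finite_of_finite_quotient_smul_of_mul_eq_bot (I J : Ideal A) (hIJ : I * J = ⊥)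
    (h₁ : Module.Finite A (M ⧸ I • (⊤ : Submodule A M)))
    (h₂ : Module.Finite A (M ⧸ J • (⊤ : Submodule A M))) : Module.Finite A M := by
  obtain ⟨N₁, hN₁, e₁⟩ := exists_fg_sup_smul_top_eq_top I h₁
  obtain ⟨N₂, hN₂, e₂⟩ := exists_fg_sup_smul_top_eq_top J h₂
  have h3 : N₁ ⊔ N₂ = ⊤ := by
    rw [eq_top_iff]
    calc (⊤ : Submodule A M) = N₁ ⊔ I • (⊤ : Submodule A M) := e₁.symm
      _ = N₁ ⊔ I • (N₂ ⊔ J • (⊤ : Submodule A M)) := by rw [e₂]
      _ = N₁ ⊔ (I • N₂ ⊔ I • J • (⊤ : Submodule A M)) := by rw [Submodule.smul_sup]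
      _ ≤ N₁ ⊔ N₂ := by
        refine sup_le le_sup_left (sup_le (le_sup_of_le_right Submodule.smul_le_right) ?_)
        rw [← mul_smul, hIJ, Submodule.bot_smul]
        exact bot_le
  exact ⟨by rw [← h3]; exact hN₁.sup hN₂⟩

end Nak2

section LemF2

variable {A B : Type u} [CommRing A] [CommRing B] (φ : A →+* B)
variable {X Y : Type u} [AddCommGroup X] [Module A X] [AddCommGroup Y] [Module A Y]

theorem finite_quot_smul_of_finite_coker_lTensor (hφ : Function.Surjective φ) (d : X →ₗ[A] Y)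
    (h : Module.Finite A ((rRes φ ⊗[A] Y) ⧸ LinearMap.range (d.lTensor (rRes φ)))) :
    Module.Finite A ((Y ⧸ LinearMap.range d) ⧸
      (RingHom.ker φ) • (⊤ : Submodule A (Y ⧸ LinearMap.range d))) := by
  let π := (LinearMap.range d).mkQ
  have hex : Function.Exact (d.lTensor (rRes φ)) (π.lTensor (rRes φ)) :=
    lTensor_exact _ (LinearMap.exact_map_mkQ_range d) (Submodule.mkQ_surjective _)
  have hs : Function.Surjective (π.lTensor (rRes φ)) :=
    LinearMap.lTensor_surjective _ (Submodule.mkQ_surjective _)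
  have hk : LinearMap.range (d.lTensor (rRes φ)) = LinearMap.ker (π.lTensor (rRes φ)) :=
    (LinearMap.exact_iff.1 hex).symm
  let e₁ := (Submodule.quotEquivOfEq _ _ hk).trans
    (LinearMap.quotKerEquivOfSurjective (π.lTensor (rRes φ)) hs)
  let e₂ := TensorProduct.congr (quotKerLinearEquiv φ hφ).symm
    (LinearEquiv.refl A (Y ⧸ LinearMap.range d))
  let e₃ := TensorProduct.quotTensorEquivQuotSMul (Y ⧸ LinearMap.range d) (RingHom.ker φ)
  exact Module.Finite.equiv (e₁.trans (e₂.trans e₃))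

variable [DRing.HasLBaseChange φ]

set_option backward.isDefEq.respectTransparency false in
theorem finite_quot_smul_top_of_LBaseChange (hφ : Function.Surjective φ) (E : DRing.Cx A) (t : ℤ)
    (hv : DRing.VanishesAbove E t) (hproj : ∀ i, Module.Projective A (E.X i))
    (h : Module.Finite B ((homologyFunctor (ModuleCat.{u} B) t).obj
      ((DRing.LBaseChange φ).obj (DRing.toD E)))) :
    Module.Finite A ((E.X t ⧸ LinearMap.range (E.d (t - 1) t).hom) ⧸
      (RingHom.ker φ) • (⊤ : Submodule A (E.X t ⧸ LinearMap.range (E.d (t - 1) t).hom))) := by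
  have hEK : E.IsKProjective := isKProjective_of_vanishesAbove E t hv hproj
  have hvB : DRing.VanishesAbove ((extCx φ).obj E) t := fun i hi =>
    CategoryTheory.Functor.map_isZero (ModuleCat.extendScalars.{u, u, u} φ) (hv i hi)
  have e' : (DRing.LBaseChange φ).obj (DRing.toD E) ≅ DRing.toD ((extCx φ).obj E) := lbcIso φ E
  have h1 : Module.Finite B (((ModuleCat.extendScalars.{u, u, u} φ).obj (E.X t)) ⧸
      LinearMap.range ((ModuleCat.extendScalars.{u, u, u} φ).map (E.d (t - 1) t)).hom) :=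
    Module.Finite.equiv (((homologyFunctor (ModuleCat.{u} B) t).mapIso e').toLinearEquiv ≪≫ₗ
      topHomologyLinearEquiv ((extCx φ).obj E) t hvB)
  have h2 := finite_coker_lTensor_of_finite_ext φ hφ _ _ (E.d (t - 1) t) h1
  exact finite_quot_smul_of_finite_coker_lTensor φ hφ (E.d (t - 1) t).hom h2

end LemF2

section Pair

variable {A B₁ B₂ : Type u} [CommRing A] [CommRing B₁] [CommRing B₂]
  (φ₁ : A →+* B₁) (φ₂ : A →+* B₂) [DRing.HasLBaseChange φ₁] [DRing.HasLBaseChange φ₂]

theorem finite_homology_of_LBaseChange_pair (hφ₁ : Function.Surjective φ₁)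
    (hφ₂ : Function.Surjective φ₂) (hker : RingHom.ker φ₁ * RingHom.ker φ₂ = ⊥)
    (K : Dual.D A) (t : ℤ) (hK : K.IsLE t)
    (h₁ : Module.Finite B₁ ((homologyFunctor (ModuleCat.{u} B₁) t).obj
      ((DRing.LBaseChange φ₁).obj K)))
    (h₂ : Module.Finite B₂ ((homologyFunctor (ModuleCat.{u} B₂) t).obj
      ((DRing.LBaseChange φ₂).obj K))) :
    Module.Finite A ((homologyFunctor (ModuleCat.{u} A) t).obj K) := by
  obtain ⟨E, hv, hproj, ⟨e⟩⟩ := exists_projective_rep K t
  have h₁' : Module.Finite B₁ ((homologyFunctor (ModuleCat.{u} B₁) t).obj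
      ((DRing.LBaseChange φ₁).obj (DRing.toD E))) :=
    Module.Finite.equiv ((homologyFunctor (ModuleCat.{u} B₁) t).mapIso
      ((DRing.LBaseChange φ₁).mapIso e.symm)).toLinearEquiv
  have h₂' : Module.Finite B₂ ((homologyFunctor (ModuleCat.{u} B₂) t).obj
      ((DRing.LBaseChange φ₂).obj (DRing.toD E))) :=
    Module.Finite.equiv ((homologyFunctor (ModuleCat.{u} B₂) t).mapIso
      ((DRing.LBaseChange φ₂).mapIso e.symm)).toLinearEquiv
  have g₁ := finite_quot_smul_top_of_LBaseChange φ₁ hφ₁ E t hv hproj h₁'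
  have g₂ := finite_quot_smul_top_of_LBaseChange φ₂ hφ₂ E t hv hproj h₂'
  have h3 := finite_of_finite_quotient_smul_of_mul_eq_bot _ _ hker g₁ g₂
  exact Module.Finite.equiv (((homologyFunctor (ModuleCat.{u} A) t).mapIso e.symm).toLinearEquiv ≪≫ₗ
      topHomologyLinearEquiv E t hv).symm

theorem hyp2_LBaseChange_pair (hφ₁ : Function.Surjective φ₁)
    (hφ₂ : Function.Surjective φ₂) (hker : RingHom.ker φ₁ * RingHom.ker φ₂ = ⊥) :
    letI := LBCPC.lbcCommShift φ₁
    haveI := LBCPC.lbc_isTriangulated φ₁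
    letI := LBCPC.lbcCommShift φ₂
    haveI := LBCPC.lbc_isTriangulated φ₂
    Hyp2 (DRing.LBaseChange φ₁) (DRing.LBaseChange φ₂) := by
  let _ := LBCPC.lbcCommShift φ₁
  have := LBCPC.lbc_isTriangulated φ₁
  let _ := LBCPC.lbcCommShift φ₂
  have := LBCPC.lbc_isTriangulated φ₂
  exact {
    isLE₁ := fun K t hK => LBCPC.isLE_LBaseChange φ₁ K t
    isLE₂ := fun K t hK => LBCPC.isLE_LBaseChange φ₂ K t
    finite := fun K t hK h₁ h₂ =>
      finite_homology_of_LBaseChange_pair φ₁ φ₂ hφ₁ hφ₂ hker K t hK h₁ h₂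
    free₁ := fun t r m => by
      let P : ModuleCat.{u} A := ModuleCat.of A (Fin r → A)
      have hF1 : Module.Finite A P := inferInstanceAs (Module.Finite A (Fin r → A))
      have hF2 : Module.Free A P := inferInstanceAs (Module.Free A (Fin r → A))
      exact LBCPC.isPC_LBaseChange φ₁ _ m
        (isPC_single_degree P t m (isPC_of_FF (FF_single P) (m - t)))
    free₂ := fun t r m => by
      let P : ModuleCat.{u} A := ModuleCat.of A (Fin r → A)
      have hF1 : Module.Finite A P := inferInstanceAs (Module.Finite A (Fin r → A))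
      have hF2 : Module.Free A P := inferInstanceAs (Module.Free A (Fin r → A))
      exact LBCPC.isPC_LBaseChange φ₂ _ m
        (isPC_single_degree P t m (isPC_of_FF (FF_single P) (m - t))) }

open Groth.Agent.Lib.Helper26 in
theorem TAmp_of_LBaseChange_pair (hφ₁ : Function.Surjective φ₁)
    (hφ₂ : Function.Surjective φ₂) (hker : RingHom.ker φ₁ * RingHom.ker φ₂ = ⊥)
    (K : Dual.D A) (a b : ℤ)
    (h₁ : TAmp a b ((DRing.LBaseChange φ₁).obj K)) (h₂ : TAmp a b ((DRing.LBaseChange φ₂).obj K)) :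
    TAmp a b K := by
  have : ∀ M : ModuleCat.{u} A, DRing.HasLTensor A M := hasLTensor A
  obtain ⟨X, ⟨eX⟩⟩ : ∃ X : DRing.Cx A, Nonempty (DerivedCategory.Q.obj X ≅ K) :=
    ⟨_, ⟨DerivedCategory.Q.objObjPreimageIso K⟩⟩
  obtain ⟨P, f, hP, hf, hproj⟩ := KPT.exists_kProjective_resolution_moduleCat_termwise A X
  have e : DRing.toD P ≅ K := asIso (DerivedCategory.Q.map f) ≪≫ eX
  apply TAmp_of_LTensor_vanishing
  intro M i hi
  have e1 := (DRing.LTensor A M).mapIso e.symm ≪≫ ltIso A M P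
  refine IsZero.of_iso ?_ ((homologyFunctor (ModuleCat.{u} A) i).mapIso e1)
  rw [isZero_homology_toD_iff]
  obtain ⟨j, rfl⟩ : ∃ j, i = j + 1 := ⟨i - 1, by omega⟩
  rw [exactAt_tenCx_iff]
  have hfl : Module.Flat A (P.X (j + 1 + 1)) := by
    have := hproj (j + 1 + 1)
    infer_instance
  have hdd : (P.d (j + 1) (j + 1 + 1)).hom ∘ₗ (P.d j (j + 1)).hom = 0 := by
    ext x
    rw [LinearMap.comp_apply, ← ModuleCat.comp_apply, P.d_comp_d]
    rfl
  let M₁ : Submodule A M := RingHom.ker φ₁ • (⊤ : Submodule A M)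
  refine exact_lTensor_of_shortExact _ _ hdd M₁.subtype M₁.mkQ (Submodule.subtype_injective _)
    (Submodule.mkQ_surjective _) (LinearMap.exact_subtype_mkQ M₁) ?_ ?_
  · refine exact_lTensor_of_killed φ₂ hφ₂ P j
      (fun N' => exactAt_tenCx_extCx_of_TAmp φ₂ P K e a b h₂ N' (j + 1) hi) M₁ ?_
    rintro c hc ⟨x, hx⟩
    apply Subtype.ext
    change c • x = 0
    refine Submodule.smul_induction_on hx ?_ ?_
    · intro r hr n _
      rw [← mul_smul]
      have : c * r = 0 := by
        have h3 : r * c ∈ RingHom.ker φ₁ * RingHom.ker φ₂ := Ideal.mul_mem_mul hr hc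
        rw [hker] at h3
        rw [mul_comm]
        exact h3
      rw [this, zero_smul]
    · intro x y hx hy
      rw [smul_add, hx, hy, add_zero]
  · refine exact_lTensor_of_killed φ₁ hφ₁ P j
      (fun N' => exactAt_tenCx_extCx_of_TAmp φ₁ P K e a b h₁ N' (j + 1) hi) (M ⧸ M₁) ?_
    intro c hc q
    obtain ⟨m, rfl⟩ := Submodule.mkQ_surjective _ q
    rw [← map_smul]
    exact (Submodule.Quotient.mk_eq_zero _).2 (Submodule.smul_mem_smul hc Submodule.mem_top)

theorem isPerfect_of_LBaseChange_pair (hφ₁ : Function.Surjective φ₁)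
    (hφ₂ : Function.Surjective φ₂) (hker : RingHom.ker φ₁ * RingHom.ker φ₂ = ⊥)
    (K : Dual.D A)
    (h₁ : DRing.IsPerfect B₁ ((DRing.LBaseChange φ₁).obj K))
    (h₂ : DRing.IsPerfect B₂ ((DRing.LBaseChange φ₂).obj K)) : DRing.IsPerfect A K := by
  let _ := LBCPC.lbcCommShift φ₁
  have := LBCPC.lbc_isTriangulated φ₁
  let _ := LBCPC.lbcCommShift φ₂
  have := LBCPC.lbc_isTriangulated φ₂
  obtain ⟨a₁, b₁, hab₁⟩ := TAmp_of_isPerfect h₁
  obtain ⟨a₂, b₂, hab₂⟩ := TAmp_of_isPerfect h₂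
  have hTA : TAmp (min a₁ a₂) (max b₁ b₂) K :=
    TAmp_of_LBaseChange_pair φ₁ φ₂ hφ₁ hφ₂ hker K _ _
      (hab₁.mono (min_le_left _ _) (le_max_left _ _))
      (hab₂.mono (min_le_right _ _) (le_max_right _ _))
  have hLE := hTA.isLE
  have hpc := descent2' (hyp2_LBaseChange_pair φ₁ φ₂ hφ₁ hφ₂ hker) K _ hLE
    (Groth.Agent.Lib.Helper35.KL.isPseudoCoherent'_of_isPerfect h₁)
    (Groth.Agent.Lib.Helper35.KL.isPseudoCoherent'_of_isPerfect h₂)
  exact isPerfect_of_isPseudoCoherent'_of_TAmp K hpc _ _ hTA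

end Pair

section Mul

theorem isPerfect_LBaseChange_quotient_mul (R : Type u) [CommRing R] (I J : Ideal R)
    [DRing.HasLBaseChange (Ideal.Quotient.mk I)] [DRing.HasLBaseChange (Ideal.Quotient.mk J)]
    [DRing.HasLBaseChange (Ideal.Quotient.mk (I * J))] (K : Dual.D R)
    (hI : DRing.IsPerfect (R ⧸ I) ((DRing.LBaseChange (Ideal.Quotient.mk I)).obj K))
    (hJ : DRing.IsPerfect (R ⧸ J) ((DRing.LBaseChange (Ideal.Quotient.mk J)).obj K)) :
    DRing.IsPerfect (R ⧸ (I * J)) ((DRing.LBaseChange (Ideal.Quotient.mk (I * J))).obj K) := by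
  have hIJI : I * J ≤ I := Ideal.mul_le_left
  have hIJJ : I * J ≤ J := Ideal.mul_le_right
  have := hasLBaseChange (Ideal.Quotient.factor hIJI)
  have := hasLBaseChange (Ideal.Quotient.factor hIJJ)
  obtain ⟨e₁⟩ := nonempty_LBC_comp_iso (Ideal.Quotient.mk (I * J)) (Ideal.Quotient.factor hIJI)
    (Ideal.Quotient.mk I) (Ideal.Quotient.factor_comp_mk hIJI).symm K
  obtain ⟨e₂⟩ := nonempty_LBC_comp_iso (Ideal.Quotient.mk (I * J)) (Ideal.Quotient.factor hIJJ)
    (Ideal.Quotient.mk J) (Ideal.Quotient.factor_comp_mk hIJJ).symm K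
  refine isPerfect_of_LBaseChange_pair (Ideal.Quotient.factor hIJI) (Ideal.Quotient.factor hIJJ)
    (Ideal.Quotient.factor_surjective _) (Ideal.Quotient.factor_surjective _) ?_ _
    (Groth.Agent.Lib.Helper35.KL.isPerfect_of_iso e₁.symm hI)
    (Groth.Agent.Lib.Helper35.KL.isPerfect_of_iso e₂.symm hJ)
  rw [Ideal.Quotient.factor_ker, Ideal.Quotient.factor_ker, ← Ideal.map_mul,
    Ideal.map_quotient_self]

end Mul

end Groth.Agent.Lib.Helper35.TA
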