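import Groth.Agent.Lib.Helper35.DComplEx
import Groth.Agent.Lib.Helper35.RHomKInj

/-! Countable products of complexes of modules and the `T_g`-criterion for derived
`g`-completeness at the chain level (helper35). -/

set_option autoImplicit false
set_option linter.unusedSectionVars false
universe u

open CategoryTheory CategoryTheory.Limits DerivedCategory CochainComplex HomComplex

attribute [local instance] HasDerivedCategory.standard

namespace Groth.Agent.Lib.Helper35.PiCx

open Groth.Agent.Lib.Helper35.DC Groth.Agent.Lib.Helper35.DCE Groth.Agent.Lib.Helper35.Bousfield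

variable {A : Type u} [CommRing A]

/-- `M ↦ (ℕ → M)`. -/
noncomputable def piF : ModuleCat.{u} A ⥤ ModuleCat.{u} A where
  obj M := ModuleCat.of A (ℕ → M)
  map f := ModuleCat.ofHom (f.hom.compLeft ℕ)
  map_id M := by
    ext x
    rfl
  map_comp f g := by
    ext x
    rfl

instance : (piF (A := A)).Additive where
  map_add {M N f g} := by
    ext x
    rfl

theorem piF_map_exact (S : ShortComplex (ModuleCat.{u} A)) (hS : S.Exact) :
    (S.map piF).Exact := by
  rw [ShortComplex.moduleCat_exact_iff] at hS ⊢
  intro x hx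
  have h : ∀ k : ℕ, ∃ y : S.X₁, S.f.hom y = (show ℕ → S.X₂ from x) k := by
    intro k
    apply hS
    exact congrFun hx k
  choose y hy using h
  exact ⟨(show ℕ → S.X₁ from y), funext hy⟩

instance : (piF (A := A)).PreservesHomology :=
  Functor.preservesHomology_of_map_exact _ piF_map_exact

/-- `T_g` as a natural transformation. -/
noncomputable def SgF (g : A) : piF (A := A) ⟶ piF where
  app M := ModuleCat.ofHom (shiftTₗ g M)
  naturality M N f := by
    ext x
    exact shiftT_comp g f.hom x

/-- `∏_ℕ C`. -/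
noncomputable abbrev piCx (C : DRing.Cx A) : DRing.Cx A :=
  (piF.mapHomologicalComplex (ComplexShape.up ℤ)).obj C

/-- The `k`-th projection. -/
noncomputable def prC (C : DRing.Cx A) (k : ℕ) : piCx C ⟶ C where
  f i := ModuleCat.ofHom (LinearMap.proj k)
  comm' i j _ := by
    ext x
    rfl

/-- `T_g` on `∏_ℕ C`. -/
noncomputable def SC (g : A) (C : DRing.Cx A) : piCx C ⟶ piCx C :=
  (NatTrans.mapHomologicalComplex (SgF g) (ComplexShape.up ℤ)).app C

theorem SC_prC (g : A) (C : DRing.Cx A) (k : ℕ) :
    SC g C ≫ prC C k = prC C k - g • prC C (k + 1) := by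
  ext i x
  rfl

/-- `H^n(∏ C) ≅ ∏ H^n(C)`. -/
noncomputable def hPi (C : DRing.Cx A) (n : ℤ) :
    (piCx C).homology n ≅ piF.obj (C.homology n) :=
  (C.sc n).mapHomologyIso piF

theorem homologyMap_SC (g : A) (C : DRing.Cx A) (n : ℤ) :
    HomologicalComplex.homologyMap (SC g C) n =
      (hPi C n).hom ≫ (SgF g).app (C.homology n) ≫ (hPi C n).inv :=
  ShortComplex.homologyMap_mapNatTrans (C.sc n) (SgF g)

theorem quasiIso_SC_iff (g : A) (C : DRing.Cx A) :
    QuasiIso (SC g C) ↔ ∀ n : ℤ, Function.Bijective (shiftT g (C.homology n)) := by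
  rw [quasiIso_iff]
  refine forall_congr' fun n => ?_
  rw [quasiIsoAt_iff_isIso_homologyMap, homologyMap_SC]
  have h1 : IsIso ((hPi C n).hom ≫ (SgF g).app (C.homology n) ≫ (hPi C n).inv) ↔
      IsIso ((SgF g).app (C.homology n)) := by
    constructor
    · intro h
      have h2 : (SgF g).app (C.homology n) = (hPi C n).inv ≫
          ((hPi C n).hom ≫ (SgF g).app (C.homology n) ≫ (hPi C n).inv) ≫ (hPi C n).hom := by
        simp
      rw [h2]
      infer_instance
    · intro h
      infer_instance
  rw [h1, ConcreteCategory.isIso_iff_bijective]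
  rfl

/-- Derived `g`-completeness of `Q C` in terms of `T_g` on `∏ C`. -/
theorem pg_Q_iff (g : A) (C : DRing.Cx A) : Pg g (Q.obj C) ↔ QuasiIso (SC g C) := by
  rw [Pg_iff, quasiIso_SC_iff]
  have h0 := subsingleton_hom_away_obj_iff g (Q.obj C)
  refine h0.trans (forall_congr' fun n => ?_)
  let e : (homologyFunctor (ModuleCat.{u} A) n).obj (Q.obj C) ≃ₗ[A] C.homology n :=
    ((homologyFunctorFactors (ModuleCat.{u} A) n).app C).toLinearEquiv
  exact ⟨shiftT_bijective_of_linearEquiv g e, shiftT_bijective_of_linearEquiv g e.symm⟩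

end Groth.Agent.Lib.Helper35.PiCx
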