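import Groth.Agent.Lib.Helper35.PiCx

/-! Cochains into a countable product of complexes (helper35). -/

set_option autoImplicit false
set_option linter.unusedSectionVars false
universe u

open CategoryTheory CategoryTheory.Limits DerivedCategory CochainComplex HomComplex

attribute [local instance] HasDerivedCategory.standard

namespace Groth.Agent.Lib.Helper35.PiCx

open Groth.Agent.Lib.Helper35.DC Groth.Agent.Lib.Helper35.DCE Groth.Agent.Lib.Helper35.Bousfield

variable {A : Type u} [CommRing A]

/-- Cochains into `∏ C` are sequences of cochains into `C`. -/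
noncomputable def piCochainEquiv (Z C : DRing.Cx A) (n : ℤ) :
    Cochain Z (piCx C) n ≃ₗ[A] (ℕ → Cochain Z C n) where
  toFun z := fun k => z.comp (Cochain.ofHom (prC C k)) (add_zero n)
  map_add' z z' := by
    funext k
    simp
  map_smul' a z := by
    funext k
    simp
  invFun w := Cochain.mk (fun p q hpq =>
    ModuleCat.ofHom (LinearMap.pi (fun k => ((w k).v p q hpq).hom)))
  left_inv z := by
    refine Cochain.ext _ _ (fun p q hpq => ?_)
    rw [Cochain.mk_v]
    refine ModuleCat.hom_ext (LinearMap.ext (fun x => ?_))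
    funext k
    simp only [Cochain.comp_zero_cochain_v, Cochain.ofHom_v]
    rfl
  right_inv w := by
    funext k
    refine Cochain.ext _ _ (fun p q hpq => ?_)
    simp only [Cochain.comp_zero_cochain_v, Cochain.ofHom_v, Cochain.mk_v]
    rfl

theorem piCochainEquiv_apply (Z C : DRing.Cx A) (n : ℤ) (z : Cochain Z (piCx C) n) (k : ℕ) :
    piCochainEquiv Z C n z k = z.comp (Cochain.ofHom (prC C k)) (add_zero n) := rfl

theorem piCochainEquiv_δ (Z C : DRing.Cx A) (n m : ℤ) (z : Cochain Z (piCx C) n) (k : ℕ) :
    piCochainEquiv Z C m (δ n m z) k = δ n m (piCochainEquiv Z C n z k) := by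
  rw [piCochainEquiv_apply, piCochainEquiv_apply]
  exact (δ_comp_ofHom z (prC C k) m).symm

theorem piCochainEquiv_ofHom (Z C : DRing.Cx A) (f : Z ⟶ piCx C) (k : ℕ) :
    piCochainEquiv Z C 0 (Cochain.ofHom f) k = Cochain.ofHom (f ≫ prC C k) := by
  rw [piCochainEquiv_apply, Cochain.ofHom_comp]

/-- A countable product of K-injective complexes is K-injective. -/
instance isKInjective_piCx (J : DRing.Cx A) [J.IsKInjective] : (piCx J).IsKInjective where
  nonempty_homotopy_zero {Z} f hZ := by
    have h : ∀ k : ℕ, ∃ α : Cochain Z J (-1), Cochain.ofHom (f ≫ prC J k) = δ (-1) 0 α := by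
      intro k
      obtain ⟨α, hα⟩ := Cochain.equivHomotopy _ _ (IsKInjective.homotopyZero (f ≫ prC J k) hZ)
      refine ⟨α, ?_⟩
      rw [hα, Cochain.ofHom_zero, add_zero]
    choose α hα using h
    refine ⟨(Cochain.equivHomotopy f 0).symm ⟨(piCochainEquiv Z J (-1)).symm α, ?_⟩⟩
    rw [Cochain.ofHom_zero, add_zero]
    apply (piCochainEquiv Z J 0).injective
    funext k
    rw [piCochainEquiv_ofHom, piCochainEquiv_δ, LinearEquiv.apply_symm_apply]
    exact hα k

end Groth.Agent.Lib.Helper35.PiCx
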