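import Groth.Agent.Lib.Helper35.FTD2
import Groth.Agent.Lib.Helper35.PerfHomPoly
import Mathlib.RingTheory.TensorProduct.MvPolynomial
import Mathlib.Algebra.MvPolynomial.Equiv

/-! Finite tor dimension over polynomial rings (helper35). -/

set_option autoImplicit false
set_option linter.unusedSectionVars false
universe u
open CategoryTheory CategoryTheory.Limits
attribute [local instance] HasDerivedCategory.standard

namespace Groth.Agent.Lib.Helper35.PolyFTD

open Groth.Agent.Lib.Helper35.TA Groth.Agent.Lib.Helper35.FTD

/-- `R[X] → R`, `X ↦ r` has finite tor dimension. -/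
theorem ftdQ_evalRingHom (R : Type u) [CommRing R] (r : R) :
    ftdQ (Polynomial.evalRingHom r) := by
  let _ : Algebra (Polynomial R) R := (Polynomial.evalRingHom r).toAlgebra
  show DRing.HasFiniteTorDim (Polynomial R) R
  refine ⟨1, (hasTorDimLE_iff_TD 1 R).2 ?_⟩
  let f : Polynomial R →ₗ[Polynomial R] Polynomial R :=
    LinearMap.mulLeft (Polynomial R) (Polynomial.X - Polynomial.C r)
  let g : Polynomial R →ₗ[Polynomial R] R := Algebra.linearMap (Polynomial R) R
  have hg : ∀ p : Polynomial R, g p = p.eval r := fun p => rfl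
  have hf : ∀ p : Polynomial R, f p = (Polynomial.X - Polynomial.C r) * p := fun p => rfl
  let S : ShortComplex (ModuleCat.{u} (Polynomial R)) :=
    ShortComplex.mk (ModuleCat.ofHom f) (ModuleCat.ofHom g) (by
      rw [← ModuleCat.ofHom_comp]
      have : g.comp f = 0 := by
        ext
        simp [hg, hf]
      rw [this]
      rfl)
  have hS : S.ShortExact := by
    refine ModuleCat.shortComplex_shortExact S ?_ ?_ ?_
    · intro p
      show g p = 0 ↔ p ∈ Set.range f
      rw [hg]
      constructor
      · intro h
        obtain ⟨q, hq⟩ := Polynomial.dvd_iff_isRoot.2 h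
        exact ⟨q, by rw [hf, hq]⟩
      · rintro ⟨q, rfl⟩
        rw [hf]
        simp
    · intro p q hpq
      change f p = f q at hpq
      rw [hf, hf] at hpq
      exact (Polynomial.monic_X_sub_C r).isRegular.left hpq
    · intro x
      exact ⟨Polynomial.C x, by show g (Polynomial.C x) = x; rw [hg]; simp⟩
  have hfl : Module.Flat (Polynomial R) S.X₂ :=
    inferInstanceAs (Module.Flat (Polynomial R) (Polynomial R))
  have hfl1 : Module.Flat (Polynomial R) S.X₁ :=
    inferInstanceAs (Module.Flat (Polynomial R) (Polynomial R))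
  exact (TD_succ_iff S hS 0).2 (TD_zero_of_flat S.X₁)

/-- any retraction `R[x_1, …, x_n] → R` has finite tor dimension. -/
theorem ftdQ_retraction : ∀ (n : ℕ) (R : Type u) [CommRing R]
    (ψ : MvPolynomial (Fin n) R →ₐ[R] R), ftdQ ψ.toRingHom
  | 0, R, _, ψ => by
      apply ftdQ_of_flat
      apply RingHom.Flat.of_bijective
      have h1 : Function.Bijective (MvPolynomial.isEmptyAlgEquiv R (Fin 0)) :=
        (MvPolynomial.isEmptyAlgEquiv R (Fin 0)).bijective
      have h2 : ψ = (MvPolynomial.isEmptyAlgEquiv R (Fin 0)).toAlgHom := by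
        apply MvPolynomial.algHom_ext
        intro i
        exact Fin.elim0 i
      rw [h2]
      exact h1
  | n + 1, R, _, ψ => by
      let e := MvPolynomial.finSuccEquiv R n
      let ψ' : MvPolynomial (Fin n) R →ₐ[R] R :=
        MvPolynomial.aeval (fun i => ψ (MvPolynomial.X i.succ))
      let r' : MvPolynomial (Fin n) R := MvPolynomial.C (ψ (MvPolynomial.X 0))
      have h1 : ftdQ (e : MvPolynomial (Fin (n + 1)) R →+* Polynomial (MvPolynomial (Fin n) R)) :=
        ftdQ_of_flat _ (RingHom.Flat.of_bijective e.bijective)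
      have h2 := ftdQ_evalRingHom (MvPolynomial (Fin n) R) r'
      have h3 := ftdQ_retraction n R ψ'
      have h4 := ftdQ_stableUnderComposition _ _ (ftdQ_stableUnderComposition _ _ h1 h2) h3
      have : ψ.toRingHom = ψ'.toRingHom.comp ((Polynomial.evalRingHom r').comp
          (e : MvPolynomial (Fin (n + 1)) R →+* Polynomial (MvPolynomial (Fin n) R))) := by
        apply MvPolynomial.ringHom_ext
        · intro a
          have : (MvPolynomial.finSuccEquiv R n) (MvPolynomial.C a) =
              Polynomial.C (MvPolynomial.C a) := by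
            rw [MvPolynomial.finSuccEquiv_apply]
            simp
          simp [e, ψ', this]
        · intro i
          refine Fin.cases ?_ ?_ i
          · simp [e, ψ', r', MvPolynomial.finSuccEquiv_X_zero]
          · intro j
            simp [e, ψ', r', MvPolynomial.finSuccEquiv_X_succ]
      rw [this]
      exact h4

attribute [local instance] MvPolynomial.algebraMvPolynomial in
/-- If `B` has finite tor dimension over `A`, it has finite tor dimension over any polynomial
ring `A[x_1, …, x_n]` mapping to it. -/
theorem ftdQ_of_hasFiniteTorDim (A B : Type u) [CommRing A] [CommRing B] [Algebra A B] (n : ℕ)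
    (φ : MvPolynomial (Fin n) A →ₐ[A] B) (h : DRing.HasFiniteTorDim A B) :
    ftdQ φ.toRingHom := by
  let ψ : MvPolynomial (Fin n) B →ₐ[B] B := MvPolynomial.aeval (fun i => φ (MvPolynomial.X i))
  have h1 : ftdQ (algebraMap (MvPolynomial (Fin n) A) (MvPolynomial (Fin n) B)) :=
    ftdQ_algebraMap.2 (Groth.Agent.Lib.Helper35.FTD.baseChange (R := A) (S := B)
      (R' := MvPolynomial (Fin n) A) (S' := MvPolynomial (Fin n) B) h)
  have h2 := ftdQ_retraction n B ψ
  have h3 := ftdQ_stableUnderComposition _ _ h1 h2
  have : φ.toRingHom = ψ.toRingHom.comp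
      (algebraMap (MvPolynomial (Fin n) A) (MvPolynomial (Fin n) B)) := by
    have hmap : algebraMap (MvPolynomial (Fin n) A) (MvPolynomial (Fin n) B) =
        MvPolynomial.map (algebraMap A B) := rfl
    rw [hmap]
    apply MvPolynomial.ringHom_ext
    · intro a
      simp [ψ]
    · intro i
      simp [ψ]
  rw [this]
  exact h3

/-- A perfect ring map makes `B` a perfect module over the polynomial ring of any presentation
over which it is pseudo-coherent. -/
theorem isPerfectModule_of_isPerfectHom (A B : Type u) [CommRing A] [CommRing B] [Algebra A B]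
    (n : ℕ) (φ : MvPolynomial (Fin n) A →ₐ[A] B)
    (hpc : letI := φ.toRingHom.toAlgebra
      DRing.IsPseudoCoherentModule' (MvPolynomial (Fin n) A) B)
    (h : DRing.HasFiniteTorDim A B) :
    letI := φ.toRingHom.toAlgebra
    DRing.IsPerfectModule (MvPolynomial (Fin n) A) B := by
  let _ : Algebra (MvPolynomial (Fin n) A) B := φ.toRingHom.toAlgebra
  have h1 : DRing.HasFiniteTorDim (MvPolynomial (Fin n) A) B := ftdQ_of_hasFiniteTorDim A B n φ h
  obtain ⟨d, hd⟩ := (hasFiniteTorDim_iff B).1 h1
  exact isPerfect_of_isPseudoCoherent'_of_TAmp _ hpc _ _ hd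

end Groth.Agent.Lib.Helper35.PolyFTD
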