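import Groth.Agent.Lib.Helper35.RHomPi
import Mathlib.Algebra.Homology.DerivedCategory.ShortExact

/-! `Hom•(K, -)` and mapping cones (helper35). -/

set_option autoImplicit false
set_option linter.unusedSectionVars false
universe u

open CategoryTheory CategoryTheory.Limits DerivedCategory CochainComplex HomComplex

attribute [local instance] HasDerivedCategory.standard

namespace Groth.Agent.Lib.Helper35.RHomCone

open Groth.Agent.Lib.Helper35.DC Groth.Agent.Lib.Helper35.DCE Groth.Agent.Lib.Helper35.Bousfield
  Groth.Agent.Lib.Helper35.PiCx Groth.Agent.Lib.Helper35.RHomKInj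

variable {A : Type u} [CommRing A]

variable (K : DRing.Cx A) {T J : DRing.Cx A} (φ : T ⟶ J)

/-- `Hom•(K, cone φ) ⟶ Hom•(K, T)⟦1⟧`. -/
noncomputable def fstK : DRing.homCx K (mappingCone φ) ⟶ (DRing.homCx K T)⟦(1 : ℤ)⟧ where
  f n := ModuleCat.ofHom (compRightLin K (mappingCone.fst φ).1 n (n + 1) rfl)
  comm' n m hnm := by
    obtain rfl : n + 1 = m := hnm
    ext z
    change ((DRing.homCx K T)⟦(1 : ℤ)⟧).d n (n + 1) (z.comp (mappingCone.fst φ).1 rfl) =
      (δ n (n + 1) z).comp (mappingCone.fst φ).1 rfl
    rw [CochainComplex.shiftFunctor_obj_d']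
    change (1 : ℤ).negOnePow • δ (n + 1) (n + 1 + 1) (z.comp (mappingCone.fst φ).1 rfl) = _
    rw [δ_comp z (mappingCone.fst φ).1 rfl (n + 1) 2 (n + 1 + 1) rfl rfl rfl,
      Cocycle.δ_eq_zero, Cochain.comp_zero, zero_add, smul_smul]
    simp

/-- The short complex `Hom•(K, J) ⟶ Hom•(K, cone φ) ⟶ Hom•(K, T)⟦1⟧`. -/
noncomputable def sesK : ShortComplex (DRing.Cx A) :=
  ShortComplex.mk (DRing.homCxMap K (mappingCone.inr φ)) (fstK K φ) (by
    ext n z
    change (z.comp (Cochain.ofHom (mappingCone.inr φ)) (add_zero n)).comp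
      (mappingCone.fst φ).1 rfl = 0
    rw [Cochain.comp_assoc_of_second_is_zero_cochain, mappingCone.inr_fst, Cochain.comp_zero])

theorem sesK_shortExact : (sesK K φ).ShortExact := by
  apply HomologicalComplex.shortExact_of_degreewise_shortExact
  intro n
  have hmono : Function.Injective (fun z : Cochain K J n =>
      z.comp (Cochain.ofHom (mappingCone.inr φ)) (add_zero n)) := by
    apply Function.LeftInverse.injective (g := fun w : Cochain K (mappingCone φ) n =>
      w.comp (mappingCone.snd φ) (add_zero n))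
    intro z
    change (z.comp (Cochain.ofHom (mappingCone.inr φ)) (add_zero n)).comp
      (mappingCone.snd φ) (add_zero n) = z
    rw [Cochain.comp_assoc_of_second_is_zero_cochain, mappingCone.inr_snd, Cochain.comp_id]
  have hepi : Function.Surjective (fun z : Cochain K (mappingCone φ) n =>
      z.comp (mappingCone.fst φ).1 (rfl : n + 1 = n + 1)) := by
    intro w
    refine ⟨w.comp (mappingCone.inl φ) (by omega), ?_⟩
    change (w.comp (mappingCone.inl φ) (by omega)).comp (mappingCone.fst φ).1 rfl = w
    rw [Cochain.comp_assoc _ _ _ (by omega) (neg_add_cancel 1) (by omega), mappingCone.inl_fst,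
      Cochain.comp_id]
  have hex : ∀ z : Cochain K (mappingCone φ) n,
      z.comp (mappingCone.fst φ).1 (rfl : n + 1 = n + 1) = 0 →
      ∃ y : Cochain K J n, y.comp (Cochain.ofHom (mappingCone.inr φ)) (add_zero n) = z := by
    intro z hz
    refine ⟨z.comp (mappingCone.snd φ) (add_zero n), ?_⟩
    rw [mappingCone.ext_cochain_to_iff φ n (n + 1) rfl]
    constructor
    · rw [Cochain.comp_assoc_of_second_is_zero_cochain, mappingCone.inr_fst, Cochain.comp_zero, hz]
    · rw [Cochain.comp_assoc_of_second_is_zero_cochain, mappingCone.inr_snd, Cochain.comp_id]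
  exact
    { exact := by
        rw [ShortComplex.moduleCat_exact_iff]
        intro z hz
        exact hex z hz
      mono_f := (ModuleCat.mono_iff_injective _).2 hmono
      epi_g := (ModuleCat.epi_iff_surjective _).2 hepi }

/-- If `f` acts bijectively on the terms of `X`, it acts bijectively on the terms of
`Hom•(K, X)`. -/
theorem bijective_smul_homCx (f : A) (X : DRing.Cx A)
    (hX : ∀ q : ℤ, Function.Bijective (fun x : X.X q => f • x)) (n : ℤ) :
    Function.Bijective (fun z : (DRing.homCx K X).X n => f • z) := by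
  let e : ∀ q, X.X q ≃ₗ[A] X.X q := fun q =>
    LinearEquiv.ofBijective (f • (LinearMap.id : X.X q →ₗ[A] X.X q)) (hX q)
  constructor
  · intro (z : Cochain K X n) (z' : Cochain K X n) (h : f • z = f • z')
    refine Cochain.ext _ _ (fun p q hpq => ?_)
    have h1 := Cochain.congr_v h p q hpq
    rw [Cochain.smul_v, Cochain.smul_v] at h1
    refine ModuleCat.hom_ext (LinearMap.ext (fun x => ?_))
    apply (hX q).1
    exact congrArg (fun u => u.hom x) h1
  · intro (w : Cochain K X n)
    refine ⟨(Cochain.mk (fun p q hpq => w.v p q hpq ≫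
      ModuleCat.ofHom (e q).symm.toLinearMap) : Cochain K X n), ?_⟩
    change f • (Cochain.mk (fun p q hpq => w.v p q hpq ≫
      ModuleCat.ofHom (e q).symm.toLinearMap) : Cochain K X n) = w
    refine Cochain.ext _ _ (fun p q hpq => ?_)
    rw [Cochain.smul_v, Cochain.mk_v]
    refine ModuleCat.hom_ext (LinearMap.ext (fun x => ?_))
    change f • (e q).symm ((w.v p q hpq).hom x) = (w.v p q hpq).hom x
    exact (e q).apply_symm_apply _

theorem im_homCx_shift (f : A) (X : DRing.Cx A)
    (hX : ∀ q : ℤ, Function.Bijective (fun x : X.X q => f • x)) :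
    Im (aw f) (Q.obj ((DRing.homCx K X)⟦(1 : ℤ)⟧)) := by
  obtain ⟨E, ⟨e⟩⟩ := Groth.Agent.Lib.Helper35.DCR.exists_restrict_iso_of_bijective f
    ((DRing.homCx K X)⟦(1 : ℤ)⟧) (fun i => bijective_smul_homCx K f X hX (i + 1))
  exact ⟨E, ⟨e.symm⟩⟩

/-- Precomposition with `Q(Hom•(K, inr))` is bijective on maps into `f`-complete objects when `f`
acts bijectively on the terms of the source of `φ`. -/
theorem bijective_precomp_homCx_inr (f : A)
    (hT : ∀ q : ℤ, Function.Bijective (fun x : T.X q => f • x)) (E : Dual.D A) (hE : Pg f E) :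
    Function.Bijective (fun ψ : Q.obj (DRing.homCx K (mappingCone φ)) ⟶ E =>
      Q.map (DRing.homCxMap K (mappingCone.inr φ)) ≫ ψ) := by
  have hS := sesK_shortExact K φ
  have hT' := DerivedCategory.triangleOfSES_distinguished hS
  exact bijective_precomp _ _ _ hT'
    (LOrth_of_mem (Im_shift (aw f)) (im_homCx_shift K f T hT)) E hE

/-- Mapping cones of K-injective complexes are K-injective. -/
theorem isKInjective_mappingCone [T.IsKInjective] [J.IsKInjective] :
    (mappingCone φ).IsKInjective := by
  rw [isKInjective_iff_rightOrthogonal]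
  have hT := HomotopyCategory.mappingCone_triangleh_distinguished φ
  exact (HomotopyCategory.subcategoryAcyclic _).rightOrthogonal.ext_of_isTriangulatedClosed₃ _ hT
    (IsKInjective.rightOrthogonal T) (IsKInjective.rightOrthogonal J)

end Groth.Agent.Lib.Helper35.RHomCone
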