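import Groth.Agent.Lib.Helper35.PiCx2

/-! `RHom(K, -)` preserves derived `g`-completeness (helper35). -/

set_option autoImplicit false
set_option linter.unusedSectionVars false
universe u

open CategoryTheory CategoryTheory.Limits DerivedCategory CochainComplex HomComplex

attribute [local instance] HasDerivedCategory.standard

namespace Groth.Agent.Lib.Helper35.RHomPi

open Groth.Agent.Lib.Helper35.DC Groth.Agent.Lib.Helper35.DCE Groth.Agent.Lib.Helper35.Bousfield
  Groth.Agent.Lib.Helper35.PiCx Groth.Agent.Lib.Helper35.RHomKInj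

variable {A : Type u} [CommRing A]

/-- `Hom•(K, ∏ J) ≅ ∏ Hom•(K, J)`. -/
noncomputable def θ (K J : DRing.Cx A) : DRing.homCx K (piCx J) ≅ piCx (DRing.homCx K J) :=
  HomologicalComplex.Hom.isoOfComponents
    (fun n => (piCochainEquiv K J n).toModuleIso)
    (by
      intro n m _
      ext z
      funext k
      exact (piCochainEquiv_δ K J n m z k).symm)

theorem θ_SC (g : A) (K J : DRing.Cx A) :
    (θ K J).hom ≫ SC g (DRing.homCx K J) = DRing.homCxMap K (SC g J) ≫ (θ K J).hom := by
  ext n z
  funext k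
  change piCochainEquiv K J n z k - g • piCochainEquiv K J n z (k + 1) =
    piCochainEquiv K J n (z.comp (Cochain.ofHom (SC g J)) (add_zero n)) k
  rw [piCochainEquiv_apply, piCochainEquiv_apply, piCochainEquiv_apply]
  refine Cochain.ext _ _ (fun p q hpq => ?_)
  simp only [Cochain.sub_v, Cochain.smul_v, Cochain.comp_zero_cochain_v, Cochain.ofHom_v]
  rw [Category.assoc, ← HomologicalComplex.comp_f, SC_prC]
  simp

variable (K : DRing.Cx A) [DRing.HasRHomCx K]

/-- `RHom(K, -)` preserves derived `g`-completeness. -/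
theorem pg_RHom (g : A) (E : Dual.D A) (hE : Pg g E) : Pg g ((DRing.RHomCx K).obj E) := by
  obtain ⟨J, j, hJ, hj⟩ := Groth.Agent.Lib.Helper32.KInjTower.exists_kInjective_resolution
    (K := Q.objPreimage E)
  have : IsIso (Q.map j) := by
    rw [isIso_Q_map_iff_quasiIso]
    exact hj
  let eK : E ≅ Q.obj J := (Q.objObjPreimageIso E).symm ≪≫ asIso (Q.map j)
  have h1 : Pg g (Q.obj J) := ROrth.of_iso eK hE
  have h2 : QuasiIso (SC g J) := (pg_Q_iff g J).1 h1
  have h3 : IsIso (Q.map (SC g J)) := by
    rw [isIso_Q_map_iff_quasiIso]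
    exact h2
  have h4 := isIso_rhomUnit K (piCx J)
  have h5 := rhomUnit_naturality K (SC g J)
  have h6 : IsIso (Q.map (DRing.homCxMap K (SC g J))) := by
    have h7 : Q.map (DRing.homCxMap K (SC g J)) =
        (rhomUnit K (piCx J) ≫ (DRing.RHomCx K).map (Q.map (SC g J))) ≫
          inv (rhomUnit K (piCx J)) := by
      rw [← h5, Category.assoc, IsIso.hom_inv_id, Category.comp_id]
    rw [h7]
    infer_instance
  have h8 : QuasiIso (DRing.homCxMap K (SC g J)) := by
    rw [← isIso_Q_map_iff_quasiIso]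
    exact h6
  have h9 : QuasiIso (SC g (DRing.homCx K J)) := by
    have h10 : SC g (DRing.homCx K J) =
        (θ K J).inv ≫ DRing.homCxMap K (SC g J) ≫ (θ K J).hom := by
      rw [← θ_SC, Iso.inv_hom_id_assoc]
    rw [h10]
    infer_instance
  have h11 : Pg g (Q.obj (DRing.homCx K J)) := (pg_Q_iff g _).2 h9
  have h12 := isIso_rhomUnit K J
  exact ROrth.of_iso (asIso (rhomUnit K J) ≪≫ ((DRing.RHomCx K).mapIso eK).symm) h11

end Groth.Agent.Lib.Helper35.RHomPi
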