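import Groth.Agent.S15821
import Groth.Agent.S7070
import Mathlib.RingTheory.Regular.Flat

/-! A surjection whose kernel is generated by a (weakly) regular sequence is a local complete
intersection ring map, hence perfect (helper35). -/

set_option autoImplicit false
universe u
attribute [local instance] HasDerivedCategory.standard

namespace Groth.Agent.Lib.Helper35.RegSurj

open RingTheory.Sequence

theorem isLCI_of_surjective_of_ker_eq_ofList (R B : Type u) [CommRing R] [CommRing B] [Algebra R B]
    (hsurj : Function.Surjective (algebraMap R B)) (rs : List R)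
    (hrs : IsWeaklyRegular R rs)
    (hker : RingHom.ker (algebraMap R B) = Ideal.ofList rs) : LCI.IsLCI R B := by
  refine ⟨Algebra.FiniteType.of_surjective (Algebra.ofId R B) hsurj, 0,
    (Algebra.ofId R B).comp (MvPolynomial.isEmptyAlgEquiv R (Fin 0)).toAlgHom, ?_, ?_⟩
  · intro b
    obtain ⟨r, rfl⟩ := hsurj b
    exact ⟨MvPolynomial.C r, by simp⟩
  · intro p hp
    refine ⟨1, ?_, ?_⟩
    · intro h1
      exact p.isPrime.ne_top ((Ideal.eq_top_iff_one _).2 h1)
    · let P₀ := MvPolynomial (Fin 0) R
      let S := Localization.Away (1 : P₀)
      have hflat0 : Module.Flat P₀ S := IsLocalization.flat S (Submonoid.powers (1 : P₀))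
      have hflat : Module.Flat R S := Module.Flat.trans R P₀ S
      refine ⟨rs.map (algebraMap R S), (Groth.Agent.S15821.result S _ hrs.of_flat).1, ?_⟩
      have h1 : RingHom.ker ((Algebra.ofId R B).comp
          (MvPolynomial.isEmptyAlgEquiv R (Fin 0)).toAlgHom).toRingHom =
          (Ideal.ofList rs).map (algebraMap R P₀) := by
        ext x
        rw [RingHom.mem_ker]
        have hx : x = algebraMap R P₀ (MvPolynomial.isEmptyAlgEquiv R (Fin 0) x) := by
          apply (MvPolynomial.isEmptyAlgEquiv R (Fin 0)).injective
          rw [MvPolynomial.algebraMap_eq]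
          simp only [MvPolynomial.isEmptyAlgEquiv_apply]
          exact (MvPolynomial.coeff_zero_C _).symm
        constructor
        · intro h
          have h2 : MvPolynomial.isEmptyAlgEquiv R (Fin 0) x ∈ Ideal.ofList rs := by
            rw [← hker, RingHom.mem_ker]
            exact h
          rw [hx]
          exact Ideal.mem_map_of_mem _ h2
        · intro h
          have h3 : (Ideal.ofList rs).map (algebraMap R P₀) ≤
              RingHom.ker ((Algebra.ofId R B).comp
                (MvPolynomial.isEmptyAlgEquiv R (Fin 0)).toAlgHom).toRingHom := by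
            rw [Ideal.map_le_iff_le_comap]
            intro r hr
            rw [← hker, RingHom.mem_ker] at hr
            rw [Ideal.mem_comap, RingHom.mem_ker]
            simpa [MvPolynomial.algebraMap_eq, Algebra.ofId_apply] using hr
          exact (RingHom.mem_ker).1 (h3 h)
      rw [h1, Ideal.map_map, ← IsScalarTower.algebraMap_eq, Ideal.map_ofList]

end Groth.Agent.Lib.Helper35.RegSurj
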