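import Mathlib.Algebra.Module.FinitePresentation
import Mathlib.RingTheory.FinitePresentation
import Mathlib.RingTheory.IsTensorProduct
import Mathlib.RingTheory.Finiteness.ModuleFinitePresentation
import Mathlib.RingTheory.TensorProduct.Basic
import Mathlib.RingTheory.TensorProduct.Finite

/-! Finite presentation of a module through a ring homomorphism ("relative finite presentation"),
    helper35. -/

universe u
namespace Groth.Agent.Lib.Helper35

/-- `M` is finitely presented as a `T`-module through `φ : T →+* A`. -/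
def FPVia {T A : Type*} [CommRing T] [CommRing A] (φ : T →+* A) (M : Type*) [AddCommGroup M]
    [Module A M] : Prop :=
  @Module.FinitePresentation T M _ _ (Module.compHom M φ)

section ChangeOfRings

variable {T' T M : Type*} [CommRing T'] [CommRing T] [Algebra T' T] [AddCommGroup M]
  [Module T' M] [Module T M] [IsScalarTower T' T M]

/-- Along a surjective ring map `T' → T`, the identity of a `T`-module is a base change. -/
theorem isBaseChange_id_of_surjective (h : Function.Surjective (algebraMap T' T)) :
    IsBaseChange T (LinearMap.id : M →ₗ[T'] M) := by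
  apply IsBaseChange.of_lift_unique
  intro Q _ _ _ _ g
  refine ⟨{ g with
    map_smul' := fun t m => by
      obtain ⟨t', rfl⟩ := h t
      simp only [AddHom.toFun_eq_coe, LinearMap.coe_toAddHom, RingHom.id_apply, algebraMap_smul]
      exact g.map_smul t' m }, ?_, ?_⟩
  · ext m; rfl
  · intro g' hg'
    ext m
    have := LinearMap.congr_fun hg' m
    simpa using this

theorem fp_of_fp_of_surjective (h : Function.Surjective (algebraMap T' T))
    [Module.FinitePresentation T' M] : Module.FinitePresentation T M :=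
  FinitePresentation.of_isBaseChange (LinearMap.id : M →ₗ[T'] M) (isBaseChange_id_of_surjective h)

theorem fp_of_fp_of_fg_ker (h : Function.Surjective (algebraMap T' T))
    (hker : (RingHom.ker (algebraMap T' T)).FG)
    [Module.FinitePresentation T M] : Module.FinitePresentation T' M := by
  have : Module.FinitePresentation T' T :=
    Module.finitePresentation_of_surjective (Algebra.linearMap T' T) h hker
  exact Module.FinitePresentation.trans T' M T

end ChangeOfRings

section Via

variable {T' T A : Type*} [CommRing T'] [CommRing T] [CommRing A]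
  (M : Type*) [AddCommGroup M] [Module A M]

theorem FPVia.of_comp_surjective (ψ : T' →+* T) (hψ : Function.Surjective ψ) (φ : T →+* A)
    (h : FPVia (φ.comp ψ) M) : FPVia φ M := by
  let _ : Algebra T' T := ψ.toAlgebra
  let _ : Module T M := Module.compHom M φ
  let _ : Module T' M := Module.compHom M (φ.comp ψ)
  have : IsScalarTower T' T M := ⟨fun t' t m => by
    change φ (ψ t' * t) • m = φ (ψ t') • (φ t • m)
    rw [map_mul, mul_smul]⟩
  have : Module.FinitePresentation T' M := h
  exact fp_of_fp_of_surjective (T' := T') (T := T) (M := M) hψ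

theorem FPVia.comp_of_fg_ker (ψ : T' →+* T) (hψ : Function.Surjective ψ)
    (hker : (RingHom.ker ψ).FG) (φ : T →+* A)
    (h : FPVia φ M) : FPVia (φ.comp ψ) M := by
  let _ : Algebra T' T := ψ.toAlgebra
  let _ : Module T M := Module.compHom M φ
  let _ : Module T' M := Module.compHom M (φ.comp ψ)
  have : IsScalarTower T' T M := ⟨fun t' t m => by
    change φ (ψ t' * t) • m = φ (ψ t') • (φ t • m)
    rw [map_mul, mul_smul]⟩
  have : Module.FinitePresentation T M := h
  exact fp_of_fp_of_fg_ker (T' := T') (T := T) (M := M) hψ hker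

theorem FPVia.comp_iff (ψ : T' →+* T) (hψ : Function.Surjective ψ)
    (hker : (RingHom.ker ψ).FG) (φ : T →+* A) :
    FPVia (φ.comp ψ) M ↔ FPVia φ M :=
  ⟨FPVia.of_comp_surjective M ψ hψ φ, FPVia.comp_of_fg_ker M ψ hψ hker φ⟩

/-- If `M` is finitely presented through a surjection `T → A`, it is finitely presented
over `A`. -/
theorem FPVia.fp_of_surjective (φ : T →+* A) (hφ : Function.Surjective φ)
    (h : FPVia φ M) : Module.FinitePresentation A M := by
  let _ : Algebra T A := φ.toAlgebra
  let _ : Module T M := Module.compHom M φ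
  have : IsScalarTower T A M := ⟨fun t a m => by
    change (φ t * a) • m = φ t • (a • m)
    rw [mul_smul]⟩
  have : Module.FinitePresentation T M := h
  exact fp_of_fp_of_surjective (T' := T) (T := A) (M := M) hφ

end Via

section Indep

variable {R A : Type*} [CommRing R] [CommRing A] [Algebra R A]
  (M : Type*) [AddCommGroup M] [Module A M]

/-- Independence of the polynomial presentation, one direction of the comparison through
`R[x, y]`. -/
theorem FPVia.mvPolynomial_sum_iff {ι κ : Type*} [Finite ι] [Finite κ]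
    (α : MvPolynomial ι R →ₐ[R] A) (hα : Function.Surjective α)
    (β : MvPolynomial κ R →ₐ[R] A) :
    FPVia (α : MvPolynomial ι R →+* A) M ↔
      FPVia ((MvPolynomial.aeval (Sum.elim (fun i => α (MvPolynomial.X i))
        (fun j => β (MvPolynomial.X j))) : MvPolynomial (ι ⊕ κ) R →ₐ[R] A) :
          MvPolynomial (ι ⊕ κ) R →+* A) M := by
  classical
  choose p hp using fun j : κ => hα (β (MvPolynomial.X j))
  let ψ : MvPolynomial (ι ⊕ κ) R →ₐ[R] MvPolynomial ι R :=
    MvPolynomial.aeval (Sum.elim MvPolynomial.X p)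
  have hψ : Function.Surjective ψ := by
    have h1 : ψ.comp (MvPolynomial.rename Sum.inl) = AlgHom.id R _ := by
      apply MvPolynomial.algHom_ext
      intro i
      simp [ψ]
    intro q
    exact ⟨MvPolynomial.rename Sum.inl q, AlgHom.congr_fun h1 q⟩
  have hker : (RingHom.ker (ψ : MvPolynomial (ι ⊕ κ) R →+* MvPolynomial ι R)).FG :=
    Algebra.FinitePresentation.ker_fG_of_surjective ψ hψ
  have hcomp : ((α : MvPolynomial ι R →+* A).comp (ψ : MvPolynomial (ι ⊕ κ) R →+* _)) =
      ((MvPolynomial.aeval (Sum.elim (fun i => α (MvPolynomial.X i))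
        (fun j => β (MvPolynomial.X j))) : MvPolynomial (ι ⊕ κ) R →ₐ[R] A) :
          MvPolynomial (ι ⊕ κ) R →+* A) := by
    have h2 : α.comp ψ = (MvPolynomial.aeval (Sum.elim (fun i => α (MvPolynomial.X i))
        (fun j => β (MvPolynomial.X j))) : MvPolynomial (ι ⊕ κ) R →ₐ[R] A) := by
      apply MvPolynomial.algHom_ext
      rintro (i | j)
      · simp [ψ]
      · simp [ψ, hp]
    rw [← h2]
    rfl
  rw [← hcomp]
  exact (FPVia.comp_iff M _ hψ hker _).symm

theorem FPVia.mvPolynomial_indep {ι κ : Type*} [Finite ι] [Finite κ]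
    (α : MvPolynomial ι R →ₐ[R] A) (hα : Function.Surjective α)
    (β : MvPolynomial κ R →ₐ[R] A) (hβ : Function.Surjective β) :
    FPVia (α : MvPolynomial ι R →+* A) M ↔ FPVia (β : MvPolynomial κ R →+* A) M := by
  rw [FPVia.mvPolynomial_sum_iff M α hα β, FPVia.mvPolynomial_sum_iff M β hβ α]
  -- the two maps from `R[x, y]` and `R[y, x]` differ by the swap of variables
  let σ : MvPolynomial (κ ⊕ ι) R ≃ₐ[R] MvPolynomial (ι ⊕ κ) R :=
    MvPolynomial.renameEquiv R (Equiv.sumComm κ ι)
  have hσ : Function.Surjective (σ : MvPolynomial (κ ⊕ ι) R →+* MvPolynomial (ι ⊕ κ) R) :=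
    σ.surjective
  have hker : (RingHom.ker (σ : MvPolynomial (κ ⊕ ι) R →+* MvPolynomial (ι ⊕ κ) R)).FG := by
    have : RingHom.ker (σ : MvPolynomial (κ ⊕ ι) R →+* MvPolynomial (ι ⊕ κ) R) = ⊥ :=
      (RingHom.injective_iff_ker_eq_bot _).mp σ.injective
    rw [this]
    exact Submodule.fg_bot
  have hcomp : (((MvPolynomial.aeval (Sum.elim (fun i => α (MvPolynomial.X i))
        (fun j => β (MvPolynomial.X j))) : MvPolynomial (ι ⊕ κ) R →ₐ[R] A) :
          MvPolynomial (ι ⊕ κ) R →+* A).comp
        (σ : MvPolynomial (κ ⊕ ι) R →+* MvPolynomial (ι ⊕ κ) R)) =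
      ((MvPolynomial.aeval (Sum.elim (fun j => β (MvPolynomial.X j))
        (fun i => α (MvPolynomial.X i))) : MvPolynomial (κ ⊕ ι) R →ₐ[R] A) :
          MvPolynomial (κ ⊕ ι) R →+* A) := by
    have h2 : (MvPolynomial.aeval (Sum.elim (fun i => α (MvPolynomial.X i))
        (fun j => β (MvPolynomial.X j))) : MvPolynomial (ι ⊕ κ) R →ₐ[R] A).comp
          (σ : MvPolynomial (κ ⊕ ι) R →ₐ[R] MvPolynomial (ι ⊕ κ) R) =
        (MvPolynomial.aeval (Sum.elim (fun j => β (MvPolynomial.X j))
        (fun i => α (MvPolynomial.X i))) : MvPolynomial (κ ⊕ ι) R →ₐ[R] A) := by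
      apply MvPolynomial.algHom_ext
      rintro (j | i) <;> simp [σ]
    rw [← h2]
    rfl
  rw [← hcomp]
  exact (FPVia.comp_iff M _ hσ hker _).symm

/-- Independence of the presentation, for surjections from finitely presented algebras. -/
theorem FPVia.indep {T₁ T₂ : Type*} [CommRing T₁] [CommRing T₂] [Algebra R T₁] [Algebra R T₂]
    [Algebra.FinitePresentation R T₁] [Algebra.FinitePresentation R T₂]
    (α : T₁ →ₐ[R] A) (hα : Function.Surjective α)
    (β : T₂ →ₐ[R] A) (hβ : Function.Surjective β) :
    FPVia (α : T₁ →+* A) M ↔ FPVia (β : T₂ →+* A) M := by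
  obtain ⟨n₁, π₁, hπ₁, hk₁⟩ := Algebra.FinitePresentation.out (R := R) (A := T₁)
  obtain ⟨n₂, π₂, hπ₂, hk₂⟩ := Algebra.FinitePresentation.out (R := R) (A := T₂)
  rw [← FPVia.comp_iff M (π₁ : MvPolynomial (Fin n₁) R →+* T₁) hπ₁ hk₁ (α : T₁ →+* A),
    ← FPVia.comp_iff M (π₂ : MvPolynomial (Fin n₂) R →+* T₂) hπ₂ hk₂ (β : T₂ →+* A)]
  exact FPVia.mvPolynomial_indep M (α.comp π₁) (hα.comp hπ₁) (β.comp π₂) (hβ.comp hπ₂)

end Indep

end Groth.Agent.Lib.Helper35

namespace Groth.Agent.Lib.Helper35

open TensorProduct in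
/-- Stacks 0564 (4): if `C` is a finite `T`-algebra and `M` is a `C`-module which is finitely
presented over `T`, then `M` is finitely presented over `C`. -/
theorem fp_of_fp_restrict_of_finite {T C M : Type*} [CommRing T] [CommRing C] [Algebra T C]
    [Module.Finite T C] [AddCommGroup M] [Module T M] [Module C M] [IsScalarTower T C M]
    [Module.FinitePresentation T M] : Module.FinitePresentation C M := by
  let μ : C ⊗[T] M →ₗ[C] M := (LinearMap.id : M →ₗ[T] M).liftBaseChange C
  have hμ : Function.Surjective μ := fun m => ⟨1 ⊗ₜ m, by simp [μ]⟩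
  have hk : (LinearMap.ker μ).FG := by
    apply Submodule.FG.of_restrictScalars T
    rw [← LinearMap.ker_restrictScalars]
    exact Module.FinitePresentation.fg_ker (μ.restrictScalars T) hμ
  exact Module.finitePresentation_of_surjective μ hμ hk

end Groth.Agent.Lib.Helper35
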