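import Groth.Agent.Lib.Helper35.RelFP
import Mathlib.RingTheory.TensorProduct.MvPolynomial
import Mathlib.LinearAlgebra.TensorProduct.RightExactness
import Mathlib.RingTheory.Localization.Away.Basic
import Mathlib.RingTheory.LocalProperties.FinitePresentation

/-! Relative finite presentation: base change along finitely presented ring maps and
localization (Stacks 0659-065B-ish), helper35. -/

universe u
namespace Groth.Agent.Lib.Helper35

open TensorProduct

section Transfer

/-- Transfer of `FPVia` along a semilinear additive equivalence. -/
theorem FPVia.of_addEquiv {T A A' : Type*} [CommRing T] [CommRing A] [CommRing A']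
    (φ : T →+* A) (φ' : T →+* A')
    {M M' : Type*} [AddCommGroup M] [Module A M] [AddCommGroup M'] [Module A' M']
    (e : M ≃+ M') (he : ∀ t m, e (φ t • m) = φ' t • e m) (h : FPVia φ M) : FPVia φ' M' := by
  let _ : Module T M := Module.compHom M φ
  let _ : Module T M' := Module.compHom M' φ'
  let e' : M ≃ₗ[T] M' := { e with map_smul' := fun t m => he t m }
  have : Module.FinitePresentation T M := h
  exact Module.FinitePresentation.of_equiv e'

theorem FPVia.of_linearEquiv {T A : Type*} [CommRing T] [CommRing A]
    (φ : T →+* A)
    {M M' : Type*} [AddCommGroup M] [Module A M] [AddCommGroup M'] [Module A M']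
    (e : M ≃ₗ[A] M') (h : FPVia φ M) : FPVia φ M' :=
  FPVia.of_addEquiv φ φ e.toAddEquiv (fun t m => e.map_smul (φ t) m) h

end Transfer

section Tower

/-- A module over `A` which is finitely presented over `T` for a compatible `T`-module
structure is finitely presented through `algebraMap T A`. -/
theorem FPVia.of_isScalarTower {T A : Type*} [CommRing T] [CommRing A] [Algebra T A]
    (N : Type*) [AddCommGroup N] [Module A N] [inst : Module T N] [IsScalarTower T A N]
    [h : Module.FinitePresentation T N] : FPVia (algebraMap T A) N := by
  have : Module.compHom N (algebraMap T A) = inst := by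
    apply Module.ext'
    intro t n
    exact algebraMap_smul A t n
  unfold FPVia
  rw [this]
  exact h

end Tower

section Pushout

variable {T T' A A' : Type*} [CommRing T] [CommRing T'] [CommRing A] [CommRing A']
  [Algebra T T'] [Algebra T A] [Algebra T A'] [Algebra A A'] [Algebra T' A']
  [IsScalarTower T A A'] [IsScalarTower T T' A'] [Algebra.IsPushout T T' A A']
  (M : Type*) [AddCommGroup M] [Module A M]

/-- Base change of relative finite presentation along a pushout square. -/
theorem FPVia.baseChange_of_isPushout (h : FPVia (algebraMap T A) M) :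
    FPVia (algebraMap T' A') (A' ⊗[A] M) := by
  let _ : Module T M := Module.compHom M (algebraMap T A)
  have : IsScalarTower T A M := ⟨fun t a m => by
    change (t • a) • m = algebraMap T A t • (a • m)
    rw [Algebra.smul_def, mul_smul]⟩
  have : Module.FinitePresentation T M := h
  let e := Algebra.IsPushout.cancelBaseChange T T' A A' M
  have h1 : Module.FinitePresentation T' (A' ⊗[A] M) := Module.FinitePresentation.of_equiv e.symm
  exact FPVia.of_isScalarTower (A' ⊗[A] M)

end Pushout

section Quotient

variable {T B C : Type*} [CommRing T] [CommRing B] [CommRing C] [Algebra B C]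
  (N : Type*) [AddCommGroup N] [Module B N]

open Submodule LinearEquiv LinearMap in
theorem ker_mk_one_of_surjective (h : Function.Surjective (algebraMap B C)) :
    LinearMap.ker (TensorProduct.mk B C N 1) =
      (RingHom.ker (algebraMap B C)) • (⊤ : Submodule B N) := by
  apply comap_injective_of_surjective (TensorProduct.lid B N).surjective
  rw [← LinearMap.ker_comp]
  have hex : Function.Exact (RingHom.ker (algebraMap B C)).subtype (Algebra.linearMap B C) := by
    intro b
    constructor
    · intro hb
      exact ⟨⟨b, hb⟩, rfl⟩
    · rintro ⟨⟨b', hb'⟩, rfl⟩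
      exact hb'
  have h2 := LinearMap.exact_iff.mp (rTensor_exact N hex h)
  convert h2 using 1
  · congr 1
    ext; simp
  · rw [comap_equiv_eq_map_symm, map_symm_eq_iff, map_range_rTensor_subtype_lid]

theorem FPVia.tensor_of_surjective_of_fg_ker (ρ : T →+* B) (hρ : Function.Surjective ρ)
    (hπ : Function.Surjective (algebraMap B C)) (hker : (RingHom.ker (algebraMap B C)).FG)
    (h : FPVia ρ N) : FPVia ((algebraMap B C).comp ρ) (C ⊗[B] N) := by
  let _ : Algebra T B := ρ.toAlgebra
  let _ : Module T N := Module.compHom N ρ
  have : IsScalarTower T B N := ⟨fun t b n => by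
    change (ρ t * b) • n = ρ t • (b • n)
    rw [mul_smul]⟩
  let _ : Module T (C ⊗[B] N) := Module.compHom _ ((algebraMap B C).comp ρ)
  have : Module.FinitePresentation T N := h
  have hN : Module.Finite B N := Module.Finite.of_restrictScalars_finite T B N
  change Module.FinitePresentation T (C ⊗[B] N)
  let q : N →ₗ[T] C ⊗[B] N :=
    { toFun := fun n => (1 : C) ⊗ₜ[B] n
      map_add' := fun x y => TensorProduct.tmul_add _ _ _
      map_smul' := fun t n => by
        change (1 : C) ⊗ₜ[B] (ρ t • n) = (algebraMap B C (ρ t)) • ((1 : C) ⊗ₜ[B] n)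
        rw [TensorProduct.tmul_smul, ← algebraMap_smul C (ρ t) ((1 : C) ⊗ₜ[B] n)] }
  have hq : Function.Surjective q := by
    intro x
    induction x with
    | zero => exact ⟨0, map_zero q⟩
    | add x y hx hy =>
      obtain ⟨a, rfl⟩ := hx
      obtain ⟨b, rfl⟩ := hy
      exact ⟨a + b, map_add q a b⟩
    | tmul c n =>
      obtain ⟨b, rfl⟩ := hπ c
      refine ⟨b • n, ?_⟩
      change (1 : C) ⊗ₜ[B] (b • n) = algebraMap B C b ⊗ₜ[B] n
      rw [TensorProduct.tmul_smul, TensorProduct.smul_tmul', Algebra.smul_def, mul_one]
  have hkq : (LinearMap.ker q).FG := by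
    have h3 : LinearMap.ker q = (LinearMap.ker (TensorProduct.mk B C N 1)).restrictScalars T := by
      ext n
      rfl
    rw [h3, ker_mk_one_of_surjective N hπ]
    apply Submodule.FG.restrictScalars_of_surjective
    · exact Submodule.FG.smul hker (Module.finite_def.mp hN)
    · exact hρ
  exact Module.finitePresentation_of_surjective q hq hkq

end Quotient

section Main

attribute [local instance] MvPolynomial.algebraMvPolynomial

/-- Base change of relative finite presentation along a finitely presented ring map
(Stacks 0659-type statement), for arbitrary finitely presented covers. -/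
theorem FPVia.tensor_of_finitePresentation {R A A' T₁ T₂ : Type*} [CommRing R] [CommRing A]
    [CommRing A'] [CommRing T₁] [CommRing T₂]
    [Algebra R A] [Algebra A A'] [Algebra R A'] [IsScalarTower R A A']
    [Algebra.FinitePresentation A A']
    [Algebra R T₁] [Algebra.FinitePresentation R T₁] [Algebra R T₂]
    [Algebra.FinitePresentation R T₂]
    (M : Type*) [AddCommGroup M] [Module A M]
    (α : T₁ →ₐ[R] A) (hα : Function.Surjective α) (hM : FPVia (α : T₁ →+* A) M)
    (γ : T₂ →ₐ[R] A') (hγ : Function.Surjective γ) :
    FPVia (γ : T₂ →+* A') (A' ⊗[A] M) := by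
  classical
  obtain ⟨m, π, hπ, hk⟩ := Algebra.FinitePresentation.out (R := A) (A := A')
  let _ : Algebra T₁ A := (α : T₁ →+* A).toAlgebra
  have hT : IsScalarTower R T₁ A := IsScalarTower.of_algebraMap_eq (fun r => (α.commutes r).symm)
  -- step 1 : polynomial extension
  have h1 : FPVia (algebraMap (MvPolynomial (Fin m) T₁) (MvPolynomial (Fin m) A))
      (MvPolynomial (Fin m) A ⊗[A] M) :=
    FPVia.baseChange_of_isPushout (T := T₁) (T' := MvPolynomial (Fin m) T₁) (A := A)
      (A' := MvPolynomial (Fin m) A) M hM
  have hρ : Function.Surjective (algebraMap (MvPolynomial (Fin m) T₁) (MvPolynomial (Fin m) A)) :=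
    MvPolynomial.map_surjective _ hα
  -- step 2 : quotient by a finitely generated ideal
  let _ : Algebra (MvPolynomial (Fin m) A) A' := (π : MvPolynomial (Fin m) A →+* A').toAlgebra
  have hT2 : IsScalarTower A (MvPolynomial (Fin m) A) A' :=
    IsScalarTower.of_algebraMap_eq (fun a => (π.commutes a).symm)
  have h2 := FPVia.tensor_of_surjective_of_fg_ker (C := A') (MvPolynomial (Fin m) A ⊗[A] M)
    (algebraMap (MvPolynomial (Fin m) T₁) (MvPolynomial (Fin m) A)) hρ hπ hk h1
  -- step 3 : cancel the intermediate base change
  let e := TensorProduct.AlgebraTensorModule.cancelBaseChange A (MvPolynomial (Fin m) A) A' A' M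
  have h3 := FPVia.of_linearEquiv _ e h2
  -- step 4 : independence of the presentation
  let τ : MvPolynomial (Fin m) T₁ →ₐ[R] A' :=
    { toRingHom := (algebraMap (MvPolynomial (Fin m) A) A').comp
        (algebraMap (MvPolynomial (Fin m) T₁) (MvPolynomial (Fin m) A))
      commutes' := fun r => by
        change π (MvPolynomial.map (α : T₁ →+* A) (algebraMap R (MvPolynomial (Fin m) T₁) r)) = _
        rw [MvPolynomial.algebraMap_apply, MvPolynomial.map_C]
        change π (MvPolynomial.C (α (algebraMap R T₁ r))) = _
        rw [α.commutes, ← MvPolynomial.algebraMap_eq, π.commutes,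
          ← IsScalarTower.algebraMap_apply] }
  have hτ : Function.Surjective τ := hπ.comp hρ
  have : Algebra.FinitePresentation R (MvPolynomial (Fin m) T₁) :=
    Algebra.FinitePresentation.trans R T₁ (MvPolynomial (Fin m) T₁)
  exact (FPVia.indep (R := R) (A' ⊗[A] M) τ hτ γ hγ).mp h3

end Main

end Groth.Agent.Lib.Helper35
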