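import Groth.Agent.Lib.Helper35.RelFP2
import Mathlib.RingTheory.Localization.BaseChange
import Mathlib.RingTheory.Localization.Finiteness
import Mathlib.RingTheory.Localization.Away.AdjoinRoot

/-! Relative finite presentation is local on the source (Stacks 065B-type), helper35. -/

universe u
namespace Groth.Agent.Lib.Helper35

open TensorProduct

theorem FPVia.of_localizationSpan {R T A : Type*} [CommRing R] [CommRing T] [CommRing A]
    [Algebra R T] [Algebra R A] [Algebra.FinitePresentation R T]
    (α : T →ₐ[R] A) (hα : Function.Surjective α)
    (M : Type*) [AddCommGroup M] [Module A M]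
    (s : Set T) (hs : Ideal.span s = ⊤)
    (H : ∀ g ∈ s, ∃ (k : ℕ) (γ : MvPolynomial (Fin k) R →ₐ[R] Localization.Away (α g)),
      Function.Surjective γ ∧ FPVia (γ : MvPolynomial (Fin k) R →+* Localization.Away (α g))
        (LocalizedModule (Submonoid.powers (α g)) M)) :
    FPVia (α : T →+* A) M := by
  let _ : Algebra T A := (α : T →+* A).toAlgebra
  let _ : Module T M := Module.compHom M (α : T →+* A)
  have : IsScalarTower T A M := ⟨fun t a m => by
    change (α t * a) • m = α t • (a • m)
    rw [mul_smul]⟩
  change Module.FinitePresentation T M
  let inst (g : s) : Module (Localization.Away g.1)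
      (LocalizedModule (Submonoid.powers (α g.1)) M) :=
    Module.compHom _ (Localization.awayMapₐ α g.1 : Localization.Away g.1 →+* Localization.Away (α g.1))
  have tower (g : s) : IsScalarTower T (Localization.Away g.1)
      (LocalizedModule (Submonoid.powers (α g.1)) M) := ⟨fun t x m => by
    change Localization.awayMapₐ α g.1 (t • x) • m =
      t • (Localization.awayMapₐ α g.1 x • m)
    rw [Algebra.smul_def, map_mul]
    have h1 : Localization.awayMapₐ α g.1 (algebraMap T (Localization.Away g.1) t) =
        algebraMap A (Localization.Away (α g.1)) (α t) := by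
      simp [Localization.awayMapₐ, IsLocalization.Away.mapₐ_apply, IsLocalization.Away.map,
        IsLocalization.map_eq]
    rw [h1, mul_smul, algebraMap_smul]
    exact algebraMap_smul A t _⟩
  have loc (g : s) : IsLocalizedModule (Submonoid.powers g.1)
      ((LocalizedModule.mkLinearMap (Submonoid.powers (α g.1)) M).restrictScalars T) :=
    IsLocalizedModule.restrictScalars_powers
      (h := (inferInstance : IsLocalizedModule (Submonoid.powers (α g.1))
        (LocalizedModule.mkLinearMap (Submonoid.powers (α g.1)) M))) g.1 _
  refine Module.FinitePresentation.of_localizationSpan' s hs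
    (Rₚ := fun g => Localization.Away g.1)
    (Mₚ := fun g => LocalizedModule (Submonoid.powers (α g.1)) M)
    (fun g => (LocalizedModule.mkLinearMap (Submonoid.powers (α g.1)) M).restrictScalars T) ?_
  intro g
  obtain ⟨k, γ, hγ, hfp⟩ := H g.1 g.2
  have : Algebra.FinitePresentation R (Localization.Away g.1) :=
    Algebra.FinitePresentation.of_isLocalizationAway g.1
  have hsurj : Function.Surjective (Localization.awayMapₐ α g.1) :=
    IsLocalization.Away.mapₐ_surjective_of_surjective g.1 hα
  exact (FPVia.indep (R := R) (LocalizedModule (Submonoid.powers (α g.1)) M)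
    γ hγ (Localization.awayMapₐ α g.1) hsurj).mp hfp

end Groth.Agent.Lib.Helper35
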