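import Groth.Agent.Lib.Helper35.BCIso
import Groth.Agent.Lib.Helper35.TADev
import Groth.Agent.S7018
import Groth.Agent.S6937

/-! Relatively perfect objects form a saturated triangulated subcategory (helper35). -/

set_option autoImplicit false
set_option linter.unusedSectionVars false
universe u
open CategoryTheory CategoryTheory.Limits MonoidalCategory DerivedCategory CochainComplex
  TensorProduct Pretriangulated ZeroObject
attribute [local instance] HasDerivedCategory.standard

namespace Groth.Agent.Lib.Helper35.TA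

open Groth.Agent.Lib.Helper6 Groth.Agent.Lib.Helper6.MPC

section

variable (R A : Type u) [CommRing R] [CommRing A] [Algebra R A]

theorem isRelPerfect_of_iso {K L : Dual.D A} (e : K ≅ L) (h : Dual2.IsRelPerfect R A K) :
    Dual2.IsRelPerfect R A L := by
  obtain ⟨hpc, a, b, hab⟩ := h
  refine ⟨?_, a, b, TAmp.of_iso hab ((DRing.restrictD (algebraMap R A)).mapIso e)⟩
  rw [Resol.isPC'_iff] at hpc ⊢
  exact fun m => isPC_of_iso e (hpc m)

theorem isRelPerfect_zero (Z : Dual.D A) (hZ : IsZero Z) : Dual2.IsRelPerfect R A Z := by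
  refine ⟨?_, 0, 0, TAmp.of_isZero
    (CategoryTheory.Functor.map_isZero (DRing.restrictD (algebraMap R A)) hZ)⟩
  rw [Resol.isPC'_iff]
  intro m
  have : Z.IsLE (m - 1) := by
    rw [DerivedCategory.isLE_iff]
    intro i _
    exact CategoryTheory.Functor.map_isZero _ hZ
  exact isPC_of_isLE m Z

theorem isRelPerfect_shift {K : Dual.D A} (h : Dual2.IsRelPerfect R A K) (n : ℤ) :
    Dual2.IsRelPerfect R A (K⟦n⟧) := by
  obtain ⟨hpc, a, b, hab⟩ := h
  refine ⟨?_, a - n, b - n, TAmp.of_iso (TAmp.shift hab n)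
    (((DRing.restrictD (algebraMap R A)).commShiftIso n).app K).symm⟩
  rw [Resol.isPC'_iff] at hpc ⊢
  exact fun m => isPC_shift (hpc (m + n)) n m rfl

theorem isRelPerfect_obj₂ (T : Triangle (Dual.D A)) (hT : T ∈ distTriang _)
    (h₁ : Dual2.IsRelPerfect R A T.obj₁) (h₃ : Dual2.IsRelPerfect R A T.obj₃) :
    Dual2.IsRelPerfect R A T.obj₂ := by
  obtain ⟨hpc₁, a₁, b₁, hab₁⟩ := h₁
  obtain ⟨hpc₃, a₃, b₃, hab₃⟩ := h₃
  refine ⟨?_, min a₁ a₃, max b₁ b₃, ?_⟩
  · rw [Resol.isPC'_iff] at hpc₁ hpc₃ ⊢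
    exact fun m => (isPC_triangle T hT m).2.1 (hpc₁ m) (hpc₃ m)
  · have hT' := (DRing.restrictD (algebraMap R A)).map_distinguished T hT
    exact TAmp.obj₂ _ hT' _ _ (TAmp.mono hab₁ (min_le_left _ _) (le_max_left _ _))
      (TAmp.mono hab₃ (min_le_right _ _) (le_max_right _ _))

theorem isRelPerfect_of_biprod (X Y : Dual.D A) (h : Dual2.IsRelPerfect R A (X ⊞ Y)) :
    Dual2.IsRelPerfect R A X ∧ Dual2.IsRelPerfect R A Y := by
  obtain ⟨hpc, a, b, hab⟩ := h
  have := hasLTensor R
  have hadd : (DRing.restrictD (algebraMap R A)).Additive := inferInstance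
  have hpb2 : PreservesBinaryBiproducts (DRing.restrictD (algebraMap R A)) :=
    preservesBinaryBiproducts_of_preservesBiproducts _
  have hpb : PreservesBinaryBiproduct X Y (DRing.restrictD (algebraMap R A)) := inferInstance
  have h1 := (Groth.Agent.S6937.result A 0 X Y).2 hpc
  have h2 := Groth.Agent.S7018.result R a b ((DRing.restrictD (algebraMap R A)).obj X)
    ((DRing.restrictD (algebraMap R A)).obj Y)
    (TAmp.of_iso hab ((DRing.restrictD (algebraMap R A)).mapBiprod X Y))
  exact ⟨⟨h1.1, a, b, h2.1⟩, ⟨h1.2, a, b, h2.2⟩⟩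

theorem isRelPerfect_isTriangulated :
    ObjectProperty.IsTriangulated (C := Dual.D A) (fun K => Dual2.IsRelPerfect R A K) ∧
      ObjectProperty.IsClosedUnderIsomorphisms (C := Dual.D A)
        (fun K => Dual2.IsRelPerfect R A K) ∧
      ∀ X Y : Dual.D A, Dual2.IsRelPerfect R A (X ⊞ Y) →
        Dual2.IsRelPerfect R A X ∧ Dual2.IsRelPerfect R A Y := by
  refine ⟨?_, ⟨fun e h => isRelPerfect_of_iso R A e h⟩, isRelPerfect_of_biprod R A⟩
  exact
    { exists_zero := ⟨0, isZero_zero _, isRelPerfect_zero R A 0 (isZero_zero _)⟩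
      isStableUnderShiftBy := fun n => ⟨fun K hK => isRelPerfect_shift R A hK n⟩
      ext₂' := fun T hT h₁ h₃ =>
        ObjectProperty.le_isoClosure _ _ (isRelPerfect_obj₂ R A T hT h₁ h₃) }

end

end Groth.Agent.Lib.Helper35.TA
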