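import Groth.Agent.S1676
import Groth.Agent.S1509
import Groth.Agent.Lib.Helper35.FTD3

set_option autoImplicit false
universe u
attribute [local instance] HasDerivedCategory.standard

namespace Groth.Agent.Lib.Helper35.SmCancel

open AlgebraicGeometry CategoryTheory Limits Groth.Agent.Lib.Helper35.FTD

/-- separated case -/
theorem perfMor_of_comp_smooth_sep {X Y S : Scheme.{u}} (f : X ⟶ Y) (g : Y ⟶ S) [Smooth g]
    [IsSeparated g] (h : MoreMor.IsPerfectMor (f ≫ g)) : MoreMor.IsPerfectMor f := by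
  let Γ : X ⟶ pullback (f ≫ g) g := pullback.lift (𝟙 X) f (by simp)
  have h1 : Γ ≫ pullback.fst (f ≫ g) g = 𝟙 X := pullback.lift_fst _ _ _
  have h2 : Γ ≫ pullback.snd (f ≫ g) g = f := pullback.lift_snd _ _ _
  have hcl : IsClosedImmersion Γ := by
    have : IsClosedImmersion (Γ ≫ pullback.fst (f ≫ g) g) := by rw [h1]; infer_instance
    exact IsClosedImmersion.of_comp Γ (pullback.fst (f ≫ g) g)
  have hreg := Groth.Agent.S1676.result (pullback.fst (f ≫ g) g) Γ h1
  have hΓ := Groth.Agent.S1509.result Γ hreg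
  have hsnd : MoreMor.IsPerfectMor (pullback.snd (f ≫ g) g) :=
    perfMor_flat_baseChange' (f ≫ g) (pullback.snd (f ≫ g) g) (pullback.fst (f ≫ g) g) g
      (IsPullback.of_hasPullback (f ≫ g) g) h
  rw [← h2]
  exact perfMor_comp _ _ hΓ hsnd

theorem perfMor_of_comp_smooth {X Y S : Scheme.{u}} (f : X ⟶ Y) (g : Y ⟶ S) [Smooth g]
    (h : MoreMor.IsPerfectMor (f ≫ g)) : MoreMor.IsPerfectMor f := by
  rw [isPerfectMor_iff] at h ⊢
  rw [IsZariskiLocalAtTarget.iff_of_openCover (P := perfMor) Y.affineCover]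
  intro j
  rw [← isPerfectMor_iff]
  have : IsSeparated (Y.affineCover.f j ≫ g) := inferInstance
  apply perfMor_of_comp_smooth_sep (pullback.snd f (Y.affineCover.f j)) (Y.affineCover.f j ≫ g)
  rw [isPerfectMor_iff, ← pullback.condition_assoc]
  exact IsZariskiLocalAtSource.comp h _

end Groth.Agent.Lib.Helper35.SmCancel
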