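import Mathlib

set_option autoImplicit false
universe u

namespace Groth.Agent.Lib.Helper35

open IsLocalRing

/-- Inductive construction: `i` elements of `m^k` such that every prime containing `f` and them has
height at least `i + 1`. -/
theorem exists_partial_sop (R : Type u) [CommRing R] [IsNoetherianRing R] [IsLocalRing R]
    (d : ℕ) (hd : ringKrullDim R = d) (f : R)
    (hmin : ∀ p ∈ minimalPrimes R, f ∉ p) (k : ℕ) (i : ℕ) (hi : i + 1 ≤ d) :
    ∃ g : Fin i → R, (∀ j, g j ∈ maximalIdeal R ^ k) ∧
      ∀ p : Ideal R, p.IsPrime → Ideal.span (insert f (Set.range g)) ≤ p →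
        ((i + 1 : ℕ) : ℕ∞) ≤ p.height := by
  induction i with
  | zero =>
    refine ⟨Fin.elim0, fun j => j.elim0, fun p hp hle => ?_⟩
    have hfp : f ∈ p := hle (Ideal.subset_span (Set.mem_insert _ _))
    have : p.height ≠ 0 := by
      intro h0
      have := (Ideal.height_eq_zero_iff (I := p)).mp h0
      exact hmin p this hfp
    simpa using Order.one_le_iff_pos.mpr (pos_iff_ne_zero.mpr this)
  | succ i ih =>
    obtain ⟨g, hg, hgp⟩ := ih (by omega)
    set J : Ideal R := Ideal.span (insert f (Set.range g)) with hJ
    let S := { K | K ∈ J.minimalPrimes ∧ Ideal.height K = ((i + 1 : ℕ) : ℕ∞) }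
    have hS : Set.Finite S := Set.Finite.subset J.finite_minimalPrimes_of_isNoetherianRing
      (fun _ h => h.1)
    have hmd : (maximalIdeal R).height = (d : ℕ∞) := by
      have := IsLocalRing.maximalIdeal_height_eq_ringKrullDim (R := R)
      rw [hd] at this
      exact_mod_cast this
    have : ¬((maximalIdeal R ^ k : Ideal R) : Set R) ⊆ ⋃ K ∈ hS.toFinset, (K : Set R) := by
      refine (Ideal.subset_union_prime ⊥ ⊥ ?_).not.mpr ?_
      · rintro K hK - -
        rw [Set.Finite.mem_toFinset] at hK
        exact hK.1.isPrime
      · push Not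
        intro K hK e
        rw [Set.Finite.mem_toFinset] at hK
        have hKp : K.IsPrime := hK.1.isPrime
        have hmK : maximalIdeal R ≤ K := hKp.le_of_pow_le e
        have := Ideal.height_mono hmK
        rw [hmd, hK.2] at this
        have : d ≤ i + 1 := by exact_mod_cast this
        omega
    simp_rw [Set.not_subset, Set.mem_iUnion, not_exists, Set.Finite.mem_toFinset] at this
    obtain ⟨x, hx₁, hx₂⟩ := this
    refine ⟨Fin.cons x g, ?_, ?_⟩
    · intro j
      refine Fin.cases ?_ (fun j => ?_) j
      · simpa using hx₁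
      · simpa using hg j
    · intro p hp hle
      have hJp : J ≤ p := by
        refine le_trans (Ideal.span_mono ?_) hle
        rw [Fin.range_cons]
        intro y hy
        rcases hy with rfl | hy
        · exact Set.mem_insert _ _
        · exact Set.mem_insert_of_mem _ (Set.mem_insert_of_mem _ hy)
      have hxp : x ∈ p := by
        apply hle
        apply Ideal.subset_span
        rw [Fin.range_cons]
        exact Set.mem_insert_of_mem _ (Set.mem_insert _ _)
      have h1 := hgp p hp hJp
      have hne : ((i + 1 : ℕ) : ℕ∞) ≠ p.height := by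
        intro e
        apply hx₂ p
        · exact ⟨Ideal.mem_minimalPrimes_of_height_le hJp (by
            rw [← e, Ideal.height_eq_inf_minimalPrimes]
            exact le_iInf₂ (fun q hq => hgp q hq.1.1 hq.1.2)), e.symm⟩
        · exact hxp
      have := Order.add_one_le_of_lt (lt_of_le_of_ne h1 hne)
      exact_mod_cast this

/-- Existence of a system of parameters extending `f`, with the other parameters in `m^k`. -/
theorem exists_sop (R : Type u) [CommRing R] [IsNoetherianRing R] [IsLocalRing R]
    (d : ℕ) (hd : ringKrullDim R = d) (f : R) (hf : f ∈ maximalIdeal R)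
    (hmin : ∀ p ∈ minimalPrimes R, f ∉ p) (k : ℕ) :
    ∃ g : Fin (d - 1) → R, (∀ i, g i ∈ maximalIdeal R ^ k) ∧ (∀ i, g i ∈ maximalIdeal R) ∧
      maximalIdeal R ≤ (Ideal.span (insert f (Set.range g))).radical := by
  have hmd : (maximalIdeal R).height = (d : ℕ∞) := by
    have := IsLocalRing.maximalIdeal_height_eq_ringKrullDim (R := R)
    rw [hd] at this
    exact_mod_cast this
  have hd1 : 1 ≤ d := by
    by_contra h
    have h0 : d = 0 := by omega
    rw [h0] at hmd
    have : (maximalIdeal R).height = 0 := by simpa using hmd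
    exact hmin _ ((Ideal.height_eq_zero_iff (I := maximalIdeal R)).mp this) hf
  obtain ⟨g, hg, hgp⟩ := exists_partial_sop R d hd f hmin (k + 1) (d - 1) (by omega)
  refine ⟨g, fun i => Ideal.pow_le_pow_right (Nat.le_succ k) (hg i),
    fun i => Ideal.pow_le_self (by omega) (hg i), ?_⟩
  rw [Ideal.radical_eq_sInf]
  refine le_sInf ?_
  rintro p ⟨hle, hp⟩
  have h1 := hgp p hp hle
  have hpm : p ≤ maximalIdeal R := IsLocalRing.le_maximalIdeal hp.ne_top
  have : p = maximalIdeal R := by
    refine Ideal.eq_of_le_of_height_le (I := p) hpm ?_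
    rw [hmd]
    refine le_trans ?_ h1
    have : d - 1 + 1 = d := by omega
    rw [this]
  exact this.ge

/-- Perturbing one generator by an element of `m • I` does not change the ideal. -/
theorem span_insert_add_eq (R : Type u) [CommRing R] [IsNoetherianRing R] [IsLocalRing R]
    (f : R) (s : Set R) (N : ℕ) (hN : maximalIdeal R ^ N ≤ Ideal.span (insert f s)) (h : R)
    (hh : h ∈ maximalIdeal R ^ (N + 1)) :
    Ideal.span (insert (f + h) s) = Ideal.span (insert f s) := by
  have hhI : h ∈ Ideal.span (insert f s) :=
    hN (Ideal.pow_le_pow_right (Nat.le_succ N) hh)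
  have hhmI : h ∈ maximalIdeal R • Ideal.span (insert f s) := by
    rw [pow_succ'] at hh
    exact Ideal.mul_mono_right hN hh
  apply le_antisymm
  · rw [Ideal.span_le]
    intro y hy
    rcases hy with rfl | hy
    · exact Ideal.add_mem _ (Ideal.subset_span (Set.mem_insert _ _)) hhI
    · exact Ideal.subset_span (Set.mem_insert_of_mem _ hy)
  · refine Submodule.le_of_le_smul_of_le_jacobson_bot (I := maximalIdeal R)
      (IsNoetherian.noetherian _) (IsLocalRing.maximalIdeal_le_jacobson ⊥) ?_
    rw [Ideal.span_le]
    intro y hy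
    rcases hy with rfl | hy
    · have h1 : (y + h) - h ∈ Ideal.span (insert (y + h) s) ⊔
          maximalIdeal R • Ideal.span (insert y s) :=
        Submodule.sub_mem _ (Submodule.mem_sup_left (Ideal.subset_span (Set.mem_insert _ _)))
          (Submodule.mem_sup_right hhmI)
      simpa using h1
    · exact Submodule.mem_sup_left (Ideal.subset_span (Set.mem_insert_of_mem _ hy))

end Groth.Agent.Lib.Helper35
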