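import Groth.Agent.Lib.Helper35.FTD3
import Groth.Agent.Lib.Helper35.PCRes
import Groth.Agent.Lib.Helper35.ConeRep2
import Groth.Agent.Lib.Helper6.MPC4
import Groth.Agent.H76.FlatLocusFP

/-!
# Finite tor dimension of a pseudo-coherent ring map can be checked on stalks (helper35)
-/

set_option autoImplicit false
universe u

open CategoryTheory Limits

namespace Groth.Agent.Lib.Helper35.StalkFTD

attribute [local instance] HasDerivedCategory.standard

open Groth.Agent.Lib.Helper35.TA

section cover

variable {S : Type u} [CommRing S]

/-- A pseudo-coherent module is a quotient of a finite free module with pseudo-coherent kernel. -/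
theorem exists_cover_pc (M : Type u) [AddCommGroup M] [Module S M]
    (hM : DRing.IsPseudoCoherentModule' S M) :
    ∃ (n : ℕ) (f : (Fin n → S) →ₗ[S] M), Function.Surjective f ∧
      DRing.IsPseudoCoherentModule' S (LinearMap.ker f) := by
  have hfin : Module.Finite S M :=
    Groth.Agent.Lib.Helper6.MPC.finite_of_isPC_zero_single (ModuleCat.of S M)
      (Groth.Agent.Lib.Helper6.MPC.isPC_of_isPC' hM 0)
  obtain ⟨n, f, hf⟩ := Module.Finite.exists_fin' S M
  refine ⟨n, f, hf, ?_⟩
  have hS := LinearMap.shortExact_shortComplexKer hf
  have hT := hS.singleTriangle_distinguished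
  have hF : DRing.IsPseudoCoherent' S
      ((DerivedCategory.singleFunctor (ModuleCat.{u} S) 0).obj (ModuleCat.of S (Fin n → S))) :=
    Groth.Agent.Lib.Helper35.KL.isPseudoCoherent'_single_of_finite_projective _
  exact (Groth.Agent.Lib.Helper35.KL.isPseudoCoherent'_two_out_of_three _ hT).2.2 hF hM

/-- pseudo-coherent modules are finitely presented -/
theorem finitePresentation_of_pc (M : Type u) [AddCommGroup M] [Module S M]
    (hM : DRing.IsPseudoCoherentModule' S M) : Module.FinitePresentation S M :=
  Groth.Agent.Lib.Helper6.MPC.fp_of_isPC_neg_one_single (ModuleCat.of S M)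
    (Groth.Agent.Lib.Helper6.MPC.isPC_of_isPC' hM (-1))

end cover

section shift

variable {A S : Type u} [CommRing A] [CommRing S] [Algebra A S] (W : Submonoid S)

theorem flat_localizedModule (F : Type u) [AddCommGroup F] [Module S F] [Module A F]
    [IsScalarTower A S F] [Module.Flat A F] : Module.Flat A (LocalizedModule W F) := by
  rw [Groth.Agent.H76.FlatLocal.flat_localized_iff]
  intro I _ z hz
  refine ⟨1, W.one_mem, ?_⟩
  rw [one_smul]
  have hinj := Module.Flat.lTensor_preserves_injective_linearMap (M := F) I.subtype
    Subtype.val_injective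
  exact hinj (by rw [hz, map_zero])

/-- Dimension shifting for localized modules. -/
theorem TD_localized_succ_iff {F M : Type u} [AddCommGroup F] [Module S F] [Module A F]
    [IsScalarTower A S F] [AddCommGroup M] [Module S M] [Module A M] [IsScalarTower A S M]
    [Module.Flat A F] (f : F →ₗ[S] M) (hf : Function.Surjective f) (d : ℕ) :
    TD (d + 1) (ModuleCat.of A (LocalizedModule W M)) ↔
      TD d (ModuleCat.of A (LocalizedModule W (LinearMap.ker f))) := by
  let g₁ : LocalizedModule W (LinearMap.ker f) →ₗ[A] LocalizedModule W F :=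
    (LocalizedModule.map W (LinearMap.ker f).subtype).restrictScalars A
  let g₂ : LocalizedModule W F →ₗ[A] LocalizedModule W M :=
    (LocalizedModule.map W f).restrictScalars A
  have hex : Function.Exact g₁ g₂ :=
    LocalizedModule.map_exact W (LinearMap.ker f).subtype f (LinearMap.exact_subtype_ker_map f)
  have hinj : Function.Injective g₁ :=
    LocalizedModule.map_injective W _ (LinearMap.ker f).injective_subtype
  have hsurj : Function.Surjective g₂ := LocalizedModule.map_surjective W f hf
  let SC : ShortComplex (ModuleCat.{u} A) :=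
    ShortComplex.mk (ModuleCat.ofHom g₁) (ModuleCat.ofHom g₂) (by
      ext x
      exact hex.apply_apply_eq_zero x)
  have hSC : SC.ShortExact :=
    { exact := (ShortComplex.ShortExact.moduleCat_exact_iff_function_exact SC).mpr hex
      mono_f := (ModuleCat.mono_iff_injective _).mpr hinj
      epi_g := (ModuleCat.epi_iff_surjective _).mpr hsurj }
  have : Module.Flat A SC.X₂ := flat_localizedModule W F
  exact TD_succ_iff SC hSC d

end shift

section base

open TensorProduct

variable {A S : Type u} [CommRing A] [CommRing S] [Algebra A S]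

/-- If all localizations of `M` at primes of `D(g)` are `A`-flat, then `M_g` is `A`-flat. -/
theorem flat_away_of_forall_prime (M : Type u) [AddCommGroup M] [Module S M] [Module A M]
    [IsScalarTower A S M] (g : S)
    (h : ∀ (q : Ideal S) [q.IsPrime], g ∉ q → Module.Flat A (LocalizedModule q.primeCompl M)) :
    Module.Flat A (LocalizedModule (Submonoid.powers g) M) := by
  rw [Groth.Agent.H76.FlatLocal.flat_localized_iff]
  intro I hI z hz
  let J : Ideal S := LinearMap.ker (LinearMap.toSpanSingleton S (M ⊗[A] I) z)
  have hJ : ∀ s : S, s ∈ J ↔ s • z = 0 := fun s => by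
    simp only [J, LinearMap.mem_ker, LinearMap.toSpanSingleton_apply]
  have hg : g ∈ J.radical := by
    rw [Ideal.radical_eq_sInf, Submodule.mem_sInf]
    rintro (q : Ideal S) ⟨hJq, hq⟩
    by_contra hgq
    obtain ⟨w, hw, hwz⟩ := (Groth.Agent.H76.FlatLocal.flat_localized_iff
      (R := A) (M := M) q.primeCompl).1 (h q hgq) I hI z hz
    exact hw (hJq ((hJ w).2 hwz))
  obtain ⟨k, hk⟩ := hg
  exact ⟨g ^ k, ⟨k, rfl⟩, (hJ _).1 hk⟩

theorem exists_flat_away [Algebra.FinitePresentation A S] (M : Type u) [AddCommGroup M]
    [Module S M] [Module A M] [IsScalarTower A S M] [Module.FinitePresentation S M]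
    (q : Ideal S) [hq : q.IsPrime] (h : Module.Flat A (LocalizedModule q.primeCompl M)) :
    ∃ g : S, g ∉ q ∧ Module.Flat A (LocalizedModule (Submonoid.powers g) M) := by
  have hopen := Groth.Agent.H76.FlatLocusFP.isOpen_flatLocus (R := A) (S := S) (M := M)
  have hmem : (⟨q, hq⟩ : PrimeSpectrum S) ∈ {q : PrimeSpectrum S |
      Module.Flat A (LocalizedModule q.asIdeal.primeCompl M)} := h
  obtain ⟨_, ⟨g, rfl⟩, hqg, hsub⟩ :=
    PrimeSpectrum.isTopologicalBasis_basic_opens.exists_subset_of_mem_open hmem hopen
  refine ⟨g, hqg, flat_away_of_forall_prime M g (fun q' hq' hg => ?_)⟩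
  exact hsub (show (⟨q', hq'⟩ : PrimeSpectrum S) ∈ (PrimeSpectrum.basicOpen g : Set _) from hg)

end base

section main

variable {A S : Type u} [CommRing A] [CommRing S] [Algebra A S]

/-- **Lemma G**: for a pseudo-coherent module over a flat finitely presented algebra, the tor
dimension over the base spreads out from a prime to a principal open neighbourhood. -/
theorem exists_TD_away [Algebra.FinitePresentation A S] [Module.Flat A S] (d : ℕ) :
    ∀ (M : Type u) [AddCommGroup M] [Module S M] [Module A M] [IsScalarTower A S M]
      (_ : DRing.IsPseudoCoherentModule' S M) (q : Ideal S) [q.IsPrime]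
      (_ : TD d (ModuleCat.of A (LocalizedModule q.primeCompl M))),
      ∃ g : S, g ∉ q ∧ TD d (ModuleCat.of A (LocalizedModule (Submonoid.powers g) M)) := by
  induction d with
  | zero =>
    intro M _ _ _ _ hM q _ h
    have := finitePresentation_of_pc M hM
    rw [TD_zero_iff_flat] at h
    obtain ⟨g, hg, hflat⟩ := exists_flat_away M q h
    exact ⟨g, hg, (TD_zero_iff_flat _).2 hflat⟩
  | succ d ih =>
    intro M _ _ _ _ hM q _ h
    obtain ⟨n, f, hf, hK⟩ := exists_cover_pc M hM
    have : Module.Flat A (Fin n → S) := Module.Flat.trans A S (Fin n → S)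
    rw [TD_localized_succ_iff q.primeCompl f hf d] at h
    obtain ⟨g, hg, hgK⟩ := ih (LinearMap.ker f) hK q h
    exact ⟨g, hg, (TD_localized_succ_iff (Submonoid.powers g) f hf d).2 hgK⟩

end main

section transport

variable {A P B : Type u} [CommRing A] [CommRing P] [CommRing B] [Algebra A P] [Algebra P B]
  [Algebra A B] [IsScalarTower A P B]

/-- The localization of `B` as a `P`-module at `W ⊆ P` is the localization of the ring `B`. -/
theorem nonempty_linearEquiv_localization (W : Submonoid P) (B' : Type u) [CommRing B']
    [Algebra B B'] [IsLocalization (Algebra.algebraMapSubmonoid B W) B'] [Algebra A B']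
    [IsScalarTower A B B'] : Nonempty (LocalizedModule W B ≃ₗ[A] B') := by
  letI : Algebra P B' := ((algebraMap B B').comp (algebraMap P B)).toAlgebra
  have t1 : IsScalarTower P B B' := IsScalarTower.of_algebraMap_eq (fun _ => rfl)
  have t2 : IsScalarTower A P B' := IsScalarTower.of_algebraMap_eq (fun a => by
    rw [IsScalarTower.algebraMap_apply A B B', IsScalarTower.algebraMap_apply A P B]
    rfl)
  have h1 : IsLocalizedModule (Algebra.algebraMapSubmonoid B W) (Algebra.linearMap B B') :=
    (isLocalizedModule_iff_isLocalization).2 inferInstance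
  have h2 : IsLocalizedModule W ((Algebra.linearMap B B').restrictScalars P) :=
    IsLocalizedModule.restrictScalars W _
  exact ⟨(IsLocalizedModule.iso W ((Algebra.linearMap B B').restrictScalars P)).restrictScalars A⟩

end transport

section ringlevel

variable {A B : Type u} [CommRing A] [CommRing B] [Algebra A B]

/-- **Lemma F'**. -/
theorem exists_ftd_away (hpc : MoreMor.IsPseudoCoherentHom A B) (q : Ideal B) [hq : q.IsPrime]
    (h : DRing.HasFiniteTorDim A (Localization.AtPrime q)) :
    ∃ g : B, g ∉ q ∧ DRing.HasFiniteTorDim A (Localization.Away g) := by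
  obtain ⟨n, φ, hφ, hB⟩ := hpc
  letI : Algebra (MvPolynomial (Fin n) A) B := φ.toRingHom.toAlgebra
  have t : IsScalarTower A (MvPolynomial (Fin n) A) B :=
    IsScalarTower.of_algebraMap_eq (fun a => (φ.commutes a).symm)
  have hsurj : Function.Surjective (algebraMap (MvPolynomial (Fin n) A) B) := hφ
  let q' : Ideal (MvPolynomial (Fin n) A) := q.comap (algebraMap (MvPolynomial (Fin n) A) B)
  have hW : Algebra.algebraMapSubmonoid B q'.primeCompl = q.primeCompl := by
    ext x
    constructor
    · rintro ⟨y, hy, rfl⟩
      exact hy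
    · intro hx
      obtain ⟨y, rfl⟩ := hsurj x
      exact ⟨y, hx, rfl⟩
  have : IsLocalization (Algebra.algebraMapSubmonoid B q'.primeCompl) (Localization.AtPrime q) := by
    rw [hW]
    infer_instance
  obtain ⟨e1⟩ := nonempty_linearEquiv_localization (A := A) (P := MvPolynomial (Fin n) A)
    (B := B) q'.primeCompl (Localization.AtPrime q)
  obtain ⟨d, hd⟩ := Groth.Agent.Lib.Helper35.FTD.of_linearEquiv e1.symm h
  rw [hasTorDimLE_iff_TD] at hd
  obtain ⟨g', hg', hgd⟩ := exists_TD_away (A := A) (S := MvPolynomial (Fin n) A) d B hB q' hd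
  refine ⟨algebraMap _ B g', hg', ?_⟩
  have : IsLocalization (Algebra.algebraMapSubmonoid B (Submonoid.powers g'))
      (Localization.Away (algebraMap (MvPolynomial (Fin n) A) B g')) := by
    rw [Algebra.algebraMapSubmonoid_powers]
    infer_instance
  obtain ⟨e2⟩ := nonempty_linearEquiv_localization (A := A) (P := MvPolynomial (Fin n) A)
    (B := B) (Submonoid.powers g') (Localization.Away (algebraMap (MvPolynomial (Fin n) A) B g'))
  exact Groth.Agent.Lib.Helper35.FTD.of_linearEquiv e2 ⟨d, (hasTorDimLE_iff_TD _ _).2 hgd⟩

/-- For a pseudo-coherent ring map, finite tor dimension can be checked at the primes of the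
target. -/
theorem hasFiniteTorDim_of_forall_prime (hpc : MoreMor.IsPseudoCoherentHom A B)
    (h : ∀ (q : Ideal B) [q.IsPrime], DRing.HasFiniteTorDim A (Localization.AtPrime q)) :
    DRing.HasFiniteTorDim A B := by
  have key : ∀ q : PrimeSpectrum B, ∃ g : B, g ∉ q.asIdeal ∧
      DRing.HasFiniteTorDim A (Localization.Away g) :=
    fun q => exists_ftd_away hpc q.asIdeal (h q.asIdeal)
  choose g hg hgd using key
  have hspan : Ideal.span (Set.range g) = ⊤ := by
    by_contra hne
    obtain ⟨m, hm, hle⟩ := Ideal.exists_le_maximal _ hne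
    exact hg ⟨m, hm.isPrime⟩ (hle (Ideal.subset_span ⟨_, rfl⟩))
  obtain ⟨s, hs, hs'⟩ := (Ideal.span_eq_top_iff_finite _).1 hspan
  let g' : Fin s.card → B := fun i => (s.equivFin.symm i : B)
  have hrange : Set.range g' = (s : Set B) := by
    ext x
    constructor
    · rintro ⟨i, rfl⟩
      exact (s.equivFin.symm i).2
    · intro hx
      exact ⟨s.equivFin ⟨x, hx⟩, by simp [g']⟩
  refine Groth.Agent.Lib.Helper35.FTD.of_span_target g' (by rw [hrange]; exact hs') (fun i => ?_)
  obtain ⟨q, hq⟩ := hs (s.equivFin.symm i).2
  have : g' i = g q := hq.symm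
  rw [this]
  exact hgd q

end ringlevel

section localRingHom

variable {A B : Type u} [CommRing A] [CommRing B] [Algebra A B]
  (p : Ideal A) [p.IsPrime] (q : Ideal B) [q.IsPrime] (hpq : p = q.comap (algebraMap A B))

include hpq in
theorem isScalarTower_localRingHom :
    letI := (Localization.localRingHom p q (algebraMap A B) hpq).toAlgebra
    IsScalarTower A (Localization.AtPrime p) (Localization.AtPrime q) := by
  letI := (Localization.localRingHom p q (algebraMap A B) hpq).toAlgebra
  refine IsScalarTower.of_algebraMap_eq (fun a => ?_)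
  rw [IsScalarTower.algebraMap_apply A B (Localization.AtPrime q)]
  exact (Localization.localRingHom_to_map p q (algebraMap A B) hpq a).symm

/-- (R2) -/
theorem ftd_of_ftd_localRingHom
    (h : letI := (Localization.localRingHom p q (algebraMap A B) hpq).toAlgebra
      DRing.HasFiniteTorDim (Localization.AtPrime p) (Localization.AtPrime q)) :
    DRing.HasFiniteTorDim A (Localization.AtPrime q) := by
  letI := (Localization.localRingHom p q (algebraMap A B) hpq).toAlgebra
  have t := isScalarTower_localRingHom p q hpq
  exact Groth.Agent.Lib.Helper35.FTD.comp (A := A) (B := Localization.AtPrime p)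
    (Localization.AtPrime q) (Groth.Agent.Lib.Helper35.FTD.of_flat _) h

/-- (R1) -/
theorem ftd_localRingHom_of_ftd (h : DRing.HasFiniteTorDim A B) :
    letI := (Localization.localRingHom p q (algebraMap A B) hpq).toAlgebra
    DRing.HasFiniteTorDim (Localization.AtPrime p) (Localization.AtPrime q) := by
  letI := (Localization.localRingHom p q (algebraMap A B) hpq).toAlgebra
  have t := isScalarTower_localRingHom p q hpq
  have h1 : DRing.HasFiniteTorDim A (Localization.AtPrime q) :=
    Groth.Agent.Lib.Helper35.FTD.comp (A := A) (B := B) (Localization.AtPrime q) h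
      (Groth.Agent.Lib.Helper35.FTD.of_flat _)
  have hloc : IsLocalization (Algebra.algebraMapSubmonoid (Localization.AtPrime q) p.primeCompl)
      (Localization.AtPrime q) := by
    apply IsLocalization.of_le_isUnit
    rintro _ ⟨a, ha, rfl⟩
    rw [IsScalarTower.algebraMap_apply A B (Localization.AtPrime q)]
    refine IsLocalization.map_units (M := q.primeCompl) (Localization.AtPrime q)
      ⟨algebraMap A B a, ?_⟩
    intro hmem
    apply ha
    rw [hpq]
    exact hmem
  have hpo : Algebra.IsPushout A (Localization.AtPrime q) (Localization.AtPrime p)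
      (Localization.AtPrime q) :=
    Algebra.isPushout_of_isLocalization p.primeCompl (Localization.AtPrime p)
      (Localization.AtPrime q) (Localization.AtPrime q)
  exact Groth.Agent.Lib.Helper35.FTD.baseChange (R := A) (S := Localization.AtPrime q)
    (R' := Localization.AtPrime p) (S' := Localization.AtPrime q) h1

end localRingHom

end Groth.Agent.Lib.Helper35.StalkFTD
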