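import Groth.Agent.Lib.Helper35.StalkFTD

set_option autoImplicit false
universe u
attribute [local instance] HasDerivedCategory.standard

namespace Groth.Agent.Lib.Helper35.StalkFTD

open AlgebraicGeometry CategoryTheory Limits Groth.Agent.Lib.Helper35.FTD

/-- stalk-level finite tor dimension in terms of affine charts -/
theorem ftdQ_stalkMap_iff {X S : Scheme.{u}} (f : X ⟶ S) (x : X) (V : S.Opens)
    (hV : IsAffineOpen V) (U : X.Opens) (hU : IsAffineOpen U) (hUV : U ≤ f ⁻¹ᵁ V) (hx : x ∈ U) :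
    ftdQ (f.stalkMap x).hom ↔
      ftdQ (Localization.localRingHom (hV.primeIdealOf ⟨f x, hUV hx⟩).asIdeal
        (hU.primeIdealOf ⟨x, hx⟩).asIdeal (f.appLE V U hUV).hom
        congr($(IsAffineOpen.comap_primeIdealOf_appLE V hV U hU hUV hx).1).symm) :=
  ftdQ_isLocal.respectsIso.arrow_mk_iso_iff (IsAffineOpen.arrowStalkMapIso f V hV U hU hUV hx)

theorem perfMor_iff_stalks {X S : Scheme.{u}} (f : X ⟶ S) (hf : MoreMor.IsPseudoCoherentMor f) :
    MoreMor.IsPerfectMor f ↔ ∀ x : X, ftdQ (f.stalkMap x).hom := by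
  constructor
  · intro hperf x
    obtain ⟨V, hV, hxV, -⟩ := TopologicalSpace.Opens.isBasis_iff_nbhd.mp S.isBasis_affineOpens
      (TopologicalSpace.Opens.mem_top (f x))
    obtain ⟨U, hU, hxU, hUV⟩ := TopologicalSpace.Opens.isBasis_iff_nbhd.mp
      X.isBasis_affineOpens (show x ∈ f ⁻¹ᵁ V from hxV)
    rw [ftdQ_stalkMap_iff f x V hV U hU hUV hxU]
    letI := (f.appLE V U hUV).hom.toAlgebra
    have h := (hperf U V hU hV hUV).2
    exact ftd_localRingHom_of_ftd (hV.primeIdealOf ⟨f x, hUV hxU⟩).asIdeal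
      (hU.primeIdealOf ⟨x, hxU⟩).asIdeal
      congr($(IsAffineOpen.comap_primeIdealOf_appLE V hV U hU hUV hxU).1).symm h
  · intro hst U V hU hV hUV
    letI := (f.appLE V U hUV).hom.toAlgebra
    refine ⟨hf U V hU hV hUV, ?_⟩
    have key : ∀ x : U, DRing.HasFiniteTorDim Γ(S, V)
        (Localization.AtPrime (hU.primeIdealOf x).asIdeal) := by
      rintro ⟨x, hxU⟩
      have h := (ftdQ_stalkMap_iff f x V hV U hU hUV hxU).1 (hst x)
      exact ftd_of_ftd_localRingHom (hV.primeIdealOf ⟨f x, hUV hxU⟩).asIdeal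
        (hU.primeIdealOf ⟨x, hxU⟩).asIdeal
        congr($(IsAffineOpen.comap_primeIdealOf_appLE V hV U hU hUV hxU).1).symm h
    refine hasFiniteTorDim_of_forall_prime (hf U V hU hV hUV) (fun q hq => ?_)
    obtain ⟨x, hx⟩ : ∃ x : U, hU.primeIdealOf x = ⟨q, hq⟩ := by
      refine ⟨hU.isoSpec.inv ⟨q, hq⟩, ?_⟩
      change hU.isoSpec.hom (hU.isoSpec.inv ⟨q, hq⟩) = _
      rw [← Scheme.Hom.comp_apply, Iso.inv_hom_id]
      rfl
    have h := key x
    obtain rfl : (hU.primeIdealOf x).asIdeal = q := congrArg PrimeSpectrum.asIdeal hx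
    exact h

end Groth.Agent.Lib.Helper35.StalkFTD
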