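import Groth.Agent.Lib.Helper29.SkOneOpen
import Groth.Agent.Lib.Helper29.EquidimCatenary
import Groth.Agent.Lib.Helper29.DepthSelf

/-! Strict equidimensionality versus `(S_1)` (helper35). -/

set_option autoImplicit false
universe u

namespace Groth.Agent.Lib.Helper35.StrictFC

open IsLocalRing Groth.Agent.Lib.Helper29

theorem ringKrullDim_quotient_succ_le {R : Type*} [CommRing R] (p 𝔭 : Ideal R) [p.IsPrime]
    (hlt : p < 𝔭) : ringKrullDim (R ⧸ 𝔭) + 1 ≤ ringKrullDim (R ⧸ p) := by
  obtain ⟨x, hx𝔭, hxp⟩ := Set.exists_of_ssubset hlt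
  refine ringKrullDim_succ_le_of_surjective (Ideal.Quotient.factor hlt.le)
    (Ideal.Quotient.factor_surjective hlt.le) (r := Ideal.Quotient.mk p x) ?_ ?_
  · apply mem_nonZeroDivisors_of_ne_zero
    rw [Ne, Ideal.Quotient.eq_zero_iff_mem]
    exact hxp
  · rw [Ideal.Quotient.factor_mk, Ideal.Quotient.eq_zero_iff_mem]
    exact hx𝔭

/-- A strictly equidimensional Noetherian local ring satisfies `(S_1)`. -/
theorem hasSk_one_of_isStrictlyEquidim (R : Type u) [CommRing R] [IsNoetherianRing R]
    [IsLocalRing R] (h : EGA4.IsStrictlyEquidim R) : LocCoh.HasSk 1 R R := by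
  rw [hasSk_one_iff_noEmbedded]
  intro P hP Q hQ hPQ
  by_contra hne
  have hlt : P < Q := lt_of_le_of_ne hPQ hne
  haveI : P.IsPrime := IsAssociatedPrime.isPrime hP
  have h1 := ringKrullDim_quotient_succ_le P Q hlt
  rw [h P hP, h Q hQ] at h1
  obtain ⟨n, hn⟩ := exists_nat_ringKrullDim_eq R
  rw [hn] at h1
  have h2 : ((n + 1 : ℕ) : WithBot ℕ∞) ≤ ((n : ℕ) : WithBot ℕ∞) := by
    push_cast
    exact h1
  have h3 : n + 1 ≤ n := by exact_mod_cast h2
  omega

/-- An equidimensional Noetherian ring satisfying `(S_1)` is strictly equidimensional. -/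
theorem isStrictlyEquidim_of_isEquidim_of_hasSk_one (R : Type u) [CommRing R] [IsNoetherianRing R]
    (heq : EGA4.IsEquidim R) (h : LocCoh.HasSk 1 R R) : EGA4.IsStrictlyEquidim R := by
  rw [hasSk_one_iff_noEmbedded] at h
  intro P hP
  haveI : P.IsPrime := IsAssociatedPrime.isPrime hP
  obtain ⟨Q, hQmin, hQP⟩ := Ideal.exists_minimalPrimes_le (bot_le : (⊥ : Ideal R) ≤ P)
  have hann : Module.annihilator R R = ⊥ := by
    rw [eq_bot_iff]
    intro x hx
    have := Module.mem_annihilator.mp hx 1
    simpa using this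
  have hQass : Q ∈ associatedPrimes R R := by
    apply Module.associatedPrimes.minimalPrimes_annihilator_subset_associatedPrimes R R
    rw [hann]
    exact hQmin
  have hQeq : Q = P := h Q hQass P hP hQP
  subst hQeq
  exact heq Q hQmin

/-- A strictly equidimensional Noetherian ring is equidimensional. -/
theorem isEquidim_of_isStrictlyEquidim (R : Type u) [CommRing R] [IsNoetherianRing R]
    (h : EGA4.IsStrictlyEquidim R) : EGA4.IsEquidim R := by
  intro Q hQmin
  have hann : Module.annihilator R R = ⊥ := by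
    rw [eq_bot_iff]
    intro x hx
    have := Module.mem_annihilator.mp hx 1
    simpa using this
  have hQass : Q ∈ associatedPrimes R R := by
    apply Module.associatedPrimes.minimalPrimes_annihilator_subset_associatedPrimes R R
    rw [hann]
    exact hQmin
  exact h Q hQass

/-- A Noetherian domain satisfies `(S_1)`. -/
theorem hasSk_one_of_isDomain (D : Type u) [CommRing D] [IsNoetherianRing D] [IsDomain D] :
    LocCoh.HasSk 1 D D := by
  rw [hasSk_one_iff_noEmbedded]
  have key : ∀ P ∈ associatedPrimes D D, P = ⊥ := by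
    intro P hP
    obtain ⟨hPprime, x, hx⟩ := (isAssociatedPrime_iff (R := D) (M := D)).mp hP
    rw [hx, eq_bot_iff]
    intro r hr
    rw [Submodule.mem_colon_singleton, Submodule.mem_bot, smul_eq_mul] at hr
    rcases mul_eq_zero.mp hr with h0 | h0
    · exact (Submodule.mem_bot D).mpr h0
    · exfalso
      apply hPprime.ne_top
      rw [hx, h0, Ideal.eq_top_iff_one, Submodule.mem_colon_singleton]
      simp
  intro P hP Q hQ _
  rw [key P hP, key Q hQ]

/-- A Cohen–Macaulay ring satisfies `(S_n)` for every `n`. -/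
theorem hasSk_of_isCohenMacaulayRing' (n : ℕ) (F : Type u) [CommRing F]
    (hF : LocCoh.IsCohenMacaulayRing F) : LocCoh.HasSk n F F := by
  intro p hp
  rw [supportDim_localizedModule_self, depth_localizedModule_self]
  have h := (hF.isCohenMacaulayLocalRing_localization p).supportDim_eq_depth
  rw [Module.supportDim_self_eq_ringKrullDim, IsLocalization.AtPrime.ringKrullDim_eq_height p] at h
  rw [← h]
  exact min_le_right _ _

end Groth.Agent.Lib.Helper35.StrictFC
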