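import Groth.Agent.Lib.Helper35.StrictFCA
import Groth.Agent.Lib.Helper35.CutoffCplA
import Groth.Agent.Lib.Helper29.FibreDescent
import Groth.Agent.Lib.Helper29.CplQuot

/-! `(S_k)` for fibre rings from `(S_k)` of `B/pB`; formal fibres of strictly formally catenary
rings are `(S_1)` (helper35). -/

set_option autoImplicit false
universe u

namespace Groth.Agent.Lib.Helper35.StrictFC

open IsLocalRing Groth.Agent.Lib.Helper29 TensorProduct Groth.Agent.Lib.Helper35.CutoffCpl

section

/-- `R_q / I R_q ≃ (R/I)_{q/I}` as rings. -/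
theorem nonempty_ringEquiv_localization_quotient_map (R : Type u) [CommRing R] (I q : Ideal R)
    [hq : q.IsPrime] (hIq : I ≤ q) [hP : (q.map (Ideal.Quotient.mk I)).IsPrime] :
    Nonempty (Localization.AtPrime (q.map (Ideal.Quotient.mk I)) ≃+*
      (Localization.AtPrime q ⧸ I.map (algebraMap R (Localization.AtPrime q)))) := by
  have h1 : IsLocalization (Algebra.algebraMapSubmonoid (R ⧸ I) q.primeCompl)
      (Localization.AtPrime q ⧸ I.map (algebraMap R (Localization.AtPrime q))) := inferInstance
  rw [algebraMapSubmonoid_quotient_primeCompl' R hIq] at h1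
  exact ⟨(IsLocalization.algEquiv (q.map (Ideal.Quotient.mk I)).primeCompl
    (Localization.AtPrime (q.map (Ideal.Quotient.mk I)))
    (Localization.AtPrime q ⧸ I.map (algebraMap R (Localization.AtPrime q)))).toRingEquiv⟩

variable (A B : Type u) [CommRing A] [CommRing B] [Algebra A B] [IsNoetherianRing B]

/-- The fibre ring `κ(p) ⊗ B` inherits `(S_k)` from `B/pB` (it is a localization of it). -/
theorem hasSk_fiber_of_hasSk_quotient (k : ℕ) (p : Ideal A) [hp : p.IsPrime]
    (h : LocCoh.HasSk k (B ⧸ p.map (algebraMap A B)) (B ⧸ p.map (algebraMap A B))) :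
    LocCoh.HasSk k (p.Fiber B) (p.Fiber B) := by
  rw [hasSk_self_iff] at h ⊢
  intro q' hq'
  have hNF : IsNoetherianRing (p.Fiber B) := isNoetherianRing_fiber A B p
  have hNq' : IsNoetherianRing (Localization.AtPrime q') :=
    IsLocalization.isNoetherianRing q'.primeCompl _ inferInstance
  let e := fiberLocalizationEquiv p q'
  set r : Ideal B := q'.comap (Algebra.TensorProduct.includeRight : B →ₐ[A] p.Fiber B) with hr
  have hle : p.map (algebraMap A B) ≤ r := by
    rw [Ideal.map_le_iff_le_comap]
    intro a ha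
    rw [Ideal.mem_comap, hr, Ideal.mem_comap]
    have h0 : (Algebra.TensorProduct.includeRight : B →ₐ[A] p.Fiber B) (algebraMap A B a) = 0 := by
      rw [AlgHom.commutes, Algebra.TensorProduct.algebraMap_apply]
      have : algebraMap A p.ResidueField a = 0 := by
        rw [Ideal.algebraMap_residueField_eq_zero]
        exact ha
      rw [this, TensorProduct.zero_tmul]
    rw [h0]
    exact q'.zero_mem
  have hP : (r.map (Ideal.Quotient.mk (p.map (algebraMap A B)))).IsPrime :=
    Ideal.map_isPrime_of_surjective Ideal.Quotient.mk_surjective (by rwa [Ideal.mk_ker])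
  have heq : p.map (algebraMap A (Localization.AtPrime r)) =
      (p.map (algebraMap A B)).map (algebraMap B (Localization.AtPrime r)) := by
    rw [Ideal.map_map, ← IsScalarTower.algebraMap_eq]
  let e2 := Ideal.quotEquivOfEq heq
  obtain ⟨e3⟩ := nonempty_ringEquiv_localization_quotient_map B (p.map (algebraMap A B)) r hle
  have hNr : IsNoetherianRing (Localization.AtPrime
      (r.map (Ideal.Quotient.mk (p.map (algebraMap A B))))) :=
    IsLocalization.isNoetherianRing
      (r.map (Ideal.Quotient.mk (p.map (algebraMap A B)))).primeCompl _ inferInstance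
  let E : Localization.AtPrime q' ≃+*
      Localization.AtPrime (r.map (Ideal.Quotient.mk (p.map (algebraMap A B)))) :=
    (e.trans e2).trans e3.symm
  have hd := depth_self_eq_of_ringEquiv (R := Localization.AtPrime q')
    (R' := Localization.AtPrime (r.map (Ideal.Quotient.mk (p.map (algebraMap A B))))) E
  have hdim := ringKrullDim_eq_of_ringEquiv E
  rw [IsLocalization.AtPrime.ringKrullDim_eq_height q' (Localization.AtPrime q'),
    IsLocalization.AtPrime.ringKrullDim_eq_height
      (r.map (Ideal.Quotient.mk (p.map (algebraMap A B))))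
      (Localization.AtPrime (r.map (Ideal.Quotient.mk (p.map (algebraMap A B)))))] at hdim
  have hht : q'.height = (r.map (Ideal.Quotient.mk (p.map (algebraMap A B)))).height :=
    WithBot.coe_injective hdim
  rw [hd, hht]
  exact h _

end

section

variable (A : Type u) [CommRing A] [IsLocalRing A] [IsNoetherianRing A]

/-- The formal fibres of a strictly formally catenary ring satisfy `(S_1)`. -/
theorem hasSnFormalFibres_one_of_isFormallyStrictlyCatenary
    (hA : EGA4.IsFormallyStrictlyCatenary A) : EGA4.HasSnFormalFibres 1 A := by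
  intro p hp
  haveI := isLocalRing_cpl A
  haveI := isNoetherianRing_cpl A
  haveI : Nontrivial (A ⧸ p) := Ideal.Quotient.nontrivial_iff.mpr hp.ne_top
  haveI : IsLocalRing (A ⧸ p) :=
    IsLocalRing.of_surjective' (Ideal.Quotient.mk p) Ideal.Quotient.mk_surjective
  haveI : IsLocalRing (EGA4.Cpl (A ⧸ p)) := isLocalRing_cpl (A ⧸ p)
  haveI : IsNoetherianRing (EGA4.Cpl (A ⧸ p)) := isNoetherianRing_cpl (A ⧸ p)
  have h1 : LocCoh.HasSk 1 (EGA4.Cpl (A ⧸ p)) (EGA4.Cpl (A ⧸ p)) :=
    hasSk_one_of_isStrictlyEquidim _ (hA p)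
  have h2 : LocCoh.HasSk 1 (CplQ A p) (CplQ A p) :=
    hasSk_of_ringEquiv (cplQuotientEquiv A p).symm 1 h1
  exact hasSk_fiber_of_hasSk_quotient A (EGA4.Cpl A) 1 p h2

end

end Groth.Agent.Lib.Helper35.StrictFC
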