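import Groth.Agent.Lib.Helper35.StrictFCB
import Groth.Agent.Lib.Helper24.CMFieldTensor
import Groth.Agent.Lib.Helper29.FlatAscent

/-! `(S_1)` under base change along finitely generated field extensions (helper35). -/

set_option autoImplicit false
universe u

namespace Groth.Agent.Lib.Helper35.StrictFC

open IsLocalRing Groth.Agent.Lib.Helper29 TensorProduct

/-- `(S_1)` passes to `F ⊗[k] K` for a finitely generated field extension `K/k`. -/
theorem hasSk_one_tensor_field (k K F : Type u) [Field k] [Field K] [CommRing F] [Algebra k K]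
    [Algebra k F] [Algebra.EssFiniteType k K] [IsNoetherianRing F] (hF : LocCoh.HasSk 1 F F) :
    IsNoetherianRing (F ⊗[k] K) ∧ LocCoh.HasSk 1 (F ⊗[k] K) (F ⊗[k] K) := by
  have hN : IsNoetherianRing (F ⊗[k] K) := Algebra.EssFiniteType.isNoetherianRing F _
  refine ⟨hN, ?_⟩
  refine hasSk_of_flat_of_fibers 1 hF ?_
  intro P hP
  let e := Algebra.TensorProduct.cancelBaseChange k F F P.ResidueField K
  have hCM := Groth.Agent.Lib.Helper24.isCohenMacaulayRing_tensor_field_of_essFiniteType k K
    P.ResidueField
  haveI := hCM.toIsNoetherian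
  exact hasSk_of_ringEquiv e.toRingEquiv 1 (hasSk_of_isCohenMacaulayRing' 1 _ hCM)

end Groth.Agent.Lib.Helper35.StrictFC
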