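import Groth.Agent.Lib.Helper35.StrictFCC
import Groth.Agent.Lib.Helper73.CMEssFT

/-! `(S_1)` for `D ⊗[A] Â` when the formal fibres of `A` are `(S_1)` (helper35). -/

set_option autoImplicit false
set_option maxSynthPendingDepth 3
universe u

namespace Groth.Agent.Lib.Helper35.StrictFC

open IsLocalRing Groth.Agent.Lib.Helper29 TensorProduct

section Main
attribute [local instance] Algebra.TensorProduct.rightAlgebra

variable (A : Type u) [CommRing A] [IsLocalRing A] [IsNoetherianRing A]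

theorem hasSk_one_tensor_cpl (hS : EGA4.HasSnFormalFibres 1 A) (D : Type u) [CommRing D]
    [IsNoetherianRing D] [Algebra A D] [Algebra.EssFiniteType A D] (hD : LocCoh.HasSk 1 D D) :
    IsNoetherianRing (D ⊗[A] EGA4.Cpl A) ∧
      LocCoh.HasSk 1 (D ⊗[A] EGA4.Cpl A) (D ⊗[A] EGA4.Cpl A) := by
  classical
  haveI hLAh : IsLocalRing (EGA4.Cpl A) := isLocalRing_cpl A
  haveI hNAh : IsNoetherianRing (EGA4.Cpl A) := isNoetherianRing_cpl A
  haveI : Module.FaithfullyFlat A (EGA4.Cpl A) := faithfullyFlat_cpl A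
  haveI hEFT : Algebra.EssFiniteType (EGA4.Cpl A) (D ⊗[A] EGA4.Cpl A) :=
    RingHom.essFiniteType_algebraMap.mp
      (RingHom.EssFiniteType.isStableUnderBaseChange A D (EGA4.Cpl A) (D ⊗[A] EGA4.Cpl A)
        (RingHom.essFiniteType_algebraMap.mpr inferInstance))
  haveI hND : IsNoetherianRing (D ⊗[A] EGA4.Cpl A) :=
    Groth.Agent.Lib.Helper73.CMEssFT.isNoetherianRing_of_essFiniteType (EGA4.Cpl A)
      (D ⊗[A] EGA4.Cpl A)
  refine ⟨hND, ?_⟩
  refine hasSk_of_flat_of_fibers 1 hD ?_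
  intro q hq
  haveI hpprime : (q.under A).IsPrime := Ideal.comap_isPrime _ _
  haveI : q.LiesOver (q.under A) := ⟨rfl⟩
  letI := Localization.AtPrime.algebraOfLiesOver (q.under A) q
  have hfib : LocCoh.HasSk 1 ((q.under A).Fiber (EGA4.Cpl A)) ((q.under A).Fiber (EGA4.Cpl A)) :=
    hS (q.under A)
  haveI hNfib : IsNoetherianRing ((q.under A).Fiber (EGA4.Cpl A)) :=
    isNoetherianRing_fiber A (EGA4.Cpl A) (q.under A)
  obtain ⟨hN1, h1⟩ := hasSk_one_tensor_field (q.under A).ResidueField q.ResidueField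
    ((q.under A).Fiber (EGA4.Cpl A)) hfib
  let e0 := Algebra.TensorProduct.comm (q.under A).ResidueField q.ResidueField
    ((q.under A).Fiber (EGA4.Cpl A))
  let e1 := Algebra.TensorProduct.cancelBaseChange A (q.under A).ResidueField
    (q.under A).ResidueField q.ResidueField (EGA4.Cpl A)
  let e2 := Algebra.TensorProduct.cancelBaseChange A D D q.ResidueField (EGA4.Cpl A)
  exact hasSk_of_ringEquiv ((e2.toRingEquiv.trans e1.toRingEquiv.symm).trans e0.toRingEquiv) 1 h1

end Main

end Groth.Agent.Lib.Helper35.StrictFC
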