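import Groth.Agent.Lib.Helper35.StrictFCD
import Groth.Agent.Lib.Helper29.SkDescent
import Groth.Agent.S2645
import Groth.Agent.S2634

/-! Strictly formally catenary rings: ascent to essentially finite type local algebras
(EGA IV 7.2.x) (helper35). -/

set_option autoImplicit false
set_option maxSynthPendingDepth 3
universe u

namespace Groth.Agent.Lib.Helper35.StrictFC

open IsLocalRing Groth.Agent.Lib.Helper29 TensorProduct

section Main
attribute [local instance] Algebra.TensorProduct.rightAlgebra

variable (A : Type u) [CommRing A] [IsLocalRing A] [IsNoetherianRing A]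

/-- If the formal fibres of `A` are `(S_1)` and `D` is an `(S_1)` Noetherian local ring essentially
of finite type over `A`, then the completion of `D` is `(S_1)`. -/
theorem hasSk_one_cpl_of_essFiniteType (hS : EGA4.HasSnFormalFibres 1 A) (B : Type u) [CommRing B]
    [IsNoetherianRing B] [IsLocalRing B] [Algebra A B] [Algebra.EssFiniteType A B]
    (hD : LocCoh.HasSk 1 B B) : LocCoh.HasSk 1 (EGA4.Cpl B) (EGA4.Cpl B) := by
  classical
  haveI hLAh : IsLocalRing (EGA4.Cpl A) := isLocalRing_cpl A
  haveI hNAh : IsNoetherianRing (EGA4.Cpl A) := isNoetherianRing_cpl A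
  haveI hcAh : IsAdicComplete (maximalIdeal (EGA4.Cpl A)) (EGA4.Cpl A) := isAdicComplete_cpl A
  obtain ⟨R, hRring, hReg, f, hf⟩ := exists_regular_surjective_of_complete (EGA4.Cpl A)
  haveI : Module.FaithfullyFlat A (EGA4.Cpl A) := faithfullyFlat_cpl A
  haveI hEFT : Algebra.EssFiniteType (EGA4.Cpl A) (B ⊗[A] EGA4.Cpl A) :=
    RingHom.essFiniteType_algebraMap.mp
      (RingHom.EssFiniteType.isStableUnderBaseChange A B (EGA4.Cpl A) (B ⊗[A] EGA4.Cpl A)
        (RingHom.essFiniteType_algebraMap.mpr inferInstance))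
  obtain ⟨hND, hE⟩ := hasSk_one_tensor_cpl A hS B hD
  haveI := hND
  haveI hFF : Module.FaithfullyFlat B (B ⊗[A] EGA4.Cpl A) := inferInstance
  obtain ⟨Q', hQ'p, hQ'o⟩ :=
    Ideal.exists_isPrime_liesOver_of_faithfullyFlat (B := B ⊗[A] EGA4.Cpl A) (maximalIdeal B)
  haveI hNB' : IsNoetherianRing (Localization.AtPrime Q') :=
    IsLocalization.isNoetherianRing Q'.primeCompl _ inferInstance
  haveI hloc : IsLocalHom (algebraMap B (Localization.AtPrime Q')) := by
    refine ⟨fun b hb => ?_⟩
    by_contra hnu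
    have h1 : b ∈ maximalIdeal B := (IsLocalRing.mem_maximalIdeal b).mpr hnu
    rw [hQ'o.over, Ideal.under, Ideal.mem_comap] at h1
    have h2 : algebraMap (B ⊗[A] EGA4.Cpl A) (Localization.AtPrime Q')
        (algebraMap B (B ⊗[A] EGA4.Cpl A) b) ∈ maximalIdeal (Localization.AtPrime Q') := by
      rw [← Ideal.mem_comap]
      have h3 := IsLocalization.AtPrime.under_maximalIdeal (Localization.AtPrime Q') Q'
      rw [Ideal.under] at h3
      rw [h3]
      exact h1
    rw [← IsScalarTower.algebraMap_apply] at h2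
    exact (IsLocalRing.mem_maximalIdeal _).mp h2 hb
  haveI hflat : Module.Flat B (Localization.AtPrime Q') :=
    Module.Flat.trans B (B ⊗[A] EGA4.Cpl A) (Localization.AtPrime Q')
  have hB' : EGA4.HasCMFormalFibres (Localization.AtPrime Q') := by
    let g : R →+* Localization.AtPrime Q' :=
      (algebraMap (B ⊗[A] EGA4.Cpl A) (Localization.AtPrime Q')).comp
        ((algebraMap (EGA4.Cpl A) (B ⊗[A] EGA4.Cpl A)).comp f)
    have hg : g.EssFiniteType :=
      RingHom.EssFiniteType.comp
        (RingHom.EssFiniteType.comp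
          (RingHom.FiniteType.essFiniteType (RingHom.FiniteType.of_surjective f hf))
          (RingHom.essFiniteType_algebraMap.mpr hEFT))
        (RingHom.essFiniteType_algebraMap.mpr
          (Algebra.EssFiniteType.of_isLocalization (Localization.AtPrime Q') Q'.primeCompl))
    letI := g.toAlgebra
    haveI : Algebra.EssFiniteType R (Localization.AtPrime Q') := hg
    exact Groth.Agent.Lib.Helper73.CMEssFT.hasCMFormalFibres_of_essFiniteType_of_CM R
      (Localization.AtPrime Q')
      (Groth.Agent.Lib.Helper82.CMPoly.isCohenMacaulayRing_of_isRegularRing R)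
  have hD' : LocCoh.HasSk 1 (Localization.AtPrime Q') (Localization.AtPrime Q') :=
    (hasSk_localization_iff 1 (B ⊗[A] EGA4.Cpl A) Q').mpr
      (fun Q _ _ => (hasSk_self_iff 1 (B ⊗[A] EGA4.Cpl A)).mp hE Q)
  have hSn : EGA4.HasSnFormalFibres 1 (Localization.AtPrime Q') :=
    fun p _ => hasSk_of_isCohenMacaulayRing' 1 _ (hB' p)
  have hC' : LocCoh.HasSk 1 (EGA4.Cpl (Localization.AtPrime Q'))
      (EGA4.Cpl (Localization.AtPrime Q')) :=
    (Groth.Agent.S2645.result 1 (Localization.AtPrime Q') hSn).mp hD'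
  letI := Groth.Agent.Lib.Helper73.CplMap.cplAlgebra B (Localization.AtPrime Q')
  haveI := Groth.Agent.Lib.Helper73.CplMap.faithfullyFlat_cpl B (Localization.AtPrime Q')
  haveI : IsNoetherianRing (EGA4.Cpl (Localization.AtPrime Q')) :=
    isNoetherianRing_cpl (Localization.AtPrime Q')
  exact (hasSk_of_faithfullyFlat 1 hC').2

end Main

section Final

variable (A : Type u) [CommRing A] [IsLocalRing A] [IsNoetherianRing A]

/-- **EGA IV 7.2.x**: strictly formally catenary rings are stable under essentially finite type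
local algebras. -/
theorem isFormallyStrictlyCatenary_of_essFiniteType (hA : EGA4.IsFormallyStrictlyCatenary A)
    (B : Type u) [CommRing B] [IsNoetherianRing B] [IsLocalRing B] [Algebra A B]
    [Algebra.EssFiniteType A B] : EGA4.IsFormallyStrictlyCatenary B := by
  intro q hq
  have hFC : EGA4.IsFormallyCatenary A := by
    intro p hp
    haveI : Nontrivial (A ⧸ p) := Ideal.Quotient.nontrivial_iff.mpr hp.ne_top
    haveI : IsLocalRing (A ⧸ p) :=
      IsLocalRing.of_surjective' (Ideal.Quotient.mk p) Ideal.Quotient.mk_surjective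
    haveI : IsNoetherianRing (EGA4.Cpl (A ⧸ p)) := isNoetherianRing_cpl (A ⧸ p)
    exact isEquidim_of_isStrictlyEquidim _ (hA p)
  have hS := hasSnFormalFibres_one_of_isFormallyStrictlyCatenary A hA
  haveI : Nontrivial (B ⧸ q) := Ideal.Quotient.nontrivial_iff.mpr hq.ne_top
  haveI : IsLocalRing (B ⧸ q) :=
    IsLocalRing.of_surjective' (Ideal.Quotient.mk q) Ideal.Quotient.mk_surjective
  haveI : IsNoetherianRing (EGA4.Cpl (B ⧸ q)) := isNoetherianRing_cpl (B ⧸ q)
  have heq : EGA4.IsFormallyEquidim (B ⧸ q) :=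
    Groth.Agent.S2634.result A hFC (B ⧸ q) (isEquidim_of_isDomain (B ⧸ q))
  have hS1 := hasSk_one_cpl_of_essFiniteType A hS (B ⧸ q) (hasSk_one_of_isDomain _)
  exact isStrictlyEquidim_of_isEquidim_of_hasSk_one _ heq hS1

end Final

end Groth.Agent.Lib.Helper35.StrictFC
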