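import Mathlib.LinearAlgebra.Finsupp.SumProd
import Mathlib.LinearAlgebra.Finsupp.Pi
import Mathlib.SetTheory.Cardinal.Arithmetic
import Mathlib.LinearAlgebra.Prod

/-! Eilenberg swindle helpers (helper35). -/

universe u
namespace Groth.Agent.Lib.Helper35

section
variable {R : Type*} [Semiring R] {M N : Type*} [AddCommMonoid M] [Module R M]
  [AddCommMonoid N] [Module R N]

/-- `(α →₀ M × N) ≃ₗ (α →₀ M) × (α →₀ N)`. -/
noncomputable def finsuppProdLEquiv' (α : Type*) : (α →₀ M × N) ≃ₗ[R] (α →₀ M) × (α →₀ N) :=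
  LinearEquiv.ofLinearMap
    (LinearMap.prod (Finsupp.mapRange.linearMap (LinearMap.fst R M N))
      (Finsupp.mapRange.linearMap (LinearMap.snd R M N)))
    (LinearMap.coprod (Finsupp.mapRange.linearMap (LinearMap.inl R M N))
      (Finsupp.mapRange.linearMap (LinearMap.inr R M N)))
    (by ext <;> simp) (by ext <;> simp)

/-- `(ℕ →₀ M) ≃ₗ M × (ℕ →₀ M)`. -/
noncomputable def finsuppNatShiftLEquiv : (ℕ →₀ M) ≃ₗ[R] M × (ℕ →₀ M) :=
  (Finsupp.domLCongr (Equiv.natEquivNatSumPUnit.trans (Equiv.sumComm ℕ PUnit.{1}))).trans <|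
    (Finsupp.sumFinsuppLEquivProdFinsupp R).trans <|
      LinearEquiv.prodCongr (Finsupp.uniqueLinearEquiv R M PUnit.unit.{1}) (LinearEquiv.refl R _)

end

/-- For an infinite type `ι`, `ι ≃ ℕ × ι`. -/
theorem nonempty_equiv_nat_prod (ι : Type u) [Infinite ι] : Nonempty (ι ≃ ℕ × ι) := by
  have h : Cardinal.mk ι = Cardinal.mk (ℕ × ι) := by
    rw [Cardinal.mk_prod, Cardinal.mk_nat, Cardinal.lift_aleph0, Cardinal.lift_uzero,
      Cardinal.aleph0_mul_mk_eq]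
  exact Cardinal.eq.mp h

/-- Eilenberg swindle: if `P × Q ≃ F` with `F` free on an infinite type, then `P × F ≃ F`. -/
theorem eilenberg_swindle (R : Type*) [Semiring R] (P Q : Type*) [AddCommMonoid P] [Module R P]
    [AddCommMonoid Q] [Module R Q] (ι : Type u) [Infinite ι] (e : (P × Q) ≃ₗ[R] (ι →₀ R)) :
    Nonempty ((P × (ι →₀ R)) ≃ₗ[R] (ι →₀ R)) := by
  obtain ⟨σ⟩ := nonempty_equiv_nat_prod ι
  -- F ≃ ℕ →₀ F ≃ ℕ →₀ (P × Q) ≃ (ℕ →₀ P) × (ℕ →₀ Q)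
  let e1 : (ι →₀ R) ≃ₗ[R] (ℕ →₀ P) × (ℕ →₀ Q) :=
    (Finsupp.domLCongr σ).trans <| (Finsupp.curryLinearEquiv (R := R) (α := ℕ) (β := ι) (M := R)).trans <|
      (Finsupp.mapRange.linearEquiv (α := ℕ) e.symm).trans (finsuppProdLEquiv' ℕ)
  let e2 : (P × ((ℕ →₀ P) × (ℕ →₀ Q))) ≃ₗ[R] (ℕ →₀ P) × (ℕ →₀ Q) :=
    (LinearEquiv.prodAssoc R P (ℕ →₀ P) (ℕ →₀ Q)).symm.trans <|
      LinearEquiv.prodCongr (finsuppNatShiftLEquiv (R := R) (M := P)).symm (LinearEquiv.refl R _)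
  exact ⟨(LinearEquiv.prodCongr (LinearEquiv.refl R P) e1).trans <| e2.trans e1.symm⟩

end Groth.Agent.Lib.Helper35
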