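import Groth.Agent.Lib.Helper35.FlatBC
import Groth.Agent.Lib.Helper35.TARes

set_option autoImplicit false
set_option linter.unusedSectionVars false
universe u
open CategoryTheory CategoryTheory.Limits DerivedCategory
attribute [local instance] HasDerivedCategory.standard

namespace Groth.Agent.Lib.Helper35.TA

open Groth.Agent.Lib.Helper35.FlatBC

variable {R : Type u} [CommRing R]

/-- A jointly faithfully flat family of `R`-algebras, in the form needed for descent of tor
amplitude. -/
structure JFF {J : Type} (B : J → Type u) [∀ j, CommRing (B j)] [∀ j, Algebra R (B j)] :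
    Prop where
  flat : ∀ j, Module.Flat R (B j)
  zero : ∀ M : ModuleCat.{u} R, (∀ j, IsZero ((ext R (B j)).obj M)) → IsZero M
  flatM : ∀ M : ModuleCat.{u} R,
    (∀ j, Module.Flat (B j) ((ext R (B j)).obj M)) → Module.Flat R M

section

variable (B : Type u) [CommRing B] [Algebra R B] [Module.Flat R B]

/-- `H^i (B ⊗ K) = 0` outside `[a,b]` if `B ⊗ K` has tor amplitude in `[a, b]`. -/
theorem isZero_ext_homology_of_TAmp (K : DRing.Cx R) (a b : ℤ)
    (h : TAmp a b (DRing.toD ((extCx R B).obj K))) (i : ℤ) (hi : i < a ∨ b < i) :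
    IsZero ((ext R B).obj (K.homology i)) := by
  have h1 : (Q.obj ((extCx R B).obj K)).IsGE a := h.isGE
  have h2 : (Q.obj ((extCx R B).obj K)).IsLE b := h.isLE
  rw [isGE_Q_obj_iff] at h1
  rw [isLE_Q_obj_iff] at h2
  have hz : IsZero (((extCx R B).obj K).homology i) := by
    rw [← HomologicalComplex.exactAt_iff_isZero_homology]
    rcases hi with hi | hi
    · exact ((extCx R B).obj K).exactAt_of_isGE a i hi
    · exact ((extCx R B).obj K).exactAt_of_isLE b i hi
  exact hz.of_iso ((homologyIsoCx R B i).app K).symm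

/-- base change of opcycles -/
noncomputable def opcyclesExtIso (P : DRing.Cx R) (a : ℤ) :
    ((extCx R B).obj P).opcycles a ≅ (ext R B).obj (P.opcycles a) :=
  (P.sc a).mapOpcyclesIso (ext R B)

theorem flat_ext_opcycles_of_TAmp (K P : DRing.Cx R) (π : P ⟶ K) [QuasiIso π] (b' : ℤ)
    (hPb : DRing.VanishesAbove P b') (hPflat : ∀ i : ℤ, Module.Flat R (P.X i)) (a b : ℤ)
    (h : TAmp a b (DRing.toD ((extCx R B).obj K))) :
    Module.Flat B ((ext R B).obj (P.opcycles a)) := by
  have hiso : IsIso (Q.map π) := by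
    rw [isIso_Q_map_iff_quasiIso]; infer_instance
  let e : DRing.toD ((extCx R B).obj P) ≅ DRing.toD ((extCx R B).obj K) :=
    (GQIso B P).symm ≪≫ (G R B).mapIso (asIso (Q.map π)) ≪≫ GQIso B K
  have hP : TAmp a b (DRing.toD ((extCx R B).obj P)) := h.of_iso e.symm
  have := flat_opcycles_of_TAmp' ((extCx R B).obj P) b' (vanishesAbove_extCx B P b' hPb)
    (termwiseFlat_extCx B P hPflat) a b hP
  have hfl := this.2
  exact Module.Flat.of_linearEquiv (opcyclesExtIso B P a).toLinearEquiv.symm

end

theorem TAmp_descent {J : Type} (B : J → Type u) [∀ j, CommRing (B j)] [∀ j, Algebra R (B j)]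
    (hB : JFF (R := R) B) (K : DRing.Cx R) (a b : ℤ)
    (hK : ∀ j, have := hB.flat j; TAmp a b (DRing.toD ((extCx R (B j)).obj K))) :
    TAmp a b (DRing.toD K) := by
  have hflat := hB.flat
  have hz : ∀ i : ℤ, (i < a ∨ b < i) → IsZero (K.homology i) := fun i hi =>
    hB.zero _ (fun j => isZero_ext_homology_of_TAmp (B j) K a b (hK j) i hi)
  have hKLE : K.IsLE b := by
    rw [CochainComplex.isLE_iff]
    intro i hi
    rw [HomologicalComplex.exactAt_iff_isZero_homology]
    exact hz i (Or.inr hi)
  have hKGE : K.IsGE a := by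
    rw [CochainComplex.isGE_iff]
    intro i hi
    rw [HomologicalComplex.exactAt_iff_isZero_homology]
    exact hz i (Or.inl hi)
  have hQLE : (Q.obj K).IsLE b := by rw [isLE_Q_obj_iff]; exact hKLE
  obtain ⟨P, π, hPb, hPproj, hπ⟩ := exists_projective_resolution_cx K b
  have hPflat : ∀ i : ℤ, Module.Flat R (P.X i) := fun i => by
    have := hPproj i
    infer_instance
  have hop : Module.Flat R (P.opcycles a) :=
    hB.flatM _ (fun j => flat_ext_opcycles_of_TAmp (B j) K P π b hPb hPflat a b (hK j))
  have hiso : IsIso (Q.map π) := by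
    rw [isIso_Q_map_iff_quasiIso]; infer_instance
  have hPLE : P.IsLE b := by
    have : P.IsStrictlyLE b := by
      rw [CochainComplex.isStrictlyLE_iff]
      exact fun i hi => hPb i hi
    infer_instance
  have hPGE : P.IsGE a := by
    rw [← isGE_Q_obj_iff]
    have : (Q.obj K).IsGE a := by rw [isGE_Q_obj_iff]; exact hKGE
    exact TStructure.t.isGE_of_iso (asIso (Q.map π)).symm a
  exact (TAmp_of_flat_opcycles P b hPb hPflat a b).of_iso (asIso (Q.map π))

end Groth.Agent.Lib.Helper35.TA
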