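import Mathlib.RingTheory.Flat.Equalizer
import Mathlib.RingTheory.Flat.Tensor
import Mathlib.Algebra.Homology.ShortComplex.ModuleCat
import Mathlib.Algebra.Homology.HomologicalComplex
import Mathlib.Algebra.Category.ModuleCat.Abelian
import Mathlib.Algebra.Homology.ShortComplex.HomologicalComplex

/-! Flatness lemmas for complexes (helper35). -/

set_option autoImplicit false
universe u v w

namespace Groth.Agent.Lib.Helper35.TA

open CategoryTheory Limits TensorProduct

section Flat

variable {R : Type u} [CommRing R] {M : Type v} {N : Type w}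
  [AddCommGroup M] [Module R M] [AddCommGroup N] [Module R N]

/-- The kernel of a surjection between flat modules is flat. -/
theorem flat_ker_of_surjective [Module.Flat R M] [Module.Flat R N] (f : M →ₗ[R] N)
    (hf : Function.Surjective f) : Module.Flat R (LinearMap.ker f) := by
  rw [Module.Flat.iff_rTensor_injective']
  intro I
  have hinj1 : Function.Injective ((LinearMap.ker f).subtype.lTensor I) :=
    LinearMap.lTensor_injective_of_exact_of_flat f hf _ (LinearMap.ker f).injective_subtype
      (LinearMap.exact_subtype_ker_map f) I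
  have hinj2 : Function.Injective (I.subtype.rTensor M) :=
    Module.Flat.iff_rTensor_injective'.mp inferInstance I
  have hcomp : Function.Injective
      (((LinearMap.ker f).subtype.lTensor R) ∘ₗ (I.subtype.rTensor (LinearMap.ker f))) := by
    rw [LinearMap.lTensor_comp_rTensor, ← LinearMap.rTensor_comp_lTensor]
    exact hinj2.comp hinj1
  exact Function.Injective.of_comp hcomp

theorem flat_of_subsingleton [Subsingleton M] : Module.Flat R M := inferInstance

end Flat

section Complex

variable {R : Type u} [CommRing R]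

/-- **Lemma A**: in a bounded above complex which is exact and termwise flat in degrees `> n`
(resp. `≥ n`), the cycles in degrees `≥ n` are flat. -/
theorem flat_ker_d_aux (C : CochainComplex (ModuleCat.{u} R) ℤ) (b : ℤ)
    (hb : ∀ i : ℤ, b < i → IsZero (C.X i)) (n : ℤ)
    (hflat : ∀ i : ℤ, n ≤ i → Module.Flat R (C.X i))
    (hex : ∀ i : ℤ, n < i → C.ExactAt i) (k : ℕ) :
    ∀ i : ℤ, n ≤ i → b + 1 - i ≤ k → Module.Flat R (LinearMap.ker (C.d i (i + 1)).hom) := by
  induction k with
  | zero =>
    intro i _ hik
    have hz : IsZero (C.X i) := hb i (by omega)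
    have : Subsingleton (C.X i) := ModuleCat.subsingleton_of_isZero hz
    infer_instance
  | succ k ih =>
    intro i hni hik
    have h1 : Module.Flat R (LinearMap.ker (C.d (i + 1) (i + 1 + 1)).hom) :=
      ih (i + 1) (by omega) (by push_cast at hik ⊢; omega)
    have h0 : Module.Flat R (C.X i) := hflat i hni
    have hE := hex (i + 1) (by omega)
    rw [HomologicalComplex.exactAt_iff' C i (i + 1) (i + 1 + 1) (by simp) (by simp),
      ShortComplex.moduleCat_exact_iff] at hE
    have hdd : ∀ x : C.X i, (C.d i (i + 1)).hom x ∈ LinearMap.ker (C.d (i + 1) (i + 1 + 1)).hom := by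
      intro x
      rw [LinearMap.mem_ker, ← ModuleCat.comp_apply, C.d_comp_d]
      rfl
    let g : C.X i →ₗ[R] LinearMap.ker (C.d (i + 1) (i + 1 + 1)).hom :=
      (C.d i (i + 1)).hom.codRestrict _ hdd
    have hg : Function.Surjective g := by
      rintro ⟨y, hy⟩
      obtain ⟨x, hx⟩ := hE y hy
      exact ⟨x, Subtype.ext hx⟩
    have h2 := flat_ker_of_surjective g hg
    have h3 : LinearMap.ker g = LinearMap.ker (C.d i (i + 1)).hom := LinearMap.ker_codRestrict _ _ _
    rw [h3] at h2
    exact h2

theorem flat_ker_d (C : CochainComplex (ModuleCat.{u} R) ℤ) (b : ℤ)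
    (hb : ∀ i : ℤ, b < i → IsZero (C.X i)) (n : ℤ)
    (hflat : ∀ i : ℤ, n ≤ i → Module.Flat R (C.X i))
    (hex : ∀ i : ℤ, n < i → C.ExactAt i) (i : ℤ) (hi : n ≤ i) :
    Module.Flat R (LinearMap.ker (C.d i (i + 1)).hom) :=
  flat_ker_d_aux C b hb n hflat hex (b + 1 - i).toNat i hi (by omega)

end Complex

end Groth.Agent.Lib.Helper35.TA
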