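import Groth.Agent.Lib.Helper35.TrivFree
import Groth.Agent.Lib.Helper35.CylSplit
import Groth.Agent.Lib.Helper35.FlatBC
import Groth.Agent.Lib.Helper35.ConeRep2

/-! Base change of a bounded contractible complex of finite projective modules is a "trivial"
complex once enough modules are free (helper35). -/

set_option autoImplicit false
universe u

open CategoryTheory CategoryTheory.Limits TensorProduct

namespace Groth.Agent.Lib.Helper35.TrivCx

open Groth.Agent.Lib.Helper35.FlatBC Groth.Agent.Lib.Helper35.TrivFree

variable {R : Type u} [CommRing R] (S : Type u) [CommRing S] [Algebra R S]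

set_option backward.isDefEq.respectTransparency false in
lemma extLinearEquiv_map' {M N : ModuleCat.{u} R} (f : M ⟶ N) (x : (ext R S).obj M) :
    extLinearEquiv S N (((ext R S).map f).hom x) =
      (f.hom.baseChange S) (extLinearEquiv S M x) := by
  induction x using TensorProduct.induction_on with
  | zero => simp
  | tmul b m =>
    show extLinearEquivA S N (((ext R S).map f).hom (b ⊗ₜ m)) =
      (f.hom.baseChange S) (extLinearEquivA S M (b ⊗ₜ m))
    rw [ModuleCat.ExtendScalars.map_tmul]
    simp only [extLinearEquivA, TensorProduct.congr_tmul, LinearEquiv.refl_apply,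
      LinearMap.baseChange_tmul]
  | add x y hx hy =>
    rw [map_add, map_add, map_add, map_add, hx, hy]

/-- the range of `ext f` is identified with the range of the base change of `f`. -/
theorem free_range_ext {M N : ModuleCat.{u} R} (f : M ⟶ N)
    (h : Module.Free S (LinearMap.range (f.hom.baseChange S))) :
    Module.Free S (LinearMap.range ((ext R S).map f).hom) := by
  let eM : ((ext R S).obj M) ≃ₗ[S] S ⊗[R] M := extLinearEquiv (A := R) S M
  let eN : ((ext R S).obj N) ≃ₗ[S] S ⊗[R] N := extLinearEquiv (A := R) S N
  have hcomp : eN.toLinearMap ∘ₗ ((ext R S).map f).hom = (f.hom.baseChange S) ∘ₗ eM.toLinearMap :=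
    LinearMap.ext (fun x => extLinearEquiv_map' S f x)
  have hmap : (LinearMap.range ((ext R S).map f).hom).map eN.toLinearMap =
      LinearMap.range (f.hom.baseChange S) := by
    rw [← LinearMap.range_comp, hcomp, LinearMap.range_comp,
      LinearMap.range_eq_top.2 eM.surjective, Submodule.map_top]
  have e1 : LinearMap.range ((ext R S).map f).hom ≃ₗ[S]
      (LinearMap.range ((ext R S).map f).hom).map eN.toLinearMap :=
    eN.submoduleMap _
  have e2 : (LinearMap.range ((ext R S).map f).hom).map eN.toLinearMap ≃ₗ[S]
      LinearMap.range (f.hom.baseChange S) := LinearEquiv.ofEq _ _ hmap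
  exact Module.Free.of_equiv (e1.trans e2).symm

/-- `d h d = d` for a contractible complex. -/
theorem d_h_d {T : DRing.Cx R} (h : Homotopy (𝟙 T) 0) (i : ℤ) :
    (T.d i (i + 1)).hom ∘ₗ (h.hom (i + 1) i).hom ∘ₗ (T.d i (i + 1)).hom = (T.d i (i + 1)).hom := by
  have h1 := h.comm (i + 1)
  rw [dNext_eq h.hom (show (ComplexShape.up ℤ).Rel (i + 1) (i + 1 + 1) from rfl),
    prevD_eq h.hom (show (ComplexShape.up ℤ).Rel i (i + 1) from rfl)] at h1
  simp only [HomologicalComplex.zero_f, add_zero, HomologicalComplex.id_f] at h1
  have h2 : T.d i (i + 1) ≫ h.hom (i + 1) i ≫ T.d i (i + 1) = T.d i (i + 1) := by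
    have := congrArg (fun φ => T.d i (i + 1) ≫ φ) h1
    simp only [Category.comp_id, Preadditive.comp_add, HomologicalComplex.d_comp_d_assoc,
      zero_comp, zero_add] at this
    exact this.symm
  have h3 := congrArg ModuleCat.Hom.hom h2
  simpa [ModuleCat.hom_comp, LinearMap.comp_assoc] using h3

/-- **The base change of a bounded contractible complex of finite projective modules is
trivial**, as soon as the base changes of its terms and boundaries are free. -/
theorem triv_ext (T : DRing.Cx R) (a' b' : ℤ) (hT : DRing.VanishesOutside T a' b')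
    (hfin : ∀ i : ℤ, Module.Finite R (T.X i)) (h : Homotopy (𝟙 T) 0)
    (hfree : ∀ i : ℤ, Module.Free S (S ⊗[R] T.X i))
    (hfreeW : ∀ i : ℤ, Module.Free S (S ⊗[R] LinearMap.range (T.d i (i + 1)).hom)) :
    (∃ a' b' : ℤ, DRing.VanishesOutside ((extCx R S).obj T) a' b') ∧
      DRing.TermwiseFiniteFree ((extCx R S).obj T) ∧
      (∀ i : ℤ, Module.Free S (LinearMap.range (((extCx R S).obj T).d i (i + 1)).hom)) ∧
      Nonempty (Homotopy (𝟙 ((extCx R S).obj T)) 0) := by
  refine ⟨⟨a', b', fun i hi => Functor.map_isZero (ext R S) (hT i hi)⟩, ?_, ?_, ?_⟩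
  · intro i
    haveI := hfin i
    haveI := hfree i
    constructor
    · exact Module.Finite.equiv (extLinearEquiv (A := R) S (T.X i)).symm
    · exact Module.Free.of_equiv (extLinearEquiv (A := R) S (T.X i)).symm
  · intro i
    haveI := hfreeW i
    exact free_range_ext S (T.d i (i + 1))
      (free_range_baseChange S (T.d i (i + 1)).hom (h.hom (i + 1) i).hom (d_h_d h i))
  · exact ⟨(Homotopy.ofEq (by simp)).trans (((ext R S).mapHomotopy h).trans
      (Homotopy.ofEq (by simp)))⟩

end Groth.Agent.Lib.Helper35.TrivCx
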