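import Mathlib

/-! Freeness after localizing away from an element, for finite families of finite projective
modules, and ranges of split maps (helper35). -/

set_option autoImplicit false
universe u

open TensorProduct

namespace Groth.Agent.Lib.Helper35.TrivFree

section Range

variable {R : Type u} [CommRing R] (S : Type u) [CommRing S] [Algebra R S]
variable {X Y : Type u} [AddCommGroup X] [Module R X] [AddCommGroup Y] [Module R Y]

/-- If `d h d = d` then the range of `d` is a retract of the target. -/
theorem projective_range_of_split (d : X →ₗ[R] Y) (h : Y →ₗ[R] X) (hd : d ∘ₗ h ∘ₗ d = d)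
    [Module.Projective R Y] : Module.Projective R (LinearMap.range d) := by
  let ρ : Y →ₗ[R] LinearMap.range d :=
    (d ∘ₗ h).codRestrict (LinearMap.range d) (fun y => ⟨h y, rfl⟩)
  refine Module.Projective.of_split (LinearMap.range d).subtype ρ ?_
  ext ⟨w, y, rfl⟩
  exact LinearMap.congr_fun hd y

/-- If `d h d = d`, the range of the base change of `d` is the base change of the range. -/
theorem free_range_baseChange (d : X →ₗ[R] Y) (h : Y →ₗ[R] X) (hd : d ∘ₗ h ∘ₗ d = d)
    [Module.Free S (S ⊗[R] LinearMap.range d)] :
    Module.Free S (LinearMap.range (d.baseChange S)) := by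
  let W := LinearMap.range d
  let ι : W →ₗ[R] Y := W.subtype
  let ρ : Y →ₗ[R] W := (d ∘ₗ h).codRestrict W (fun y => ⟨h y, rfl⟩)
  have hρι : ρ ∘ₗ ι = LinearMap.id := by
    ext ⟨w, y, rfl⟩
    exact LinearMap.congr_fun hd y
  let d' : X →ₗ[R] W := d.rangeRestrict
  have hd' : ι ∘ₗ d' = d := by ext x; rfl
  have hinj : Function.Injective (ι.baseChange S) := by
    apply Function.LeftInverse.injective (g := ρ.baseChange S)
    intro x
    rw [← LinearMap.comp_apply, ← LinearMap.baseChange_comp, hρι, LinearMap.baseChange_id]
    rfl
  have hsurj : Function.Surjective (d'.baseChange S) :=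
    LinearMap.lTensor_surjective S (LinearMap.surjective_rangeRestrict d)
  have hrange : LinearMap.range (d.baseChange S) = LinearMap.range (ι.baseChange S) := by
    rw [← hd', LinearMap.baseChange_comp, LinearMap.range_comp,
      LinearMap.range_eq_top.2 hsurj, Submodule.map_top]
  rw [hrange]
  exact Module.Free.of_equiv (LinearEquiv.ofInjective (ι.baseChange S) hinj)

end Range

end Groth.Agent.Lib.Helper35.TrivFree

namespace Groth.Agent.Lib.Helper35.TrivFree

section Family

variable {R : Type u} [CommRing R]

/-- A finite projective module is free on a basic open neighbourhood of any prime. -/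
theorem exists_free_away (p : Ideal R) [p.IsPrime] (M : Type u) [AddCommGroup M] [Module R M]
    [Module.Finite R M] [Module.Projective R M] :
    ∃ f : R, f ∉ p ∧ Module.Free (Localization.Away f) (Localization.Away f ⊗[R] M) := by
  haveI : Module.FinitePresentation R M := Module.finitePresentation_of_projective R M
  haveI : Module.Free (Localization.AtPrime p) (LocalizedModule p.primeCompl M) :=
    Module.free_of_flat_of_isLocalRing
  obtain ⟨r, hr, hfree, -⟩ := Module.FinitePresentation.exists_free_localizedModule_powers
    p.primeCompl (LocalizedModule.mkLinearMap p.primeCompl M) (Localization.AtPrime p)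
  refine ⟨r, hr, ?_⟩
  exact Module.Free.of_equiv
    (IsLocalizedModule.isBaseChange (Submonoid.powers r) (Localization.Away r)
      (LocalizedModule.mkLinearMap (Submonoid.powers r) M)).equiv.symm

/-- Freeness over `R_f` passes to `R_g` when `f ∣ g`. -/
theorem free_away_of_dvd (f g : R) (hfg : f ∣ g) (M : Type u) [AddCommGroup M] [Module R M]
    (h : Module.Free (Localization.Away f) (Localization.Away f ⊗[R] M)) :
    Module.Free (Localization.Away g) (Localization.Away g ⊗[R] M) := by
  have hu : IsUnit (algebraMap R (Localization.Away g) f) := by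
    obtain ⟨c, rfl⟩ := hfg
    have := IsLocalization.Away.algebraMap_isUnit (S := Localization.Away (f * c)) (f * c)
    rw [map_mul] at this
    exact isUnit_of_mul_isUnit_left this
  letI : Algebra (Localization.Away f) (Localization.Away g) :=
    (IsLocalization.Away.lift f hu).toAlgebra
  haveI : IsScalarTower R (Localization.Away f) (Localization.Away g) :=
    IsScalarTower.of_algebraMap_eq' (IsLocalization.Away.lift_comp f hu).symm
  exact Module.Free.of_equiv (AlgebraTensorModule.cancelBaseChange R (Localization.Away f)
    (Localization.Away g) (Localization.Away g) M)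

/-- Finitely many finite projective modules become simultaneously free on a basic open
neighbourhood of a prime. -/
theorem exists_free_away_finset (p : Ideal R) [p.IsPrime] {ι : Type} (s : Finset ι)
    (X : ι → Type u) [∀ i, AddCommGroup (X i)] [∀ i, Module R (X i)]
    (hfin : ∀ i ∈ s, Module.Finite R (X i)) (hproj : ∀ i ∈ s, Module.Projective R (X i)) :
    ∃ f₀ : R, f₀ ∉ p ∧ ∀ f : R, f₀ ∣ f → ∀ i ∈ s,
      Module.Free (Localization.Away f) (Localization.Away f ⊗[R] X i) := by
  classical
  have h1 : ∀ i : ι, ∃ f : R, f ∉ p ∧
      (i ∈ s → Module.Free (Localization.Away f) (Localization.Away f ⊗[R] X i)) := by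
    intro i
    by_cases hi : i ∈ s
    · haveI := hfin i hi
      haveI := hproj i hi
      obtain ⟨f, hf, hfree⟩ := exists_free_away p (X i)
      exact ⟨f, hf, fun _ => hfree⟩
    · exact ⟨1, fun h => ‹p.IsPrime›.ne_top ((Ideal.eq_top_iff_one p).2 h), fun h => absurd h hi⟩
  choose φ hφ hφ' using h1
  refine ⟨∏ i ∈ s, φ i, ?_, ?_⟩
  · intro hmem
    obtain ⟨i, -, hi⟩ := (Ideal.IsPrime.prod_mem_iff (hp := ‹p.IsPrime›)).1 hmem
    exact hφ i hi
  · intro f hf i hi
    exact free_away_of_dvd (φ i) f ((Finset.dvd_prod_of_mem φ hi).trans hf) (X i) (hφ' i hi)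

end Family

end Groth.Agent.Lib.Helper35.TrivFree
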