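import Groth.Agent.Lib.Helper35.TrivCx
import Groth.Agent.Lib.Helper6.LTCx

/-! Quasi-isomorphic bounded complexes of finite projective modules become isomorphic, locally,
after adding trivial complexes (helper35). -/

set_option autoImplicit false
universe u

open CategoryTheory CategoryTheory.Limits TensorProduct CochainComplex

attribute [local instance] HasDerivedCategory.standard

namespace Groth.Agent.Lib.Helper35.TrivMain

open Groth.Agent.Lib.Helper35.FlatBC Groth.Agent.Lib.Helper35.TrivFree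
  Groth.Agent.Lib.Helper35.TrivCx Groth.Agent.Lib.Helper35.CylSplit
  Groth.Agent.Lib.Helper28.TensCx Groth.Agent.Lib.Helper35.KL

variable {R : Type u} [CommRing R]

theorem finite_mappingCone {X Y : DRing.Cx R} (g : X ⟶ Y) (hX : ∀ i : ℤ, Module.Finite R (X.X i))
    (hY : ∀ i : ℤ, Module.Finite R (Y.X i)) (i : ℤ) : Module.Finite R ((mappingCone g).X i) := by
  have := hX (i + 1)
  have := hY i
  exact Module.Finite.equiv (mappingConeXLinearEquiv g i).symm

theorem projective_mappingCone {X Y : DRing.Cx R} (g : X ⟶ Y)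
    (hX : ∀ i : ℤ, Module.Projective R (X.X i))
    (hY : ∀ i : ℤ, Module.Projective R (Y.X i)) (i : ℤ) :
    Module.Projective R ((mappingCone g).X i) := by
  have := hX (i + 1)
  have := hY i
  exact Module.Projective.of_equiv (mappingConeXLinearEquiv g i).symm

/-- the terms of a biproduct of complexes of modules. -/
noncomputable def biprodXLinearEquiv (K L : DRing.Cx R) (i : ℤ) :
    (K ⊞ L).X i ≃ₗ[R] (K.X i × L.X i) :=
  (HomologicalComplex.biprodXIso K L i ≪≫ ModuleCat.biprodIsoProd _ _).toLinearEquiv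

theorem isZero_biprod_X {X Y : DRing.Cx R} (k : ℤ) (hX : IsZero (X.X k)) (hY : IsZero (Y.X k)) :
    IsZero ((X ⊞ Y).X k) := by
  rw [IsZero.iff_id_eq_zero]
  have h : 𝟙 (X ⊞ Y) = biprod.fst ≫ biprod.inl + biprod.snd ≫ biprod.inr := biprod.total.symm
  have h1 := congrArg (fun φ => φ.f k) h
  simp only [HomologicalComplex.id_f, HomologicalComplex.add_f_apply,
    HomologicalComplex.comp_f] at h1
  rw [h1, hX.eq_of_tgt ((biprod.fst : X ⊞ Y ⟶ X).f k) 0, hY.eq_of_tgt ((biprod.snd : X ⊞ Y ⟶ Y).f k) 0,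
    zero_comp, zero_comp, add_zero]

section Cyl

variable {M N : DRing.Cx R} (u : M ⟶ N)

/-- the degreewise splitting of the cylinder sequence. -/
noncomputable def cylSplitting (q : ℤ) :
    ((cylS₂ u).map (HomologicalComplex.eval _ _ q)).Splitting :=
  have hS := (HomologicalComplex.shortExact_iff_degreewise_shortExact (cylS₂ u)).1
    (cylS₂_shortExact u) q
  ShortComplex.Splitting.ofExactOfRetraction _ hS.exact (cylR₂ M N q) (cylI_f_cylR₂ u q) hS.epi_g

/-- degreewise sections of `cylZ ⟶ cylC`. -/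
noncomputable def cylSec (q : ℤ) : (cylC u).X q ⟶ (cylZ M N).X q := (cylSplitting u q).s

lemma cylSec_π (q : ℤ) : cylSec u q ≫ (cokernel.π (cylI u)).f q = 𝟙 _ := (cylSplitting u q).s_g

theorem vanishesOutside_cylZ (a b : ℤ) (hM : DRing.VanishesOutside M a b)
    (hN : DRing.VanishesOutside N a b) : DRing.VanishesOutside (cylZ M N) (a - 1) b := by
  intro k hk
  apply isZero_biprod_X
  · rw [CochainComplex.mappingCone.isZero_X_iff]
    exact ⟨hM (k + 1) (by omega), hM k (by omega)⟩
  · exact hN k (by omega)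

theorem vanishesOutside_cylC (a b : ℤ) (hM : DRing.VanishesOutside M a b)
    (hN : DRing.VanishesOutside N a b) : DRing.VanishesOutside (cylC u) (a - 1) b := by
  intro k hk
  have hZ := vanishesOutside_cylZ a b hM hN k hk
  rw [IsZero.iff_id_eq_zero, ← cylSec_π u k, hZ.eq_of_tgt (cylSec u k) 0]
  exact zero_comp

theorem finite_cylZ (hM : ∀ i : ℤ, Module.Finite R (M.X i)) (hN : ∀ i : ℤ, Module.Finite R (N.X i))
    (q : ℤ) : Module.Finite R ((cylZ M N).X q) := by
  have := finite_mappingCone (𝟙 M) hM hM q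
  have := hN q
  exact Module.Finite.equiv (biprodXLinearEquiv (mappingCone (𝟙 M)) N q).symm

theorem projective_cylZ (hM : ∀ i : ℤ, Module.Projective R (M.X i))
    (hN : ∀ i : ℤ, Module.Projective R (N.X i)) (q : ℤ) :
    Module.Projective R ((cylZ M N).X q) := by
  have := projective_mappingCone (𝟙 M) hM hM q
  have := hN q
  exact Module.Projective.of_equiv (biprodXLinearEquiv (mappingCone (𝟙 M)) N q).symm

theorem finite_cylC (hM : ∀ i : ℤ, Module.Finite R (M.X i)) (hN : ∀ i : ℤ, Module.Finite R (N.X i))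
    (q : ℤ) : Module.Finite R ((cylC u).X q) := by
  have := finite_cylZ hM hN q
  refine Module.Finite.of_surjective ((cokernel.π (cylI u)).f q).hom ?_
  intro x
  refine ⟨(cylSec u q).hom x, ?_⟩
  exact congrArg (fun φ => φ.hom x) (cylSec_π u q)

theorem projective_cylC (hM : ∀ i : ℤ, Module.Projective R (M.X i))
    (hN : ∀ i : ℤ, Module.Projective R (N.X i)) (q : ℤ) :
    Module.Projective R ((cylC u).X q) := by
  have := projective_cylZ hM hN q
  refine Module.Projective.of_split (cylSec u q).hom ((cokernel.π (cylI u)).f q).hom ?_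
  exact congrArg ModuleCat.Hom.hom (cylSec_π u q)

end Cyl

end Groth.Agent.Lib.Helper35.TrivMain

namespace Groth.Agent.Lib.Helper35.TrivMain

open Groth.Agent.Lib.Helper35.FlatBC Groth.Agent.Lib.Helper35.TrivFree
  Groth.Agent.Lib.Helper35.TrivCx Groth.Agent.Lib.Helper35.CylSplit
  Groth.Agent.Lib.Helper28.TensCx Groth.Agent.Lib.Helper35.KL

variable {R : Type u} [CommRing R]

lemma free_tensor_of_isZero (S : Type u) [CommRing S] [Algebra R S] (X : ModuleCat.{u} R)
    (h : IsZero X) : Module.Free S (S ⊗[R] X) := by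
  haveI : Subsingleton X := ModuleCat.subsingleton_of_isZero h
  haveI : Subsingleton (S ⊗[R] X) := inferInstance
  exact Module.Free.of_subsingleton S _

lemma free_tensor_range_of_isZero (S : Type u) [CommRing S] [Algebra R S] {X Y : ModuleCat.{u} R}
    (d : X ⟶ Y) (h : IsZero Y) : Module.Free S (S ⊗[R] LinearMap.range d.hom) := by
  haveI : Subsingleton Y := ModuleCat.subsingleton_of_isZero h
  haveI : Subsingleton (LinearMap.range d.hom) := inferInstance
  haveI : Subsingleton (S ⊗[R] LinearMap.range d.hom) := inferInstance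
  exact Module.Free.of_subsingleton S _

/-- the data needed to apply `triv_ext` on a basic open neighbourhood of a prime. -/
theorem exists_triv_away (p : Ideal R) [p.IsPrime] (T : DRing.Cx R) (a' b' : ℤ)
    (hT : DRing.VanishesOutside T a' b') (hfin : ∀ i : ℤ, Module.Finite R (T.X i))
    (hproj : ∀ i : ℤ, Module.Projective R (T.X i)) (h : Homotopy (𝟙 T) 0) :
    ∃ f₀ : R, f₀ ∉ p ∧ ∀ f : R, f₀ ∣ f →
      (∃ a' b' : ℤ, DRing.VanishesOutside ((extCx R (Localization.Away f)).obj T) a' b') ∧
      DRing.TermwiseFiniteFree ((extCx R (Localization.Away f)).obj T) ∧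
      (∀ i : ℤ, Module.Free (Localization.Away f)
        (LinearMap.range (((extCx R (Localization.Away f)).obj T).d i (i + 1)).hom)) ∧
      Nonempty (Homotopy (𝟙 ((extCx R (Localization.Away f)).obj T)) 0) := by
  have hWproj : ∀ i : ℤ, Module.Projective R (LinearMap.range (T.d i (i + 1)).hom) := fun i => by
    haveI := hproj (i + 1)
    exact projective_range_of_split (T.d i (i + 1)).hom (h.hom (i + 1) i).hom (d_h_d h i)
  have hWfin : ∀ i : ℤ, Module.Finite R (LinearMap.range (T.d i (i + 1)).hom) := fun i => by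
    haveI := hfin i
    infer_instance
  obtain ⟨f₁, hf₁, H₁⟩ := exists_free_away_finset p (Finset.Icc (a' - 1) b')
    (fun i : ℤ => T.X i) (fun i _ => hfin i) (fun i _ => hproj i)
  obtain ⟨f₂, hf₂, H₂⟩ := exists_free_away_finset p (Finset.Icc (a' - 1) b')
    (fun i : ℤ => LinearMap.range (T.d i (i + 1)).hom) (fun i _ => hWfin i) (fun i _ => hWproj i)
  refine ⟨f₁ * f₂, ?_, ?_⟩
  · intro hmem
    rcases (‹p.IsPrime›.mem_or_mem hmem) with h' | h'
    · exact hf₁ h'
    · exact hf₂ h'
  · intro f hf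
    apply triv_ext (Localization.Away f) T a' b' hT hfin h
    · intro i
      by_cases hi : i ∈ Finset.Icc (a' - 1) b'
      · exact H₁ f ((Dvd.intro _ rfl).trans hf) i hi
      · apply free_tensor_of_isZero
        apply hT
        rw [Finset.mem_Icc] at hi
        omega
    · intro i
      by_cases hi : i ∈ Finset.Icc (a' - 1) b'
      · exact H₂ f ((Dvd.intro_left _ rfl).trans hf) i hi
      · apply free_tensor_range_of_isZero
        apply hT
        rw [Finset.mem_Icc] at hi
        omega

theorem main (p : Ideal R) [p.IsPrime]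
    (M N : DRing.Cx R) (a b : ℤ) (hM : DRing.VanishesOutside M a b) (hN : DRing.VanishesOutside N a b)
    (hMp : DRing.TermwiseFiniteProjective M) (hNp : DRing.TermwiseFiniteProjective N)
    (h : Nonempty (DRing.toD M ≅ DRing.toD N)) :
    ∃ f : R, f ∉ p ∧ ∃ P Q : DRing.Cx (Localization.Away f),
      ((∃ a' b' : ℤ, DRing.VanishesOutside P a' b') ∧ DRing.TermwiseFiniteFree P ∧
          (∀ i : ℤ, Module.Free (Localization.Away f) (LinearMap.range (P.d i (i + 1)).hom)) ∧ Nonempty (Homotopy (𝟙 P) 0)) ∧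
      ((∃ a' b' : ℤ, DRing.VanishesOutside Q a' b') ∧ DRing.TermwiseFiniteFree Q ∧
          (∀ i : ℤ, Module.Free (Localization.Away f) (LinearMap.range (Q.d i (i + 1)).hom)) ∧ Nonempty (Homotopy (𝟙 Q) 0)) ∧
      Nonempty ((extCx R (Localization.Away f)).obj M ⊞ P ≅ (extCx R (Localization.Away f)).obj N ⊞ Q) := by
  obtain ⟨e⟩ := h
  have hMfin : ∀ i, Module.Finite R (M.X i) := fun i => (hMp i).1
  have hMproj : ∀ i, Module.Projective R (M.X i) := fun i => (hMp i).2
  have hNfin : ∀ i, Module.Finite R (N.X i) := fun i => (hNp i).1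
  have hNproj : ∀ i, Module.Projective R (N.X i) := fun i => (hNp i).2
  haveI : M.IsKProjective :=
    isKProjective_of_vanishesAbove M b (fun i hi => hM i (Or.inr hi)) hMproj
  obtain ⟨u, hu, -⟩ := Groth.Agent.Lib.Helper6.LTCx.exists_quasiIso_of_iso M N e
  haveI := hu
  -- the cokernel of the cylinder
  have hT₁v : DRing.VanishesOutside (cylC u) (a - 1) b := vanishesOutside_cylC u a b hM hN
  have hT₁fin := finite_cylC u hMfin hNfin
  have hT₁proj := projective_cylC u hMproj hNproj
  haveI : (cylC u).IsKProjective :=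
    isKProjective_of_vanishesAbove (cylC u) b (fun i hi => hT₁v i (Or.inr hi)) hT₁proj
  have h₁ : Homotopy (𝟙 (cylC u)) 0 := IsKProjective.homotopyZero (𝟙 (cylC u)) (acyclic_cylC u)
  -- the cone of the identity
  have hT₂v : DRing.VanishesOutside (mappingCone (𝟙 M) : DRing.Cx R) (a - 1) b := by
    intro k hk
    rw [CochainComplex.mappingCone.isZero_X_iff]
    exact ⟨hM (k + 1) (by omega), hM k (by omega)⟩
  have hT₂fin := finite_mappingCone (𝟙 M) hMfin hMfin
  have hT₂proj := projective_mappingCone (𝟙 M) hMproj hMproj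
  haveI : (mappingCone (𝟙 M) : DRing.Cx R).IsKProjective :=
    isKProjective_of_vanishesAbove _ b (fun i hi => hT₂v i (Or.inr hi)) hT₂proj
  have h₂ : Homotopy (𝟙 (mappingCone (𝟙 M) : DRing.Cx R)) 0 :=
    IsKProjective.homotopyZero _ (acyclic_cone_id M)
  -- the splitting
  obtain ⟨φ⟩ := nonempty_iso_biprod_of_homotopy (cylS₂ u) (cylS₂_shortExact u) (cylSec u)
    (cylSec_π u) h₁
  have φ' : cylZ M N ≅ M ⊞ cylC u := φ
  -- localizing
  obtain ⟨f₁, hf₁, H₁⟩ := exists_triv_away p (cylC u) (a - 1) b hT₁v hT₁fin hT₁proj h₁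
  obtain ⟨f₂, hf₂, H₂⟩ := exists_triv_away p (mappingCone (𝟙 M) : DRing.Cx R) (a - 1) b hT₂v
    hT₂fin hT₂proj h₂
  refine ⟨f₁ * f₂, ?_, (extCx R (Localization.Away (f₁ * f₂))).obj (cylC u),
    (extCx R (Localization.Away (f₁ * f₂))).obj (mappingCone (𝟙 M) : DRing.Cx R),
    H₁ _ (Dvd.intro _ rfl), H₂ _ (Dvd.intro_left _ rfl), ?_⟩
  · intro hmem
    rcases (‹p.IsPrime›.mem_or_mem hmem) with h' | h'
    · exact hf₁ h'
    · exact hf₂ h'
  · let F := extCx R (Localization.Away (f₁ * f₂))
    haveI : PreservesBinaryBiproducts F := preservesBinaryBiproducts_of_preservesBiproducts F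
    exact ⟨(F.mapBiprod M (cylC u)).symm ≪≫ F.mapIso φ'.symm ≪≫
      F.mapBiprod (mappingCone (𝟙 M) : DRing.Cx R) N ≪≫ biprod.braiding _ _⟩

end Groth.Agent.Lib.Helper35.TrivMain
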