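import Groth.Agent.Lib.Helper35.TwoTerm
import Groth.Agent.Lib.Helper35.DCExt
import Mathlib.Algebra.Category.ModuleCat.Ext.HasExt
import Mathlib.Algebra.Category.ModuleCat.Projective

/-! Two-term objects of `D(R)`: projectivity criterion (helper35). -/

universe u

namespace Groth.Agent.Lib.Helper35.KL

open CategoryTheory Limits DerivedCategory Pretriangulated

attribute [local instance] HasDerivedCategory.standard

variable {R : Type u} [CommRing R]

theorem projective_of_subsingleton_hom_shift_one (X : ModuleCat.{u} R)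
    (h : ∀ Y : ModuleCat.{u} R, Subsingleton ((singleFunctor (ModuleCat.{u} R) 0).obj X ⟶
      ((singleFunctor (ModuleCat.{u} R) 0).obj Y)⟦(1 : ℤ)⟧)) : Projective X := by
  rw [projective_iff_subsingleton_ext_one]
  intro Y
  exact (Groth.Agent.Lib.Helper35.DC.subsingleton_hom_shift_iff_ext X Y 1).mp (h Y)

theorem hom_shift_neg_one_eq_zero (Z : DerivedCategory (ModuleCat.{u} R)) (H0 : ModuleCat.{u} R)
    [Projective H0] (e0 : Z ≅ (singleFunctor (ModuleCat.{u} R) 0).obj H0)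
    (W : DerivedCategory (ModuleCat.{u} R)) [W.IsLE (-1)] (φ : Z⟦(-1 : ℤ)⟧ ⟶ W) : φ = 0 := by
  apply (shiftFunctor (DerivedCategory (ModuleCat.{u} R)) (1 : ℤ)).map_injective
  rw [Functor.map_zero]
  have hW : TStructure.t.IsLE (W⟦(1 : ℤ)⟧) (-2) := TStructure.t.isLE_shift _ (-1) 1 (-2)
  have h1 : e0.inv ≫ (shiftNegShift Z (1 : ℤ)).inv ≫ φ⟦(1 : ℤ)⟧' = 0 :=
    hom_single_projective_eq_zero _ (-2) 0 (by omega) _
  rw [← cancel_epi (shiftNegShift Z (1 : ℤ)).inv, ← cancel_epi e0.inv, h1, comp_zero, comp_zero]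

/-- An object in degrees `[-1, 0]` all of whose maps to `M[1]` vanish is a projective module in
degree `0`. -/
theorem twoTerm_of_forall_subsingleton (K : DerivedCategory (ModuleCat.{u} R))
    [K.IsGE (-1)] [K.IsLE 0]
    (h : ∀ M : ModuleCat.{u} R, Subsingleton (K ⟶ ((singleFunctor (ModuleCat.{u} R) 0).obj M)⟦(1 : ℤ)⟧)) :
    IsZero ((homologyFunctor (ModuleCat.{u} R) (-1)).obj K) ∧
      Projective ((homologyFunctor (ModuleCat.{u} R) 0).obj K) := by
  have hT := TStructure.t.triangleLTGE_distinguished 0 K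
  -- the two pieces
  have hZG : TStructure.t.IsGE ((TStructure.t.truncGE 0).obj K) 0 := inferInstance
  have hZL : TStructure.t.IsLE ((TStructure.t.truncGE 0).obj K) 0 := inferInstance
  have hXL : TStructure.t.IsLE ((TStructure.t.truncLT 0).obj K) (-1) :=
    TStructure.t.isLE_truncLT_obj K 0 (-1)
  have hXG : TStructure.t.IsGE ((TStructure.t.truncLT 0).obj K) (-1) := inferInstance
  obtain ⟨H0, ⟨e0⟩⟩ := exists_iso_singleFunctor_obj_of_isGE_of_isLE
    ((TStructure.t.truncGE 0).obj K) 0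
  have hMG : ∀ M : ModuleCat.{u} R, TStructure.t.IsGE
      (((singleFunctor (ModuleCat.{u} R) 0).obj M)⟦(1 : ℤ)⟧) (-1) := fun M =>
    TStructure.t.isGE_shift _ 0 1 (-1)
  have hML : ∀ M : ModuleCat.{u} R, TStructure.t.IsLE
      (((singleFunctor (ModuleCat.{u} R) 0).obj M)⟦(1 : ℤ)⟧) (-1) := fun M =>
    TStructure.t.isLE_shift _ 0 1 (-1)
  -- Step A: maps from `Z` to `M[1]` vanish
  have hZM : ∀ (M : ModuleCat.{u} R)
      (f : (TStructure.t.truncGE 0).obj K ⟶ ((singleFunctor (ModuleCat.{u} R) 0).obj M)⟦(1 : ℤ)⟧),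
      f = 0 := by
    intro M f
    have h1 : (TStructure.t.truncGEπ 0).app K ≫ f = 0 := (h M).elim _ _
    obtain ⟨g, hg⟩ := Triangle.yoneda_exact₃ _ hT f h1
    have hX0 : TStructure.t.IsLE ((TStructure.t.triangleLTGE 0).obj K).obj₁ (-1) := hXL
    have hX1 : TStructure.t.IsLE (((TStructure.t.triangleLTGE 0).obj K).obj₁⟦(1 : ℤ)⟧) (-2) :=
      TStructure.t.isLE_shift _ (-1) 1 (-2)
    have hg0 : g = 0 := TStructure.t.zero g (-2) (-1)
    rw [hg, hg0]
    exact comp_zero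
  have hP0 : Projective H0 := by
    apply projective_of_subsingleton_hom_shift_one
    intro Y
    refine ⟨fun a b => ?_⟩
    have ha := hZM Y (e0.hom ≫ a)
    have hb := hZM Y (e0.hom ≫ b)
    rw [← cancel_epi e0.hom, ha, hb]
  have hiso0 := isIso_homology_map_truncGEπ' K 0 0 le_rfl
  let i0 : H0 ≅ (homologyFunctor (ModuleCat.{u} R) 0).obj K :=
    ((singleFunctorCompHomologyFunctorIso (ModuleCat.{u} R) 0).app H0).symm ≪≫
      (homologyFunctor (ModuleCat.{u} R) 0).mapIso e0.symm ≪≫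
      (asIso ((homologyFunctor (ModuleCat.{u} R) 0).map ((TStructure.t.truncGEπ 0).app K))).symm
  refine ⟨?_, Projective.of_iso i0 hP0⟩
  -- Step B: maps from `X` to `M[1]` vanish
  have hXM : ∀ (M : ModuleCat.{u} R)
      (f : (TStructure.t.truncLT 0).obj K ⟶ ((singleFunctor (ModuleCat.{u} R) 0).obj M)⟦(1 : ℤ)⟧),
      f = 0 := by
    intro M f
    have hT' := inv_rot_of_distTriang _ hT
    have h1 : ((TStructure.t.triangleLTGE 0).obj K).invRotate.mor₁ ≫ f = 0 :=
      hom_shift_neg_one_eq_zero ((TStructure.t.truncGE 0).obj K) H0 e0 _ _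
    obtain ⟨g, hg⟩ := Triangle.yoneda_exact₂ _ hT' f h1
    have hg0 : g = 0 := (h M).elim _ _
    rw [hg, hg0]
    exact comp_zero
  -- `X` is zero
  have hX1G : TStructure.t.IsGE (((TStructure.t.truncLT 0).obj K)⟦(-1 : ℤ)⟧) 0 :=
    TStructure.t.isGE_shift _ (-1) (-1) 0
  have hX1L : TStructure.t.IsLE (((TStructure.t.truncLT 0).obj K)⟦(-1 : ℤ)⟧) 0 :=
    TStructure.t.isLE_shift _ (-1) (-1) 0
  obtain ⟨H1, ⟨e1⟩⟩ := exists_iso_singleFunctor_obj_of_isGE_of_isLE
    (((TStructure.t.truncLT 0).obj K)⟦(-1 : ℤ)⟧) 0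
  let j : (TStructure.t.truncLT 0).obj K ≅ ((singleFunctor (ModuleCat.{u} R) 0).obj H1)⟦(1 : ℤ)⟧ :=
    (shiftNegShift ((TStructure.t.truncLT 0).obj K) (1 : ℤ)).symm ≪≫
      (shiftFunctor (DerivedCategory (ModuleCat.{u} R)) (1 : ℤ)).mapIso e1
  have hj : j.hom = 0 := hXM H1 j.hom
  have hX0 : IsZero ((TStructure.t.truncLT 0).obj K) := by
    rw [IsZero.iff_id_eq_zero, ← j.hom_inv_id, hj, zero_comp]
  have hiso1 := isIso_homology_map_truncLTι' K 0 (-1) (by omega)
  exact IsZero.of_iso ((homologyFunctor (ModuleCat.{u} R) (-1)).map_isZero hX0)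
    (asIso ((homologyFunctor (ModuleCat.{u} R) (-1)).map ((TStructure.t.truncLTι 0).app K))).symm

end Groth.Agent.Lib.Helper35.KL
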