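import Mathlib
import Groth.Prelude.Def_DRing2
import Groth.Agent.Lib.Helper35.IndRep
import Groth.Agent.Lib.Helper35.PALib

/-! `Ext¹` of a two-term object killed by a power of an ideal (helper35). -/

set_option autoImplicit false
universe u

open CategoryTheory Limits Pretriangulated DerivedCategory ZeroObject

namespace Groth.Agent.Lib.Helper35.KL

attribute [local instance] HasDerivedCategory.standard

variable {R : Type u} [CommRing R]

/-- An object concentrated in degree `n` is the single complex of its cohomology. -/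
theorem nonempty_iso_single_homology (X : Dual.D R) (n : ℤ) [X.IsGE n] [X.IsLE n] :
    Nonempty (X ≅ (DerivedCategory.singleFunctor (ModuleCat.{u} R) n).obj
      ((homologyFunctor (ModuleCat.{u} R) n).obj X)) := by
  obtain ⟨H, ⟨e0⟩⟩ := exists_iso_singleFunctor_obj_of_isGE_of_isLE X n
  let i0 : (homologyFunctor (ModuleCat.{u} R) n).obj X ≅ H :=
    (homologyFunctor (ModuleCat.{u} R) n).mapIso e0 ≪≫
      (DerivedCategory.singleFunctorCompHomologyFunctorIso (ModuleCat.{u} R) n).app H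
  exact ⟨e0 ≪≫ (DerivedCategory.singleFunctor (ModuleCat.{u} R) n).mapIso i0.symm⟩

/-- **`Ext¹` of a two-term object killed by a power of an ideal.** -/
theorem ext_killed_iff (I : Ideal R) (K : Dual.D R) [K.IsGE (-1)] [K.IsLE 0] :
    (∃ c : ℕ, ∀ (N : ModuleCat.{u} R) (a : R), a ∈ I ^ c →
        ∀ ξ : K ⟶ ((DerivedCategory.singleFunctor (ModuleCat.{u} R) 0).obj N)⟦(1 : ℤ)⟧,
          a • ξ = 0) ↔
      ∃ c : ℕ, (∀ a : R, a ∈ I ^ c →
          ∀ x : ((homologyFunctor (ModuleCat.{u} R) (-1)).obj K : ModuleCat.{u} R), a • x = 0) ∧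
        ∀ (N : ModuleCat.{u} R) (a : R), a ∈ I ^ c →
          ∀ ξ : (DerivedCategory.singleFunctor (ModuleCat.{u} R) 0).obj
              ((homologyFunctor (ModuleCat.{u} R) 0).obj K) ⟶
            ((DerivedCategory.singleFunctor (ModuleCat.{u} R) 0).obj N)⟦(1 : ℤ)⟧, a • ξ = 0 := by
  have hT := TStructure.t.triangleLTGE_distinguished 0 K
  let T := (TStructure.t.triangleLTGE 0).obj K
  let A : Dual.D R := (TStructure.t.truncLT 0).obj K
  let B : Dual.D R := (TStructure.t.truncGE 0).obj K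
  let ι : A ⟶ K := (TStructure.t.truncLTι 0).app K
  let π : K ⟶ B := (TStructure.t.truncGEπ 0).app K
  have hAle : TStructure.t.IsLE A (-1) := TStructure.t.isLE_truncLT_obj K 0 (-1)
  have hAge : TStructure.t.IsGE A (-1) := inferInstance
  have hBge : TStructure.t.IsGE B 0 := inferInstance
  have hBle : TStructure.t.IsLE B 0 := inferInstance
  have hA' : A.IsLE (-1) := hAle
  have hA'' : A.IsGE (-1) := hAge
  have hB' : B.IsLE 0 := hBle
  have hB'' : B.IsGE 0 := hBge
  obtain ⟨eA0⟩ := nonempty_iso_single_homology A (-1)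
  obtain ⟨eB0⟩ := nonempty_iso_single_homology B 0
  have hisoA := isIso_homology_map_truncLTι' K 0 (-1) (by omega)
  have hisoB := isIso_homology_map_truncGEπ' K 0 0 le_rfl
  let S := DerivedCategory.singleFunctor (ModuleCat.{u} R) (-1)
  let S0 := DerivedCategory.singleFunctor (ModuleCat.{u} R) 0
  let eA : A ≅ S.obj ((homologyFunctor (ModuleCat.{u} R) (-1)).obj K) :=
    eA0 ≪≫ S.mapIso (asIso ((homologyFunctor (ModuleCat.{u} R) (-1)).map ι))
  let eB : B ≅ S0.obj ((homologyFunctor (ModuleCat.{u} R) 0).obj K) :=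
    eB0 ≪≫ S0.mapIso (asIso ((homologyFunctor (ModuleCat.{u} R) 0).map π)).symm
  constructor
  · rintro ⟨c, h⟩
    refine ⟨c, ?_, ?_⟩
    · intro a ha x
      let H : ModuleCat.{u} R := (homologyFunctor (ModuleCat.{u} R) (-1)).obj K
      let J : ModuleCat.{u} R := Injective.under H
      let j : H ⟶ J := Injective.ι H
      have hjmono : Mono j := inferInstance
      let f : A ⟶ S.obj J := eA.hom ≫ S.map j
      have hBs : (B⟦(-1 : ℤ)⟧).IsGE 1 := TStructure.t.isGE_shift B 0 (-1) 1 (by omega)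
      have h0 : T.invRotate.mor₁ ≫ f = 0 :=
        hom_to_single_injective_eq_zero (B⟦(-1 : ℤ)⟧) 1 (-1) (by omega) _
      obtain ⟨ξ0, hξ⟩ := Triangle.yoneda_exact₂ T.invRotate (inv_rot_of_distTriang _ hT) f h0
      let ξ : K ⟶ S.obj J := ξ0
      have hξ' : f = ι ≫ ξ := hξ
      let σ : (S0.obj J)⟦(1 : ℤ)⟧ ≅ S.obj J :=
        ((DerivedCategory.singleFunctors (ModuleCat.{u} R)).shiftIso 1 (-1) 0 (by omega)).app J
      have h1 : a • (ξ ≫ σ.inv) = 0 := h J a ha (ξ ≫ σ.inv)
      have h2 : a • ξ = 0 := by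
        rw [← Linear.smul_comp] at h1
        rw [← cancel_mono σ.inv, h1, zero_comp]
      have h3 : a • f = 0 := by
        rw [hξ', ← Linear.comp_smul, h2, comp_zero]
      have h4 : S.map (a • j) = 0 := by
        have : a • f = eA.hom ≫ S.map (a • j) := by
          dsimp only [f]
          rw [Functor.map_smul, Linear.comp_smul]
        rw [this] at h3
        rw [← cancel_epi eA.hom, h3, comp_zero]
      have h5 : a • j = 0 := S.map_injective (by rw [h4, Functor.map_zero])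
      have hinj : Function.Injective j := (ModuleCat.mono_iff_injective j).mp hjmono
      apply hinj
      have h6 : (a • j).hom x = 0 := by rw [h5]; rfl
      rw [map_zero, map_smul]
      exact h6
    · intro N a ha ξ
      have h1 : a • (π ≫ eB.hom ≫ ξ) = 0 := h N a ha (π ≫ eB.hom ≫ ξ)
      have h2 : π ≫ (a • (eB.hom ≫ ξ)) = 0 := by
        rw [Linear.comp_smul]
        exact h1
      obtain ⟨ζ0, hζ0'⟩ := Triangle.yoneda_exact₃ T hT (a • (eB.hom ≫ ξ)) h2
      let ζ : A⟦(1 : ℤ)⟧ ⟶ (S0.obj N)⟦(1 : ℤ)⟧ := ζ0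
      let δ : B ⟶ A⟦(1 : ℤ)⟧ := T.mor₃
      have hζ : a • (eB.hom ≫ ξ) = δ ≫ ζ := hζ0'
      have hAs : (A⟦(1 : ℤ)⟧).IsLE (-2) := TStructure.t.isLE_shift A (-1) 1 (-2) (by omega)
      have hNs : ((S0.obj N)⟦(1 : ℤ)⟧).IsGE (-1) :=
        TStructure.t.isGE_shift (S0.obj N) 0 1 (-1) (by omega)
      have hζ0 : ζ = 0 := TStructure.t.zero ζ (-2) (-1) (by omega)
      rw [hζ0, comp_zero, ← Linear.comp_smul] at hζ
      rw [← cancel_epi eB.hom, hζ, comp_zero]
  · rintro ⟨c, ha, hb⟩
    refine ⟨c + c, ?_⟩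
    intro N a hmem ξ
    rw [pow_add] at hmem
    have hA0 : ∀ y : R, y ∈ I ^ c → y • 𝟙 A = 0 := by
      intro y hy
      have h1 : y • 𝟙 ((homologyFunctor (ModuleCat.{u} R) (-1)).obj K) = 0 := by
        ext z
        exact ha y hy z
      have h2 : y • 𝟙 (S.obj ((homologyFunctor (ModuleCat.{u} R) (-1)).obj K)) = 0 := by
        rw [← CategoryTheory.Functor.map_id, ← Functor.map_smul, h1, Functor.map_zero]
      have h3 : 𝟙 A = eA.hom ≫ 𝟙 _ ≫ eA.inv := by simp
      rw [h3, ← Linear.comp_smul, ← Linear.smul_comp, h2, zero_comp, comp_zero]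
    refine Submodule.mul_induction_on hmem (fun x hx y hy => ?_) (fun x y hx hy => ?_)
    · have h1 : ι ≫ (y • ξ) = 0 := by
        have : ι ≫ (y • ξ) = (y • 𝟙 A) ≫ ι ≫ ξ := by
          rw [Linear.smul_comp, Category.id_comp, Linear.comp_smul]
        rw [this, hA0 y hy, zero_comp]
      obtain ⟨ζ0, hζ0⟩ := Triangle.yoneda_exact₂ T hT (y • ξ) h1
      let ζ : B ⟶ (S0.obj N)⟦(1 : ℤ)⟧ := ζ0
      have hζ : y • ξ = π ≫ ζ := hζ0
      have h2 : x • (eB.inv ≫ ζ) = 0 := hb N x hx (eB.inv ≫ ζ)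
      have h3 : x • ζ = 0 := by
        rw [← Linear.comp_smul] at h2
        rw [← cancel_epi eB.inv, h2, comp_zero]
      rw [mul_smul, hζ, ← Linear.comp_smul, h3, comp_zero]
    · rw [add_smul, hx, hy, add_zero]

end Groth.Agent.Lib.Helper35.KL
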