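import Groth.Agent.Lib.Helper35.TwoTermRep
import Mathlib.Algebra.Homology.ShortComplex.ModuleCat
import Mathlib.RingTheory.Noetherian.Basic

/-! Finiteness of the two-term representative over a Noetherian ring (helper35). -/

universe u

namespace Groth.Agent.Lib.Helper35.KL

open CategoryTheory Limits DerivedCategory Pretriangulated CochainComplex

attribute [local instance] HasDerivedCategory.standard

variable {R : Type u} [CommRing R]

/-- Middle term of an exact sequence of modules with finite left term and noetherian right term is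
finite. -/
theorem finite_of_exact_moduleCat [IsNoetherianRing R] (S : ShortComplex (ModuleCat.{u} R))
    (hS : S.Exact) [Module.Finite R S.X₁] [Module.Finite R S.X₃] : Module.Finite R S.X₂ := by
  have hN : IsNoetherian R S.X₃ := isNoetherian_of_isNoetherianRing_of_finite R S.X₃
  rw [ShortComplex.ShortExact.moduleCat_exact_iff_function_exact] at hS
  have hS' : LinearMap.range S.f.hom = LinearMap.ker S.g.hom := (LinearMap.exact_iff.mp hS).symm
  constructor
  apply Submodule.fg_of_fg_map_of_fg_inf_ker S.g.hom
  · exact IsNoetherian.noetherian _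
  · rw [top_inf_eq, ← hS', LinearMap.range_eq_map]
    exact Submodule.FG.map _ Module.Finite.fg_top

theorem finite_of_distTriang [IsNoetherianRing R] (T : Triangle (DerivedCategory (ModuleCat.{u} R)))
    (hT : T ∈ distTriang _) (G F : ModuleCat.{u} R)
    (h1 : T.obj₁ = (DerivedCategory.singleFunctor (ModuleCat.{u} R) 0).obj G)
    (h2 : T.obj₂ = (DerivedCategory.singleFunctor (ModuleCat.{u} R) 0).obj F)
    [Module.Finite R F]
    [Module.Finite R ((homologyFunctor (ModuleCat.{u} R) (-1)).obj T.obj₃)] :
    Module.Finite R G := by
  obtain ⟨X1, X2, X3, f1, f2, f3⟩ := T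
  dsimp only at h1 h2
  subst h1 h2
  have hex := HomologySequence.exact₁ _ hT (-1) 0 (by norm_num)
  let iF : (homologyFunctor (ModuleCat.{u} R) 0).obj
      ((DerivedCategory.singleFunctor (ModuleCat.{u} R) 0).obj F) ≅ F :=
    (DerivedCategory.singleFunctorCompHomologyFunctorIso (ModuleCat.{u} R) 0).app F
  let iG : (homologyFunctor (ModuleCat.{u} R) 0).obj
      ((DerivedCategory.singleFunctor (ModuleCat.{u} R) 0).obj G) ≅ G :=
    (DerivedCategory.singleFunctorCompHomologyFunctorIso (ModuleCat.{u} R) 0).app G
  have hF : Module.Finite R ((homologyFunctor (ModuleCat.{u} R) 0).obj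
      ((DerivedCategory.singleFunctor (ModuleCat.{u} R) 0).obj F)) :=
    Module.Finite.equiv iF.symm.toLinearEquiv
  have hG : Module.Finite R ((homologyFunctor (ModuleCat.{u} R) 0).obj
      ((DerivedCategory.singleFunctor (ModuleCat.{u} R) 0).obj G)) :=
    finite_of_exact_moduleCat _ hex
  exact Module.Finite.equiv iG.toLinearEquiv

end Groth.Agent.Lib.Helper35.KL
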