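/-
Helper library (helper35): realizing a finite purely inseparable extension of the function field
by a finite radicial ring extension (ring-level part).
-/
import Mathlib

set_option autoImplicit false
universe u

namespace Groth.Agent.Lib.Helper35.UHBase

variable {A₀ κ k' : Type u} [CommRing A₀] [Field κ] [Field k'] [Algebra κ k']

/-- `p`-power closedness of the set of elements with a `p`-power in the image. -/
theorem pow_mem_range_of_mem_adjoin (φ₀ : A₀ →+* k') (p : ℕ) [ExpChar k' p] (s : Set k')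
    (hs : ∀ x ∈ s, ∃ (n : ℕ) (a : A₀), x ^ p ^ n = φ₀ a) :
    letI := φ₀.toAlgebra
    ∀ x ∈ Algebra.adjoin A₀ s, ∃ (n : ℕ) (a : A₀), x ^ p ^ n = φ₀ a := by
  letI := φ₀.toAlgebra
  intro x hx
  induction hx using Algebra.adjoin_induction with
  | mem x hx => exact hs x hx
  | algebraMap r => exact ⟨0, r, by rw [pow_zero, pow_one]; rfl⟩
  | add x y _ _ hx hy =>
    obtain ⟨n, a, ha⟩ := hx
    obtain ⟨m, b, hb⟩ := hy
    refine ⟨n + m, a ^ p ^ m + b ^ p ^ n, ?_⟩
    rw [add_pow_expChar_pow, map_add, map_pow, map_pow, ← ha, ← hb, ← pow_mul, ← pow_mul,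
      ← pow_add, ← pow_add, add_comm m n]
  | mul x y _ _ hx hy =>
    obtain ⟨n, a, ha⟩ := hx
    obtain ⟨m, b, hb⟩ := hy
    refine ⟨n + m, a ^ p ^ m * b ^ p ^ n, ?_⟩
    rw [mul_pow, map_mul, map_pow, map_pow, ← ha, ← hb, ← pow_mul, ← pow_mul,
      ← pow_add, ← pow_add, add_comm m n]

variable [FiniteDimensional κ k'] [IsPurelyInseparable κ k']

omit [FiniteDimensional κ k'] in
/-- Every element of `k'` has a multiple by a "denominator" from `A₀` whose `p`-power lies in the
image of `A₀`. -/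
theorem exists_mul_pow_eq (ev : A₀ →+* κ)
    (h2 : ∀ z : κ, ∃ a b : A₀, ev a ≠ 0 ∧ z * ev a = ev b) (p : ℕ) [ExpChar κ p] (x : k') :
    ∃ (n : ℕ) (a d : A₀), ev d ≠ 0 ∧
      (algebraMap κ k' (ev d) * x) ^ p ^ n = algebraMap κ k' (ev a) := by
  obtain ⟨n, y, hy⟩ := IsPurelyInseparable.pow_mem κ p x
  obtain ⟨d, b, hd, hdb⟩ := h2 y
  refine ⟨n, d ^ (p ^ n - 1) * b, d, hd, ?_⟩
  have hpos : 0 < p ^ n := Nat.pos_of_ne_zero (pow_ne_zero _ (expChar_pos κ p).ne')
  rw [mul_pow, ← hy, ← map_pow, ← map_mul, map_mul ev, map_pow ev, ← hdb]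
  congr 1
  have : ev d ^ p ^ n = ev d ^ (p ^ n - 1) * ev d := by
    rw [← pow_succ, Nat.sub_add_cancel hpos]
  rw [this]; ring

/-- The ring-level construction. -/
theorem exists_radicial_subalgebra (ev : A₀ →+* κ)
    (h2 : ∀ z : κ, ∃ a b : A₀, ev a ≠ 0 ∧ z * ev a = ev b) (p : ℕ) [ExpChar κ p] :
    letI := ((algebraMap κ k').comp ev).toAlgebra
    ∃ A' : Subalgebra A₀ k', Module.Finite A₀ A' ∧
      (∀ x ∈ A', ∃ (n : ℕ) (a : A₀), x ^ p ^ n = algebraMap κ k' (ev a)) ∧
      (∀ z : k', ∃ c : A₀, ev c ≠ 0 ∧ algebraMap κ k' (ev c) * z ∈ A') := by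
  classical
  letI := ((algebraMap κ k').comp ev).toAlgebra
  haveI : ExpChar k' p := expChar_of_injective_algebraMap (algebraMap κ k').injective p
  let b := Module.finBasis κ k'
  choose n a d hd hpow using fun i => exists_mul_pow_eq (k' := k') ev h2 p (b i)
  let b' : Fin (Module.finrank κ k') → k' := fun i => algebraMap κ k' (ev (d i)) * b i
  let A' : Subalgebra A₀ k' := Algebra.adjoin A₀ (Set.range b')
  have hint : ∀ x ∈ Set.range b', IsIntegral A₀ x := by
    rintro _ ⟨i, rfl⟩
    refine ⟨Polynomial.X ^ p ^ n i - Polynomial.C (a i),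
      Polynomial.monic_X_pow_sub_C _ (pow_ne_zero _ (expChar_pos κ p).ne'), ?_⟩
    rw [Polynomial.eval₂_sub, Polynomial.eval₂_pow, Polynomial.eval₂_X, Polynomial.eval₂_C]
    show b' i ^ p ^ n i - algebraMap κ k' (ev (a i)) = 0
    rw [sub_eq_zero]
    exact hpow i
  refine ⟨A', Algebra.finite_adjoin_of_finite_of_isIntegral (Set.finite_range b') hint, ?_, ?_⟩
  · refine pow_mem_range_of_mem_adjoin ((algebraMap κ k').comp ev) p (Set.range b') ?_
    rintro _ ⟨i, rfl⟩
    exact ⟨n i, a i, hpow i⟩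
  · -- fractions
    let S : Submodule κ k' :=
      { carrier := {z | ∃ c : A₀, ev c ≠ 0 ∧ algebraMap κ k' (ev c) * z ∈ A'}
        add_mem' := by
          rintro x y ⟨c, hc, hx⟩ ⟨c', hc', hy⟩
          refine ⟨c * c', by rw [map_mul]; exact mul_ne_zero hc hc', ?_⟩
          have h1 : algebraMap κ k' (ev (c * c')) * (x + y) =
              algebraMap A₀ k' c' * (algebraMap κ k' (ev c) * x) +
                algebraMap A₀ k' c * (algebraMap κ k' (ev c') * y) := by
            show _ = algebraMap κ k' (ev c') * _ + algebraMap κ k' (ev c) * _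
            rw [map_mul, map_mul]; ring
          rw [h1]
          exact A'.add_mem (A'.mul_mem (A'.algebraMap_mem c') hx)
            (A'.mul_mem (A'.algebraMap_mem c) hy)
        zero_mem' := ⟨1, by rw [map_one]; exact one_ne_zero, by rw [mul_zero]; exact A'.zero_mem⟩
        smul_mem' := by
          rintro z x ⟨c, hc, hx⟩
          obtain ⟨e, g, he, heg⟩ := h2 z
          refine ⟨e * c, by rw [map_mul]; exact mul_ne_zero he hc, ?_⟩
          have h1 : algebraMap κ k' (ev (e * c)) * (z • x) =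
              algebraMap A₀ k' g * (algebraMap κ k' (ev c) * x) := by
            show _ = algebraMap κ k' (ev g) * _
            rw [← heg, Algebra.smul_def, map_mul, map_mul, map_mul]; ring
          rw [h1]
          exact A'.mul_mem (A'.algebraMap_mem g) hx }
    have hS : S = ⊤ := by
      rw [eq_top_iff, ← b.span_eq, Submodule.span_le]
      rintro _ ⟨i, rfl⟩
      exact ⟨d i, hd i, Algebra.subset_adjoin ⟨i, rfl⟩⟩
    intro z
    have : z ∈ S := hS ▸ Submodule.mem_top
    exact this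

end Groth.Agent.Lib.Helper35.UHBase
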