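/-
Helper library (helper35): localizing a finite radicial extension, and the resulting universal
homeomorphism.
-/
import Mathlib
import Groth.Agent.Lib.Helper70.SpecUnivHomeoC

set_option autoImplicit false
universe u

namespace Groth.Agent.Lib.Helper35.UHBase

open AlgebraicGeometry CategoryTheory

/-- A finite ring map whose kernel is nil and such that every element of the target has a
`p`-power in the image (with `p = 1` or `p` prime and zero in the target) induces a universal
homeomorphism on spectra. -/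
theorem isUnivHomeo_SpecMap_of_pow {R B : Type u} [CommRing R] [CommRing B] (θ : R →+* B)
    (hfin : θ.Finite) (hker : ∀ x, θ x = 0 → IsNilpotent x) (p : ℕ)
    (hp : p = 1 ∨ (p.Prime ∧ (p : B) = 0))
    (hpow : ∀ x : B, ∃ (n : ℕ) (c : R), x ^ p ^ n = θ c) :
    FlatMor.IsUnivHomeo (Spec.map (CommRingCat.ofHom θ)) := by
  have hint : θ.IsIntegral := hfin.to_isIntegral
  refine Groth.Agent.Lib.Helper70.SpecUH.isUnivHomeo_SpecMap_of' θ hint ?_ ?_
  · -- surjectivity on spectra
    intro P
    letI := θ.toAlgebra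
    haveI : Algebra.IsIntegral R B := ⟨hint⟩
    have hkerP : (⊥ : Ideal B).comap (algebraMap R B) ≤ P.asIdeal := by
      intro x hx
      have hx' : θ x = 0 := hx
      exact (nilradical_le_prime P.asIdeal) (mem_nilradical.mpr (hker x hx'))
    obtain ⟨Q, -, hQ, hQP⟩ := Ideal.exists_ideal_over_prime_of_isIntegral
      (S := B) P.asIdeal ⊥ hkerP
    exact ⟨⟨Q, hQ⟩, PrimeSpectrum.ext hQP⟩
  · intro K _ g₁ g₂ h
    ext x
    obtain ⟨n, c, hc⟩ := hpow x
    have h1 : g₁ x ^ p ^ n = g₂ x ^ p ^ n := by
      rw [← map_pow, ← map_pow, hc]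
      exact congrArg (fun F : R →+* K => F c) h
    rcases hp with rfl | ⟨hpp, hp0⟩
    · simpa using h1
    · haveI : Fact p.Prime := ⟨hpp⟩
      have hK0 : (p : K) = 0 := by
        have := congrArg g₁ hp0
        rwa [map_natCast, map_zero] at this
      haveI : CharP K p := by
        have h2 := CharP.ringChar_of_prime_eq_zero hpp hK0
        rw [← h2]
        exact ringChar.charP K
      have h3 : (g₁ x - g₂ x) ^ p ^ n = 0 := by
        rw [sub_pow_char_pow, h1, sub_self]
      exact sub_eq_zero.mp (pow_eq_zero_iff (pow_ne_zero _ hpp.ne_zero) |>.mp h3)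

variable {A₀ A' k' : Type u} [CommRing A₀] [CommRing A'] [IsDomain A'] [Algebra A₀ A']
  [Field k']

omit [IsDomain A'] in
/-- Localizing the radicial extension. -/
theorem localization_facts [Module.Finite A₀ A'] (ι' : A' →+* k') (hι' : Function.Injective ι')
    (p : ℕ) (hpow : ∀ x : A', ∃ (n : ℕ) (a : A₀), x ^ p ^ n = algebraMap A₀ A' a)
    (a : A₀) (ha : algebraMap A₀ A' a ≠ 0)
    (R' : Type u) [CommRing R'] [Algebra A₀ R'] [IsLocalization.Away a R']
    (B : Type u) [CommRing B] [Algebra A' B] [IsLocalization.Away (algebraMap A₀ A' a) B] :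
    (IsLocalization.Away.map R' B (algebraMap A₀ A') a).Finite ∧
    (∀ x : B, ∃ (n : ℕ) (c : R'), x ^ p ^ n = IsLocalization.Away.map R' B (algebraMap A₀ A') a c) ∧
    ∃ ψ : B →+* k', Function.Injective ψ ∧ ψ.comp (algebraMap A' B) = ι' := by
  set α := algebraMap A₀ A' a with hα
  set θ := IsLocalization.Away.map R' B (algebraMap A₀ A') a with hθ
  have hθc : ∀ c : A₀, θ (algebraMap A₀ R' c) = algebraMap A' B (algebraMap A₀ A' c) := fun c =>
    IsLocalization.map_eq _ c
  refine ⟨?_, ?_, ?_⟩
  · exact RingHom.finite_localizationPreserves.away (algebraMap A₀ A') a R' B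
      (RingHom.finite_algebraMap.mpr inferInstance)
  · intro x
    obtain ⟨m, y, hy⟩ := IsLocalization.Away.surj α x
    obtain ⟨n, c, hc⟩ := hpow y
    have hu : IsUnit (algebraMap A₀ R' a) := IsLocalization.Away.algebraMap_isUnit a
    obtain ⟨u, hu'⟩ := hu
    refine ⟨n, algebraMap A₀ R' c * ((u⁻¹ : R'ˣ) : R') ^ (m * p ^ n), ?_⟩
    have h1 : x ^ p ^ n * (algebraMap A' B α) ^ (m * p ^ n) = algebraMap A' B (algebraMap A₀ A' c) := by
      rw [pow_mul, ← mul_pow, hy, ← map_pow, hc]
    have h2 : θ (u : R') = algebraMap A' B α := by rw [hu', hθc]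
    have h3 : θ ((u⁻¹ : R'ˣ) : R') * algebraMap A' B α = 1 := by
      rw [← h2, ← map_mul, Units.inv_mul, map_one]
    rw [map_mul, map_pow, hθc, ← h1, mul_assoc, ← mul_pow, mul_comm (algebraMap A' B α), h3,
      one_pow, mul_one]
  · have hunit : IsUnit (ι' α) := isUnit_iff_ne_zero.mpr (fun h => ha (hι' (by rw [h, map_zero])))
    refine ⟨IsLocalization.Away.lift (S := B) α hunit, ?_,
      IsLocalization.Away.lift_comp (S := B) α hunit⟩
    rw [injective_iff_map_eq_zero]
    intro x hx
    obtain ⟨m, y, hy⟩ := IsLocalization.Away.surj α x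
    have h1 : ι' y = 0 := by
      rw [← IsLocalization.Away.lift_eq (S := B) α hunit y, ← hy, map_mul, hx, zero_mul]
    have h2 : y = 0 := hι' (by rw [h1, map_zero])
    rw [h2, map_zero] at hy
    have h3 : IsUnit (algebraMap A' B α ^ m) :=
      (IsLocalization.Away.algebraMap_isUnit (S := B) α).pow m
    exact (h3.mul_left_eq_zero).mp hy

end Groth.Agent.Lib.Helper35.UHBase
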