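/-
Helper library (helper35): scheme-level plumbing for base changes of closed subschemes.
-/
import Mathlib

set_option autoImplicit false
universe u

namespace Groth.Agent.Lib.Helper35.UHBase

open AlgebraicGeometry CategoryTheory Limits MorphismProperty

variable {X Y : Scheme.{u}}

instance surjective_nilradical_subschemeι (P : Scheme.{u}) : Surjective P.nilradical.subschemeι := by
  constructor
  rw [← Set.range_eq_univ, Scheme.IdealSheafData.range_subschemeι, Scheme.support_nilradical]
  rfl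

/-- Base change of a morphism into a fibre product, as a cartesian square. -/
theorem exists_isPullback_lift {Y₀ T₀ S Z : Scheme.{u}} (f : X ⟶ Y) (g₀ : Y₀ ⟶ Y)
    (r₀ : T₀ ⟶ pullback f g₀) (s : S ⟶ Y₀) (t : S ⟶ Y) (ht : t = s ≫ g₀)
    (a : Z ⟶ T₀) (q : Z ⟶ S) (hpb : IsPullback a q (r₀ ≫ pullback.snd f g₀) s) :
    ∃ (i : Z ⟶ pullback f t) (b : pullback f t ⟶ pullback f g₀),
      IsPullback a i r₀ b ∧ i ≫ pullback.snd f t = q := by
  subst ht
  let b : pullback f (s ≫ g₀) ⟶ pullback f g₀ :=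
    pullback.lift (pullback.fst f (s ≫ g₀)) (pullback.snd f (s ≫ g₀) ≫ s)
      (by rw [pullback.condition, Category.assoc])
  have hw : (a ≫ r₀ ≫ pullback.fst f g₀) ≫ f = q ≫ s ≫ g₀ := by
    have h1 := hpb.w
    simp only [Category.assoc] at h1 ⊢
    rw [pullback.condition, reassoc_of% h1]
  let i : Z ⟶ pullback f (s ≫ g₀) := pullback.lift (a ≫ r₀ ≫ pullback.fst f g₀) q hw
  have hb1 : b ≫ pullback.fst f g₀ = pullback.fst f (s ≫ g₀) := pullback.lift_fst _ _ _
  have hb2 : b ≫ pullback.snd f g₀ = pullback.snd f (s ≫ g₀) ≫ s := pullback.lift_snd _ _ _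
  have hi1 : i ≫ pullback.fst f (s ≫ g₀) = a ≫ r₀ ≫ pullback.fst f g₀ := pullback.lift_fst _ _ _
  have hi2 : i ≫ pullback.snd f (s ≫ g₀) = q := pullback.lift_snd _ _ _
  have hR : IsPullback b (pullback.snd f (s ≫ g₀)) (pullback.snd f g₀) s := by
    refine IsPullback.of_right ?_ hb2 (IsPullback.of_hasPullback f g₀)
    rw [hb1]
    exact IsPullback.of_hasPullback f (s ≫ g₀)
  refine ⟨i, b, ?_, hi2⟩
  refine IsPullback.of_bot ?_ ?_ hR
  · rw [hi2]; exact hpb
  · apply pullback.hom_ext
    · rw [Category.assoc, Category.assoc, hb1, hi1]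
    · rw [Category.assoc, Category.assoc, hb2, reassoc_of% hi2]
      exact hpb.w

/-- A property stable under base change which holds over an open `U` of the target holds for
every base change along a morphism landing in `U`. -/
theorem of_range_subset (P : MorphismProperty Scheme.{u}) [P.IsStableUnderBaseChange]
    (f : X ⟶ Y) (U : Y.Opens) (hU : P (f ∣_ U)) {T : Scheme.{u}} (t : T ⟶ Y)
    (ht : Set.range t ⊆ U) : P (pullback.snd f t) := by
  have hr : Set.range t ⊆ Set.range U.ι := by
    rw [Scheme.Opens.range_ι]; exact ht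
  let t' : T ⟶ U := IsOpenImmersion.lift U.ι t hr
  have ht' : t' ≫ U.ι = t := IsOpenImmersion.lift_fac _ _ _
  have hR : IsPullback (f ⁻¹ᵁ U).ι (f ∣_ U) f U.ι := (isPullback_morphismRestrict f U).flip
  have hw : pullback.fst f t ≫ f = (pullback.snd f t ≫ t') ≫ U.ι := by
    rw [Category.assoc, ht', pullback.condition]
  let l : pullback f t ⟶ (f ⁻¹ᵁ U).toScheme := hR.lift (pullback.fst f t) (pullback.snd f t ≫ t') hw
  have hl1 : l ≫ (f ⁻¹ᵁ U).ι = pullback.fst f t := hR.lift_fst _ _ _
  have hl2 : l ≫ (f ∣_ U) = pullback.snd f t ≫ t' := hR.lift_snd _ _ _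
  have hL : IsPullback l (pullback.snd f t) (f ∣_ U) t' := by
    refine IsPullback.of_right ?_ hl2 hR
    rw [hl1, ht']
    exact IsPullback.of_hasPullback f t
  exact P.of_isPullback hL hU

/-- Two reduced closed subschemes with full support have the same geometric reducedness over a
base. -/
theorem geometricallyReduced_of_closedImmersions {Z₁ Z₂ P' S : Scheme.{u}} (i₁ : Z₁ ⟶ P')
    (i₂ : Z₂ ⟶ P') (p : P' ⟶ S) [IsClosedImmersion i₁] [Surjective i₁] [IsClosedImmersion i₂]
    [Surjective i₂] [IsReduced Z₁] [IsReduced Z₂] (h : GeometricallyReduced (i₂ ≫ p)) :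
    GeometricallyReduced (i₁ ≫ p) := by
  haveI : IsIso (pullback.fst i₁ i₂) := isIso_of_isClosedImmersion_of_surjective _
  haveI : IsIso (pullback.snd i₁ i₂) := isIso_of_isClosedImmersion_of_surjective _
  have h1 : i₁ ≫ p = (inv (pullback.fst i₁ i₂) ≫ pullback.snd i₁ i₂) ≫ i₂ ≫ p := by
    rw [Category.assoc, ← pullback.condition_assoc, IsIso.inv_hom_id_assoc]
  rw [h1]
  exact (MorphismProperty.cancel_left_of_respectsIso @GeometricallyReduced _ _).mpr h

end Groth.Agent.Lib.Helper35.UHBase
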