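/-
Helper library (helper35): the finite universally homeomorphic cover `Y' → V` realizing a finite
purely inseparable extension of the function field of an irreducible scheme.
-/
import Mathlib
import Groth.Agent.Lib.Helper35.UHBase2
import Groth.Agent.H8.GC.Spread
import Groth.Agent.Lib.Helper2.UnivHomeo

set_option autoImplicit false
set_option maxHeartbeats 2000000
universe u

namespace Groth.Agent.Lib.Helper35.UHBase

open AlgebraicGeometry CategoryTheory Limits TopologicalSpace
open Groth.Agent.H8.GC

variable {Y : Scheme.{u}} [IrreducibleSpace ↥Y]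

theorem evaluation_comp_res {W : Y.Opens} (hηW : genericPoint ↥Y ∈ W) (a : Γ(Y, W))
    (hηV : genericPoint ↥Y ∈ Y.basicOpen a) :
    (Y.evaluation (Y.basicOpen a) _ hηV).hom.comp
      (algebraMap Γ(Y, W) Γ(Y, Y.basicOpen a)) = (Y.evaluation W _ hηW).hom := by
  ext x
  show (Y.presheaf.map (homOfLE (Y.basicOpen_le a)).op ≫ Y.presheaf.germ _ _ hηV ≫
    Y.residue _).hom x = _
  rw [← Category.assoc, Y.presheaf.germ_res]
  rfl

theorem exists_univHomeo_cover {W : Y.Opens} (hW : IsAffineOpen W)
    (hηW : genericPoint ↥Y ∈ W) (A' : Type u) [CommRing A'] [IsDomain A']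
    [Algebra Γ(Y, W) A'] [Module.Finite Γ(Y, W) A'] {k' : Type u} [Field k']
    [Algebra (Y.residueField (genericPoint ↥Y)) k'] (ι' : A' →+* k')
    (hι' : Function.Injective ι')
    (hcompat : ι'.comp (algebraMap Γ(Y, W) A') =
      (algebraMap (Y.residueField (genericPoint ↥Y)) k').comp (Y.evaluation W _ hηW).hom)
    (p : ℕ) [hE : ExpChar (Y.residueField (genericPoint ↥Y)) p]
    (hpow : ∀ x : A', ∃ (n : ℕ) (a : Γ(Y, W)), x ^ p ^ n = algebraMap Γ(Y, W) A' a)
    (hfrac : ∀ z : k', ∃ c : Γ(Y, W), (Y.evaluation W _ hηW).hom c ≠ 0 ∧ ∃ y : A',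
      ι' y = algebraMap (Y.residueField (genericPoint ↥Y)) k' ((Y.evaluation W _ hηW).hom c) * z)
    (a : Γ(Y, W)) (ha : algebraMap Γ(Y, W) A' a ≠ 0)
    [IsDomain (Localization.Away (algebraMap Γ(Y, W) A' a))] :
    ∃ (g : Spec (CommRingCat.of (Localization.Away (algebraMap Γ(Y, W) A' a))) ⟶
        (Y.basicOpen a : Scheme.{u})),
      genericPoint ↥Y ∈ Y.basicOpen a ∧ IsFinite g ∧ FlatMor.IsUnivHomeo g ∧
      g ≫ (Y.basicOpen a).ι =
        Spec.map (CommRingCat.ofHom (algebraMap A' (Localization.Away (algebraMap Γ(Y, W) A' a)))) ≫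
          Spec.map (CommRingCat.ofHom (algebraMap Γ(Y, W) A')) ≫ hW.fromSpec ∧
      ∃ β : k' →+* (Spec (CommRingCat.of (Localization.Away
          (algebraMap Γ(Y, W) A' a)))).residueField (genericPoint _),
        Spec.map (CommRingCat.ofHom (β.comp (algebraMap (Y.residueField (genericPoint ↥Y)) k'))) ≫
            Y.fromSpecResidueField (genericPoint ↥Y) =
          (Spec (CommRingCat.of (Localization.Away (algebraMap Γ(Y, W) A' a)))).fromSpecResidueField
            (genericPoint _) ≫ g ≫ (Y.basicOpen a).ι := by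
  classical
  set κ := Y.residueField (genericPoint ↥Y) with hκ
  set ev := (Y.evaluation W _ hηW).hom with hev
  set α := algebraMap Γ(Y, W) A' a with hα
  set B := Localization.Away α with hB
  have heva : ev a ≠ 0 := by
    intro h0
    apply ha
    apply hι'
    have := congrArg (fun F : Γ(Y, W) →+* k' => F a) hcompat
    simp only [RingHom.comp_apply] at this
    rw [this, h0, map_zero, map_zero]
  have hV : IsAffineOpen (Y.basicOpen a) := hW.basicOpen a
  have hηV : genericPoint ↥Y ∈ Y.basicOpen a :=
    (Y.evaluation_ne_zero_iff_mem_basicOpen _ hηW a).mp heva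
  haveI : IsLocalization.Away a Γ(Y, Y.basicOpen a) := hW.isLocalization_basicOpen a
  set R' := Γ(Y, Y.basicOpen a) with hR'
  set θ : R' →+* B := IsLocalization.Away.map R' B (algebraMap Γ(Y, W) A') a with hθ
  obtain ⟨hθfin, hθpow, ψ, hψinj, hψcomp⟩ :=
    localization_facts (A₀ := Γ(Y, W)) (A' := A') ι' hι' p hpow a ha R' B
  have hθc : θ.comp (algebraMap Γ(Y, W) R') = (algebraMap A' B).comp (algebraMap Γ(Y, W) A') :=
    IsLocalization.map_comp _
  set evV := (Y.evaluation (Y.basicOpen a) _ hηV).hom with hevV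
  have hevcomp : evV.comp (algebraMap Γ(Y, W) R') = ev := evaluation_comp_res hηW a hηV
  -- compatibility of `ψ ∘ θ` with evaluation
  have hψθ : ψ.comp θ = (algebraMap κ k').comp evV := by
    apply IsLocalization.ringHom_ext (Submonoid.powers a)
    rw [RingHom.comp_assoc, hθc, ← RingHom.comp_assoc, hψcomp, hcompat, RingHom.comp_assoc,
      hevcomp]
  have hker : ∀ x, θ x = 0 → IsNilpotent x := by
    intro x hx
    apply isNilpotent_of_evaluation_eq_zero hV hηV
    have h1 := congrArg (fun F : R' →+* k' => F x) hψθ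
    simp only [RingHom.comp_apply] at h1
    rw [hx, map_zero] at h1
    exact (algebraMap κ k').injective (by rw [← h1, map_zero])
  have hp : p = 1 ∨ (p.Prime ∧ (p : B) = 0) := by
    have hp' : p = 1 ∨ (p.Prime ∧ (p : κ) = 0) := by
      cases hE with
      | zero => left; rfl
      | prime hpp => right; exact ⟨hpp, CharP.cast_eq_zero κ p⟩
    rcases hp' with h1 | ⟨hpp, h0⟩
    · left; exact h1
    · right
      refine ⟨hpp, ?_⟩
      apply hψinj
      rw [map_natCast, map_zero]
      have h2 := congrArg (algebraMap κ k') h0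
      rwa [map_natCast, map_zero] at h2
  have hUH : FlatMor.IsUnivHomeo (Spec.map (CommRingCat.ofHom θ)) :=
    isUnivHomeo_SpecMap_of_pow θ hθfin hker p hp hθpow
  let g₁ : Spec (CommRingCat.of B) ⟶ Spec Γ(Y, Y.basicOpen a) := Spec.map (CommRingCat.ofHom θ)
  have hfin : IsFinite g₁ := by
    rw [IsFinite.SpecMap_iff]
    exact hθfin
  refine ⟨g₁ ≫ hV.isoSpec.inv, hηV, inferInstance, ?_, ?_, ?_⟩
  · exact (MorphismProperty.cancel_right_of_respectsIso FlatMor.IsUnivHomeo g₁ hV.isoSpec.inv).mpr hUH
  · rw [Category.assoc, hV.isoSpec_inv_ι,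
      ← hW.map_fromSpec hV (homOfLE (Y.basicOpen_le a)).op, ← Spec.map_comp_assoc,
      ← Spec.map_comp_assoc]
    congr 2
    ext x
    have := congrArg (fun F : Γ(Y, W) →+* B => F x) hθc
    exact this
  · -- the residue field at the generic point
    let η' := genericPoint ↥(Spec (CommRingCat.of B))
    let ev' : B →+* (Spec (CommRingCat.of B)).residueField η' :=
      (specEv (CommRingCat.of B) η').hom
    have hk : ∀ b, ψ b = 0 ↔ ev' b = 0 := by
      intro b
      rw [specEv_eq_zero_iff, asIdeal_genericPoint]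
      constructor
      · intro h
        have : b = 0 := hψinj (by rw [h, map_zero])
        rw [this]; exact Ideal.zero_mem _
      · intro h
        have : b = 0 := by
          have h1 : IsNilpotent b := mem_nilradical.mp h
          exact h1.eq_zero
        rw [this, map_zero]
    have hfrac' : ∀ z : k', ∃ b c : B, ψ c ≠ 0 ∧ z * ψ c = ψ b := by
      intro z
      obtain ⟨c₀, hc₀, y, hy⟩ := hfrac z
      refine ⟨algebraMap A' B y, algebraMap A' B (algebraMap Γ(Y, W) A' c₀), ?_, ?_⟩
      · have h1 : ψ (algebraMap A' B (algebraMap Γ(Y, W) A' c₀)) = algebraMap κ k' (ev c₀) := by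
          have h2 := congrArg (fun F : A' →+* k' => F (algebraMap Γ(Y, W) A' c₀)) hψcomp
          simp only [RingHom.comp_apply] at h2
          rw [h2]
          have h3 := congrArg (fun F : Γ(Y, W) →+* k' => F c₀) hcompat
          exact h3
        rw [h1]
        exact fun h => hc₀ ((algebraMap κ k').injective (by rw [h, map_zero]))
      · have h1 : ψ (algebraMap A' B (algebraMap Γ(Y, W) A' c₀)) = algebraMap κ k' (ev c₀) := by
          have h2 := congrArg (fun F : A' →+* k' => F (algebraMap Γ(Y, W) A' c₀)) hψcomp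
          simp only [RingHom.comp_apply] at h2
          rw [h2]
          have h3 := congrArg (fun F : Γ(Y, W) →+* k' => F c₀) hcompat
          exact h3
        have h4 : ψ (algebraMap A' B y) = ι' y := by
          have h2 := congrArg (fun F : A' →+* k' => F y) hψcomp
          exact h2
        rw [h1, h4, hy, mul_comm]
    obtain ⟨β, hβ⟩ := exists_ringHom_comp_eq ψ ev' hk hfrac'
    refine ⟨β, ?_⟩
    rw [← SpecMap_evaluation_fromSpec hV _ hηV, ← SpecMap_specEv, Category.assoc,
      hV.isoSpec_inv_ι, ← Spec.map_comp_assoc, ← Spec.map_comp_assoc]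
    congr 2
    ext x
    have h1 := congrArg (fun F : R' →+* k' => F x) hψθ
    have h2 := congrArg (fun F => F (θ x)) hβ
    simp only [RingHom.comp_apply] at h1 h2
    show β (algebraMap κ k' (evV x)) = ev' (θ x)
    rw [← h1, h2]

end Groth.Agent.Lib.Helper35.UHBase
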