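/-
Helper library (helper35): after a finite universally homeomorphic base change the reduction of
the generic fibre becomes geometrically reduced, with flat finitely presented model.
-/
import Mathlib
import Groth.Agent.Lib.Helper35.GenQS2
import Groth.Agent.Lib.Helper35.UHBase1
import Groth.Agent.Lib.Helper35.UHBase3
import Groth.Agent.Lib.Helper35.UHBase4
import Groth.Agent.Lib.Helper7.ReducedFibreScheme
import Groth.Agent.Lib.Helper50.RedBC
import Groth.Agent.S0414

set_option autoImplicit false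
set_option maxHeartbeats 4000000
universe u

namespace Groth.Agent.Lib.Helper35.UHBase

open AlgebraicGeometry CategoryTheory Limits TopologicalSpace
open Groth.Agent.H8.GC

variable {X Y : Scheme.{u}}

theorem main (f : X ⟶ Y) [IrreducibleSpace ↑Y] [LocallyOfFiniteType f] [QuasiCompact f] :
    ∃ (V : Y.Opens) (Y' : Scheme.{u}) (g : Y' ⟶ (V : Scheme.{u})) (X' : Scheme.{u})
      (r : X' ⟶ pullback f (g ≫ V.ι)) (hY' : IsIntegral Y'),
      (V : Set ↑Y).Nonempty ∧ IsAffine Y' ∧ IsFinite g ∧ FlatMor.IsUnivHomeo g ∧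
      IsClosedImmersion r ∧ Surjective r ∧ IsReduced X' ∧
      Flat (r ≫ pullback.snd f (g ≫ V.ι)) ∧
      LocallyOfFinitePresentation (r ≫ pullback.snd f (g ≫ V.ι)) ∧
      QuasiCompact (r ≫ pullback.snd f (g ≫ V.ι)) ∧
      QuasiSeparated (r ≫ pullback.snd f (g ≫ V.ι)) ∧
      GeometricallyReduced
        ((r ≫ pullback.snd f (g ≫ V.ι)).fiberToSpecResidueField (genericPoint ↑Y')) := by
  classical
  -- Step 0: generic quasi-separatedness
  obtain ⟨Vq, hηVq, -, hQS⟩ := Groth.Agent.Lib.Helper35.GenQS.exists_open_quasiSeparated f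
  obtain ⟨W, hW, hηW, hWVq⟩ := exists_isAffineOpen_mem_and_subset
    (x := genericPoint ↑Y) (U := Vq) hηVq
  -- Step 1: the field extension
  have hlft : LocallyOfFiniteType (f.fiberToSpecResidueField (genericPoint ↑Y)) :=
    inferInstanceAs (LocallyOfFiniteType (pullback.snd f (Y.fromSpecResidueField (genericPoint ↑Y))))
  have : IsLocallyNoetherian (f.fiber (genericPoint ↑Y)) :=
    LocallyOfFiniteType.isLocallyNoetherian (f.fiberToSpecResidueField (genericPoint ↑Y))
  have : IsNoetherian (f.fiber (genericPoint ↑Y)) := {}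
  have hirr : (irreducibleComponents ↥(f.fiber (genericPoint ↑Y))).Finite :=
    TopologicalSpace.NoetherianSpace.finite_irreducibleComponents
  obtain ⟨k', _, _, hfd, hpi, hGR⟩ :=
    Groth.Agent.Lib.Helper50.exists_finite_purelyInseparable_nilradical_bc
      (k := Y.residueField (genericPoint ↑Y)) (f.fiberToSpecResidueField (genericPoint ↑Y)) hirr
  -- Step 2: the ring-level construction
  set κ := Y.residueField (genericPoint ↑Y) with hκ
  set ev : Γ(Y, W) →+* κ := (Y.evaluation W _ hηW).hom with hev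
  have h2 := exists_evaluation_mul_eq hW hηW
  let p := ringExpChar κ
  haveI : ExpChar κ p := ringExpChar.expChar κ
  letI algk' : Algebra Γ(Y, W) k' := ((algebraMap κ k').comp ev).toAlgebra
  obtain ⟨A', hA'fin, hA'pow, hA'frac⟩ :=
    exists_radicial_subalgebra (A₀ := Γ(Y, W)) (κ := κ) (k' := k') ev h2 p
  let ι' : A' →+* k' := A'.val.toRingHom
  have hι' : Function.Injective ι' := Subtype.val_injective
  have hcompat : ι'.comp (algebraMap Γ(Y, W) A') = (algebraMap κ k').comp ev := rfl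
  have hpow : ∀ x : A', ∃ (n : ℕ) (a : Γ(Y, W)), x ^ p ^ n = algebraMap Γ(Y, W) A' a := by
    intro x
    obtain ⟨n, a, hna⟩ := hA'pow x.1 x.2
    exact ⟨n, a, Subtype.ext hna⟩
  have hfrac : ∀ z : k', ∃ c : Γ(Y, W), ev c ≠ 0 ∧ ∃ y : A',
      ι' y = algebraMap κ k' (ev c) * z := by
    intro z
    obtain ⟨c, hc, hz⟩ := hA'frac z
    exact ⟨c, hc, ⟨_, hz⟩, rfl⟩
  -- Step 3: reduction of the base change to `Spec A'` and generic flatness
  let Y'₀ : Scheme.{u} := Spec (CommRingCat.of A')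
  let g₀ : Y'₀ ⟶ Y := Spec.map (CommRingCat.ofHom (algebraMap Γ(Y, W) A')) ≫ hW.fromSpec
  let P₀ : Scheme.{u} := pullback f g₀
  let T₀ : Scheme.{u} := P₀.nilradical.subscheme
  let r₀ : T₀ ⟶ P₀ := P₀.nilradical.subschemeι
  let h₀ : T₀ ⟶ Y'₀ := r₀ ≫ pullback.snd f g₀
  haveI : IsReduced T₀ := Groth.Agent.Lib.Helper7.isReduced_subscheme_nilradical P₀
  obtain ⟨U, hUdense, hUflat, hUfp⟩ := Groth.Agent.S0414.result h₀
  -- Step 4: choose the localizing element
  obtain ⟨ξ, hξ⟩ := hUdense.nonempty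
  obtain ⟨_, ⟨a', rfl⟩, hξa', ha'U⟩ :=
    (Opens.isBasis_iff_nbhd.mp (PrimeSpectrum.isBasis_basic_opens (R := A'))) hξ
  have ha'0 : a' ≠ 0 := by
    rintro rfl
    rw [PrimeSpectrum.basicOpen_zero] at hξa'
    exact hξa'
  obtain ⟨n, a, hna⟩ := hpow a'
  have ha : algebraMap Γ(Y, W) A' a ≠ 0 := by rw [← hna]; exact pow_ne_zero _ ha'0
  have hD : PrimeSpectrum.basicOpen (algebraMap Γ(Y, W) A' a) = PrimeSpectrum.basicOpen a' := by
    rw [← hna, PrimeSpectrum.basicOpen_pow _ _ (expChar_pow_pos κ p n)]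
  -- Step 5: the cover
  let B := Localization.Away (algebraMap Γ(Y, W) A' a)
  let V := Y.basicOpen a
  haveI : IsDomain B :=
    IsLocalization.isDomain_localization
      (Submonoid.powers_le.mpr (mem_nonZeroDivisors_of_ne_zero ha))
  obtain ⟨g, hηV, hgfin, hgUH, hgj, β, hβ⟩ :=
    exists_univHomeo_cover hW hηW A' ι' hι' hcompat p hpow hfrac a ha
  let Y' : Scheme.{u} := Spec (CommRingCat.of B)
  let j : Y' ⟶ Y'₀ := Spec.map (CommRingCat.ofHom (algebraMap A' B))
  have hgj' : g ≫ V.ι = j ≫ g₀ := hgj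
  -- Step 6: the reduced model
  obtain ⟨r, b, hrpb, hr⟩ := exists_isPullback_lift f g₀ r₀ j (g ≫ V.ι) hgj'
    (pullback.fst h₀ j) (pullback.snd h₀ j) (IsPullback.of_hasPullback h₀ j)
  have hrci : IsClosedImmersion r :=
    MorphismProperty.of_isPullback (P := @IsClosedImmersion) hrpb inferInstance
  have hrsurj : Surjective r :=
    MorphismProperty.of_isPullback (P := @Surjective) hrpb inferInstance
  have hred : IsReduced (pullback h₀ j) := isReduced_of_isOpenImmersion (pullback.fst h₀ j)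
  have hjU : Set.range j ⊆ U := by
    have h1 : Set.range (PrimeSpectrum.comap (algebraMap A' B)) =
        (PrimeSpectrum.basicOpen (algebraMap Γ(Y, W) A' a) : Set (PrimeSpectrum A')) :=
      PrimeSpectrum.localization_away_comap_range B _
    have h2 : Set.range j = Set.range (PrimeSpectrum.comap (algebraMap A' B)) := rfl
    rw [h2, h1, hD]; exact ha'U
  have hflat : Flat (pullback.snd h₀ j) := of_range_subset @Flat h₀ U hUflat j hjU
  have hfp : LocallyOfFinitePresentation (pullback.snd h₀ j) :=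
    of_range_subset @LocallyOfFinitePresentation h₀ U hUfp j hjU
  have hg₀Vq : Set.range g₀ ⊆ Vq := by
    rintro _ ⟨x, rfl⟩
    apply hWVq
    have : g₀ x ∈ Set.range hW.fromSpec := by
      show (Spec.map (CommRingCat.ofHom (algebraMap Γ(Y, W) A')) ≫ hW.fromSpec) x ∈ _
      rw [Scheme.Hom.comp_apply]
      exact ⟨_, rfl⟩
    rwa [hW.range_fromSpec] at this
  haveI hqs0 : QuasiSeparated (pullback.snd f g₀) :=
    of_range_subset @QuasiSeparated f Vq hQS g₀ hg₀Vq
  haveI hqs1 : QuasiSeparated h₀ := inferInstance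
  have hqs : QuasiSeparated (pullback.snd h₀ j) := inferInstance
  have hqc : QuasiCompact (pullback.snd h₀ j) := inferInstance
  -- Step 7: geometric reducedness of the generic fibre
  let hX : pullback h₀ j ⟶ Y' := pullback.snd h₀ j
  let η' : ↑Y' := genericPoint ↑Y'
  let t' : Spec (Y'.residueField η') ⟶ Y' := Y'.fromSpecResidueField η'
  have hpb₁ : IsPullback (pullback.fst hX t' ≫ pullback.fst h₀ j) (pullback.snd hX t') h₀
      (t' ≫ j) :=
    (IsPullback.of_hasPullback hX t').paste_horiz (IsPullback.of_hasPullback h₀ j)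
  obtain ⟨i₁, b₁, hi₁pb, hi₁⟩ := exists_isPullback_lift f g₀ r₀ (t' ≫ j) (t' ≫ g ≫ V.ι)
    (by rw [hgj', Category.assoc]) _ _ hpb₁
  haveI hi₁ci : IsClosedImmersion i₁ :=
    MorphismProperty.of_isPullback (P := @IsClosedImmersion) hi₁pb inferInstance
  haveI hi₁s : Surjective i₁ :=
    MorphismProperty.of_isPullback (P := @Surjective) hi₁pb inferInstance
  haveI hZ₁red : IsReduced (pullback hX t') := by
    have := Groth.Agent.Lib.Helper7.isReduced_fiber_of_forall_specializes hX η' (by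
      intro x hx
      have h' : η' ⤳ x := (genericPoint_spec ↑Y').specializes (Set.mem_univ x)
      exact (hx.antisymm h').eq)
    exact this
  -- the other side
  let ρ : Spec κ ⟶ Y := Y.fromSpecResidueField (genericPoint ↑Y)
  let m : Spec (CommRingCat.of k') ⟶ Spec κ := Spec.map (CommRingCat.ofHom (algebraMap κ k'))
  let rT := (pullback (pullback.snd f ρ) m).nilradical.subschemeι
  haveI hGR' : GeometricallyReduced (rT ≫ pullback.snd (pullback.snd f ρ) m) := hGR
  let c : Spec (Y'.residueField η') ⟶ Spec (CommRingCat.of k') := Spec.map (CommRingCat.ofHom β)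
  let q₂ := pullback.snd (rT ≫ pullback.snd (pullback.snd f ρ) m) c
  haveI hq₂ : GeometricallyReduced q₂ := inferInstance
  haveI hZ₂red : IsReduced (pullback (rT ≫ pullback.snd (pullback.snd f ρ) m) c) :=
    hq₂.geometrically_isReduced (𝟙 _) (𝟙 _) q₂ IsPullback.of_id_fst
  obtain ⟨i₂', b₂, hi₂pb, hi₂'⟩ := exists_isPullback_lift (pullback.snd f ρ) m rT c (c ≫ m) rfl
    (pullback.fst _ c) (pullback.snd _ c) (IsPullback.of_hasPullback _ c)
  haveI hi₂ci : IsClosedImmersion i₂' :=
    MorphismProperty.of_isPullback (P := @IsClosedImmersion) hi₂pb inferInstance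
  haveI hi₂s : Surjective i₂' :=
    MorphismProperty.of_isPullback (P := @Surjective) hi₂pb inferInstance
  let e₁ := pullbackLeftPullbackSndIso f ρ (c ≫ m)
  have hβ' : (c ≫ m) ≫ ρ = t' ≫ g ≫ V.ι := by
    rw [← hβ, CommRingCat.ofHom_comp, Spec.map_comp]
    rfl
  let e₂ := pullback.congrHom (rfl : f = f) hβ'
  let i₂ : pullback (rT ≫ pullback.snd (pullback.snd f ρ) m) c ⟶ pullback f (t' ≫ g ≫ V.ι) :=
    i₂' ≫ e₁.hom ≫ e₂.hom
  have hi₂ : i₂ ≫ pullback.snd f (t' ≫ g ≫ V.ι) = q₂ := by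
    show (i₂' ≫ e₁.hom ≫ e₂.hom) ≫ _ = _
    simp only [Category.assoc]
    have h1 : e₂.hom ≫ pullback.snd f (t' ≫ g ≫ V.ι) = pullback.snd f ((c ≫ m) ≫ ρ) := by
      show (pullback.congrHom (rfl : f = f) hβ').hom ≫ _ = _
      rw [pullback.congrHom_hom]
      exact (pullback.lift_snd _ _ _).trans (Category.comp_id _)
    have h2 : e₁.hom ≫ pullback.snd f ((c ≫ m) ≫ ρ) = pullback.snd (pullback.snd f ρ) (c ≫ m) :=
      pullbackLeftPullbackSndIso_hom_snd _ _ _
    rw [h1, h2]
    exact hi₂'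
  have key : GeometricallyReduced (i₁ ≫ pullback.snd f (t' ≫ g ≫ V.ι)) :=
    geometricallyReduced_of_closedImmersions i₁ i₂ (pullback.snd f (t' ≫ g ≫ V.ι))
      (by rw [hi₂]; exact hq₂)
  rw [hi₁] at key
  have key' : ∀ q : pullback h₀ j ⟶ Y', q = hX →
      GeometricallyReduced (q.fiberToSpecResidueField η') := by
    rintro _ rfl
    exact key
  refine ⟨V, Y', g, pullback h₀ j, r, inferInstance, ⟨_, hηV⟩, inferInstance, hgfin, hgUH,
    hrci, hrsurj, hred, ?_, ?_, ?_, ?_, key' _ hr⟩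
  · rw [hr]; exact hflat
  · rw [hr]; exact hfp
  · rw [hr]; exact hqc
  · rw [hr]; exact hqs

end Groth.Agent.Lib.Helper35.UHBase
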